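import Mathlib

/-!
# Automorphisms of elementary abelian groups (helper22 library)

`card_mulAut_subgroup_dvd`: a group of automorphisms of an elementary abelian group of order `p^r`
has order dividing `∏ i < r, (p^r - p^i)`.
-/

set_option autoImplicit false

namespace Cfsg.Agent.Lib.Helper22

open Module

section

variable (Q : Type*) [CommGroup Q] [Finite Q] (p r : ℕ) [hp : Fact p.Prime]

/-- action of automorphisms on linearly independent families -/
@[instance_reducible]
def linIndepAct [Module (ZMod p) (Additive Q)] (B : Subgroup (MulAut Q)) :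
    MulAction B {s : Fin r → Additive Q // LinearIndependent (ZMod p) s} where
  smul β s := ⟨fun i => Additive.ofMul ((β : MulAut Q) (Additive.toMul (s.1 i))), by
    have h := s.2
    let f : Additive Q →ₗ[ZMod p] Additive Q :=
      AddMonoidHom.toZModLinearMap p (MonoidHom.toAdditive ((β : MulAut Q) : Q →* Q))
    have hf : LinearMap.ker f = ⊥ := by
      rw [LinearMap.ker_eq_bot]
      intro a b hab
      have : (β : MulAut Q) (Additive.toMul a) = (β : MulAut Q) (Additive.toMul b) := hab
      exact (β : MulAut Q).injective this
    exact h.map' f hf⟩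
  one_smul s := by
    apply Subtype.ext
    funext i
    rfl
  mul_smul α β s := by
    apply Subtype.ext
    funext i
    rfl

theorem card_mulAut_subgroup_dvd_aux [Module (ZMod p) (Additive Q)] (hcard : Nat.card Q = p ^ r)
    (B : Subgroup (MulAut Q)) :
    Nat.card B ∣ ∏ i ∈ Finset.range r, (p ^ r - p ^ i) := by
  classical
  have hfin : Finite (Additive Q) := inferInstanceAs (Finite Q)
  have hmf : Module.Finite (ZMod p) (Additive Q) := Module.Finite.of_finite
  have hrank : finrank (ZMod p) (Additive Q) = r := by
    have h1 := Module.natCard_eq_pow_finrank (K := ZMod p) (V := Additive Q)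
    have h2 : Nat.card (Additive Q) = p ^ r := hcard
    rw [h2, Nat.card_zmod] at h1
    exact (Nat.pow_right_injective hp.out.two_le h1).symm
  let _ := linIndepAct Q p r B
  have hfree : ∀ s : {s : Fin r → Additive Q // LinearIndependent (ZMod p) s},
      MulAction.stabilizer B s = ⊥ := by
    intro s
    rw [eq_bot_iff]
    intro β hβ
    rw [MulAction.mem_stabilizer_iff] at hβ
    rw [Subgroup.mem_bot]
    apply Subtype.ext
    have hfix : ∀ i, (β : MulAut Q) (Additive.toMul (s.1 i)) = Additive.toMul (s.1 i) := by
      intro i
      have h1 := congrFun (congrArg Subtype.val hβ) i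
      exact h1
    have hspan : Submodule.span (ZMod p) (Set.range s.1) = ⊤ :=
      s.2.span_eq_top_of_card_eq_finrank' (by rw [Fintype.card_fin, hrank])
    let f : Additive Q →ₗ[ZMod p] Additive Q :=
      AddMonoidHom.toZModLinearMap p (MonoidHom.toAdditive ((β : MulAut Q) : Q →* Q))
    have hf : f = LinearMap.id := by
      apply LinearMap.ext_on hspan
      rintro _ ⟨i, rfl⟩
      exact congrArg Additive.ofMul (hfix i)
    ext w
    have := LinearMap.congr_fun hf (Additive.ofMul w)
    exact this
  have e := MulAction.selfEquivOrbitsQuotientProd hfree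
  have hc := card_linearIndependent (K := ZMod p) (V := Additive Q) (k := r) (by rw [hrank])
  rw [hrank, ZMod.card, Nat.card_congr e, Nat.card_prod] at hc
  rw [Finset.prod_range (fun i => p ^ r - p ^ i), ← hc]
  exact Dvd.intro_left _ rfl

theorem card_mulAut_subgroup_dvd (hexp : ∀ x : Q, x ^ p = 1) (hcard : Nat.card Q = p ^ r)
    (B : Subgroup (MulAut Q)) :
    Nat.card B ∣ ∏ i ∈ Finset.range r, (p ^ r - p ^ i) := by
  letI : Module (ZMod p) (Additive Q) := AddCommGroup.zmodModule (n := p) (fun x => by
    show Additive.ofMul ((Additive.toMul x) ^ p) = 0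
    rw [hexp]; rfl)
  exact card_mulAut_subgroup_dvd_aux Q p r hcard B

end

end Cfsg.Agent.Lib.Helper22
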