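import Mathlib

set_option autoImplicit false

namespace Cfsg.Agent.Lib.Helper22

/-- Counting lemma (Burnside): if every nonidentity element of the nontrivial finite group `K` has
exactly one fixed point on the finite `K`-set `Ω` and every point has a nontrivial stabilizer, then
`K` has a global fixed point. -/
theorem exists_fixed_of_unique_fixed_aux {K Ω : Type*} [Group K] [Finite K] [MulAction K Ω] [Finite Ω]
    (h1 : ∀ y : K, y ≠ 1 → ∃! ω : Ω, y • ω = ω)
    (h2 : ∀ ω : Ω, ∃ y : K, y ≠ 1 ∧ y • ω = ω)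
    (hK : ∃ y : K, y ≠ 1) : ∃ ω : Ω, ∀ y : K, y • ω = ω := by
  classical
  have : Fintype K := Fintype.ofFinite K
  have : Fintype Ω := Fintype.ofFinite Ω
  have : Fintype (Quotient (MulAction.orbitRel K Ω)) := Fintype.ofFinite _
  have hB := MulAction.sum_card_fixedBy_eq_card_orbits_mul_card_group K Ω
  have hfix1 : Fintype.card (MulAction.fixedBy Ω (1 : K)) = Fintype.card Ω := by
    apply Fintype.card_congr
    exact Equiv.subtypeUnivEquiv (fun ω => by simp [MulAction.mem_fixedBy])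
  have hfixy : ∀ y : K, y ≠ 1 → Fintype.card (MulAction.fixedBy Ω y) = 1 := by
    intro y hy
    rw [Fintype.card_eq_one_iff]
    obtain ⟨ω, hω, huniq⟩ := h1 y hy
    exact ⟨⟨ω, hω⟩, fun ⟨ω', hω'⟩ => Subtype.ext (huniq ω' hω')⟩
  have hsum : ∑ y : K, Fintype.card (MulAction.fixedBy Ω y) =
      Fintype.card Ω + (Fintype.card K - 1) := by
    rw [← Finset.add_sum_erase Finset.univ _ (Finset.mem_univ (1 : K)), hfix1]
    congr 1
    rw [Finset.sum_congr rfl (fun y hy => hfixy y (Finset.ne_of_mem_erase hy)), Finset.sum_const,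
      Finset.card_erase_of_mem (Finset.mem_univ _), Finset.card_univ, smul_eq_mul, mul_one]
  have hc_le : Fintype.card Ω ≤ Fintype.card K - 1 := by
    choose w hw1 hw2 using h2
    have hinj : Function.Injective (fun ω => (⟨w ω, hw1 ω⟩ : {y : K // y ≠ 1})) := by
      intro ω ω' h
      have e : w ω = w ω' := congrArg Subtype.val h
      obtain ⟨ω₀, _, huniq⟩ := h1 (w ω) (hw1 ω)
      rw [huniq ω (hw2 ω), huniq ω' (by rw [e]; exact hw2 ω')]
    have h3 := Fintype.card_le_of_injective _ hinj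
    rw [Fintype.card_subtype_compl, Fintype.card_subtype_eq] at h3
    exact h3
  obtain ⟨y₀, hy₀⟩ := hK
  obtain ⟨ω₀, hω₀, -⟩ := h1 y₀ hy₀
  have hc_pos : 0 < Fintype.card Ω := Fintype.card_pos_iff.mpr ⟨ω₀⟩
  have hk : 1 < Fintype.card K := Fintype.one_lt_card_iff.mpr ⟨y₀, 1, hy₀⟩
  rw [hsum] at hB
  set t := Fintype.card (Quotient (MulAction.orbitRel K Ω)) with ht
  set c := Fintype.card Ω with hc
  set k := Fintype.card K with hk'
  have ht1 : t = 1 := by
    rcases Nat.lt_or_ge t 1 with h | h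
    · have : t = 0 := by omega
      rw [this, zero_mul] at hB
      omega
    · rcases Nat.lt_or_ge 1 t with h' | h'
      · have : 2 * k ≤ t * k := Nat.mul_le_mul_right k h'
        omega
      · omega
  rw [ht1, one_mul] at hB
  have hc1 : c = 1 := by omega
  rw [hc, Fintype.card_eq_one_iff] at hc1
  obtain ⟨ω, hω⟩ := hc1
  exact ⟨ω, fun y => hω _⟩

/-- If every nonidentity element of the nontrivial finite group `K` has exactly one fixed point on
the finite `K`-set `Ω`, then `K` has a global fixed point. -/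
theorem exists_fixed_of_unique_fixed {K Ω : Type*} [Group K] [Finite K] [MulAction K Ω] [Finite Ω]
    (h1 : ∀ y : K, y ≠ 1 → ∃! ω : Ω, y • ω = ω)
    (hK : ∃ y : K, y ≠ 1) : ∃ ω : Ω, ∀ y : K, y • ω = ω := by
  let S : SubMulAction K Ω :=
    { carrier := {ω | ∃ y : K, y ≠ 1 ∧ y • ω = ω}
      smul_mem' := by
        rintro k ω ⟨y, hy1, hy⟩
        refine ⟨k * y * k⁻¹, ?_, ?_⟩
        · intro h
          apply hy1
          have : y = k⁻¹ * (k * y * k⁻¹) * k := by group
          rw [this, h]; group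
        · rw [mul_smul, mul_smul, inv_smul_smul, hy] }
  have hS : ∀ ω : Ω, ω ∈ S ↔ ∃ y : K, y ≠ 1 ∧ y • ω = ω := fun ω => Iff.rfl
  have h1' : ∀ y : K, y ≠ 1 → ∃! ω : S, y • ω = ω := by
    intro y hy
    obtain ⟨ω, hω, huniq⟩ := h1 y hy
    refine ⟨⟨ω, (hS ω).mpr ⟨y, hy, hω⟩⟩, Subtype.ext hω, ?_⟩
    intro ω' hω'
    apply Subtype.ext
    apply huniq
    have := congrArg Subtype.val hω'
    exact this
  have h2' : ∀ ω : S, ∃ y : K, y ≠ 1 ∧ y • ω = ω := by
    intro ω
    obtain ⟨y, hy1, hy⟩ := (hS ω).mp ω.2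
    exact ⟨y, hy1, Subtype.ext hy⟩
  obtain ⟨ω, hω⟩ := exists_fixed_of_unique_fixed_aux h1' h2' hK
  refine ⟨ω, fun y => ?_⟩
  have := congrArg Subtype.val (hω y)
  exact this

end Cfsg.Agent.Lib.Helper22
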