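import Mathlib
import Cfsg.Prelude.Def_Solvable

set_option autoImplicit false

namespace Cfsg.Agent.Lib.Helper22

open Subgroup
open scoped Pointwise

variable {K : Type*} [Group K]

theorem mem_conj_smul_iff (g x : K) (H : Subgroup K) :
    x ∈ MulAut.conj g • H ↔ ∃ h ∈ H, g * h * g⁻¹ = x := by
  rw [Subgroup.mem_smul_pointwise_iff_exists]
  simp only [MulAut.smul_def, MulAut.conj_apply]

/-- factorization in `N ⋊ H`. -/
theorem exists_mul_of_sup_eq_top (N H : Subgroup K) [N.Normal] (hsup : N ⊔ H = ⊤) (k : K) :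
    ∃ n ∈ N, ∃ h ∈ H, k = n * h := by
  have : k ∈ ((N ⊔ H : Subgroup K) : Set K) := by rw [hsup]; trivial
  rw [Subgroup.normal_mul] at this
  obtain ⟨n, hn, h, hh, rfl⟩ := Set.mem_mul.mp this
  exact ⟨n, hn, h, hh, rfl⟩

/-- If `h` acts fixed point freely on the finite normal subgroup `N`, every element of `N h` is an
`N`-conjugate of `h`. -/
theorem exists_conj_of_fpf [Finite K] (N : Subgroup K) [N.Normal] (h : K)
    (hfpf : ∀ n ∈ N, h * n = n * h → n = 1) (n : K) (hn : n ∈ N) :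
    ∃ y ∈ N, y * h * y⁻¹ = n * h := by
  let φ : N → N := fun y => ⟨(y : K) * (h * (y : K)⁻¹ * h⁻¹), N.mul_mem y.2
    (Subgroup.Normal.conj_mem inferInstance _ (N.inv_mem y.2) h)⟩
  have hφ : Function.Injective φ := by
    intro y y' hyy
    have e : (y : K) * (h * (y : K)⁻¹ * h⁻¹) = (y' : K) * (h * (y' : K)⁻¹ * h⁻¹) := congrArg Subtype.val hyy
    have e2 : h * ((y' : K)⁻¹ * y) = ((y' : K)⁻¹ * y) * h := by
      have e3 : (y : K) * h * (y : K)⁻¹ = (y' : K) * h * (y' : K)⁻¹ := by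
        have := congrArg (fun z => z * h) e
        simpa [mul_assoc] using this
      calc h * ((y' : K)⁻¹ * y) = (y' : K)⁻¹ * ((y' : K) * h * (y' : K)⁻¹) * y := by group
        _ = (y' : K)⁻¹ * ((y : K) * h * (y : K)⁻¹) * y := by rw [e3]
        _ = ((y' : K)⁻¹ * y) * h := by group
    have e4 := hfpf _ (N.mul_mem (N.inv_mem y'.2) y.2) e2
    have : (y : K) = y' := by
      calc (y : K) = (y' : K) * ((y' : K)⁻¹ * y) := by group
        _ = y' := by rw [e4, mul_one]
    exact Subtype.ext this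
  obtain ⟨y, hy⟩ := (Finite.injective_iff_surjective.mp hφ) ⟨n, hn⟩
  refine ⟨y, y.2, ?_⟩
  have e : (y : K) * (h * (y : K)⁻¹ * h⁻¹) = n := congrArg Subtype.val hy
  rw [← e]; group

/-- A semidirect product `N ⋊ H` with `H` acting fixed point freely on `N` is a Frobenius group
with complement `H` and kernel `N`. -/
theorem frobenius_of_fpf [Finite K] (N H : Subgroup K) [N.Normal] (hdisj : N ⊓ H = ⊥) (hsup : N ⊔ H = ⊤)
    (hN : N ≠ ⊥) (hH : H ≠ ⊥) (hfpf : ∀ h ∈ H, h ≠ 1 → ∀ n ∈ N, h * n = n * h → n = 1) :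
    Cfsg.IsFrobeniusComplement H ∧ Cfsg.frobeniusKernel H = (N : Set K) := by
  have hdisj' : ∀ x, x ∈ N → x ∈ H → x = 1 := by
    intro x hxN hxH
    have : x ∈ N ⊓ H := ⟨hxN, hxH⟩
    rw [hdisj] at this
    exact Subgroup.mem_bot.mp this
  refine ⟨⟨hH, ?_, ?_⟩, ?_⟩
  · intro htop
    apply hN
    rw [htop, inf_top_eq] at hdisj
    exact hdisj
  · intro g hg
    rw [Subgroup.eq_bot_iff_forall]
    rintro y ⟨hyH', hyc'⟩
    have hyH : y ∈ H := hyH'
    have hyc : y ∈ MulAut.conj g • H := hyc'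
    rw [mem_conj_smul_iff] at hyc
    obtain ⟨y₁, hy₁, hy⟩ := hyc
    obtain ⟨n, hn, h₀, hh₀, rfl⟩ := exists_mul_of_sup_eq_top N H hsup g
    have hn1 : n ≠ 1 := by
      intro h1
      apply hg
      rw [h1, one_mul]; exact hh₀
    set y₂ := h₀ * y₁ * h₀⁻¹ with hy₂
    have hy₂H : y₂ ∈ H := H.mul_mem (H.mul_mem hh₀ hy₁) (H.inv_mem hh₀)
    have hy' : y = n * y₂ * n⁻¹ := by rw [← hy, hy₂]; group
    have h1 : y₂⁻¹ * y ∈ N := by
      rw [hy']
      have : y₂⁻¹ * (n * y₂ * n⁻¹) = (y₂⁻¹ * n * y₂⁻¹⁻¹) * n⁻¹ := by group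
      rw [this]
      exact N.mul_mem (Subgroup.Normal.conj_mem inferInstance n hn y₂⁻¹) (N.inv_mem hn)
    have h2 : y₂⁻¹ * y ∈ H := H.mul_mem (H.inv_mem hy₂H) hyH
    have h3 : y₂⁻¹ * y = 1 := hdisj' _ h1 h2
    have h4 : y = y₂ := by
      calc y = y₂ * (y₂⁻¹ * y) := by group
        _ = y₂ := by rw [h3, mul_one]
    by_contra hy1
    apply hn1
    apply hfpf y hyH hy1 n hn
    rw [← h4] at hy'
    calc y * n = (n * y * n⁻¹) * n := by rw [← hy']
      _ = n * y := by group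
  · ext x
    constructor
    · rintro (rfl | hx)
      · exact N.one_mem
      · obtain ⟨n, hn, h, hh, rfl⟩ := exists_mul_of_sup_eq_top N H hsup x
        by_cases h1 : h = 1
        · rw [h1, mul_one]; exact hn
        · exfalso
          obtain ⟨y, hy, hyh⟩ := exists_conj_of_fpf N h (hfpf h hh h1) n hn
          exact hx y ((mem_conj_smul_iff y _ H).mpr ⟨h, hh, hyh⟩)
    · intro hx
      by_cases hx1 : x = 1
      · left; exact hx1
      · right
        intro g hxg
        obtain ⟨h, hh, hgh⟩ := (mem_conj_smul_iff g x H).mp hxg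
        apply hx1
        have h1 : h ∈ N := by
          have : h = g⁻¹ * x * g⁻¹⁻¹ := by rw [← hgh]; group
          rw [this]
          exact Subgroup.Normal.conj_mem inferInstance x hx g⁻¹
        have h2 := hdisj' h h1 hh
        rw [← hgh, h2]; group

end Cfsg.Agent.Lib.Helper22
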