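import Mathlib
import Cfsg.Prelude
import Cfsg.Agent.Lib.Helper1.Hall
import Cfsg.Agent.Lib.Helper10.BGSylow
import Cfsg.Agent.Lib.Helper9.BGExc0
import Cfsg.Agent.Lib.Helper10.BGTwelveG
import Cfsg.Agent.Lib.Helper10.FittingHall

/-!
# Two chunks for B&G 13.9 (helper2's formalization)

* `exists_conj_normalizes` (Lemma HZ): in a solvable group, cyclic Sylow subgroups for two
  different primes can be conjugated so that one normalizes the other.
-/

set_option autoImplicit false
open Cfsg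
open Cfsg.Agent.Lib.Helper10.BG Cfsg.Agent.Lib.Helper9.BGExc

namespace Cfsg.Agent.Lib.Helper22.BG139

/-- A finite solvable `{s,s'}`-group with cyclic Sylow subgroups: one of the two Sylow
subgroups is normal. -/
theorem normal_or_normal_of_cyclic_sylow {F : Type*} [Group F] [Finite F] [Group.IsSolvable F]
    {s s' : ℕ} [Fact s.Prime] [Fact s'.Prime]
    (hcard : ∀ p : ℕ, p.Prime → p ∣ Nat.card F → p = s ∨ p = s')
    (P : Sylow s F) (Q : Sylow s' F) [IsCyclic P] [IsCyclic Q] :
    (P : Subgroup F).Normal ∨ (Q : Subgroup F).Normal := by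
  have hsp : s.Prime := Fact.out
  have hs'p : s'.Prime := Fact.out
  have hDpos : Nat.card (commutator F) ≠ 0 := Nat.card_pos.ne'
  have hDdvd : Nat.card (commutator F) ∣ Nat.card F := Subgroup.card_subgroup_dvd_card _
  -- a normal `p`-group commutator subgroup lies in every Sylow `p`-subgroup, which is then normal
  have key : ∀ (p : ℕ) [Fact p.Prime] (R : Sylow p F),
      (∀ d : ℕ, d.Prime → d ∣ Nat.card (commutator F) → d = p) → (R : Subgroup F).Normal := by
    intro p _ R hd
    have hpg : IsPGroup p (commutator F) :=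
      IsPGroup.of_card (Nat.eq_prime_pow_of_unique_prime_dvd hDpos (fun {d} h1 h2 => hd d h1 h2))
    exact Subgroup.Normal.of_commutator_le F (hpg.le_sylow_of_normal R)
  rcases Sylow.not_dvd_card_commutator_or_not_dvd_index_commutator P with h1 | h1
  · right
    apply key s' Q
    intro d hd hdd
    rcases hcard d hd (hdd.trans hDdvd) with rfl | rfl
    · exact absurd hdd h1
    · rfl
  · rcases Sylow.not_dvd_card_commutator_or_not_dvd_index_commutator Q with h2 | h2
    · left
      apply key s P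
      intro d hd hdd
      rcases hcard d hd (hdd.trans hDdvd) with rfl | rfl
      · rfl
      · exact absurd hdd h2
    · -- the commutator subgroup has index 1
      have hidx : (commutator F).index = 1 := by
        by_contra hne
        obtain ⟨d, hd, hdd⟩ := Nat.exists_prime_and_dvd hne
        rcases hcard d hd (hdd.trans (Subgroup.index_dvd_card _)) with rfl | rfl
        · exact h1 hdd
        · exact h2 hdd
      have htop : commutator F = ⊤ := Subgroup.index_eq_one.mp hidx
      left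
      rcases subsingleton_or_nontrivial F with hss | hnt
      · have : (P : Subgroup F) = ⊤ := Subsingleton.elim _ _
        rw [this]; infer_instance
      · exact absurd htop (Group.IsSolvable.commutator_lt_top_of_nontrivial F).ne


/-- the `{s,s'}`-part of a positive integer. -/
theorem exists_two_prime_part {N s s' : ℕ} (hN : N ≠ 0) (hs : s.Prime) (hs' : s'.Prime) :
    ∃ m n : ℕ, N = m * n ∧ m.Coprime n ∧ (∀ p : ℕ, p.Prime → p ∣ m → p = s ∨ p = s') ∧
      ¬ s ∣ n ∧ ¬ s' ∣ n := by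
  have hN1 : N / s ^ N.factorization s ≠ 0 := (Nat.ordCompl_pos s hN).ne'
  have h1 : ¬ s ∣ N / s ^ N.factorization s := Nat.not_dvd_ordCompl hs hN
  have h2 : ¬ s' ∣ (N / s ^ N.factorization s) / s' ^ (N / s ^ N.factorization s).factorization s' :=
    Nat.not_dvd_ordCompl hs' hN1
  have h3 : ¬ s ∣ (N / s ^ N.factorization s) / s' ^ (N / s ^ N.factorization s).factorization s' :=
    fun h => h1 (h.trans (Nat.ordCompl_dvd _ _))
  refine ⟨s ^ N.factorization s * s' ^ (N / s ^ N.factorization s).factorization s',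
    (N / s ^ N.factorization s) / s' ^ (N / s ^ N.factorization s).factorization s', ?_, ?_, ?_,
    h3, h2⟩
  · rw [mul_assoc, Nat.ordProj_mul_ordCompl_eq_self, Nat.ordProj_mul_ordCompl_eq_self]
  · exact Nat.Coprime.mul_left (Nat.Coprime.pow_left _ ((Nat.Prime.coprime_iff_not_dvd hs).mpr h3))
      (Nat.Coprime.pow_left _ ((Nat.Prime.coprime_iff_not_dvd hs').mpr h2))
  · intro p hp hpd
    rcases (Nat.Prime.dvd_mul hp).mp hpd with h | h
    · left
      exact (Nat.prime_dvd_prime_iff_eq hp hs).mp (hp.dvd_of_dvd_pow h)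
    · right
      exact (Nat.prime_dvd_prime_iff_eq hp hs').mp (hp.dvd_of_dvd_pow h)

variable {G : Type*} [Group G] [Finite G]

set_option linter.unusedVariables false in
/-- **Lemma HZ**: in a solvable subgroup `C`, cyclic Sylow `s`- and `s'`-subgroups `T`, `T'`
(`s ≠ s'`) can be conjugated inside `C` so that one normalizes the other. -/
theorem exists_conj_normalizes {C T T' : Subgroup G} (hCs : Group.IsSolvable C) {s s' : ℕ}
    [Fact s.Prime] [Fact s'.Prime] (hne : s ≠ s') (hT : IsSylowIn s T C)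
    (hT' : IsSylowIn s' T' C) (hTc : IsCyclic T) (hT'c : IsCyclic T') :
    ∃ c ∈ C, cj c T' ≤ Subgroup.normalizer (T : Set G) ∨
      T ≤ Subgroup.normalizer ((cj c T' : Subgroup G) : Set G) := by
  have hsp : s.Prime := Fact.out
  have hs'p : s'.Prime := Fact.out
  have := hCs
  obtain ⟨m, n, hmn, hcop, hprimes, hsn, hs'n⟩ :=
    exists_two_prime_part (N := Nat.card C) Nat.card_pos.ne' hsp hs'p
  -- the Hall `{s,s'}`-subgroup
  have hTcard : Nat.card (T.subgroupOf C) = Nat.card T :=
    Nat.card_congr (Subgroup.subgroupOfEquivOfLe hT.le).toEquiv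
  have hTcop : (Nat.card (T.subgroupOf C)).Coprime n := by
    obtain ⟨k, hk⟩ := hT.isPGroup.exists_card_eq
    rw [hTcard, hk]
    exact Nat.Coprime.pow_left _ ((Nat.Prime.coprime_iff_not_dvd hsp).mpr hsn)
  obtain ⟨F0, hF0card, hTF0⟩ :=
    Cfsg.Agent.Lib.Helper1.hall_dominance (G := C) m n hmn hcop (T.subgroupOf C) hTcop
  obtain ⟨F, hFdef⟩ : ∃ F : Subgroup G, F = F0.map C.subtype := ⟨_, rfl⟩
  have hFC : F ≤ C := by rw [hFdef]; exact Subgroup.map_subtype_le _
  have hFcard : Nat.card F = m := by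
    rw [hFdef, Subgroup.card_map_of_injective C.subtype_injective, hF0card]
  have hTF : T ≤ F := by
    intro t ht
    rw [hFdef]
    exact ⟨⟨t, hT.le ht⟩, hTF0 (Subgroup.mem_subgroupOf.mpr ht), rfl⟩
  have hm0 : m ≠ 0 := by rw [← hFcard]; exact Nat.card_pos.ne'
  have hrel : F.relIndex C = n := by
    have h1 := Cfsg.Agent.Lib.Helper12.card_mul_relIndex_eq hFC
    rw [hFcard, hmn] at h1
    exact Nat.eq_of_mul_eq_mul_left (Nat.pos_of_ne_zero hm0) h1
  -- Sylow subgroups of `F`
  have hTsF : IsSylowIn s T F := hT.of_le hTF hFC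
  obtain ⟨Q1, hQ1⟩ := exists_isSylowIn s' F
  have hQ1C : IsSylowIn s' Q1 C := hQ1.of_not_dvd_relIndex hFC (by rw [hrel]; exact hs'n)
  obtain ⟨c, hcC, hc⟩ := hT'.exists_conj hQ1C
  refine ⟨c, hcC, ?_⟩
  have hcj : cj c T' = Q1 := hc.symm
  have hQ1c : IsCyclic Q1 := by
    rw [hc]
    exact (Subgroup.equivMapOfInjective T' (MulAut.conj c).toMonoidHom
      (MulAut.conj c).injective).isCyclic.mp hT'c
  -- pass to the group `F`
  have : Group.IsSolvable F :=
    Group.isSolvable_of_isSolvable_injective (Subgroup.inclusion_injective hFC)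
  have : IsCyclic (hTsF.toSylow : Sylow s ↥F) := by
    change IsCyclic ↥(T.subgroupOf F)
    exact (Subgroup.subgroupOfEquivOfLe hTF).isCyclic.mpr hTc
  have : IsCyclic (hQ1.toSylow : Sylow s' ↥F) := by
    change IsCyclic ↥(Q1.subgroupOf F)
    exact (Subgroup.subgroupOfEquivOfLe hQ1.le).isCyclic.mpr hQ1c
  have hcardF : ∀ p : ℕ, p.Prime → p ∣ Nat.card F → p = s ∨ p = s' := by
    intro p hp hpd
    rw [hFcard] at hpd
    exact hprimes p hp hpd
  rcases normal_or_normal_of_cyclic_sylow hcardF hTsF.toSylow hQ1.toSylow with h | h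
  · left
    have h1 : (T.subgroupOf F).Normal := h
    rw [hcj]
    exact hQ1.le.trans ((Subgroup.normal_subgroupOf_iff_le_normalizer hTF).mp h1)
  · right
    have h1 : (Q1.subgroupOf F).Normal := h
    rw [hcj]
    exact hTF.trans ((Subgroup.normal_subgroupOf_iff_le_normalizer hQ1.le).mp h1)


/-- **Lemma NH**: two subgroups of `M'` of coprime orders, all of whose prime divisors lie
outside `β(M)`, one normalizing the other, commute (the Hall `β(M)'`-subgroups of `M'` are
nilpotent). -/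
theorem commutator_eq_bot_of_not_beta (hG : IsMinSimpleOddOrder G) {M A B : Subgroup G}
    (hM : IsCoatom M) (hA : A ≤ ⁅M, M⁆) (hB : B ≤ ⁅M, M⁆)
    (hAB : A ≤ Subgroup.normalizer (B : Set G)) (hcop : (Nat.card A).Coprime (Nat.card B))
    (hAβ : ∀ r : ℕ, r.Prime → r ∣ Nat.card A → r ∉ beta M)
    (hBβ : ∀ r : ℕ, r.Prime → r ∣ Nat.card B → r ∉ beta M) : ⁅B, A⁆ = ⊥ := by
  obtain ⟨-, -, ⟨Hn, hHn, hnil⟩, -, -⟩ := Cfsg.Agent.S1414.result hG M hM
  have hM'M : ⁅M, M⁆ ≤ M := commutator_self_le M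
  have hXM' : B ⊔ A ≤ ⁅M, M⁆ := sup_le hB hA
  have hXcard : Nat.card (B ⊔ A : Subgroup G) ∣ Nat.card B * Nat.card A :=
    Cfsg.Agent.Lib.Helper9.card_sup_dvd_of_le_normalizer hAB
  have hXβ : ∀ r : ℕ, r.Prime → r ∣ Nat.card (B ⊔ A : Subgroup G) → r ∉ beta M := by
    intro r hr hd
    rcases (Nat.Prime.dvd_mul hr).mp (hd.trans hXcard) with h | h
    · exact hBβ r hr h
    · exact hAβ r hr h
  have c1 : (Nat.card Hn).Coprime (Hn.relIndex ⁅M, M⁆) :=
    Nat.coprime_of_dvd (fun k hk hk1 hk2 => hHn.2.2 k hk (hHn.2.1 k hk hk1) hk2)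
  have c2 : (Nat.card (B ⊔ A : Subgroup G)).Coprime (Hn.relIndex ⁅M, M⁆) :=
    Nat.coprime_of_dvd (fun k hk hk1 hk2 => hHn.2.2 k hk ⟨hk, hXβ k hk hk1⟩ hk2)
  obtain ⟨g, -, hg⟩ := hall_le_conj_in
    (isSolvable_of_ne_top hG (ne_top_of_le_isCoatom hM hM'M)) hHn.1 hXM' c1 c2
  have hXnil' : Group.IsNilpotent ((B ⊔ A).map (MulAut.conj g).toMonoidHom) :=
    isNilpotent_of_le hg hnil
  have hXnil : Group.IsNilpotent (B ⊔ A : Subgroup G) := by
    have := hXnil'
    exact Group.nilpotent_of_mulEquiv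
      (Subgroup.equivMapOfInjective (B ⊔ A) (MulAut.conj g).toMonoidHom
        (MulAut.conj g).injective).symm
  rw [Subgroup.commutator_eq_bot_iff_le_centralizer]
  intro b hb
  rw [Subgroup.mem_centralizer_iff]
  intro a ha
  have hbX : b ∈ B ⊔ A := Subgroup.mem_sup_left hb
  have haX : a ∈ B ⊔ A := Subgroup.mem_sup_right ha
  have hoa : orderOf (⟨a, haX⟩ : (B ⊔ A : Subgroup G)) ∣ Nat.card A := by
    rw [Subgroup.orderOf_mk]
    exact Subgroup.orderOf_dvd_natCard A ha
  have hob : orderOf (⟨b, hbX⟩ : (B ⊔ A : Subgroup G)) ∣ Nat.card B := by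
    rw [Subgroup.orderOf_mk]
    exact Subgroup.orderOf_dvd_natCard B hb
  have hc := Cfsg.Agent.Lib.Helper10.commute_of_coprime_orderOf (B ⊔ A : Subgroup G)
    ⟨a, haX⟩ ⟨b, hbX⟩ ((hcop.coprime_dvd_left hoa).coprime_dvd_right hob)
  exact congrArg Subtype.val hc.eq

end Cfsg.Agent.Lib.Helper22.BG139
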