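import Mathlib

set_option autoImplicit false

namespace Cfsg.Agent.Lib.Helper22

open Subgroup

variable {G : Type*} [Group G]

theorem card_mul_relIndex (N M : Subgroup G) (h : N ≤ M) :
    Nat.card N * N.relIndex M = Nat.card M := by
  have := Subgroup.relIndex_mul_relIndex (⊥ : Subgroup G) N M bot_le h
  simpa [Subgroup.relIndex_bot_left] using this

theorem isPElt_of_pow_eq_one {p : ℕ} (hp : p.Prime) (x : G) (k : ℕ) (h : x ^ p ^ k = 1) :
    ∃ j : ℕ, orderOf x = p ^ j := by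
  obtain ⟨j, _, hj⟩ := (Nat.dvd_prime_pow hp).mp (orderOf_dvd_of_pow_eq_one h)
  exact ⟨j, hj⟩

theorem isPElt_of_mem_isPGroup {p : ℕ} (hp : p.Prime) (A : Subgroup G) (hA : IsPGroup p A) (x : G)
    (hx : x ∈ A) : ∃ k : ℕ, orderOf x = p ^ k := by
  obtain ⟨k, hk⟩ := hA ⟨x, hx⟩
  have hk' : x ^ p ^ k = 1 := by simpa using congrArg Subtype.val hk
  exact isPElt_of_pow_eq_one hp x k hk'

theorem isPElt_of_mem_sylow {p : ℕ} [hp : Fact p.Prime] (A : Sylow p G) (x : G)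
    (hx : x ∈ (A : Subgroup G)) : ∃ k : ℕ, orderOf x = p ^ k :=
  isPElt_of_mem_isPGroup hp.out A A.2 x hx

theorem exists_sylow_mem [Finite G] {p : ℕ} [Fact p.Prime] (g : G) (hg : ∃ k : ℕ, orderOf g = p ^ k) :
    ∃ Q : Sylow p G, g ∈ (Q : Subgroup G) := by
  obtain ⟨k, hk⟩ := hg
  have h1 : IsPGroup p (Subgroup.zpowers g) := IsPGroup.of_card (n := k) (by rw [Nat.card_zpowers, hk])
  obtain ⟨Q, hQ⟩ := h1.exists_le_sylow
  exact ⟨Q, hQ (Subgroup.mem_zpowers g)⟩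

/-- decomposition of an element of a finite group as a product of a `p`-element and a `p'`-element,
both powers of the element. -/
theorem exists_p_decomp [Finite G] (p : ℕ) [hp : Fact p.Prime] (n : G) :
    ∃ t u : G, t ∈ Subgroup.zpowers n ∧ u ∈ Subgroup.zpowers n ∧ n = t * u ∧
      (∃ k : ℕ, orderOf t = p ^ k) ∧ (orderOf u).Coprime p := by
  have hpos : 0 < orderOf n := orderOf_pos n
  obtain ⟨k, m, hm, hkm⟩ := Nat.exists_eq_pow_mul_and_not_dvd hpos.ne' p hp.out.ne_one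
  have hmpos : 0 < m := by
    rcases Nat.eq_zero_or_pos m with h | h
    · rw [h, mul_zero] at hkm; omega
    · exact h
  have hpm : Nat.Coprime p m := (Nat.Prime.coprime_iff_not_dvd hp.out).mpr hm
  have hcop : Nat.Coprime (p ^ k) m := Nat.Coprime.pow_left k hpm
  have h1 : orderOf (n ^ (p ^ k)) = m := by
    rw [orderOf_pow, hkm, Nat.gcd_eq_right (Dvd.intro _ rfl), Nat.mul_div_cancel_left _ (pow_pos hp.out.pos k)]
  have h3 : orderOf (n ^ m) = p ^ k := by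
    rw [orderOf_pow, hkm, Nat.gcd_eq_right (Dvd.intro_left _ rfl), Nat.mul_div_cancel _ hmpos]
  have hb := Nat.gcd_eq_gcd_ab (p ^ k) m
  rw [hcop.gcd_eq_one] at hb
  refine ⟨(n ^ m) ^ (Nat.gcdB (p ^ k) m), (n ^ (p ^ k)) ^ (Nat.gcdA (p ^ k) m), ?_, ?_, ?_, ?_, ?_⟩
  · exact Subgroup.zpow_mem _ (Subgroup.pow_mem _ (Subgroup.mem_zpowers n) _) _
  · exact Subgroup.zpow_mem _ (Subgroup.pow_mem _ (Subgroup.mem_zpowers n) _) _
  · rw [← zpow_natCast n (p ^ k), ← zpow_natCast n m, ← zpow_mul, ← zpow_mul, ← zpow_add, add_comm, ← hb]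
    simp
  · have : orderOf ((n ^ m) ^ (Nat.gcdB (p ^ k) m)) ∣ p ^ k := by
      rw [← h3]; exact orderOf_dvd_of_pow_eq_one (by
        rw [← zpow_natCast, ← zpow_mul, mul_comm, zpow_mul, zpow_natCast, pow_orderOf_eq_one, one_zpow])
    obtain ⟨j, _, hj⟩ := (Nat.dvd_prime_pow hp.out).mp this
    exact ⟨j, hj⟩
  · have : orderOf ((n ^ (p ^ k)) ^ (Nat.gcdA (p ^ k) m)) ∣ m := by
      rw [← h1]; exact orderOf_dvd_of_pow_eq_one (by
        rw [← zpow_natCast, ← zpow_mul, mul_comm, zpow_mul, zpow_natCast, pow_orderOf_eq_one, one_zpow])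
    exact Nat.Coprime.coprime_dvd_left this hpm.symm

/-- every `p`-element of a quotient lifts to a `p`-element. -/
theorem exists_pElt_lift [Finite G] (p : ℕ) [hp : Fact p.Prime] (N : Subgroup G) [N.Normal]
    (y : G ⧸ N) (hy : ∃ k : ℕ, orderOf y = p ^ k) :
    ∃ g : G, (∃ k : ℕ, orderOf g = p ^ k) ∧ (QuotientGroup.mk g : G ⧸ N) = y := by
  obtain ⟨g, rfl⟩ := QuotientGroup.mk_surjective y
  obtain ⟨t, u, ht, hu, hg, htp, hup⟩ := exists_p_decomp p g
  refine ⟨t, htp, ?_⟩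
  obtain ⟨j, hj⟩ := hy
  have h1 : orderOf (QuotientGroup.mk u : G ⧸ N) ∣ orderOf u := orderOf_map_dvd (QuotientGroup.mk' N) u
  have h2 : orderOf (QuotientGroup.mk u : G ⧸ N) ∣ p ^ j := by
    rw [← hj]
    obtain ⟨i, hi⟩ := Subgroup.mem_zpowers_iff.mp hu
    rw [← hi, QuotientGroup.mk_zpow]
    exact orderOf_dvd_of_pow_eq_one (by
      rw [← zpow_natCast, ← zpow_mul, mul_comm, zpow_mul, zpow_natCast, pow_orderOf_eq_one, one_zpow])
  have h3 : orderOf (QuotientGroup.mk u : G ⧸ N) = 1 :=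
    Nat.eq_one_of_dvd_coprimes (Nat.Coprime.pow_right j hup) h1 h2
  have h4 : (QuotientGroup.mk u : G ⧸ N) = 1 := orderOf_eq_one_iff.mp h3
  rw [hg, QuotientGroup.mk_mul, h4, mul_one]

end Cfsg.Agent.Lib.Helper22
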