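import Mathlib
import Cfsg.Agent.Lib.Helper22.PElt
import Cfsg.Agent.Lib.Helper10.BGTwelve
import Cfsg.Agent.Lib.Helper9.BGTenC
import Cfsg.Agent.Lib.Helper9.Signalizer
import Cfsg.Agent.Lib.Helper12.PiCore
import Cfsg.Agent.Lib.Helper23.ExtInvariant
import Cfsg.Agent.Lib.Helper10.Basic

/-!
Abstract group theory for the nonabelian case of B & G Theorem 12.12 (statement S1421).
-/

set_option autoImplicit false
set_option linter.unusedVariables false
set_option linter.unusedSectionVars false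
set_option linter.style.longLine false
set_option linter.unusedSimpArgs false
set_option linter.style.haveILetI false
set_option linter.unnecessarySimpa false
set_option linter.deprecated false

namespace Cfsg.Agent.Lib.Helper22.BG1212N

open Subgroup

variable {X : Type*} [Group X]

/-- a `p'`-element normalizing an abelian `p`-group `P` and centralizing `Ω₁(P)` centralizes `P`. -/
theorem centralizes_of_centralizes_omega {p : ℕ} [Fact p.Prime] {P : Subgroup X}
    (hP : IsPGroup p P) (hPc : ∀ x ∈ P, ∀ y ∈ P, x * y = y * x) {h : X}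
    (hN : ∀ x ∈ P, h * x * h⁻¹ ∈ P) (hcop : (orderOf h).Coprime p)
    (hΩ : ∀ x ∈ P, x ^ p = 1 → h * x = x * h) : ∀ x ∈ P, h * x = x * h := by
  have hpp : p.Prime := Fact.out
  have key : ∀ k : ℕ, ∀ x ∈ P, x ^ p ^ k = 1 → h * x = x * h := by
    intro k
    induction k with
    | zero =>
      intro x _ hx
      rw [pow_zero, pow_one] at hx
      rw [hx, mul_one, one_mul]
    | succ k ih =>
      intro x hx hxk
      have hy : h * x ^ p = x ^ p * h := by
        apply ih (x ^ p) (P.pow_mem hx p)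
        rw [← pow_mul, ← pow_succ']
        exact hxk
      set c := h * x * h⁻¹ * x⁻¹ with hc
      have hcP : c ∈ P := P.mul_mem (hN x hx) (P.inv_mem hx)
      have hcp : c ^ p = 1 := by
        have hcomm : Commute (h * x * h⁻¹) x⁻¹ := hPc _ (hN x hx) _ (P.inv_mem hx)
        rw [hc, hcomm.mul_pow, conj_pow, inv_pow]
        have : h * x ^ p * h⁻¹ = x ^ p := by rw [hy]; group
        rw [this, mul_inv_cancel]
      have hch : h * c = c * h := hΩ c hcP hcp
      have hconj : ∀ m : ℕ, h ^ m * x * (h ^ m)⁻¹ = c ^ m * x := by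
        intro m
        induction m with
        | zero => simp
        | succ m ihm =>
          have e1 : h ^ (m + 1) * x * (h ^ (m + 1))⁻¹ = h * (h ^ m * x * (h ^ m)⁻¹) * h⁻¹ := by
            rw [pow_succ']; group
          have hcm : h * c ^ m = c ^ m * h := by
            have : Commute h c := hch
            exact (this.pow_right m)
          have hx' : h * x * h⁻¹ = c * x := by rw [hc]; group
          rw [e1, ihm]
          calc h * (c ^ m * x) * h⁻¹ = (h * c ^ m) * (x * h⁻¹) := by group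
            _ = (c ^ m * h) * (x * h⁻¹) := by rw [hcm]
            _ = c ^ m * (h * x * h⁻¹) := by group
            _ = c ^ m * (c * x) := by rw [hx']
            _ = c ^ (m + 1) * x := by rw [pow_succ]; group
      have h1 := hconj (orderOf h)
      rw [pow_orderOf_eq_one, one_mul, inv_one, mul_one] at h1
      have hcm : c ^ orderOf h = 1 := by
        have := congrArg (· * x⁻¹) h1
        simp only [mul_inv_cancel, mul_inv_cancel_right] at this
        exact this.symm
      have hd1 : orderOf c ∣ orderOf h := orderOf_dvd_of_pow_eq_one hcm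
      have hd2 : orderOf c ∣ p := orderOf_dvd_of_pow_eq_one hcp
      have hc1 : orderOf c = 1 := Nat.eq_one_of_dvd_coprimes hcop hd1 hd2
      have hc1' : c = 1 := orderOf_eq_one_iff.mp hc1
      have : h * x * h⁻¹ = x := by
        have hx' : h * x * h⁻¹ = c * x := by rw [hc]; group
        rw [hx', hc1', one_mul]
      calc h * x = h * x * h⁻¹ * h := by group
        _ = x * h := by rw [this]
  intro x hx
  obtain ⟨k, hk⟩ := hP ⟨x, hx⟩
  apply key k x hx
  have := congrArg Subtype.val hk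
  simpa using this


variable [Finite X]

/-- in the normalizer of an abelian Sylow `p`-subgroup `P`, an element centralizing `Ω₁(P)`
centralizes `P`. -/
theorem centralizes_sylow_of_centralizes_omega {p : ℕ} [Fact p.Prime] (P : Sylow p X)
    (hPc : ∀ x ∈ (P : Subgroup X), ∀ y ∈ (P : Subgroup X), x * y = y * x) {g : X}
    (hgN : g ∈ normalizer ((P : Subgroup X) : Set X))
    (hΩ : ∀ x ∈ (P : Subgroup X), x ^ p = 1 → g * x = x * g) :
    ∀ x ∈ (P : Subgroup X), g * x = x * g := by
  obtain ⟨t, u, ht, hu, hg, ⟨k, htk⟩, hup⟩ := exists_p_decomp p g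
  have hzN : zpowers g ≤ normalizer ((P : Subgroup X) : Set X) := zpowers_le.mpr hgN
  have htP : t ∈ (P : Subgroup X) := by
    have h1 : IsPGroup p (zpowers t) := IsPGroup.of_card (n := k) (by rw [Nat.card_zpowers, htk])
    have h2 := h1.inf_normalizer_sylow P
    have h3 : t ∈ zpowers t ⊓ normalizer ((P : Subgroup X) : Set X) :=
      ⟨mem_zpowers t, hzN ht⟩
    have h4 : t ∈ zpowers t ⊓ (P : Subgroup X) := by
      rw [← h2]
      exact h3
    exact h4.2
  have hzC : ∀ z ∈ zpowers g, ∀ x ∈ (P : Subgroup X), x ^ p = 1 → z * x = x * z := by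
    intro z hz x hx hxp
    obtain ⟨i, rfl⟩ := mem_zpowers_iff.mp hz
    have : Commute g x := hΩ x hx hxp
    exact (this.zpow_left i)
  have huN : ∀ x ∈ (P : Subgroup X), u * x * u⁻¹ ∈ (P : Subgroup X) := by
    intro x hx
    exact (mem_normalizer_iff.mp (hzN hu) x).mp hx
  have huC := centralizes_of_centralizes_omega P.2 hPc huN hup (hzC u hu)
  intro x hx
  rw [hg]
  have h1 : t * x = x * t := hPc t htP x hx
  have h2 : u * x = x * u := huC x hx
  calc t * u * x = t * (u * x) := by group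
    _ = t * (x * u) := by rw [h2]
    _ = (t * x) * u := by group
    _ = x * t * u := by rw [h1]
    _ = x * (t * u) := by group


/-- **Burnside's transfer theorem inside a normal subgroup.** If `P` is an (abelian) Sylow
`p`-subgroup of `X` contained in the normal subgroup `K` and `N_K(P) ≤ C(P)`, then `K` has a normal
`p`-complement which is normal in `X`. -/
theorem exists_normal_pcompl {p : ℕ} [Fact p.Prime] (P : Sylow p X) (K : Subgroup X) [K.Normal]
    (hPK : (P : Subgroup X) ≤ K)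
    (hNC : ∀ g ∈ K, g ∈ normalizer ((P : Subgroup X) : Set X) →
      ∀ x ∈ (P : Subgroup X), g * x = x * g) :
    ∃ T : Subgroup X, T.Normal ∧ T ≤ K ∧ (Nat.card T).Coprime p ∧
      ∀ k ∈ K, ∃ t ∈ T, ∃ u ∈ (P : Subgroup X), k = t * u := by
  have hpp : p.Prime := Fact.out
  set PK : Sylow p ↥K := P.subtype hPK with hPKdef
  have hmemPK : ∀ k : ↥K, k ∈ (PK : Subgroup ↥K) ↔ (k : X) ∈ (P : Subgroup X) := by
    intro k
    rw [hPKdef, Sylow.coe_subtype, mem_subgroupOf]
  have hNC' : normalizer ((PK : Subgroup ↥K) : Set ↥K) ≤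
      centralizer ((PK : Subgroup ↥K) : Set ↥K) := by
    intro g hg
    have hgN : (g : X) ∈ normalizer ((P : Subgroup X) : Set X) := by
      rw [mem_normalizer_iff]
      intro x
      have hg' := mem_normalizer_iff.mp hg
      constructor
      · intro hx
        have h1 := (hg' ⟨x, hPK hx⟩).mp ((hmemPK _).mpr hx)
        exact (hmemPK _).mp h1
      · intro hx
        have hxK : x ∈ K := by
          have h1 : (g : X)⁻¹ * ((g : X) * x * (g : X)⁻¹) * (g : X) ∈ K :=
            K.mul_mem (K.mul_mem (K.inv_mem g.2) (hPK hx)) g.2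
          have e : (g : X)⁻¹ * ((g : X) * x * (g : X)⁻¹) * (g : X) = x := by group
          rwa [e] at h1
        have h1 := (hg' ⟨x, hxK⟩).mpr ((hmemPK _).mpr hx)
        exact (hmemPK _).mp h1
    rw [mem_centralizer_iff]
    intro x hx
    have := hNC g g.2 hgN x ((hmemPK x).mp hx)
    exact Subtype.ext this.symm
  set φ := MonoidHom.transferSylow PK hNC' with hφ
  have hcompl : IsComplement' φ.ker (PK : Subgroup ↥K) :=
    MonoidHom.ker_transferSylow_isComplement' PK hNC'
  have hnd : ¬ p ∣ Nat.card φ.ker := MonoidHom.not_dvd_card_ker_transferSylow PK hNC'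
  have hcopK : (Nat.card φ.ker).Coprime p :=
    ((Nat.Prime.coprime_iff_not_dvd hpp).mpr hnd).symm
  have hmemker : ∀ k : ↥K, (orderOf k).Coprime p → k ∈ φ.ker := by
    intro k hk
    rw [MonoidHom.mem_ker]
    obtain ⟨j, hj⟩ := PK.2 (φ k)
    have hd1 : orderOf (φ k) ∣ orderOf k := orderOf_map_dvd φ k
    have hd2 : orderOf (φ k) ∣ p ^ j := orderOf_dvd_of_pow_eq_one hj
    have h1 : orderOf (φ k) = 1 :=
      Nat.eq_one_of_dvd_coprimes (Nat.Coprime.pow_right j hk) hd1 hd2
    exact orderOf_eq_one_iff.mp h1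
  refine ⟨φ.ker.map K.subtype, ?_, map_subtype_le _, ?_, ?_⟩
  · constructor
    intro t ht x
    obtain ⟨a, ha, rfl⟩ := mem_map.mp ht
    have hK : x * (a : X) * x⁻¹ ∈ K := (inferInstance : K.Normal).conj_mem _ a.2 x
    refine mem_map.mpr ⟨⟨x * (a : X) * x⁻¹, hK⟩, ?_, rfl⟩
    apply hmemker
    have h1 : orderOf (⟨x * (a : X) * x⁻¹, hK⟩ : ↥K) = orderOf a := by
      rw [← Subgroup.orderOf_coe, ← Subgroup.orderOf_coe a]
      exact MulEquiv.orderOf_eq (MulAut.conj x) (a : X)
    rw [h1]
    have h2 : orderOf a ∣ Nat.card φ.ker := by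
      have := orderOf_dvd_natCard (⟨a, ha⟩ : φ.ker)
      rwa [Subgroup.orderOf_mk] at this
    exact Nat.Coprime.coprime_dvd_left h2 hcopK
  · rw [Subgroup.card_map_of_injective K.subtype_injective]
    exact hcopK
  · intro k hk
    obtain ⟨⟨a, b⟩, hab⟩ := hcompl.2 ⟨k, hk⟩
    refine ⟨((a : ↥K) : X), mem_map.mpr ⟨a, a.2, rfl⟩, ((b : ↥K) : X), (hmemPK _).mp b.2, ?_⟩
    have := congrArg Subtype.val hab
    simpa using this.symm


open Cfsg.Agent.Lib.Helper10.BG in
/-- **Exponent lemma.** If `X₀ ≤ X` has index a power of `p` and contains an element whose order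
is divisible by the order of every `p`-element of `X`, then `X₀` and `X` have the same exponent. -/
theorem exponent_eq_of_index {p : ℕ} [Fact p.Prime] {X0 : Subgroup X} {a : ℕ}
    (hidx : X0.index ∣ p ^ a) {c1 : X} (hc1 : c1 ∈ X0)
    (hp : ∀ y : X, (∃ k, orderOf y = p ^ k) → orderOf y ∣ orderOf c1) :
    Monoid.exponent X0 = Monoid.exponent X := by
  have hpp : p.Prime := Fact.out
  apply Nat.dvd_antisymm
  · apply Monoid.exponent_dvd_of_forall_pow_eq_one
    intro g
    apply Subtype.ext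
    rw [Subgroup.coe_pow, Subgroup.coe_one]
    exact Monoid.pow_exponent_eq_one (g : X)
  · have hne : Monoid.exponent X0 ≠ 0 := Monoid.exponent_ne_zero_of_finite
    have hmem : ∀ y0 ∈ X0, orderOf y0 ∣ Monoid.exponent X0 := by
      intro y0 hy0
      have := Monoid.order_dvd_exponent (⟨y0, hy0⟩ : ↥X0)
      rwa [Subgroup.orderOf_mk] at this
    apply Monoid.exponent_dvd_of_forall_pow_eq_one
    intro y
    apply orderOf_dvd_iff_pow_eq_one.mp
    rw [← Nat.factorization_le_iff_dvd (orderOf_pos y).ne' hne]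
    intro r
    by_cases hr : r.Prime
    · haveI : Fact r.Prime := ⟨hr⟩
      set k := (orderOf y).factorization r with hk
      have hy' : orderOf (y ^ (orderOf y / r ^ k)) = r ^ k :=
        orderOf_pow_orderOf_div (orderOf_pos y).ne' (Nat.ordProj_dvd _ _)
      set y' := y ^ (orderOf y / r ^ k) with hy'def
      have hclaim : r ^ k ∣ Monoid.exponent X0 := by
        by_cases hrp : r = p
        · have h1 := hp y' ⟨k, by rw [hy', hrp]⟩
          rw [hy'] at h1
          exact h1.trans (hmem c1 hc1)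
        · have hnd : ¬ r ∣ X0.relIndex ⊤ := by
            rw [Subgroup.relIndex_top_right]
            intro hd
            have h1 : r ∣ p := hr.dvd_of_dvd_pow (hd.trans hidx)
            exact hrp ((Nat.prime_dvd_prime_iff_eq hr hpp).mp h1)
          obtain ⟨R, hR⟩ := exists_isSylowIn r X0
          have hR' : IsSylowIn r R ⊤ := hR.of_not_dvd_relIndex le_top hnd
          have hyr : IsPGroup r (zpowers y') :=
            IsPGroup.of_card (n := k) (by rw [Nat.card_zpowers, hy'])
          obtain ⟨S', hS', hyS'⟩ := exists_isSylowIn_ge (le_top : zpowers y' ≤ ⊤) hyr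
          obtain ⟨g, -, hg⟩ := hR'.exists_conj hS'
          have h1 : y' ∈ R.map (MulAut.conj g).toMonoidHom := by
            rw [← hg]
            exact hyS' (mem_zpowers y')
          obtain ⟨y0, hy0, hy0e⟩ := mem_map.mp h1
          have h2 : orderOf y0 = r ^ k := by
            rw [← hy', ← hy0e]
            exact (MulEquiv.orderOf_eq (MulAut.conj g) y0).symm
          rw [← h2]
          exact hmem y0 (hR.le hy0)
      exact (hr.pow_dvd_iff_le_factorization hne).mp hclaim
    · rw [Nat.factorization_eq_zero_of_not_prime _ hr]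
      exact Nat.zero_le _


/-- the subgroup of `k`-th powers of an abelian subgroup. -/
def agemo (P : Subgroup X) (hPc : ∀ x ∈ P, ∀ y ∈ P, x * y = y * x) (k : ℕ) : Subgroup X where
  carrier := {y | ∃ x ∈ P, x ^ k = y}
  one_mem' := ⟨1, P.one_mem, one_pow k⟩
  mul_mem' := by
    rintro _ _ ⟨x, hx, rfl⟩ ⟨y, hy, rfl⟩
    exact ⟨x * y, P.mul_mem hx hy, (show Commute x y from hPc x hx y hy).mul_pow k⟩
  inv_mem' := by
    rintro _ ⟨x, hx, rfl⟩
    exact ⟨x⁻¹, P.inv_mem hx, inv_pow x k⟩

omit [Finite X] in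
theorem le_normalizer_of_forall_conj_mem {H W : Subgroup X}
    (h : ∀ g ∈ H, ∀ w ∈ W, g * w * g⁻¹ ∈ W) : H ≤ normalizer (W : Set X) := by
  intro g hg
  rw [mem_normalizer_iff]
  intro w
  constructor
  · exact h g hg w
  · intro hw
    have := h g⁻¹ (H.inv_mem hg) _ hw
    have e : g⁻¹ * (g * w * g⁻¹) * g⁻¹⁻¹ = w := by group
    rwa [e] at this

theorem card_eq_prime_of_disjoint {p : ℕ} [Fact p.Prime] {A B A0 : Subgroup X}
    (hAc : Nat.card A = p ^ 2) (hBA : B ≤ A) (hB : B ≠ ⊥) (hA0A : A0 ≤ A) (hA0 : A0 ≠ ⊥)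
    (hdisj : B ⊓ A0 = ⊥) : Nat.card B = p := by
  have hpp : p.Prime := Fact.out
  have hd : Nat.card B ∣ p ^ 2 := hAc ▸ Subgroup.card_dvd_of_le hBA
  obtain ⟨j, hj, hjc⟩ := (Nat.dvd_prime_pow hpp).mp hd
  interval_cases j
  · exfalso
    apply hB
    exact Subgroup.card_eq_one.mp (by simpa using hjc)
  · simpa using hjc
  · exfalso
    have hBA' : B = A := Subgroup.eq_of_le_of_card_ge hBA (by rw [hjc, hAc])
    apply hA0
    rw [← hdisj, hBA']
    exact (inf_eq_right.mpr hA0A).symm

/-- statement of the invariant cyclic subgroup lemma. -/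
def InvCyclic (X : Type*) [Group X] (p : ℕ) : Prop :=
  ∀ {P H A1 : Subgroup X}, IsPGroup p P → (∀ x ∈ P, ∀ y ∈ P, x * y = y * x) →
    H ≤ normalizer (P : Set X) → (Nat.card H).Coprime p → A1 ≤ P → Nat.card A1 = p →
    H ≤ normalizer (A1 : Set X) → ∀ n : ℕ, (∀ x ∈ P, x ^ p ^ (n + 1) = 1) →
    (∃ c ∈ P, c ^ p ^ n ∈ A1 ∧ c ^ p ^ n ≠ 1) →
    ∃ C : Subgroup X, C ≤ P ∧ IsCyclic C ∧ Nat.card C = p ^ (n + 1) ∧ A1 ≤ C ∧
      H ≤ normalizer (C : Set X)

open Cfsg.Agent.Lib.Helper10.BG in
/-- **The abstract core of Theorem 12.12(b), nonabelian case.** -/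
theorem core {p : ℕ} [Fact p.Prime] (hIC : InvCyclic X p) (P : Sylow p X)
    (hPc : ∀ x ∈ (P : Subgroup X), ∀ y ∈ (P : Subgroup X), x * y = y * x)
    (A A0 : Subgroup X) [hAn : A.Normal] [hA0n : A0.Normal] (hAP : A ≤ P) (hA0A : A0 ≤ A)
    (hAc : Nat.card A = p ^ 2) (hA0c : Nat.card A0 = p)
    (hΩ : ∀ x ∈ (P : Subgroup X), x ^ p = 1 → x ∈ A)
    (hAe : ∀ a ∈ A, a ^ p = 1)
    (hsq : ∀ v ∈ (P : Subgroup X), v ^ p ∈ A0 → v ^ p = 1) :
    ∃ X0 : Subgroup X, Monoid.exponent X0 = Monoid.exponent X ∧ A0 ⊓ X0 = ⊥ := by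
  have hpp : p.Prime := Fact.out
  set K := centralizer (A : Set X) with hK
  haveI hKn : K.Normal := normal_centralizer
  have hPK : (P : Subgroup X) ≤ K := by
    intro x hx
    rw [hK, mem_centralizer_iff]
    intro a ha
    exact hPc a (hAP ha) x hx
  have hNC : ∀ g ∈ K, g ∈ normalizer ((P : Subgroup X) : Set X) →
      ∀ x ∈ (P : Subgroup X), g * x = x * g := by
    intro g hgK hgN
    apply centralizes_sylow_of_centralizes_omega P hPc hgN
    intro x hx hxp
    exact (mem_centralizer_iff.mp hgK x (hΩ x hx hxp)).symm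
  obtain ⟨T, hTn, hTK, hTcop, hTdec⟩ := exists_normal_pcompl P K hPK hNC
  haveI := hTn
  obtain ⟨H1, hH1compl, hH1cop⟩ :=
    Cfsg.Agent.Lib.Helper9.BG10.exists_isComplIn_normalizer_sylow p P
  have hH1N : H1 ≤ normalizer ((P : Subgroup X) : Set X) := hH1compl.2.1
  have hdec : ∀ x : X, ∃ t ∈ T, ∃ h ∈ H1, ∃ u ∈ (P : Subgroup X), x = t * h * u := by
    intro x
    have h1 : x ∈ K ⊔ normalizer ((P : Subgroup X) : Set X) := by
      have h2 := Sylow.normalizer_sup_eq_top (P.subtype hPK)
      rw [Sylow.coe_subtype, map_subgroupOf_eq_of_le hPK] at h2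
      rw [sup_comm, h2]
      exact mem_top x
    obtain ⟨k, hk, n, hn, rfl⟩ := mem_sup_of_normal_left.mp h1
    obtain ⟨t, ht, u1, hu1, rfl⟩ := hTdec k hk
    obtain ⟨u2, hu2, h, hh, rfl⟩ := hH1compl.2.2.2 n hn
    refine ⟨t, ht, h, hh, h⁻¹ * (u1 * u2) * h, ?_, by group⟩
    have hhN : h⁻¹ ∈ normalizer ((P : Subgroup X) : Set X) := inv_mem (hH1N hh)
    have := (mem_normalizer_iff.mp hhN (u1 * u2)).mp (mul_mem hu1 hu2)
    rwa [inv_inv] at this
  set Y := H1 ⊔ T with hY
  have hYcop : (Nat.card Y).Coprime p := by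
    have hd := Cfsg.Agent.Lib.Helper12.card_sup_dvd_mul H1 T
    exact Nat.Coprime.coprime_dvd_left hd (Nat.Coprime.mul_left hH1cop hTcop)
  obtain ⟨a, hPa⟩ := P.2.exists_card_eq
  have hcompl : IsComplement' (P : Subgroup X) Y := by
    apply isComplement'_of_disjoint_and_mul_eq_univ
    · apply Subgroup.disjoint_of_coprime_natCard
      rw [hPa]
      exact (Nat.Coprime.pow_right a hYcop).symm
    · apply Set.eq_univ_of_forall
      intro x
      obtain ⟨t, ht, h, hh, u, hu, hx⟩ := hdec x⁻¹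
      rw [Set.mem_mul]
      refine ⟨u⁻¹, inv_mem hu, h⁻¹ * t⁻¹, ?_, ?_⟩
      · exact mul_mem (mem_sup_left (inv_mem hh)) (mem_sup_right (inv_mem ht))
      · have : x = (t * h * u)⁻¹ := by rw [← hx, inv_inv]
        rw [this]
        group
  have hYidx : Y.index = p ^ a := by rw [hcompl.index_eq_card, hPa]
  have hPne : ∃ n : ℕ, (∀ x ∈ (P : Subgroup X), x ^ p ^ (n + 1) = 1) ∧
      ∃ c0 ∈ (P : Subgroup X), c0 ^ p ^ n ≠ 1 := by
    have hd : Monoid.exponent ↥(P : Subgroup X) ∣ p ^ a := hPa ▸ Group.exponent_dvd_nat_card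
    obtain ⟨m, hm, hme⟩ := (Nat.dvd_prime_pow hpp).mp hd
    have hm0 : m ≠ 0 := by
      rintro rfl
      rw [pow_zero, Monoid.exp_eq_one_iff] at hme
      have h1 : Nat.card A ≤ Nat.card (P : Subgroup X) := Subgroup.card_le_of_le hAP
      have h2 : Nat.card (P : Subgroup X) = 1 := Nat.card_of_subsingleton 1
      rw [hAc, h2] at h1
      have : 1 < p ^ 2 := Nat.one_lt_pow (by norm_num) hpp.one_lt
      omega
    obtain ⟨n, rfl⟩ := Nat.exists_eq_succ_of_ne_zero hm0
    refine ⟨n, ?_, ?_⟩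
    · intro x hx
      have := Monoid.pow_exponent_eq_one (⟨x, hx⟩ : ↥(P : Subgroup X))
      rw [hme] at this
      have := congrArg Subtype.val this
      simpa using this
    · by_contra hcon0
      have hcon : ∀ c ∈ (P : Subgroup X), c ^ p ^ n = 1 :=
        fun c hc => by_contra (fun h => hcon0 ⟨c, hc, h⟩)
      have h1 : Monoid.exponent ↥(P : Subgroup X) ∣ p ^ n := by
        apply Monoid.exponent_dvd_of_forall_pow_eq_one
        intro g
        apply Subtype.ext
        simpa using hcon g g.2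
      rw [hme, Nat.pow_dvd_pow_iff_le_right hpp.one_lt] at h1
      omega
  obtain ⟨n, hexp, c0, hc0P, hc0ne⟩ := hPne
  have hA0ne : A0 ≠ ⊥ := by
    intro h
    rw [h, Subgroup.card_bot] at hA0c
    exact hpp.one_lt.ne hA0c
  have hA1 : ∃ A1 : Subgroup X, A1 ≤ (P : Subgroup X) ∧ Nat.card A1 = p ∧ A1 ⊓ A0 = ⊥ ∧
      H1 ≤ normalizer (A1 : Set X) ∧
      ∃ c ∈ (P : Subgroup X), c ^ p ^ n ∈ A1 ∧ c ^ p ^ n ≠ 1 := by
    rcases Nat.eq_zero_or_pos n with hn0 | hnpos
    · subst hn0
      let σ : ↥H1 →* MulAut ↥A := (MulAut.conjNormal (H := A)).comp H1.subtype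
      have hcomm : ∀ x y : ↥A, x * y = y * x :=
        fun x y => Subtype.ext (hPc x (hAP x.2) y (hAP y.2))
      have hexpA : ∀ v : ↥A, v ^ p = 1 := fun v => Subtype.ext (by simpa using hAe v v.2)
      have hcop : (Nat.card ↥H1).Coprime (Nat.card ↥A) := by
        rw [hAc]
        exact Nat.Coprime.pow_right 2 hH1cop
      set U : Subgroup ↥A := A0.subgroupOf A with hU
      have hUinv : ∀ a : ↥H1, ∀ u ∈ U, σ a u ∈ U := by
        intro a u hu
        rw [hU, mem_subgroupOf] at hu ⊢
        have e : ((σ a u : ↥A) : X) = (a : X) * (u : X) * (a : X)⁻¹ :=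
          MulAut.conjNormal_apply (a : X) u
        rw [e]
        exact hA0n.conj_mem _ hu _
      obtain ⟨W', hW'inv, hW'disj, hW'sup⟩ :=
        Cfsg.Agent.Lib.Helper23.exists_invariant_complement_of_elementary hcomm p hexpA σ hcop
          U hUinv
      set A1 := W'.map A.subtype with hA1
      have hA1A : A1 ≤ A := map_subtype_le _
      have hA1ne : A1 ≠ ⊥ := by
        intro h
        have hW'bot : W' = ⊥ := by
          rw [eq_bot_iff]
          intro w hw
          have : (w : X) ∈ A1 := mem_map.mpr ⟨w, hw, rfl⟩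
          rw [h, mem_bot] at this
          rw [mem_bot]
          exact Subtype.ext this
        rw [hW'bot, sup_bot_eq] at hW'sup
        have h1 : Nat.card U = Nat.card A := by rw [hW'sup, Subgroup.card_top]
        have h2 : Nat.card U = Nat.card A0 := by
          rw [hU]
          exact Nat.card_congr (subgroupOfEquivOfLe hA0A).toEquiv
        rw [h2, hA0c, hAc] at h1
        have h3 : p ^ 1 = p ^ 2 := by rw [pow_one]; exact h1
        have := Nat.pow_right_injective hpp.two_le h3
        omega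
      have hA1disj : A1 ⊓ A0 = ⊥ := by
        rw [eq_bot_iff]
        rintro y ⟨hy1, hy0⟩
        obtain ⟨w, hw, rfl⟩ := mem_map.mp hy1
        have : w ∈ U ⊓ W' := ⟨mem_subgroupOf.mpr hy0, hw⟩
        rw [hW'disj, mem_bot] at this
        rw [mem_bot, this]
        rfl
      refine ⟨A1, hA1A.trans hAP, card_eq_prime_of_disjoint hAc hA1A hA1ne hA0A hA0ne hA1disj,
        hA1disj, ?_, ?_⟩
      · apply le_normalizer_of_forall_conj_mem
        rintro g hg _ ⟨w, hw, rfl⟩
        refine mem_map.mpr ⟨σ ⟨g, hg⟩ w, hW'inv ⟨g, hg⟩ w hw, ?_⟩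
        exact MulAut.conjNormal_apply g w
      · obtain ⟨c, hc⟩ := ne_bot_iff_exists_ne_one.mp hA1ne
        refine ⟨c, hAP (hA1A c.2), by simpa using c.2, ?_⟩
        intro h
        apply hc
        apply Subtype.ext
        simpa using h
    · obtain ⟨m, rfl⟩ := Nat.exists_eq_succ_of_ne_zero hnpos.ne'
      set W := agemo (P : Subgroup X) hPc (p ^ (m + 1)) with hW
      have hWP : W ≤ P := by
        rintro _ ⟨x, hx, rfl⟩
        exact pow_mem hx _
      have hWA : W ≤ A := by
        rintro _ ⟨x, hx, rfl⟩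
        apply hΩ _ (pow_mem hx _)
        rw [← pow_mul, ← pow_succ]
        exact hexp x hx
      have hWne : W ≠ ⊥ := by
        intro h
        have : c0 ^ p ^ (m + 1) ∈ W := ⟨c0, hc0P, rfl⟩
        rw [h, mem_bot] at this
        exact hc0ne this
      have hWdisj : W ⊓ A0 = ⊥ := by
        rw [eq_bot_iff]
        rintro y ⟨⟨x, hx, rfl⟩, hy0⟩
        rw [mem_bot]
        have e : x ^ p ^ (m + 1) = (x ^ p ^ m) ^ p := by rw [← pow_mul, ← pow_succ]
        rw [e] at hy0 ⊢
        exact hsq _ (pow_mem hx _) hy0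
      refine ⟨W, hWP, card_eq_prime_of_disjoint hAc hWA hWne hA0A hA0ne hWdisj, hWdisj, ?_,
        c0, hc0P, ⟨c0, hc0P, rfl⟩, hc0ne⟩
      apply le_normalizer_of_forall_conj_mem
      rintro g hg _ ⟨x, hx, rfl⟩
      refine ⟨g * x * g⁻¹, ?_, conj_pow⟩
      exact (mem_normalizer_iff.mp (hH1N hg) x).mp hx
  obtain ⟨A1, hA1P, hA1c, hA1disj, hH1A1, hc⟩ := hA1
  obtain ⟨C, hCP, hCcyc, hCcard, hA1C, hH1C⟩ :=
    hIC P.2 hPc hH1N hH1cop hA1P hA1c hH1A1 n hexp hc
  set X0 := (C ⊔ H1) ⊔ T with hX0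
  have hYX0 : Y ≤ X0 := sup_le_sup_right le_sup_right T
  have hX0card : Nat.card X0 ∣ Nat.card C * Nat.card H1 * Nat.card T := by
    have h1 := Cfsg.Agent.Lib.Helper12.card_sup_dvd_mul (C ⊔ H1) T
    have h2 := Cfsg.Agent.Lib.Helper9.card_sup_dvd_of_le_normalizer hH1C
    exact h1.trans (Nat.mul_dvd_mul_right h2 _)
  refine ⟨X0, ?_, ?_⟩
  · obtain ⟨c1, hc1⟩ := hCcyc.exists_generator
    have hc1o : orderOf (c1 : X) = p ^ (n + 1) := by
      rw [Subgroup.orderOf_coe, orderOf_eq_card_of_forall_mem_zpowers hc1, hCcard]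
    apply exponent_eq_of_index (p := p) (a := a) (c1 := (c1 : X))
    · rw [← hYidx]
      exact index_dvd_of_le hYX0
    · exact mem_sup_left (mem_sup_left c1.2)
    · rintro y ⟨k, hyk⟩
      rw [hc1o]
      have hyp : IsPGroup p (zpowers y) :=
        IsPGroup.of_card (n := k) (by rw [Nat.card_zpowers, hyk])
      obtain ⟨S', hS', hyS'⟩ := exists_isSylowIn_ge (le_top : zpowers y ≤ ⊤) hyp
      obtain ⟨g, -, hg⟩ := (isSylowIn_top_of_sylow P).exists_conj hS'
      have h1 : y ∈ (P : Subgroup X).map (MulAut.conj g).toMonoidHom := by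
        rw [← hg]
        exact hyS' (mem_zpowers y)
      obtain ⟨y0, hy0, hy0e⟩ := mem_map.mp h1
      have h2 : orderOf y = orderOf y0 := by
        rw [← hy0e]
        exact MulEquiv.orderOf_eq (MulAut.conj g) y0
      rw [h2]
      exact orderOf_dvd_of_pow_eq_one (hexp y0 hy0)
  · by_contra hne
    have hA0X0 : A0 ≤ X0 := by
      have h1 : Nat.card (A0 ⊓ X0 : Subgroup X) ∣ p := hA0c ▸ Subgroup.card_dvd_of_le inf_le_left
      rcases (Nat.dvd_prime hpp).mp h1 with h2 | h2
      · exact absurd (Subgroup.card_eq_one.mp h2) hne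
      · have : A0 ⊓ X0 = A0 := Subgroup.eq_of_le_of_card_ge inf_le_left (by rw [h2, hA0c])
        rw [← this]
        exact inf_le_right
    have hCX0 : C ≤ X0 := le_sup_left.trans le_sup_left
    have hCp : IsPGroup p C := P.2.to_le hCP
    have hCsyl : IsSylowIn p C X0 := by
      apply isSylowIn_of_card_ge hCX0 hCp
      intro Q hQX0 hQ _
      obtain ⟨j, hj⟩ := hQ.exists_card_eq
      have h1 : Nat.card Q ∣ Nat.card C * Nat.card H1 * Nat.card T :=
        (Subgroup.card_dvd_of_le hQX0).trans hX0card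
      have h2 : (Nat.card Q).Coprime (Nat.card H1 * Nat.card T) := by
        rw [hj]
        exact (Nat.Coprime.pow_right j (Nat.Coprime.mul_left hH1cop hTcop)).symm
      have h3 : Nat.card Q ∣ Nat.card C := by
        rw [mul_assoc] at h1
        exact (Nat.Coprime.dvd_mul_right h2).mp h1
      exact Nat.le_of_dvd Nat.card_pos h3
    have hA0C : A0 ≤ C := by
      apply hCsyl.normal_le hA0X0 (IsPGroup.of_card (n := 1) (by rw [hA0c, pow_one]))
      apply le_normalizer_of_forall_conj_mem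
      intro g _ w hw
      exact hA0n.conj_mem w hw g
    have heq : A1 = A0 := by
      haveI := hCcyc
      exact Cfsg.Agent.Lib.Helper10.eq_of_card_eq_of_le_isCyclic C A1 A0 hA1C hA0C
        (by rw [hA1c, hA0c])
    rw [heq, inf_idem] at hA1disj
    exact hA0ne hA1disj

end Cfsg.Agent.Lib.Helper22.BG1212N
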