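import Mathlib
import Cfsg.Agent.Lib.Helper29.BG1212b
import Cfsg.Agent.Lib.Helper19.BG12E
import Cfsg.Agent.Lib.Helper22.BG1212Core

/-!
B & G, Theorem 12.12 (statement S1421): the case where the Sylow `p`-subgroups of `G` are
nonabelian for some `p ∈ τ₂(M)`.
-/

set_option autoImplicit false
set_option linter.unusedVariables false
set_option linter.unusedSectionVars false
set_option linter.style.longLine false
set_option linter.unusedSimpArgs false
set_option linter.style.haveILetI false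
set_option linter.unnecessarySimpa false

open Cfsg
open Cfsg.Agent.Lib.Helper10.BG Cfsg.Agent.Lib.Helper10 Cfsg.Agent.Lib.Helper9.BGExc
open Cfsg.Agent.Lib.Helper19.BG12 Cfsg.Agent.Lib.Helper19.BGCompl
open Cfsg.Agent.Lib.Helper29.BG1212

namespace Cfsg.Agent.Lib.Helper22.BG1212N

variable {G : Type*} [Group G] [Finite G] {M E A : Subgroup G} {p : ℕ} [Fact p.Prime]

/-- the configuration of Theorem 12.7 for a given Sylow `p`-subgroup `P ≥ A` of `M`. -/
theorem cfg27_of_sylow (hG : IsMinSimpleOddOrder G) (hM : IsCoatom M)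
    (hE : IsComplIn E (sigmaCore M) M) (hp : p ∈ tau2 M)
    (hS : ∀ S : Sylow p G, ¬ IsMulCommutative (S : Subgroup G)) (hAE : A ≤ E)
    (hAe : IsElementaryAbelian p A) (hAc : Nat.card A = p ^ 2) {P : Subgroup G}
    (hP : IsSylowIn p P M) (hAP : A ≤ P) :
    ∃ (S : Subgroup G) (x : G), Cfg27 M E A p P S x := by
  have hAM : A ≤ M := hAE.trans hE.1
  have hAp : IsPGroup p A := isPGroup_of_elem hAe
  have hPc := tau2_pgroup_comm hG hM hp hP.isPGroup hP.le
  have hnab : ∀ T : Subgroup G, IsSylowIn p T ⊤ → ¬ (∀ u ∈ T, ∀ v ∈ T, u * v = v * u) := by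
    intro T hT hc
    apply hS hT.toSylowTop
    show IsMulCommutative ↥T
    exact ⟨⟨fun a b => Subtype.ext (hc a a.2 b b.2)⟩⟩
  have hns : ¬ IsSylowIn p P ⊤ := fun h => hnab P h hPc
  obtain ⟨x, -, hxN, hxP, hxp⟩ := exists_normalizer_gt le_top hP.isPGroup hns
  obtain ⟨S, hSyl, hPS⟩ := exists_isSylowIn_ge (le_top : P ⊔ Subgroup.zpowers x ≤ ⊤) hxp
  have hxM : x ∉ M := by
    intro hxM
    have h1 : P ⊔ Subgroup.zpowers x = P :=
      hP.eq_of_le (sup_le hP.le (Subgroup.zpowers_le.mpr hxM)) hxp le_sup_left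
    apply hxP
    rw [← h1]
    exact Subgroup.mem_sup_right (Subgroup.mem_zpowers x)
  have hxA : x ∈ Subgroup.normalizer (A : Set G) := by
    have hle : cj x A ≤ A := by
      rintro _ ⟨a, ha, rfl⟩
      show x * a * x⁻¹ ∈ A
      apply tau2_omega hG hM hp hAM hAe hAc hP.isPGroup hP.le hAP
        (conj_mem_of_mem_normalizer hxN (hAP ha))
      rw [conj_pow, hAe.2 a ha]
      group
    exact mem_normalizer_of_map_conj_eq (Subgroup.eq_of_le_of_card_ge hle (by rw [card_cj]))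
  exact ⟨S, x, hM, hE, hp, hAE, hAe, hAc, hP, hAP, hSyl, le_sup_left.trans hPS,
    hPS (Subgroup.mem_sup_right (Subgroup.mem_zpowers x)), hxA, hxM, hnab S hSyl⟩

/-- no element of `P` has a nontrivial `p`-th power in `A₀ = C_A(M_σ)`. -/
theorem no_sq (hG : IsMinSimpleOddOrder G) {P S : Subgroup G} {x : G}
    (h : Cfg27 M E A p P S x) {v : G} (hv : v ∈ P)
    (hvA : v ^ p ∈ A ⊓ Subgroup.centralizer (sigmaCore M : Set G)) : v ^ p = 1 := by
  obtain ⟨hc, hs, -⟩ := h.main_A0 hG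
  have hPc := tau2_pgroup_comm hG h.coatom h.tau h.sylM.isPGroup h.sylM.le
  have hMax : MaxEA p A := tau2_maxEA hG h.coatom h.tau h.leM h.elem h.card
  by_contra hw1
  have hvpp : (v ^ p) ^ p = 1 := h.elem.2 _ hvA.1
  have hvS : v ∈ S := h.leS hv
  have hvC : v ∈ Subgroup.centralizer (A : Set G) := by
    rw [Subgroup.mem_centralizer_iff]
    intro a ha
    exact hPc a (h.leP ha) v hv
  have hwZ := Cfsg.Agent.Lib.Helper29.BGExc.PG2 hG h.sylG hMax h.card (h.leP.trans h.leS)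
    h.nonab v (Subgroup.mem_inf.mpr ⟨hvS, hvC⟩) hvpp
  have hwx : x * v ^ p = v ^ p * x :=
    (Cfsg.Agent.Lib.Helper29.BGExc.mem_omegaZ.mp hwZ).2.1 x h.xS
  have hwF : v ^ p ∈ fixA A x := mem_fixA.mpr ⟨hvA.1, hwx⟩
  have e1 : fixA A x = Subgroup.zpowers (v ^ p) :=
    eq_zpowers_of_card_prime (h.card_Z hG) hwF hw1
  have e2 : A ⊓ Subgroup.centralizer (sigmaCore M : Set G) = Subgroup.zpowers (v ^ p) :=
    eq_zpowers_of_card_prime hc hvA hw1
  apply hs
  rw [e2, ← e1]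
  exact h.Z_regular hG

/-- no `p`-element of `E` has a nontrivial `p`-th power in `A₀ = C_A(M_σ)`. -/
theorem no_sq_E (hG : IsMinSimpleOddOrder G) (hM : IsCoatom M)
    (hE : IsComplIn E (sigmaCore M) M) (hp : p ∈ tau2 M)
    (hS : ∀ S : Sylow p G, ¬ IsMulCommutative (S : Subgroup G)) (hAE : A ≤ E)
    (hAe : IsElementaryAbelian p A) (hAc : Nat.card A = p ^ 2) {v : G} (hvE : v ∈ E)
    (hvp : IsPGroup p (Subgroup.zpowers v))
    (hvA : v ^ p ∈ A ⊓ Subgroup.centralizer (sigmaCore M : Set G)) : v ^ p = 1 := by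
  have hEA : E ≤ Subgroup.normalizer (A : Set G) :=
    (Cfsg.Agent.S1418.result hG M hM E hE p hp A ⟨hAE, hAe, hAc⟩).1.1
  have hQ0 : IsPGroup p (A ⊔ Subgroup.zpowers v : Subgroup G) := by
    rw [sup_comm]
    exact IsPGroup.to_sup_of_normal_right' hvp (isPGroup_of_elem hAe)
      (Subgroup.zpowers_le.mpr (hEA hvE))
  have hQ0E : A ⊔ Subgroup.zpowers v ≤ E := sup_le hAE (Subgroup.zpowers_le.mpr hvE)
  obtain ⟨P, hP, hQ0P⟩ := exists_isSylowIn_ge hQ0E hQ0
  have hPM : IsSylowIn p P M := compl_isSylowIn hG hM hE hp.2.1 hP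
  obtain ⟨S, x, h⟩ := cfg27_of_sylow hG hM hE hp hS hAE hAe hAc hPM (le_sup_left.trans hQ0P)
  exact no_sq hG h (hQ0P (Subgroup.mem_sup_right (Subgroup.mem_zpowers v))) hvA


/-- a `p`-element of `E` centralizing a nonidentity element of `M_σ` lies in `A₀`. -/
theorem pelt_mem_A0 (hG : IsMinSimpleOddOrder G) (hM : IsCoatom M)
    (hE : IsComplIn E (sigmaCore M) M) (hp : p ∈ tau2 M)
    (hS : ∀ S : Sylow p G, ¬ IsMulCommutative (S : Subgroup G)) (hAE : A ≤ E)
    (hAe : IsElementaryAbelian p A) (hAc : Nat.card A = p ^ 2) {e x : G} (heE : e ∈ E)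
    {k : ℕ} (hek : orderOf e = p ^ k) (hx : x ∈ sigmaCore M) (hx1 : x ≠ 1)
    (hex : e * x = x * e) : e ∈ A ⊓ Subgroup.centralizer (sigmaCore M : Set G) := by
  have hpp : p.Prime := Fact.out
  obtain ⟨-, -, hreg⟩ := thm_12_7 hG hM hE hp hS hAE hAe hAc
  rcases Nat.eq_zero_or_pos k with hk0 | hkpos
  · rw [hk0, pow_zero, orderOf_eq_one_iff] at hek
    rw [hek]
    exact Subgroup.one_mem _
  obtain ⟨j, rfl⟩ := Nat.exists_eq_succ_of_ne_zero hkpos.ne'
  set z := e ^ p ^ j with hz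
  have hzo : orderOf z = p := by
    rw [hz, orderOf_pow_of_dvd (pow_pos hpp.pos j).ne' (by rw [hek]; exact pow_dvd_pow p (Nat.le_succ j)),
      hek, pow_succ, Nat.mul_div_cancel_left _ (pow_pos hpp.pos j)]
  have hzE : z ∈ E := E.pow_mem heE _
  have hZc : Nat.card (Subgroup.zpowers z) = p := by rw [Nat.card_zpowers, hzo]
  have hzx : z * x = x * z := by
    have : Commute e x := hex
    exact (this.pow_left _)
  have hZ : Subgroup.zpowers z = A ⊓ Subgroup.centralizer (sigmaCore M : Set G) := by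
    by_contra hne
    have h1 := (hreg _ (Subgroup.zpowers_le.mpr hzE) hZc hne).1
    rw [centralizer_zpowers] at h1
    have h2 : x ∈ sigmaCore M ⊓ Subgroup.centralizer ({z} : Set G) :=
      ⟨hx, Subgroup.mem_centralizer_singleton_iff.mpr hzx.symm⟩
    rw [h1, Subgroup.mem_bot] at h2
    exact hx1 h2
  rcases Nat.eq_zero_or_pos j with hj0 | hjpos
  · rw [← hZ]
    have : z = e := by rw [hz, hj0, pow_zero, pow_one]
    rw [← this]
    exact Subgroup.mem_zpowers z
  · exfalso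
    obtain ⟨i, rfl⟩ := Nat.exists_eq_succ_of_ne_zero hjpos.ne'
    set v := e ^ p ^ i with hv
    have hvz : v ^ p = z := by rw [hv, hz, ← pow_mul, ← pow_succ]
    have hvE : v ∈ E := E.pow_mem heE _
    have hep : IsPGroup p (Subgroup.zpowers e) :=
      IsPGroup.of_card (n := i + 1 + 1) (by rw [Nat.card_zpowers, hek])
    have hvp : IsPGroup p (Subgroup.zpowers v) :=
      hep.to_le (Subgroup.zpowers_le.mpr (Subgroup.pow_mem _ (Subgroup.mem_zpowers e) _))
    have hvA : v ^ p ∈ A ⊓ Subgroup.centralizer (sigmaCore M : Set G) := by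
      rw [hvz, ← hZ]
      exact Subgroup.mem_zpowers z
    have h1 := no_sq_E hG hM hE hp hS hAE hAe hAc hvE hvp hvA
    rw [hvz] at h1
    rw [h1, orderOf_one] at hzo
    exact hpp.one_lt.ne hzo

/-- an element of `E` centralizing a nonidentity element of `M_σ` lies in `A₀`. -/
theorem mem_A0_of_commute (hG : IsMinSimpleOddOrder G) (hM : IsCoatom M)
    (hE : IsComplIn E (sigmaCore M) M) (hH : HypReg M E) (hp : p ∈ tau2 M)
    (hS : ∀ S : Sylow p G, ¬ IsMulCommutative (S : Subgroup G)) (hAE : A ≤ E)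
    (hAe : IsElementaryAbelian p A) (hAc : Nat.card A = p ^ 2) {e x : G} (heE : e ∈ E)
    (hx : x ∈ sigmaCore M) (hx1 : x ≠ 1)
    (hex : e * x = x * e) : e ∈ A ⊓ Subgroup.centralizer (sigmaCore M : Set G) := by
  have hpp : p.Prime := Fact.out
  obtain ⟨htau, -, -⟩ := thm_12_7 hG hM hE hp hS hAE hAe hAc
  have hn0 : orderOf e ≠ 0 := (orderOf_pos e).ne'
  have hprime : ∀ {r : ℕ}, r.Prime → r ∣ orderOf e → r = p := by
    intro r hr hd
    set f := e ^ (orderOf e / r) with hf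
    have hfo : orderOf f = r := orderOf_pow_orderOf_div hn0 hd
    have hfE : f ∈ E := E.pow_mem heE _
    have hfx : f * x = x * f := by
      have : Commute e x := hex
      exact (this.pow_left _)
    have hrE : r ∣ Nat.card E := by
      rw [← hfo]
      exact Subgroup.orderOf_dvd_natCard E hfE
    rcases mem_tau_of_dvd_card hG hM hE hr hrE with h13 | h2
    · exfalso
      have h1 := reg_of_orderOf hH hfE h13 hfo
      have h2 : x ∈ sigmaCore M ⊓ Subgroup.centralizer ({f} : Set G) :=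
        ⟨hx, Subgroup.mem_centralizer_singleton_iff.mpr hfx.symm⟩
      rw [h1, Subgroup.mem_bot] at h2
      exact hx1 h2
    · rw [htau] at h2
      exact h2
  have hek := Nat.eq_prime_pow_of_unique_prime_dvd hn0 hprime
  exact pelt_mem_A0 hG hM hE hp hS hAE hAe hAc heE hek hx hx1 hex

/-- **Theorem 12.12 (a), nonabelian case.** -/
theorem part_a (hG : IsMinSimpleOddOrder G) (hM : IsCoatom M)
    (hE : IsComplIn E (sigmaCore M) M) (hH : HypReg M E) (hp : p ∈ tau2 M)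
    (hS : ∀ S : Sylow p G, ¬ IsMulCommutative (S : Subgroup G)) :
    ∃ A₀ : Subgroup G, A₀ ≤ E ∧ E ≤ Subgroup.normalizer (A₀ : Set G) ∧ IsMulCommutative ↥A₀ ∧
      ∀ x ∈ sigmaCore M, x ≠ 1 → E ⊓ Subgroup.centralizer ({x} : Set G) ≤ A₀ := by
  obtain ⟨A, hAE, hAe, hAc⟩ := tau2_elem_sq_compl hG hM hE hp
  obtain ⟨P, S, x0, hcfg⟩ := exists_cfg27 hG hM hE hp hS hAE hAe hAc
  refine ⟨A ⊓ Subgroup.centralizer (sigmaCore M : Set G), inf_le_left.trans hAE,
    hE.1.trans (hcfg.le_normalizer_A0 hG), ?_, ?_⟩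
  · have hA := hAe.1
    refine ⟨⟨fun a b => Subtype.ext ?_⟩⟩
    have h1 := hA.is_comm.comm (⟨a, a.2.1⟩ : ↥A) ⟨b, b.2.1⟩
    have h2 : ((a : G) * (b : G)) = (b : G) * (a : G) := congrArg Subtype.val h1
    exact h2
  · intro x hx hx1 e he
    have hex : e * x = x * e := Subgroup.mem_centralizer_singleton_iff.mp he.2
    exact mem_A0_of_commute hG hM hE hH hp hS hAE hAe hAc he.1 hx hx1 hex


/-- the invariant cyclic subgroup statement passes to subgroups. -/
theorem invCyclic_subtype (E : Subgroup G) (hIC : InvCycStatement G) : InvCyclic ↥E p := by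
  intro P H A1 hP hPc hHP hcop hA1P hA1 hHA1 n hexp hc
  have hinj := E.subtype_injective
  have hP' : IsPGroup p (P.map E.subtype) := hP.map _
  have hPc' : ∀ x ∈ P.map E.subtype, ∀ y ∈ P.map E.subtype, x * y = y * x := by
    rintro _ ⟨a, ha, rfl⟩ _ ⟨b, hb, rfl⟩
    have h1 := hPc a ha b hb
    have h2 : ((a : G) * (b : G)) = (b : G) * (a : G) := congrArg Subtype.val h1
    exact h2
  have hHP' : H.map E.subtype ≤ Subgroup.normalizer ((P.map E.subtype : Subgroup G) : Set G) := by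
    apply le_normalizer_of_forall_conj_mem
    rintro _ ⟨h, hh, rfl⟩ _ ⟨a, ha, rfl⟩
    refine ⟨h * a * h⁻¹, ?_, by simp⟩
    exact (Subgroup.mem_normalizer_iff.mp (hHP hh) a).mp ha
  have hcop' : (Nat.card (H.map E.subtype)).Coprime p := by
    rw [Subgroup.card_map_of_injective hinj]
    exact hcop
  have hA1P' : A1.map E.subtype ≤ P.map E.subtype := Subgroup.map_mono hA1P
  have hA1' : Nat.card (A1.map E.subtype) = p := by
    rw [Subgroup.card_map_of_injective hinj]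
    exact hA1
  have hHA1' : H.map E.subtype ≤ Subgroup.normalizer ((A1.map E.subtype : Subgroup G) : Set G) := by
    apply le_normalizer_of_forall_conj_mem
    rintro _ ⟨h, hh, rfl⟩ _ ⟨a, ha, rfl⟩
    refine ⟨h * a * h⁻¹, ?_, by simp⟩
    exact (Subgroup.mem_normalizer_iff.mp (hHA1 hh) a).mp ha
  have hexp' : ∀ x ∈ P.map E.subtype, x ^ p ^ (n + 1) = 1 := by
    rintro _ ⟨a, ha, rfl⟩
    rw [← map_pow, hexp a ha, map_one]
  have hc' : ∃ c ∈ P.map E.subtype, c ^ p ^ n ∈ A1.map E.subtype ∧ c ^ p ^ n ≠ 1 := by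
    obtain ⟨c, hcP, hcA, hc1⟩ := hc
    refine ⟨E.subtype c, ⟨c, hcP, rfl⟩, ⟨c ^ p ^ n, hcA, map_pow _ _ _⟩, ?_⟩
    intro h
    apply hc1
    apply hinj
    rw [map_pow, h, map_one]
  obtain ⟨C', hC'P, hC'cyc, hC'card, hA1C', hHC'⟩ :=
    hIC hP' hPc' hHP' hcop' hA1P' hA1' hHA1' n hexp' hc'
  have hC'E : C' ≤ E := hC'P.trans (Subgroup.map_subtype_le P)
  refine ⟨C'.subgroupOf E, ?_, ?_, ?_, ?_, ?_⟩
  · intro x hx
    obtain ⟨a, ha, hax⟩ := hC'P (Subgroup.mem_subgroupOf.mp hx)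
    have : a = x := hinj hax
    rwa [← this]
  · exact (Subgroup.subgroupOfEquivOfLe hC'E).isCyclic.mpr hC'cyc
  · rw [Nat.card_congr (Subgroup.subgroupOfEquivOfLe hC'E).toEquiv, hC'card]
  · intro x hx
    exact Subgroup.mem_subgroupOf.mpr (hA1C' ⟨x, hx, rfl⟩)
  · apply le_normalizer_of_forall_conj_mem
    intro h hh w hw
    rw [Subgroup.mem_subgroupOf] at hw ⊢
    have h1 : (h : G) ∈ H.map E.subtype := ⟨h, hh, rfl⟩
    have := (Subgroup.mem_normalizer_iff.mp (hHC' h1) (w : G)).mp hw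
    simpa using this

/-- **Theorem 12.12 (b), nonabelian case.** -/
theorem part_b (hG : IsMinSimpleOddOrder G) (hM : IsCoatom M)
    (hE : IsComplIn E (sigmaCore M) M) (hH : HypReg M E) (hp : p ∈ tau2 M)
    (hS : ∀ S : Sylow p G, ¬ IsMulCommutative (S : Subgroup G)) (hIC : InvCycStatement G) :
    ∃ E₀ : Subgroup G, E₀ ≤ E ∧ Monoid.exponent ↥E₀ = Monoid.exponent ↥E ∧
      ∀ e ∈ E₀, e ≠ 1 → sigmaCore M ⊓ Subgroup.centralizer ({e} : Set G) = ⊥ := by
  have hpp : p.Prime := Fact.out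
  obtain ⟨A, hAE, hAe, hAc⟩ := tau2_elem_sq_compl hG hM hE hp
  obtain ⟨htau, ⟨hA0c, -⟩, hreg⟩ := thm_12_7 hG hM hE hp hS hAE hAe hAc
  have hAM : A ≤ M := hAE.trans hE.1
  have hAp : IsPGroup p A := isPGroup_of_elem hAe
  obtain ⟨P, hP, hAP⟩ := exists_isSylowIn_ge hAE hAp
  have hPM : IsSylowIn p P M := compl_isSylowIn hG hM hE hp.2.1 hP
  obtain ⟨S, x0, hcfg⟩ := cfg27_of_sylow hG hM hE hp hS hAE hAe hAc hPM hAP
  have hPc := tau2_pgroup_comm hG hM hp hPM.isPGroup hPM.le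
  have hEA : E ≤ Subgroup.normalizer (A : Set G) :=
    (Cfsg.Agent.S1418.result hG M hM E hE p hp A ⟨hAE, hAe, hAc⟩).1.1
  set A0 := A ⊓ Subgroup.centralizer (sigmaCore M : Set G) with hA0
  have hEA0 : E ≤ Subgroup.normalizer (A0 : Set G) := hE.1.trans (hcfg.le_normalizer_A0 hG)
  have hA0E : A0 ≤ E := inf_le_left.trans hAE
  haveI hAn : (A.subgroupOf E).Normal := Subgroup.normal_subgroupOf_of_le_normalizer hEA
  haveI hA0n : (A0.subgroupOf E).Normal := Subgroup.normal_subgroupOf_of_le_normalizer hEA0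
  have hmemP : ∀ x : ↥E, x ∈ ((hP.toSylow : Sylow p ↥E) : Subgroup ↥E) ↔ (x : G) ∈ P :=
    fun x => Iff.rfl
  have hPc' : ∀ x ∈ ((hP.toSylow : Sylow p ↥E) : Subgroup ↥E),
      ∀ y ∈ ((hP.toSylow : Sylow p ↥E) : Subgroup ↥E), x * y = y * x :=
    fun x hx y hy => Subtype.ext (hPc x ((hmemP x).mp hx) y ((hmemP y).mp hy))
  have hAP' : A.subgroupOf E ≤ ((hP.toSylow : Sylow p ↥E) : Subgroup ↥E) :=
    fun x hx => (hmemP x).mpr (hAP (Subgroup.mem_subgroupOf.mp hx))
  have hA0A' : A0.subgroupOf E ≤ A.subgroupOf E :=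
    fun x hx => Subgroup.mem_subgroupOf.mpr ((inf_le_left : A0 ≤ A) (Subgroup.mem_subgroupOf.mp hx))
  have hAc' : Nat.card (A.subgroupOf E) = p ^ 2 := by
    rw [Nat.card_congr (Subgroup.subgroupOfEquivOfLe hAE).toEquiv, hAc]
  have hA0c' : Nat.card (A0.subgroupOf E) = p := by
    rw [Nat.card_congr (Subgroup.subgroupOfEquivOfLe hA0E).toEquiv, hA0c]
  have hΩ' : ∀ x ∈ ((hP.toSylow : Sylow p ↥E) : Subgroup ↥E), x ^ p = 1 →
      x ∈ A.subgroupOf E := by
    intro x hx hxp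
    apply Subgroup.mem_subgroupOf.mpr
    apply tau2_omega hG hM hp hAM hAe hAc hPM.isPGroup hPM.le hAP ((hmemP x).mp hx)
    have := congrArg Subtype.val hxp
    simpa using this
  have hAe' : ∀ a ∈ A.subgroupOf E, a ^ p = 1 := by
    intro a ha
    apply Subtype.ext
    simpa using hAe.2 a (Subgroup.mem_subgroupOf.mp ha)
  have hsq' : ∀ v ∈ ((hP.toSylow : Sylow p ↥E) : Subgroup ↥E), v ^ p ∈ A0.subgroupOf E →
      v ^ p = 1 := by
    intro v hv hvA
    apply Subtype.ext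
    have h1 : ((v : G)) ^ p ∈ A0 := by
      have := Subgroup.mem_subgroupOf.mp hvA
      simpa using this
    have := no_sq hG hcfg ((hmemP v).mp hv) h1
    simpa using this
  obtain ⟨X0, hX0exp, hX0disj⟩ := core (invCyclic_subtype E hIC) hP.toSylow hPc'
    (A.subgroupOf E) (A0.subgroupOf E) hAP' hA0A' hAc' hA0c' hΩ' hAe' hsq'
  refine ⟨X0.map E.subtype, Subgroup.map_subtype_le X0, ?_, ?_⟩
  · rw [← hX0exp]
    exact (Monoid.exponent_eq_of_mulEquiv
      (X0.equivMapOfInjective E.subtype E.subtype_injective)).symm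
  · apply regular_of_prime_regular hG hM hE hH (Subgroup.map_subtype_le X0)
    intro q hq e he heo
    rw [htau] at hq
    have hqp : q = p := hq
    have hZc : Nat.card (Subgroup.zpowers e) = p := by rw [Nat.card_zpowers, heo, hqp]
    have heE : e ∈ E := Subgroup.map_subtype_le X0 he
    by_cases hZ : Subgroup.zpowers e = A0
    · exfalso
      obtain ⟨w, hw, rfl⟩ := he
      have hwA : w ∈ A0.subgroupOf E := by
        apply Subgroup.mem_subgroupOf.mpr
        rw [← hZ]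
        exact Subgroup.mem_zpowers _
      have : w ∈ A0.subgroupOf E ⊓ X0 := ⟨hwA, hw⟩
      rw [hX0disj, Subgroup.mem_bot] at this
      rw [this, map_one, orderOf_one] at heo
      rw [← heo] at hqp
      exact hpp.one_lt.ne hqp
    · have h1 := (hreg _ (Subgroup.zpowers_le.mpr heE) hZc hZ).1
      rwa [centralizer_zpowers] at h1

/-- **Theorem 12.12, nonabelian case** (modulo the invariant cyclic subgroup lemma). -/
theorem result_of_nonabelian (hG : IsMinSimpleOddOrder G) (hM : IsCoatom M)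
    (hE : IsComplIn E (sigmaCore M) M) (hH : HypReg M E) (hp : p ∈ tau2 M)
    (hS : ∀ S : Sylow p G, ¬ IsMulCommutative (S : Subgroup G)) (hIC : InvCycStatement G) :
    (∃ A₀ : Subgroup G, A₀ ≤ E ∧ E ≤ Subgroup.normalizer (A₀ : Set G) ∧ IsMulCommutative ↥A₀ ∧
        ∀ x ∈ sigmaCore M, x ≠ 1 → E ⊓ Subgroup.centralizer ({x} : Set G) ≤ A₀) ∧
      ∃ E₀ : Subgroup G, E₀ ≤ E ∧ Monoid.exponent ↥E₀ = Monoid.exponent ↥E ∧
        ∀ e ∈ E₀, e ≠ 1 → sigmaCore M ⊓ Subgroup.centralizer ({e} : Set G) = ⊥ :=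
  ⟨part_a hG hM hE hH hp hS, part_b hG hM hE hH hp hS hIC⟩

/-- **Theorem 12.12** modulo the invariant cyclic subgroup lemma. -/
theorem result_of_invCyc (hG : IsMinSimpleOddOrder G) (hM : IsCoatom M)
    (hE : IsComplIn E (sigmaCore M) M) (hH : HypReg M E) (hIC : InvCycStatement G) :
    (∃ A₀ : Subgroup G, A₀ ≤ E ∧ E ≤ Subgroup.normalizer (A₀ : Set G) ∧ IsMulCommutative ↥A₀ ∧
        ∀ x ∈ sigmaCore M, x ≠ 1 → E ⊓ Subgroup.centralizer ({x} : Set G) ≤ A₀) ∧
      ∃ E₀ : Subgroup G, E₀ ≤ E ∧ Monoid.exponent ↥E₀ = Monoid.exponent ↥E ∧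
        ∀ e ∈ E₀, e ≠ 1 → sigmaCore M ⊓ Subgroup.centralizer ({e} : Set G) = ⊥ := by
  by_cases hab : AbTau2 M
  · exact result_of_abTau2 hG hM hE hH hab hIC
  · obtain ⟨q, hq, hS⟩ := not_isMulCommutative_sylow_of_not_abTau2 hab
    haveI : Fact q.Prime := ⟨hq.1⟩
    exact result_of_nonabelian hG hM hE hH hq (fun S => hS S) hIC

end Cfsg.Agent.Lib.Helper22.BG1212N
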