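import Mathlib
import Cfsg.Agent.Lib.Helper22.BG139
import Cfsg.Agent.Lib.Helper22.BG1212N
import Cfsg.Agent.Lib.Helper11.BGTwelveF
import Cfsg.Agent.Lib.Helper9.BGExc7
import Cfsg.Agent.Lib.Helper9.BGExc15
import Cfsg.Agent.Lib.Helper9.BGPrime4
import Cfsg.Agent.Lib.Helper9.Rank
import Cfsg.Agent.S1418
import Cfsg.Agent.S1420
import Cfsg.Agent.S1422
import Cfsg.Agent.S1423

/-!
# S1430, statement (C1), nonabelian case (helper21's note `BG_S1430_C1_and_13_6`, (B2)/(B3))

`X` of prime order `p` in a maximal subgroup `M` of `p`-rank one, `C_{M_σ}(X) ≠ 1`,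
`N ∈ 𝓜(N_G(X))`: then `p ∈ τ₂(N)` is impossible when the Sylow `p`-subgroups of `G` are
nonabelian.  Inputs taken as hypotheses: the σ-partition (second half of S1378), B&G 13.6 for
`τ₁` (`Stmt136`), and `𝓜(C_G(z)) = {M}` for the elements `z` of prime order of `C_{M_σ}(X)`.
-/

set_option autoImplicit false
set_option linter.unusedVariables false
set_option linter.unusedSectionVars false
set_option linter.style.longLine false
set_option linter.style.haveILetI false

open Cfsg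
open Cfsg.Agent.Lib.Helper10.BG Cfsg.Agent.Lib.Helper10 Cfsg.Agent.Lib.Helper9.BGExc
open Cfsg.Agent.Lib.Helper19.BG12 Cfsg.Agent.Lib.Helper19.BGCompl

namespace Cfsg.Agent.Lib.Helper22.BG1430N

variable {G : Type*} [Group G] [Finite G]

/-- the σ-partition: maximal subgroups whose σ-sets meet are conjugate (second half of S1378). -/
def SigmaPartition (G : Type*) [Group G] : Prop :=
  ∀ M N : Subgroup G, IsCoatom M → IsCoatom N → (sigma M ∩ sigma N).Nonempty →
    ∃ g : G, N = M.map (MulAut.conj g).toMonoidHom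

/-- B&G 13.6 for `τ₁`: `P ≤ E` of order `q ∈ τ₁(L)`, `X ≤ C_{L_σ}(P)` of prime order: then
`𝓜(C_G(X)) = {L}`. -/
def Stmt136 (G : Type*) [Group G] : Prop :=
  ∀ (L E P X : Subgroup G) (q : ℕ), IsCoatom L → IsComplIn E (sigmaCore L) L → q ∈ tau1 L →
    P ≤ E → Nat.card P = q → X ≤ sigmaCore L ⊓ Subgroup.centralizer (P : Set G) →
    (Nat.card X).Prime →
    Subgroup.centralizer (X : Set G) ≤ L ∧
      ∀ L' : Subgroup G, IsCoatom L' → Subgroup.centralizer (X : Set G) ≤ L' → L' = L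

/-- a nontrivial subgroup contains an element of prime order. -/
theorem exists_prime_order_of_ne_bot {K : Subgroup G} (hK : K ≠ ⊥) :
    ∃ z ∈ K, (orderOf z).Prime := by
  have h1 : Nat.card K ≠ 1 := fun h => hK (Subgroup.card_eq_one.mp h)
  obtain ⟨q, hq, hqd⟩ := Nat.exists_prime_and_dvd h1
  haveI : Fact q.Prime := ⟨hq⟩
  obtain ⟨x, hx⟩ := exists_prime_orderOf_dvd_card' (G := K) q hqd
  refine ⟨(x : G), x.2, ?_⟩
  rw [Subgroup.orderOf_coe, hx]
  exact hq

theorem c1_nonabelian (hG : IsMinSimpleOddOrder G) (hsP : SigmaPartition G) (h136 : Stmt136 G)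
    {M N X : Subgroup G} (hM : IsCoatom M) (hN : IsCoatom N) {p : ℕ} [Fact p.Prime]
    (hrk : PRankLE p 1 ↥M) (hX : Nat.card X = p)
    (hNX : Subgroup.normalizer (X : Set G) ≤ N) (hp2 : p ∈ tau2 N)
    (hS : ∀ S : Sylow p G, ¬ IsMulCommutative (S : Subgroup G))
    (hK : sigmaCore M ⊓ Subgroup.centralizer (X : Set G) ≠ ⊥)
    (hz : ∀ z ∈ sigmaCore M ⊓ Subgroup.centralizer (X : Set G), (orderOf z).Prime →
      Subgroup.centralizer ({z} : Set G) ≤ M ∧
        ∀ L : Subgroup G, IsCoatom L → Subgroup.centralizer ({z} : Set G) ≤ L → L = M) :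
    False := by
  have hpp : p.Prime := Fact.out
  -- an element `z` of prime order `q` of `K* = C_{M_σ}(X)`
  obtain ⟨z, hzK, hzq⟩ : ∃ z ∈ sigmaCore M ⊓ Subgroup.centralizer (X : Set G),
      (orderOf z).Prime := exists_prime_order_of_ne_bot hK
  obtain ⟨q, hqdef⟩ : ∃ q : ℕ, q = orderOf z := ⟨_, rfl⟩
  have hq : q.Prime := hqdef ▸ hzq
  haveI : Fact q.Prime := ⟨hq⟩
  obtain ⟨hzCM, hzuniq⟩ := hz z hzK hzq
  have hzMσ : z ∈ sigmaCore M := hzK.1
  have hzCX : z ∈ Subgroup.centralizer (X : Set G) := hzK.2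
  have hz1 : z ≠ 1 := by
    rintro rfl
    rw [orderOf_one] at hzq
    exact Nat.not_prime_one hzq
  -- `q ∈ σ(M)`
  have hqσM : q ∈ sigma M := by
    apply mem_sigma_of_dvd_card_sigmaCore hG hM hq
    rw [hqdef]
    exact Subgroup.orderOf_dvd_natCard _ hzMσ
  -- `X`, `z` lie in `N`
  have hXN : X ≤ N := Subgroup.le_normalizer.trans hNX
  have hzN : z ∈ N := hNX (Subgroup.centralizer_le_normalizer _ hzCX)
  have hXp : IsPGroup p X := IsPGroup.of_card (n := 1) (by rw [hX, pow_one])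
  have hX1 : X ≠ ⊥ := by
    intro h
    rw [h, Subgroup.card_bot] at hX
    exact hpp.one_lt.ne hX
  have hp2' : p ≠ 2 := prime_ne_two_of_pgroup hG hXp hX1
  -- `N` is not conjugate to `M`
  have hNM : ∀ g : G, N ≠ M.map (MulAut.conj g).toMonoidHom := by
    intro g hg
    apply hp2.2.2.2
    rw [hg]
    exact (Cfsg.Agent.Lib.Helper9.pRankLE_conjMap_iff g).mpr hrk
  have hqσN : q ∉ sigma N := by
    intro h
    obtain ⟨g, hg⟩ := hsP M N hM hN ⟨q, hqσM, h⟩
    exact hNM g hg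
  have hpσN : p ∉ sigma N := hp2.2.1
  -- a complement `Es` of `N_σ` in `N` containing `X` and `z`
  have hzX : Subgroup.zpowers z ≤ Subgroup.normalizer (X : Set G) :=
    Subgroup.zpowers_le.mpr (Subgroup.centralizer_le_normalizer _ hzCX)
  have hcardz : Nat.card (Subgroup.zpowers z) = q := by rw [Nat.card_zpowers, hqdef]
  have hXzN : X ⊔ Subgroup.zpowers z ≤ N := sup_le hXN (Subgroup.zpowers_le.mpr hzN)
  have hXzcop : (Nat.card (X ⊔ Subgroup.zpowers z : Subgroup G)).Coprime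
      (Nat.card (sigmaCore N)) := by
    apply coprime_card_sigmaCore_of hG hN
    intro r hr hd
    have h1 := hd.trans (Cfsg.Agent.Lib.Helper9.card_sup_dvd_of_le_normalizer hzX)
    rw [hX, hcardz] at h1
    rcases (Nat.Prime.dvd_mul hr).mp h1 with h | h
    · rw [(Nat.prime_dvd_prime_iff_eq hr hpp).mp h]; exact hpσN
    · rw [(Nat.prime_dvd_prime_iff_eq hr hq).mp h]; exact hqσN
  obtain ⟨Es, hEs, hXzEs⟩ := exists_isComplIn_sigmaCore_ge hG hN hXzN hXzcop
  have hXEs : X ≤ Es := le_sup_left.trans hXzEs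
  have hzEs : z ∈ Es := hXzEs (Subgroup.mem_sup_right (Subgroup.mem_zpowers z))
  obtain ⟨As, hAsE, hAse, hAsc⟩ := tau2_elem_sq_compl hG hN hEs hp2
  obtain ⟨⟨hEsN, hAsall⟩, ⟨-, -, -⟩, -⟩ :=
    Cfsg.Agent.S1418.result hG N hN Es hEs p hp2 As ⟨hAsE, hAse, hAsc⟩
  obtain ⟨P, S, x, hcfg⟩ := exists_cfg27 hG hN hEs hp2 hS hAsE hAse hAsc
  -- `X = A*_0`
  have hXA0 : X = As ⊓ Subgroup.centralizer (sigmaCore N : Set G) := by
    by_contra hne
    exact (hcfg.part_c hG hXEs hX hne).2 ((Subgroup.centralizer_le_normalizer _).trans hNX)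
  -- the unique maximal subgroup `L` over the nonabelian Sylow `p`-subgroup `S` of `G`
  have hSp : IsPGroup p S := hcfg.sylG.isPGroup
  have hSna : ¬ IsMulCommutative ↥S := by
    intro hc
    apply hcfg.nonab
    intro u hu v hv
    exact congrArg Subtype.val (hc.is_comm.comm ⟨u, hu⟩ ⟨v, hv⟩)
  obtain ⟨L, hL, hSL, hLuniq⟩ := inUniqueMaximal_exists (Cfsg.Agent.S1422.result hG p S hSp hSna)
  have hpσL : p ∈ sigma L := Cfsg.Agent.Lib.Helper11.BG12.mem_sigma_of_nonabelian hG hL hSp hSL hSna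
  -- `N_G(A*) ≤ L`
  have hAsS : As ≤ S := hcfg.leP.trans hcfg.leS
  have hBS : As ⊔ Subgroup.zpowers x ≤ S := sup_le hAsS (Subgroup.zpowers_le.mpr hcfg.xS)
  have hBp : IsPGroup p (As ⊔ Subgroup.zpowers x : Subgroup G) := hSp.to_le hBS
  have hBna : ¬ IsMulCommutative ↥(As ⊔ Subgroup.zpowers x : Subgroup G) := by
    intro hc
    apply hcfg.xC hG
    rw [Subgroup.mem_centralizer_iff]
    intro a ha
    have hxB : x ∈ As ⊔ Subgroup.zpowers x := Subgroup.mem_sup_right (Subgroup.mem_zpowers x)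
    have haB : a ∈ As ⊔ Subgroup.zpowers x := Subgroup.mem_sup_left ha
    exact congrArg Subtype.val (hc.is_comm.comm ⟨a, haB⟩ ⟨x, hxB⟩)
  obtain ⟨Lb, hLb, hBLb, hLbuniq⟩ :=
    inUniqueMaximal_exists (Cfsg.Agent.S1422.result hG p _ hBp hBna)
  have hLLb : L = Lb := hLbuniq L hL (hBS.trans hSL)
  have hAs1 : As ≠ ⊥ := Cfsg.Agent.Lib.Helper19.BG12.ne_bot_of_card_sq hAsc
  have hAsN : As ≤ N := hAsE.trans hEs.1
  have hNAs : Subgroup.normalizer (As : Set G) ≤ L := by
    rw [hLLb]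
    apply le_of_unique_isCoatom hLbuniq
    · exact sup_le Subgroup.le_normalizer (Subgroup.zpowers_le.mpr hcfg.xN)
    · exact Cfsg.Agent.Lib.Lead.BGTrans.normalizer_ne_top hG.2 hAs1 (ne_top_of_le_isCoatom hN hAsN)
  have hEsL : Es ≤ L := hEsN.trans hNAs
  have hzL : z ∈ L := hEsL hzEs
  have hXL : X ≤ L := hXEs.trans hEsL
  have hXLσ : X ≤ sigmaCore L := pgroup_le_sigmaCore hG hL hpσL hXp hXL
  have hLN : L ≠ N := by
    rintro rfl
    exact hpσN hpσL
  -- `L` is not conjugate to `M`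
  have hLM : ∀ g : G, L ≠ M.map (MulAut.conj g).toMonoidHom := by
    intro g hg
    have hrkL : PRankLE p 1 ↥L := by
      rw [hg]
      exact (Cfsg.Agent.Lib.Helper9.pRankLE_conjMap_iff g).mpr hrk
    have hSc : IsCyclic ↥S := isCyclic_of_pRankLE_one hp2' hrkL hSL hSp
    exact hSna inferInstance
  have hqσL : q ∉ sigma L := by
    intro h
    obtain ⟨g, hg⟩ := hsP M L hM hL ⟨q, hqσM, h⟩
    exact hLM g hg
  -- a complement `EL` of `L_σ` in `L` containing `z`
  have hzpL : Subgroup.zpowers z ≤ L := Subgroup.zpowers_le.mpr hzL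
  have hzcopL : (Nat.card (Subgroup.zpowers z)).Coprime (Nat.card (sigmaCore L)) := by
    apply coprime_card_sigmaCore_of hG hL
    intro r hr hd
    rw [hcardz] at hd
    rw [(Nat.prime_dvd_prime_iff_eq hr hq).mp hd]
    exact hqσL
  obtain ⟨EL, hEL, hzEL⟩ := exists_isComplIn_sigmaCore_ge hG hL hzpL hzcopL
  have hqEL : q ∣ Nat.card EL := by
    rw [← hcardz]
    exact Subgroup.card_dvd_of_le hzEL
  -- a nontrivial element of `X`
  obtain ⟨y, hyX, hy1⟩ : ∃ y ∈ X, y ≠ 1 := by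
    by_contra hcon
    push Not at hcon
    exact hX1 ((Subgroup.eq_bot_iff_forall X).mpr hcon)
  have hzy : z * y = y * z := ((Subgroup.mem_centralizer_iff.mp hzCX) y hyX).symm
  rcases Cfsg.Agent.Lib.Helper29.BG1212.mem_tau_of_dvd_card hG hL hEL hq hqEL with h13 | h2
  · rcases h13 with h1 | h3
    · -- `q ∈ τ₁(L)`: 13.6 gives `𝓜(C_G(X)) = {L}`, but `C_G(X) ≤ N ≠ L`
      have hXC : X ≤ Subgroup.centralizer ((Subgroup.zpowers z : Subgroup G) : Set G) :=
        Subgroup.le_centralizer_iff.mp (Subgroup.zpowers_le.mpr hzCX)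
      have h5 := h136 L EL (Subgroup.zpowers z) X q hL hEL h1 hzEL hcardz (le_inf hXLσ hXC)
        (by rw [hX]; exact hpp)
      exact hLN (h5.2 N hN ((Subgroup.centralizer_le_normalizer _).trans hNX)).symm
    · -- `q ∈ τ₃(L)`: `z` centralizes a Sylow `p`-subgroup of `G`, which then lies in `M`
      have hzp : IsPGroup q (Subgroup.zpowers z) := IsPGroup.of_card (n := 1) (by rw [hcardz, pow_one])
      have hzne : Subgroup.zpowers z ≠ ⊥ := by
        intro h
        have : z ∈ (⊥ : Subgroup G) := h ▸ Subgroup.mem_zpowers z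
        exact hz1 (Subgroup.mem_bot.mp this)
      have hq2 : q ≠ 2 := prime_ne_two_of_pgroup hG hzp hzne
      obtain ⟨Qz, hQz, hzQz⟩ := exists_isSylowIn_ge hzpL hzp
      have hQzc : IsCyclic ↥Qz := isCyclic_of_pRankLE_one hq2 h3.2.2.2 hQz.le hQz.isPGroup
      have hQzL' : Qz ≤ ⁅L, L⁆ :=
        Cfsg.Agent.Lib.Helper9.BGPrime.isSylowIn_le_commutator_of_cyclic hQz hQzc h3.2.2.1
      have hzL' : Subgroup.zpowers z ≤ ⁅L, L⁆ := hzQz.trans hQzL'
      have hca : Cfsg.Agent.Lib.Helper1.CoprimeAct (Subgroup.zpowers z) (sigmaCore L) :=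
        ⟨hzpL.trans (le_normalizer_sigmaCore L), hzcopL,
          Or.inl (isSolvable_of_ne_top hG (ne_top_of_le_isCoatom hL hzpL))⟩
      obtain ⟨T, hT, hzT⟩ := coprime_exists_isSylowIn hca p
      have hTL' : T ≤ ⁅L, L⁆ := hT.le.trans (sigmaCore_le_commutator hG hL)
      have hqp : q ≠ p := by
        rintro rfl
        exact hqσL hpσL
      obtain ⟨k, hk⟩ := hT.isPGroup.exists_card_eq
      have hcomm : ⁅T, Subgroup.zpowers z⁆ = ⊥ := by
        apply Cfsg.Agent.Lib.Helper22.BG139.commutator_eq_bot_of_not_beta hG hL hzL' hTL' hzT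
        · rw [hcardz, hk]
          exact Nat.Coprime.pow_right k ((Nat.coprime_primes hq hpp).mpr hqp)
        · intro r hr hd
          rw [hcardz] at hd
          rw [(Nat.prime_dvd_prime_iff_eq hr hq).mp hd]
          exact fun h => hqσL (alpha_subset_sigma hG hL h.1)
        · intro r hr hd
          rw [hk] at hd
          rw [(Nat.prime_dvd_prime_iff_eq hr hpp).mp (hr.dvd_of_dvd_pow hd)]
          exact fun h => tau2_not_ideal hG hN hp2 h.2
      have hTC : T ≤ Subgroup.centralizer ((Subgroup.zpowers z : Subgroup G) : Set G) :=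
        Subgroup.commutator_eq_bot_iff_le_centralizer.mp hcomm
      have hTM : T ≤ M := by
        intro t ht
        apply hzCM
        rw [Subgroup.mem_centralizer_iff]
        intro w hw
        rw [Set.mem_singleton_iff] at hw
        subst hw
        exact (Subgroup.mem_centralizer_iff.mp (hTC ht)) w (Subgroup.mem_zpowers w)
      have hTc : IsCyclic ↥T := isCyclic_of_pRankLE_one hp2' hrk hTM hT.isPGroup
      have hSLσ : S ≤ sigmaCore L := pgroup_le_sigmaCore hG hL hpσL hSp hSL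
      have hSσ : IsSylowIn p S (sigmaCore L) := hcfg.sylG.of_le hSLσ le_top
      obtain ⟨c, -, hc⟩ := hT.exists_conj hSσ
      have hSc : IsCyclic ↥S := by
        rw [hc]
        exact (Subgroup.equivMapOfInjective T (MulAut.conj c).toMonoidHom
          (MulAut.conj c).injective).isCyclic.mp hTc
      exact hSna inferInstance
  · -- `q ∈ τ₂(L)`: `𝓜(C_G(z)) = {L}` by S1420, but it is `{M}`
    have h4 := (Cfsg.Agent.S1420.result hG L hL EL hEL).2.2.2 z hzL hz1
      (by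
        intro r hr hd
        rw [← hqdef] at hd
        rw [(Nat.prime_dvd_prime_iff_eq hr hq).mp hd]
        exact h2)
      ⟨hzL, y, hXLσ hyX, hy1, hzy⟩
    have h5 : L = M := hzuniq L hL h4.1
    apply hLM 1
    rw [h5]
    exact (cj_one M).symm

/-- the case `p ∈ τ₁(M)` of `c1_nonabelian` (= OPEN 3 of the S1430 notes): here the hypothesis on
the elements of `C_{M_σ}(X)` is B&G 13.6 for `M` itself. -/
theorem c1_nonabelian_tau1 (hG : IsMinSimpleOddOrder G) (hsP : SigmaPartition G)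
    (h136 : Stmt136 G) {M N X : Subgroup G} (hM : IsCoatom M) (hN : IsCoatom N) {p : ℕ}
    [Fact p.Prime] (hp1 : p ∈ tau1 M) (hXM : X ≤ M) (hX : Nat.card X = p)
    (hNX : Subgroup.normalizer (X : Set G) ≤ N) (hp2 : p ∈ tau2 N)
    (hS : ∀ S : Sylow p G, ¬ IsMulCommutative (S : Subgroup G))
    (hK : sigmaCore M ⊓ Subgroup.centralizer (X : Set G) ≠ ⊥) : False := by
  have hpp : p.Prime := Fact.out
  have hXcop : (Nat.card X).Coprime (Nat.card (sigmaCore M)) := by
    apply coprime_card_sigmaCore_of hG hM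
    intro r hr hd
    rw [hX] at hd
    rw [(Nat.prime_dvd_prime_iff_eq hr hpp).mp hd]
    exact hp1.2.1
  obtain ⟨E, hE, hXE⟩ := exists_isComplIn_sigmaCore_ge hG hM hXM hXcop
  apply c1_nonabelian hG hsP h136 hM hN hp1.2.2.2.2 hX hNX hp2 hS hK
  intro z hzK hzq
  have h1 := h136 M E X (Subgroup.zpowers z) p hM hE hp1 hXE hX
    (Subgroup.zpowers_le.mpr hzK) (by rw [Nat.card_zpowers]; exact hzq)
  rw [Cfsg.Agent.Lib.Helper9.BGExc.centralizer_zpowers] at h1
  exact h1

/-- the case `C_{M_σ}(X) ≤ (M_σ)'` of `c1_nonabelian` (used for `p ∈ τ₃(M)`, where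
`C_{M_σ}(X) = C_{M_σ}(E)`): the hypothesis on the elements of `C_{M_σ}(X)` is S1423. -/
theorem c1_nonabelian_of_le_commutator (hG : IsMinSimpleOddOrder G) (hsP : SigmaPartition G)
    (h136 : Stmt136 G) {M N X : Subgroup G} (hM : IsCoatom M) (hN : IsCoatom N) {p : ℕ}
    [Fact p.Prime] (hrk : PRankLE p 1 ↥M) (hX : Nat.card X = p)
    (hNX : Subgroup.normalizer (X : Set G) ≤ N) (hp2 : p ∈ tau2 N)
    (hS : ∀ S : Sylow p G, ¬ IsMulCommutative (S : Subgroup G))
    (hK : sigmaCore M ⊓ Subgroup.centralizer (X : Set G) ≠ ⊥)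
    (hKle : sigmaCore M ⊓ Subgroup.centralizer (X : Set G) ≤ ⁅sigmaCore M, sigmaCore M⁆) :
    False := by
  apply c1_nonabelian hG hsP h136 hM hN hrk hX hNX hp2 hS hK
  intro z hzK hzq
  haveI : Fact (orderOf z).Prime := ⟨hzq⟩
  have hqσ : orderOf z ∈ sigma M :=
    mem_sigma_of_dvd_card_sigmaCore hG hM hzq (Subgroup.orderOf_dvd_natCard _ hzK.1)
  have h1 := (Cfsg.Agent.S1423.result hG M hM (orderOf z) hqσ (Subgroup.zpowers z)
    (Subgroup.zpowers_le.mpr (sigmaCore_le M hzK.1)) (Nat.card_zpowers z) default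
    (Or.inr (Subgroup.zpowers_le.mpr (hKle hzK)))).1
  rw [Cfsg.Agent.Lib.Helper9.BGExc.centralizer_zpowers] at h1
  exact h1

end Cfsg.Agent.Lib.Helper22.BG1430N
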