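import Mathlib
import Cfsg.Agent.Lib.Helper22.BG1430N
import Cfsg.Agent.Lib.Helper29.BG13K1
import Cfsg.Agent.S1378
import Cfsg.Agent.S3745
import Cfsg.Agent.S1424
import Cfsg.Agent.S1426
import Cfsg.Agent.S1428
import Cfsg.Agent.Lib.Helper3.BG13NE

/-!
# S1430 formalization split (helper21), chunks L2b and L3 (nonabelian cases)

* `mem_sigma_of_nonregular_nonabelian` (L2b): statement C1 when the Sylow `p`-subgroups of `G`
  are nonabelian.
* `tau1_tau2_false_nonabelian` (L3, nonabelian case): a `τ₁`-subgroup `P` of prime order of `E`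
  with `C_{M_σ}(P) ≠ 1` centralizes no subgroup of order `s ∈ τ₂(M)` of `E`.
-/

set_option autoImplicit false
set_option linter.unusedVariables false
set_option linter.unusedSectionVars false
set_option linter.style.longLine false
set_option linter.style.haveILetI false

open Cfsg
open Cfsg.Agent.Lib.Helper10.BG Cfsg.Agent.Lib.Helper10 Cfsg.Agent.Lib.Helper9.BGExc
open Cfsg.Agent.Lib.Helper19.BG12 Cfsg.Agent.Lib.Helper19.BGCompl
open Cfsg.Agent.Lib.Helper22.BG1430N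

namespace Cfsg.Agent.Lib.Helper22.BG1430L

variable {G : Type*} [Group G] [Finite G]

/-- the σ-partition, from the landed S1378. -/
theorem sigmaPartition (hG : IsMinSimpleOddOrder G) : SigmaPartition G :=
  (Cfsg.Agent.S1378.result hG).2

/-- statement C1 (= L2 of the split): a subgroup `X` of prime order `p ∈ τ₁(M) ∪ τ₃(M)` with
`C_{M_σ}(X) ≠ 1` lies in `M*_σ` for every maximal `M* ≥ N_G(X)`. -/
def StmtC1 (G : Type*) [Group G] : Prop :=
  ∀ M Mstar X : Subgroup G, IsCoatom M → IsCoatom Mstar → ∀ p : ℕ, (p ∈ tau1 M ∨ p ∈ tau3 M) →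
    X ≤ M → Nat.card X = p → sigmaCore M ⊓ Subgroup.centralizer (X : Set G) ≠ ⊥ →
    Subgroup.normalizer (X : Set G) ≤ Mstar → p ∈ sigma Mstar

/-- if not all Sylow `p`-subgroups of `G` are commutative, none is. -/
theorem sylow_nonabelian_of_not_forall {p : ℕ} [Fact p.Prime]
    (h : ¬ ∀ S : Subgroup G, IsSylowIn p S ⊤ → ∀ u ∈ S, ∀ v ∈ S, u * v = v * u) :
    ∀ S : Sylow p G, ¬ IsMulCommutative ↥(S : Subgroup G) := by
  push Not at h
  obtain ⟨S₀, hS₀, u, hu, v, hv, huv⟩ := h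
  intro S hcomm
  have hS : IsSylowIn p (S : Subgroup G) ⊤ := isSylowIn_top_of_sylow S
  obtain ⟨x, -, hx⟩ := hS.exists_conj hS₀
  rw [hx] at hu hv
  obtain ⟨u', hu', rfl⟩ := hu
  obtain ⟨v', hv', rfl⟩ := hv
  apply huv
  have h1 : u' * v' = v' * u' :=
    congrArg Subtype.val (hcomm.is_comm.comm (⟨u', hu'⟩ : ↥(S : Subgroup G)) ⟨v', hv'⟩)
  rw [← map_mul, ← map_mul, h1]

/-- **L2b**: statement C1 in the case where the Sylow `p`-subgroups of `G` are nonabelian. -/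
theorem mem_sigma_of_nonregular_nonabelian (hG : IsMinSimpleOddOrder G) (h136 : Stmt136 G)
    {M Mstar X : Subgroup G} (hM : IsCoatom M) (hMs : IsCoatom Mstar) {p : ℕ} [Fact p.Prime]
    (hp : p ∈ tau1 M ∨ p ∈ tau3 M) (hXM : X ≤ M) (hX : Nat.card X = p)
    (hK : sigmaCore M ⊓ Subgroup.centralizer (X : Set G) ≠ ⊥)
    (hNX : Subgroup.normalizer (X : Set G) ≤ Mstar)
    (hS : ∀ S : Sylow p G, ¬ IsMulCommutative (S : Subgroup G)) : p ∈ sigma Mstar := by
  have hpp : p.Prime := Fact.out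
  have hXp : IsPGroup p X := IsPGroup.of_card (n := 1) (by rw [hX, pow_one])
  have hX1 : X ≠ ⊥ := ne_bot_of_card_prime hX
  rcases mem_sigma_or_tau2_of_normalizer_le hG hMs hXp hX1 hNX with h | h2
  · exact h
  exfalso
  have hsP := sigmaPartition hG
  rcases hp with hp1 | hp3
  · exact c1_nonabelian_tau1 hG hsP h136 hM hMs hp1 hXM hX hNX h2 hS hK
  · -- `p ∈ τ₃(M)`: `C_{M_σ}(X) = C_{M_σ}(E) ≤ (M_σ)'`
    have hXcop : (Nat.card X).Coprime (Nat.card (sigmaCore M)) := by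
      apply coprime_card_sigmaCore_of hG hM
      intro r hr hd
      rw [hX] at hd
      rw [(Nat.prime_dvd_prime_iff_eq hr hpp).mp hd]
      exact hp3.2.1
    obtain ⟨E, hE, hXE⟩ := exists_isComplIn_sigmaCore_ge hG hM hXM hXcop
    have hEsolv : Group.IsSolvable ↥E := isSolvable_of_ne_top hG (ne_top_of_le_isCoatom hM hE.1)
    have hcop1 : (Nat.card (⊥ : Subgroup G)).Coprime (Nat.card E) := by
      rw [Subgroup.card_bot]; exact Nat.coprime_one_left _
    obtain ⟨E₃, hE₃, -, hXE₃⟩ := (Cfsg.Agent.S3745.result (⊥ : Subgroup G) E bot_le hcop1 hEsolv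
      (tau3 M)).2.2 X hXE bot_le (by
        intro r hr hd
        rw [hX] at hd
        rw [(Nat.prime_dvd_prime_iff_eq hr hpp).mp hd]
        exact hp3)
    obtain ⟨hcyc, -, hEn⟩ := (Cfsg.Agent.S1415.result hG M hM E hE).2.2 E₃ hE₃
    have hEX : E ≤ Subgroup.normalizer (X : Set G) :=
      Cfsg.Agent.Lib.Helper29.BG13K.le_normalizer_of_le_cyclic hEn hcyc hXE₃
    have hEH : E ≤ Mstar := hEX.trans hNX
    obtain ⟨-, -, -, hc⟩ :=
      Cfsg.Agent.Lib.Helper7.BG13.cor_13_2 hG hM hMs (Or.inr hp3) hXp hX1 hNX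
    have hcomm : ⁅sigmaCore M ⊓ Mstar, M ⊓ Mstar⁆ = ⊥ := by
      by_contra hne
      exact h2.2.1 (hc hne).1
    have hKle : sigmaCore M ⊓ Subgroup.centralizer (X : Set G) ≤
        ⁅sigmaCore M, sigmaCore M⁆ := by
      refine le_trans ?_ (Cfsg.Agent.S1426.result hG M hM E hE).1
      refine le_inf inf_le_left ?_
      have h1 : sigmaCore M ⊓ Subgroup.centralizer (X : Set G) ≤ sigmaCore M ⊓ Mstar :=
        inf_le_inf_left _ ((Subgroup.centralizer_le_normalizer _).trans hNX)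
      have h2' : ⁅sigmaCore M ⊓ Subgroup.centralizer (X : Set G), E⁆ = ⊥ := by
        rw [eq_bot_iff, ← hcomm]
        exact Subgroup.commutator_mono h1 (le_inf hE.1 hEH)
      exact Subgroup.commutator_eq_bot_iff_le_centralizer.mp h2'
    exact c1_nonabelian_of_le_commutator hG hsP h136 hM hMs hp3.2.2.2 hX hNX h2 hS hK hKle

/-- **L3, nonabelian case**: `P ≤ E` of order `p ∈ τ₁(M)` with `C_{M_σ}(P) ≠ 1` centralizes no
subgroup `Y` of order `s` of `E`, for `s ∈ τ₂(M)` with nonabelian Sylow `s`-subgroups of `G`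
(statement C1 used twice). -/
theorem tau1_tau2_false_nonabelian (hG : IsMinSimpleOddOrder G) (hC1 : StmtC1 G)
    {M E P Y : Subgroup G} (hM : IsCoatom M) (hE : IsComplIn E (sigmaCore M) M) {p s : ℕ}
    [Fact p.Prime] [Fact s.Prime] (hp : p ∈ tau1 M) (hPE : P ≤ E) (hP : Nat.card P = p)
    (hK : sigmaCore M ⊓ Subgroup.centralizer (P : Set G) ≠ ⊥) (hs : s ∈ tau2 M)
    (hS : ∀ S : Sylow s G, ¬ IsMulCommutative (S : Subgroup G))
    (hYE : Y ≤ E ⊓ Subgroup.centralizer (P : Set G)) (hY : Nat.card Y = s) : False := by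
  have hpp : p.Prime := Fact.out
  have hsp : s.Prime := Fact.out
  have hYE' : Y ≤ E := hYE.trans inf_le_left
  have hYCP : Y ≤ Subgroup.centralizer (P : Set G) := hYE.trans inf_le_right
  have hPCY : P ≤ Subgroup.centralizer (Y : Set G) := Subgroup.le_centralizer_iff.mp hYCP
  have hYM : Y ≤ M := hYE'.trans hE.1
  have hPM : P ≤ M := hPE.trans hE.1
  have hYs : IsPGroup s Y := IsPGroup.of_card (n := 1) (by rw [hY, pow_one])
  have hY1 : Y ≠ ⊥ := ne_bot_of_card_prime hY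
  have hPp : IsPGroup p P := IsPGroup.of_card (n := 1) (by rw [hP, pow_one])
  have hP1 : P ≠ ⊥ := ne_bot_of_card_prime hP
  -- the configuration of Theorem 12.7
  obtain ⟨A, hAE, hAe, hAc⟩ := tau2_elem_sq_compl hG hM hE hs
  obtain ⟨⟨-, hAall⟩, -, hAuniq⟩ :=
    Cfsg.Agent.S1418.result hG M hM E hE s hs A ⟨hAE, hAe, hAc⟩
  have hYA : Y ≤ A := hAall Y hYE' hY
  -- `C_{M_σ}(Y) ≠ 1` by 13.3
  have h1428 := Cfsg.Agent.S1428.result hG M hM E hE p hp P hPE hP Y hYE (by rw [hY]; exact hsp)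
  have hKY : sigmaCore M ⊓ Subgroup.centralizer (Y : Set G) ≠ ⊥ := by
    intro h
    apply hK
    rw [eq_bot_iff, ← h]
    exact h1428
  obtain ⟨hYCM, hYuniq⟩ := hAuniq Y hYA hY hKY
  -- `Y = A₀` is normal in `M`
  obtain ⟨Ps, Ss, x, hcfg⟩ := exists_cfg27 hG hM hE hs hS hAE hAe hAc
  have hYA0 : Y = A ⊓ Subgroup.centralizer (sigmaCore M : Set G) := by
    by_contra hne
    exact hKY (hcfg.part_c hG hYE' hY hne).1
  have hMNY : M ≤ Subgroup.normalizer (Y : Set G) := by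
    rw [hYA0]
    exact hcfg.le_normalizer_A0 hG
  have hNY : Subgroup.normalizer (Y : Set G) = M := normalizer_eq_of_isCoatom' hG hM hY1 hYM hMNY
  -- the partner `H ≥ N_G(P)`
  obtain ⟨H, hH, hNP⟩ := Cfsg.Agent.Lib.Helper29.BG13K.exists_coatom_normalizer_ge hG
    (by rw [hP]; exact hpp : (Nat.card P).Prime)
  obtain ⟨hnc, -, -, -⟩ := Cfsg.Agent.Lib.Helper7.BG13.cor_13_2 hG hM hH (Or.inl hp) hPp hP1 hNP
  have hHM : H ≠ M := by
    intro h
    apply hnc 1
    rw [h]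
    exact (cj_one M).symm
  have hpσH : p ∈ sigma H := hC1 M H P hM hH p (Or.inl hp) hPM hP hK hNP
  have hPH : P ≤ H := Subgroup.le_normalizer.trans hNP
  have hPHσ : P ≤ sigmaCore H := pgroup_le_sigmaCore hG hH hpσH hPp hPH
  have hYH : Y ≤ H := hYCP.trans ((Subgroup.centralizer_le_normalizer _).trans hNP)
  have hKH : sigmaCore M ⊓ Subgroup.centralizer (P : Set G) ≤ sigmaCore M ⊓ H :=
    inf_le_inf_left _ ((Subgroup.centralizer_le_normalizer _).trans hNP)
  -- (i) `s ∉ σ(H)`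
  have hsσH : s ∉ sigma H := by
    intro hsσ
    have hYD : Y ≤ H ⊓ M := le_inf hYH hYM
    have hY' : IsPGroup s (Y.subgroupOf (H ⊓ M)) := hYs.comap_subtype
    obtain ⟨S, hSle⟩ := hY'.exists_le_sylow
    have hYS : Y ≤ (S : Subgroup ↥(H ⊓ M)).map (H ⊓ M).subtype := by
      intro y hy
      exact ⟨⟨y, hYD hy⟩, hSle (Subgroup.mem_subgroupOf.mpr hy), rfl⟩
    obtain ⟨-, -, hidx⟩ := Cfsg.Agent.S1424.result hG H hH s hsσ Y hYs hY1 hYH M hM hHM.symm
      (by rw [hNY]) S hYS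
    have hS2p : IsPGroup s ((S : Subgroup ↥(H ⊓ M)).map (H ⊓ M).subtype) := S.2.map _
    have hS2M : (S : Subgroup ↥(H ⊓ M)).map (H ⊓ M).subtype ≤ M :=
      (Subgroup.map_subtype_le _).trans inf_le_right
    have hS2H : (S : Subgroup ↥(H ⊓ M)).map (H ⊓ M).subtype ≤ H :=
      (Subgroup.map_subtype_le _).trans inf_le_left
    have hS2syl := Cfsg.Agent.Lib.Helper3.BG13NE.isSylowIn_of_not_dvd_relIndex hS2M hS2p hidx
    obtain ⟨m, hm, hconj⟩ := hcfg.sylM.exists_conj hS2syl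
    have hAmH : cj m A ≤ H := by
      refine le_trans ?_ hS2H
      rw [hconj]
      exact cj_mono m hcfg.leP
    have hAmM : cj m A ≤ M := cj_le_of_mem hm hcfg.leM
    have h17 := (Cfsg.Agent.S1417.result hG M hM s hs (cj m A)
      ⟨hAmM, isElementaryAbelian_map _ hAe, by rw [card_cj, hAc]⟩).2.2.2.2.1 H hH hHM hAmH
    apply hK
    rw [eq_bot_iff, ← h17]
    exact hKH
  -- a complement of `H_σ` in `H` containing `Y`
  have hYcop : (Nat.card Y).Coprime (Nat.card (sigmaCore H)) := by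
    apply coprime_card_sigmaCore_of hG hH
    intro r hr hd
    rw [hY] at hd
    rw [(Nat.prime_dvd_prime_iff_eq hr hsp).mp hd]
    exact hsσH
  obtain ⟨EH, hEH, hYEH⟩ := exists_isComplIn_sigmaCore_ge hG hH hYH hYcop
  have hsEH : s ∣ Nat.card EH := by
    rw [← hY]
    exact Subgroup.card_dvd_of_le hYEH
  have hKHY : sigmaCore H ⊓ Subgroup.centralizer (Y : Set G) ≠ ⊥ := by
    intro h
    apply hP1
    rw [eq_bot_iff, ← h]
    exact le_inf hPHσ hPCY
  rcases Cfsg.Agent.Lib.Helper29.BG1212.mem_tau_of_dvd_card hG hH hEH hsp hsEH with h13 | h2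
  · -- (iii) `s ∈ τ₁(H) ∪ τ₃(H)`: C1 for `(H, Y)` and `M = N_G(Y)` puts `s` in `σ(M)`
    exact hs.2.1 (hC1 H M Y hH hM s h13 hYH hY hKHY (by rw [hNY]))
  · -- (ii) `s ∈ τ₂(H)`: `𝓜(C_G(y)) = {H}`, but it is `{M}`
    obtain ⟨y, hyY, hy1⟩ : ∃ y ∈ Y, y ≠ 1 := by
      by_contra hcon
      push Not at hcon
      exact hY1 ((Subgroup.eq_bot_iff_forall Y).mpr hcon)
    obtain ⟨x0, hx0P, hx01⟩ : ∃ x0 ∈ P, x0 ≠ 1 := by
      by_contra hcon
      push Not at hcon
      exact hP1 ((Subgroup.eq_bot_iff_forall P).mpr hcon)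
    have hyx : y * x0 = x0 * y := ((Subgroup.mem_centralizer_iff.mp (hYCP hyY)) x0 hx0P).symm
    have hyord : orderOf y = s := by
      have h1 : orderOf y ∣ s := by
        rw [← hY]
        exact Subgroup.orderOf_dvd_natCard Y hyY
      rcases (Nat.dvd_prime hsp).mp h1 with h | h
      · exact absurd (orderOf_eq_one_iff.mp h) hy1
      · exact h
    have h4 := (Cfsg.Agent.S1420.result hG H hH EH hEH).2.2.2 y (hYH hyY) hy1
      (by
        intro r hr hd
        rw [hyord] at hd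
        rw [(Nat.prime_dvd_prime_iff_eq hr hsp).mp hd]
        exact h2)
      ⟨hYH hyY, x0, hPHσ hx0P, hx01, hyx⟩
    have hCY : Subgroup.centralizer (Y : Set G) ≤ Subgroup.centralizer ({y} : Set G) :=
      Subgroup.centralizer_le (by
        intro w hw
        rw [Set.mem_singleton_iff] at hw
        rw [hw]
        exact hyY)
    exact hHM (hYuniq H hH (hCY.trans h4.1))

/-- **L2 = C1, assembly**: from the commutative-Sylow case (L2a) and `Stmt136` (L1). -/
theorem stmtC1_of (hG : IsMinSimpleOddOrder G) (h136 : Stmt136 G)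
    (hL2a : ∀ M Mstar X : Subgroup G, IsCoatom M → IsCoatom Mstar → ∀ p : ℕ,
      (p ∈ tau1 M ∨ p ∈ tau3 M) → X ≤ M → Nat.card X = p →
      sigmaCore M ⊓ Subgroup.centralizer (X : Set G) ≠ ⊥ →
      Subgroup.normalizer (X : Set G) ≤ Mstar →
      (∀ S : Subgroup G, IsSylowIn p S ⊤ → ∀ u ∈ S, ∀ v ∈ S, u * v = v * u) → p ∈ sigma Mstar) :
    StmtC1 G := by
  intro M Mstar X hM hMs p hp hXM hX hK hNX
  have hpp : p.Prime := by
    rcases hp with h | h
    · exact h.1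
    · exact h.1
  haveI : Fact p.Prime := ⟨hpp⟩
  by_cases hab : ∀ S : Subgroup G, IsSylowIn p S ⊤ → ∀ u ∈ S, ∀ v ∈ S, u * v = v * u
  · exact hL2a M Mstar X hM hMs p hp hXM hX hK hNX hab
  · exact mem_sigma_of_nonregular_nonabelian hG h136 hM hMs hp hXM hX hK hNX
      (sylow_nonabelian_of_not_forall hab)

/-- **L3, assembly**: from the commutative-Sylow case (L0) and statement C1. -/
theorem tau1_tau2_regular_of (hG : IsMinSimpleOddOrder G) (hC1 : StmtC1 G)
    (hL0 : ∀ (M E P Y : Subgroup G) (p s : ℕ), IsCoatom M → IsComplIn E (sigmaCore M) M →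
      p ∈ tau1 M → P ≤ E → Nat.card P = p →
      sigmaCore M ⊓ Subgroup.centralizer (P : Set G) ≠ ⊥ → s ∈ tau2 M →
      (∀ S : Subgroup G, IsSylowIn s S ⊤ → ∀ u ∈ S, ∀ v ∈ S, u * v = v * u) →
      Y ≤ E ⊓ Subgroup.centralizer (P : Set G) → Nat.card Y = s → False)
    {M E P Y : Subgroup G} {p s : ℕ} (hM : IsCoatom M) (hE : IsComplIn E (sigmaCore M) M)
    (hp : p ∈ tau1 M) (hPE : P ≤ E) (hP : Nat.card P = p)
    (hK : sigmaCore M ⊓ Subgroup.centralizer (P : Set G) ≠ ⊥) (hs : s ∈ tau2 M)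
    (hYE : Y ≤ E ⊓ Subgroup.centralizer (P : Set G)) (hY : Nat.card Y = s) : False := by
  haveI : Fact p.Prime := ⟨hp.1⟩
  haveI : Fact s.Prime := ⟨hs.1⟩
  by_cases hab : ∀ S : Subgroup G, IsSylowIn s S ⊤ → ∀ u ∈ S, ∀ v ∈ S, u * v = v * u
  · exact hL0 M E P Y p s hM hE hp hPE hP hK hs hab hYE hY
  · exact tau1_tau2_false_nonabelian hG hC1 hM hE hp hPE hP hK hs
      (sylow_nonabelian_of_not_forall hab) hYE hY

end Cfsg.Agent.Lib.Helper22.BG1430L
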