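import Mathlib
import Cfsg.Agent.Lib.Helper22.BG1430L
import Cfsg.Agent.Lib.Helper9.BG1430a

/-!
# S1430 split: assembled L2 (= C1, modulo 13.6 for `τ₁`) and L3 (modulo C1)
-/

set_option autoImplicit false
set_option linter.unusedVariables false
set_option linter.unusedSectionVars false
set_option linter.style.longLine false

open Cfsg
open Cfsg.Agent.Lib.Helper10.BG
open Cfsg.Agent.Lib.Helper22.BG1430N Cfsg.Agent.Lib.Helper22.BG1430L

namespace Cfsg.Agent.Lib.Helper22.BG1430A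

variable {G : Type*} [Group G] [Finite G]

/-- **L2 = C1** (`mem_sigma_of_nonregular`), from B&G 13.6 for `τ₁` (`Stmt136`, = L1). -/
theorem stmtC1_of_stmt136 (hG : IsMinSimpleOddOrder G) (h136 : Stmt136 G) : StmtC1 G := by
  apply stmtC1_of hG h136
  intro M Mstar X hM hMs p hp hXM hX hK hNX hab
  have hpp : p.Prime := by
    rcases hp with h | h
    · exact h.1
    · exact h.1
  have : Fact p.Prime := ⟨hpp⟩
  apply Cfsg.Agent.Lib.Helper9.BG1430a.mem_sigma_of_nonregular_abelian hG hM hMs hp hXM hX hK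
    hNX hab
  intro hp1 Z hZ hZp
  have hXcop : (Nat.card X).Coprime (Nat.card (sigmaCore M)) := by
    apply Cfsg.Agent.Lib.Helper19.BGCompl.coprime_card_sigmaCore_of hG hM
    intro r hr hd
    rw [hX] at hd
    rw [(Nat.prime_dvd_prime_iff_eq hr hpp).mp hd]
    exact hp1.2.1
  obtain ⟨E, hE, hXE⟩ :=
    Cfsg.Agent.Lib.Helper9.BGExc.exists_isComplIn_sigmaCore_ge hG hM hXM hXcop
  exact (h136 M E X Z p hM hE hp1 hXE hX hZ hZp).1

/-- **L3** (`tau1_tau2_regular`): `P ≤ E` of order `p ∈ τ₁(M)` with `C_{M_σ}(P) ≠ 1` centralizes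
no subgroup of order `s ∈ τ₂(M)` of `E`. -/
theorem tau1_tau2_regular (hG : IsMinSimpleOddOrder G) (hC1 : StmtC1 G)
    {M E P Y : Subgroup G} {p s : ℕ} (hM : IsCoatom M) (hE : IsComplIn E (sigmaCore M) M)
    (hp : p ∈ tau1 M) (hPE : P ≤ E) (hP : Nat.card P = p)
    (hK : sigmaCore M ⊓ Subgroup.centralizer (P : Set G) ≠ ⊥) (hs : s ∈ tau2 M)
    (hYE : Y ≤ E ⊓ Subgroup.centralizer (P : Set G)) (hY : Nat.card Y = s) : False := by
  apply tau1_tau2_regular_of hG hC1 ?_ hM hE hp hPE hP hK hs hYE hY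
  intro M E P Y p s hM hE hp hPE hP hK hs hab hYE hY
  have : Fact s.Prime := ⟨hs.1⟩
  exact Cfsg.Agent.Lib.Helper9.BG1430a.tau1_tau2_abelian hG hM hE hp hPE hP hK hs hab hYE hY

end Cfsg.Agent.Lib.Helper22.BG1430A
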