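import Mathlib
import Cfsg.Agent.Lib.Helper1.SubfSLDefs

/-!
# S5639 FO-B1c: if every `a ∈ F` is a parameter then `M ⊇ SL_n(F)`

The hypothesis is the unfolded form of `∀ a : F, a ∈ ParamSet K M` of the skeleton
(`ParamSet K M = {a | ∀ u φ : Fin n → K, φ ⬝ᵥ u = 0 → InM M (tv (rvec K u) (a • rvec K φ))}`),
so it applies to that statement by definitional unfolding.
-/

set_option autoImplicit false

namespace Cfsg.Agent.Lib.Helper22.S5639

open Matrix Cfsg.Agent.Lib.Helper13 Cfsg.Agent.Lib.Helper1.SubfSL

variable {F : Type*} [Field F] {n : ℕ}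

theorem tvIn_zero (M : Subgroup (GL (Fin n) F)) : TvIn M (0 : Fin n → F) := by
  intro φ _ g hg
  have h1 : tv (0 : Fin n → F) φ = 1 := by
    apply mat_ext'
    intro x
    rw [tv_mulVec, smul_zero, add_zero, one_mulVec]
  have : g = 1 := Units.ext (by rw [hg, h1]; rfl)
  rw [this]
  exact M.one_mem

/-- FO-B1c: if every `a ∈ F` is a parameter then `M ⊇ SL_n(F)`. -/
theorem SL_le_of_paramSet_univ (hn : 2 ≤ n) (K : Subfield F) (M : Subgroup (GL (Fin n) F))
    (hall : ∀ a : F, ∀ u φ : Fin n → K, φ ⬝ᵥ u = 0 →
      InM M (tv (rvec K u) (a • rvec K φ))) : Cfsg.Geo.specialLinear (Fin n) F ≤ M := by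
  classical
  apply SL_le_of_forall_TvIn hn M
  -- the basis vectors
  have hbasis : ∀ i : Fin n, TvIn M (Pi.single i (1 : F)) := by
    intro i ψ hψ g hg
    apply InM.mem
    rw [hg]
    have hψi : ψ i = 0 := by
      rw [dotProduct_single, mul_one] at hψ
      exact hψ
    have key : ∀ s : Finset (Fin n), i ∉ s →
        InM M (tv (Pi.single i (1 : F)) (∑ j ∈ s, ψ j • (Pi.single j (1 : F) : Fin n → F))) := by
      intro s
      induction s using Finset.induction_on with
      | empty =>
        intro _
        rw [Finset.sum_empty, tv_zero]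
        exact InM.one M
      | insert j s hj ih =>
        intro hi
        have hij : j ≠ i := by
          rintro rfl
          exact hi (Finset.mem_insert_self _ _)
        have his : i ∉ s := fun h => hi (Finset.mem_insert_of_mem h)
        have hdot : (Pi.single j (1 : K) : Fin n → K) ⬝ᵥ (Pi.single i (1 : K) : Fin n → K) = 0 := by
          rw [dotProduct_single, mul_one, Pi.single_eq_of_ne hij.symm]
        have hdot' : (ψ j • (Pi.single j (1 : F) : Fin n → F)) ⬝ᵥ (Pi.single i (1 : F) : Fin n → F)
            = 0 := by
          rw [dotProduct_single, mul_one, Pi.smul_apply, Pi.single_eq_of_ne hij.symm, smul_zero]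
        rw [Finset.sum_insert hj, ← tv_mul_tv _ _ _ hdot']
        refine InM.mul ?_ (ih his)
        have := hall (ψ j) (Pi.single i 1) (Pi.single j 1) hdot
        rwa [rvec_single, rvec_single] at this
    have hsum : ∑ j ∈ Finset.univ.erase i, ψ j • (Pi.single j (1 : F) : Fin n → F) = ψ := by
      ext k
      rw [Finset.sum_apply]
      simp only [Pi.smul_apply, Pi.single_apply, smul_eq_mul, mul_ite, mul_one, mul_zero]
      by_cases hk : k = i
      · subst hk
        rw [hψi]
        apply Finset.sum_eq_zero
        intro j hj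
        rw [if_neg (fun h => (Finset.ne_of_mem_erase hj) h.symm)]
      · rw [Finset.sum_eq_single k]
        · rw [if_pos rfl]
        · intro j _ hjk
          rw [if_neg (fun h => hjk h.symm)]
        · intro hk'
          exact absurd (Finset.mem_erase.2 ⟨hk, Finset.mem_univ k⟩) hk'
    have := key (Finset.univ.erase i) (Finset.notMem_erase i _)
    rwa [hsum] at this
  -- all vectors
  intro x
  have hx : x = ∑ i, x i • (Pi.single i (1 : F) : Fin n → F) := by
    ext k
    rw [Finset.sum_apply]
    simp only [Pi.smul_apply, Pi.single_apply, smul_eq_mul, mul_ite, mul_one, mul_zero]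
    rw [Finset.sum_eq_single k]
    · rw [if_pos rfl]
    · intro j _ hjk
      rw [if_neg (fun h => hjk h.symm)]
    · intro hk'
      exact absurd (Finset.mem_univ k) hk'
  rw [hx]
  have hs : ∀ s : Finset (Fin n), TvIn M (∑ i ∈ s, x i • (Pi.single i (1 : F) : Fin n → F)) := by
    intro s
    induction s using Finset.induction_on with
    | empty =>
      rw [Finset.sum_empty]
      exact tvIn_zero M
    | insert i s hi ih =>
      rw [Finset.sum_insert hi]
      exact ((hbasis i).smul _).add ih
  exact hs _

end Cfsg.Agent.Lib.Helper22.S5639
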