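import Mathlib
import Cfsg.Agent.Lib.Helper1.OrthSubfDefs
import Cfsg.Agent.Lib.Helper28.S5639FOALG

/-!
# S5683 FO-C2: in a quadratic extension every vector is confined (`Conf`)
-/

set_option autoImplicit false

namespace Cfsg.Agent.Lib.Helper22.S5683

open Matrix Cfsg.Agent.Lib.Helper13 Cfsg.Agent.Lib.Helper1.OrthSubf

variable {F : Type*} [Field F] {n : ℕ} {K : Subfield F}

/-- **FO-C2** -/
theorem conf_of_two [Finite F] (hcard : Nat.card F = Nat.card K ^ 2) (w : Fin n → F) :
    Conf K w := by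
  have hfr : Module.finrank K F = 2 :=
    Cfsg.Agent.Lib.Helper28.S5639.finrank_eq_of_card K 2 hcard
  have : Module.Finite K F := Module.finite_of_finrank_pos (by omega)
  let b : Module.Basis (Fin 2) K F := Module.finBasisOfFinrankEq K F hfr
  refine ⟨![fun i => b.repr (w i) 0, fun i => b.repr (w i) 1, 0, 0], ![b 0, b 1, 0, 0], ?_⟩
  ext i
  have h := b.sum_repr (w i)
  rw [Fin.sum_univ_two] at h
  rw [Fin.sum_univ_four]
  simp only [Matrix.cons_val_zero, Matrix.cons_val_one, Matrix.cons_val_two, Matrix.cons_val_three,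
    Matrix.head_cons, Matrix.tail_cons, zero_smul, add_zero, Pi.add_apply, Pi.smul_apply,
    smul_eq_mul, rvec, Pi.zero_apply]
  conv_lhs => rw [← h]
  simp only [Subfield.smul_def, smul_eq_mul]
  ring

end Cfsg.Agent.Lib.Helper22.S5683
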