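import Mathlib
import Cfsg.Agent.Lib.Helper19.Derangement

set_option autoImplicit false

namespace Cfsg.Agent.Lib.Helper22

variable {G : Type*} [Group G]

/-- **Jordan**: a finite group is not the union of the conjugates of a proper subgroup. -/
theorem exists_forall_conj_not_mem [Finite G] (M : Subgroup G) (hM : M ≠ ⊤) :
    ∃ g : G, ∀ x : G, x⁻¹ * g * x ∉ M := by
  by_contra hcon
  push Not at hcon
  apply hM
  have hbot : Cfsg.Agent.Lib.Helper19.derSubgroup G (G ⧸ M) = ⊥ := by
    rw [Cfsg.Agent.Lib.Helper19.derSubgroup_def, Subgroup.closure_eq_bot_iff]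
    intro g hg
    exfalso
    obtain ⟨x, hx⟩ := hcon g
    apply hg (QuotientGroup.mk x)
    have e : g • (QuotientGroup.mk x : G ⧸ M) = QuotientGroup.mk (g * x) := rfl
    rw [e, QuotientGroup.eq]
    have : (g * x)⁻¹ * x = (x⁻¹ * g * x)⁻¹ := by group
    rw [this]
    exact M.inv_mem hx
  have htr := Cfsg.Agent.Lib.Helper19.derSubgroup_pretransitive (G := G) (Ω := G ⧸ M)
  rw [eq_top_iff]
  intro g _
  obtain ⟨d, hd⟩ := htr.exists_smul_eq (QuotientGroup.mk 1 : G ⧸ M) (QuotientGroup.mk g)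
  have hd1 : (d : G) = 1 := by
    have h1 : (d : G) ∈ Cfsg.Agent.Lib.Helper19.derSubgroup G (G ⧸ M) := d.2
    have h2 : (d : G) ∈ (⊥ : Subgroup G) := hbot ▸ h1
    exact Subgroup.mem_bot.mp h2
  have e : d • (QuotientGroup.mk 1 : G ⧸ M) = QuotientGroup.mk ((d : G) * 1) := rfl
  have hd' : (QuotientGroup.mk ((d : G) * 1) : G ⧸ M) = QuotientGroup.mk g := e ▸ hd
  rw [hd1, mul_one, QuotientGroup.eq, inv_one, one_mul] at hd'
  exact hd'

/-- an element whose order is coprime to the index of a normal subgroup lies in it -/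
theorem mem_of_coprime_index [Finite G] (N : Subgroup G) [N.Normal] (x : G)
    (h : (orderOf x).Coprime N.index) : x ∈ N := by
  rw [← QuotientGroup.eq_one_iff]
  have h1 : orderOf (QuotientGroup.mk x : G ⧸ N) ∣ orderOf x := orderOf_map_dvd (QuotientGroup.mk' N) x
  have h2 : orderOf (QuotientGroup.mk x : G ⧸ N) ∣ N.index := by
    rw [Subgroup.index_eq_card]
    exact orderOf_dvd_natCard _
  exact orderOf_eq_one_iff.mp (Nat.eq_one_of_dvd_coprimes h h1 h2)

/-- a `p`-element of a subgroup `C` of index prime to `p` lies in a Sylow `p`-subgroup of `G`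
contained in `C` -/
theorem exists_sylow_le_mem_of_not_dvd_index [Finite G] {p : ℕ} [hp : Fact p.Prime] (C : Subgroup G)
    (hC : ¬ p ∣ C.index) (t : G) (htC : t ∈ C) (k : ℕ) (ht : orderOf t = p ^ k) :
    ∃ Q : Sylow p G, (Q : Subgroup G) ≤ C ∧ t ∈ (Q : Subgroup G) := by
  have h1 : IsPGroup p (Subgroup.zpowers (⟨t, htC⟩ : C)) :=
    IsPGroup.of_card (n := k) (by rw [Nat.card_zpowers, Subgroup.orderOf_mk, ht])
  obtain ⟨R, hR⟩ := h1.exists_le_sylow
  have hR' : IsPGroup p ((R : Subgroup C).map C.subtype) := R.2.map C.subtype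
  have hidx : ¬ p ∣ ((R : Subgroup C).map C.subtype).index := by
    rw [Subgroup.index_map_subtype]
    intro h
    rcases (Nat.Prime.dvd_mul hp.out).mp h with h' | h'
    · exact R.not_dvd_index h'
    · exact hC h'
  refine ⟨hR'.toSylow hidx, Subgroup.map_subtype_le _, ?_⟩
  exact ⟨⟨t, htC⟩, hR (Subgroup.mem_zpowers _), rfl⟩

end Cfsg.Agent.Lib.Helper22
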