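import Mathlib
import Cfsg.Agent.Lib.Helper7.SpExtDefs

/-!
# S5664 FO-IIa : a maximal T-pair, conjugated (`exists_max_pair`), plus the `actL` calculus
-/

set_option autoImplicit false
set_option linter.unusedSimpArgs false
set_option linter.unusedVariables false

namespace Cfsg.Agent.Lib.Helper22.S5664II

open Matrix Module Cfsg.Agent.Lib.Helper7.SpExt

variable {F : Type*} [Field F] {L : Type*} [Field L] [Algebra F L] {ι : Type} [Fintype ι]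
  [DecidableEq ι] {ρ : L →ₐ[F] Matrix ι ι F} {f : (ι → F) →ₗ[F] (ι → F) →ₗ[F] F} {τ : L →ₗ[F] F}
  {B : (ι → F) →ₗ[F] (ι → F) →ₗ[F] L} {r : ℕ}

lemma actL_injective (g : GL ι F) : Function.Injective (actL g) := act_injective g

lemma actL_mul (g h : GL ι F) : actL (g * h) = actL g ∘ₗ actL h := by
  apply LinearMap.ext
  intro v
  simp only [actL_apply, LinearMap.comp_apply, act_mul]

lemma map_actL_mul (g h : GL ι F) (S : Submodule F (ι → F)) :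
    S.map (actL (g * h)) = (S.map (actL h)).map (actL g) := by
  rw [actL_mul, Submodule.map_comp]

lemma finrank_map_actL (g : GL ι F) (S : Submodule F (ι → F)) :
    finrank F ↥(S.map (actL g)) = finrank F ↥S :=
  (Submodule.equivMapOfInjective (actL g) (actL_injective g) S).finrank_eq.symm

lemma map_actL_inf (g : GL ι F) (S T : Submodule F (ι → F)) :
    (S ⊓ T).map (actL g) = S.map (actL g) ⊓ T.map (actL g) :=
  Submodule.map_inf (actL g) (actL_injective g)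

lemma map_actL_inj (g : GL ι F) {S T : Submodule F (ι → F)}
    (h : S.map (actL g) = T.map (actL g)) : S = T :=
  Submodule.map_injective_of_injective (actL_injective g) h

lemma map_actL_one (S : Submodule F (ι → F)) : S.map (actL (1 : GL ι F)) = S := by
  ext v
  simp [actL]

lemma map_actL_inv_map (g : GL ι F) (S : Submodule F (ι → F)) :
    (S.map (actL g)).map (actL g⁻¹) = S := by
  rw [← map_actL_mul, inv_mul_cancel, map_actL_one]

lemma Img_mul (ρ : L →ₐ[F] Matrix ι ι F) (g h : GL ι F) (v : ι → F) :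
    Img ρ (g * h) v = (Img ρ h v).map (actL g) := by
  unfold Img
  rw [map_actL_mul]

lemma map_inv_Img (ρ : L →ₐ[F] Matrix ι ι F) (g : GL ι F) (v : ι → F) :
    (Img ρ g v).map (actL g⁻¹) = pt ρ v := by
  unfold Img
  rw [map_actL_inv_map]

lemma orb_injective (ρ : L →ₐ[F] Matrix ι ι F) {v : ι → F} (hv : v ≠ 0) :
    Function.Injective (orb ρ v) := by
  rw [← LinearMap.ker_eq_bot, LinearMap.ker_eq_bot']
  intro a ha
  by_contra ha0
  apply hv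
  have h1 : ρ (a⁻¹ * a) *ᵥ v = 0 := by
    rw [rho_mul_mulVec]
    have : ρ a *ᵥ v = 0 := ha
    rw [this, Matrix.mulVec_zero]
  rwa [inv_mul_cancel₀ ha0, rho_one_mulVec] at h1

/-- FO-IIa -/
theorem exists_max_pair (S : SpStr ρ f τ B) (H : Subgroup (GL ι F)) (hH : H ≤ isom f)
    (h h' : GL ι F) (v v' : ι → F) (hT : TPair ρ f H h h' v v') :
    ∃ (v₁ v₀ : ι → F) (g₀ : GL ι F), g₀ ∈ H ∧ v₁ ≠ 0 ∧ v₀ ≠ 0 ∧ pt ρ v₁ ⊓ Img ρ g₀ v₀ ≠ ⊥ ∧
      (∃ x ∈ pt ρ v₁, ∃ y ∈ Img ρ g₀ v₀, f x y ≠ 0) ∧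
      ∀ k k' w w', TPair ρ f H k k' w w' →
        finrank F ↥(Img ρ k w ⊓ Img ρ k' w') ≤ finrank F ↥(pt ρ v₁ ⊓ Img ρ g₀ v₀) := by
  classical
  obtain ⟨Cand, hCand⟩ : ∃ Cand : ℕ → Prop, ∀ δ, Cand δ ↔
      ∃ (k k' : GL ι F) (w w' : ι → F), TPair ρ f H k k' w w' ∧
        finrank F ↥(Img ρ k w ⊓ Img ρ k' w') = δ := ⟨_, fun _ => Iff.rfl⟩
  obtain ⟨N, hN⟩ : ∃ N : ℕ, N = finrank F (ι → F) := ⟨_, rfl⟩
  have hbound : ∀ δ, Cand δ → δ ≤ N := by
    intro δ hδ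
    obtain ⟨k, k', w, w', -, rfl⟩ := (hCand δ).mp hδ
    rw [hN]
    exact Submodule.finrank_le _
  have hδ₀ : Cand (finrank F ↥(Img ρ h v ⊓ Img ρ h' v')) :=
    (hCand _).mpr ⟨h, h', v, v', hT, rfl⟩
  have hCδ : Cand (Nat.findGreatest Cand N) := Nat.findGreatest_spec (hbound _ hδ₀) hδ₀
  have hmax : ∀ δ', Cand δ' → δ' ≤ Nat.findGreatest Cand N :=
    fun δ' h => Nat.le_findGreatest (hbound δ' h) h
  obtain ⟨δ, hδdef⟩ : ∃ δ, δ = Nat.findGreatest Cand N := ⟨_, rfl⟩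
  rw [← hδdef] at hCδ hmax
  obtain ⟨k, k', w, w', ⟨hk, hk', hw, hw', hne, x, hx, y, hy, hxy⟩, hfin⟩ := (hCand δ).mp hCδ
  have hkinv : k⁻¹ ∈ H := H.inv_mem hk
  have hiso : ∀ a b, f (act k⁻¹ a) (act k⁻¹ b) = f a b := (mem_isom f k⁻¹).mp (hH hkinv)
  have e1 : (Img ρ k w).map (actL k⁻¹) = pt ρ w := map_inv_Img ρ k w
  have e2 : (Img ρ k' w').map (actL k⁻¹) = Img ρ (k⁻¹ * k') w' := (Img_mul ρ k⁻¹ k' w').symm
  have e3 : (Img ρ k w ⊓ Img ρ k' w').map (actL k⁻¹) = pt ρ w ⊓ Img ρ (k⁻¹ * k') w' := by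
    rw [map_actL_inf, e1, e2]
  have hfin' : finrank F ↥(pt ρ w ⊓ Img ρ (k⁻¹ * k') w') = δ := by
    rw [← e3, finrank_map_actL, hfin]
  refine ⟨w, w', k⁻¹ * k', H.mul_mem hkinv hk', hw, hw', ?_, ?_, ?_⟩
  · intro hbot
    apply hne
    rw [← e3] at hbot
    have h0 := finrank_map_actL k⁻¹ (Img ρ k w ⊓ Img ρ k' w')
    rw [hbot, finrank_bot] at h0
    exact Submodule.finrank_eq_zero.mp h0.symm
  · refine ⟨act k⁻¹ x, ?_, act k⁻¹ y, ?_, ?_⟩
    · rw [← e1]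
      exact ⟨x, hx, rfl⟩
    · rw [← e2]
      exact ⟨y, hy, rfl⟩
    · rw [hiso]
      exact hxy
  · intro k₂ k₂' w₂ w₂' hT₂
    rw [hfin']
    exact hmax _ ((hCand _).mpr ⟨k₂, k₂', w₂, w₂', hT₂, rfl⟩)

end Cfsg.Agent.Lib.Helper22.S5664II
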