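import Mathlib
import Cfsg.Agent.Lib.Helper9.OExtDefs
import Cfsg.Agent.Lib.Helper22.S5664FOIIa

/-!
# S5701 FO-C0 / FO-D0 : maximal intersecting pairs and maximal perpendicular pairs, conjugated
(`exists_max_ipair`, `exists_max_ppair`); ports of `Helper22.S5664II.exists_max_pair`.
-/

set_option autoImplicit false
set_option linter.unusedSimpArgs false
set_option linter.unusedVariables false

namespace Cfsg.Agent.Lib.Helper22.S5701C0D0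

open Matrix Module QuadraticMap Cfsg.Agent.Lib.Helper7.SpExt Cfsg.Agent.Lib.Helper9.OExt
  Cfsg.Agent.Lib.Helper22.S5664II

variable {F : Type*} [Field F] {L : Type*} [Field L] [Algebra F L] {ι : Type} [Fintype ι]
  [DecidableEq ι] {ρ : L →ₐ[F] Matrix ι ι F} {Q : QuadraticForm F (ι → F)} {τ : L →ₗ[F] F}
  {B : (ι → F) →ₗ[F] (ι → F) →ₗ[F] L} {r : ℕ}

/-- isometries preserve the polar form -/
theorem polar_act' {g : GL ι F} (hg : g ∈ Cfsg.isometryGroup F ⇑Q) (x y : ι → F) :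
    polar (⇑Q) (act g x) (act g y) = polar (⇑Q) x y := by
  have h : ∀ u : ι → F, Q (act g u) = Q u := fun u => hg u u
  unfold polar
  rw [← act_add, h, h, h]

/-- conjugating a pair by `k⁻¹` -/
theorem conj_data (k k' : GL ι F) (w w' : ι → F) :
    (Img ρ k w).map (actL k⁻¹) = pt ρ w ∧
    (Img ρ k' w').map (actL k⁻¹) = Img ρ (k⁻¹ * k') w' ∧
    (Img ρ k w ⊓ Img ρ k' w').map (actL k⁻¹) = pt ρ w ⊓ Img ρ (k⁻¹ * k') w' ∧
    finrank F ↥(pt ρ w ⊓ Img ρ (k⁻¹ * k') w') = finrank F ↥(Img ρ k w ⊓ Img ρ k' w') := by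
  have e1 : (Img ρ k w).map (actL k⁻¹) = pt ρ w := map_inv_Img ρ k w
  have e2 : (Img ρ k' w').map (actL k⁻¹) = Img ρ (k⁻¹ * k') w' := (Img_mul ρ k⁻¹ k' w').symm
  have e3 : (Img ρ k w ⊓ Img ρ k' w').map (actL k⁻¹) = pt ρ w ⊓ Img ρ (k⁻¹ * k') w' := by
    rw [map_actL_inf, e1, e2]
  refine ⟨e1, e2, e3, ?_⟩
  rw [← e3, finrank_map_actL]

/-- FO-C0 -/
theorem exists_max_ipair (H : Subgroup (GL ι F)) (h h' : GL ι F) (v v' : ι → F)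
    (hI : IPair ρ B H h h' v v') : ∃ (v₁ v₀ : ι → F) (g₀ : GL ι F), MaxI ρ B H v₁ v₀ g₀ := by
  classical
  obtain ⟨Cand, hCand⟩ : ∃ Cand : ℕ → Prop, ∀ δ, Cand δ ↔
      ∃ (k k' : GL ι F) (w w' : ι → F), IPair ρ B H k k' w w' ∧
        finrank F ↥(Img ρ k w ⊓ Img ρ k' w') = δ := ⟨_, fun _ => Iff.rfl⟩
  obtain ⟨N, hN⟩ : ∃ N : ℕ, N = finrank F (ι → F) := ⟨_, rfl⟩
  have hbound : ∀ δ, Cand δ → δ ≤ N := by
    intro δ hδ
    obtain ⟨k, k', w, w', -, rfl⟩ := (hCand δ).mp hδ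
    rw [hN]
    exact Submodule.finrank_le _
  have hδ₀ : Cand (finrank F ↥(Img ρ h v ⊓ Img ρ h' v')) :=
    (hCand _).mpr ⟨h, h', v, v', hI, rfl⟩
  have hCδ : Cand (Nat.findGreatest Cand N) := Nat.findGreatest_spec (hbound _ hδ₀) hδ₀
  have hmax : ∀ δ', Cand δ' → δ' ≤ Nat.findGreatest Cand N :=
    fun δ' h => Nat.le_findGreatest (hbound δ' h) h
  obtain ⟨δ, hδdef⟩ : ∃ δ, δ = Nat.findGreatest Cand N := ⟨_, rfl⟩
  rw [← hδdef] at hCδ hmax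
  obtain ⟨k, k', w, w', ⟨hk, hk', hw, hw', hne, hbot⟩, hfin⟩ := (hCand δ).mp hCδ
  have hkinv : k⁻¹ ∈ H := H.inv_mem hk
  obtain ⟨e1, e2, e3, e4⟩ := conj_data (ρ := ρ) k k' w w'
  refine ⟨w, w', k⁻¹ * k', H.mul_mem hkinv hk', hw, hw', ?_, ?_, ?_⟩
  · intro heq
    apply hne
    apply map_actL_inj k⁻¹
    rw [e1, e2]
    exact heq
  · intro hb
    apply hbot
    rw [← e3] at hb
    have h0 := finrank_map_actL k⁻¹ (Img ρ k w ⊓ Img ρ k' w')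
    rw [hb, finrank_bot] at h0
    exact Submodule.finrank_eq_zero.mp h0.symm
  · intro k₂ k₂' w₂ w₂' hT₂
    rw [e4, hfin]
    exact hmax _ ((hCand _).mpr ⟨k₂, k₂', w₂, w₂', hT₂, rfl⟩)

/-- FO-D0 -/
theorem exists_max_ppair (H : Subgroup (GL ι F)) (hH : H ≤ Cfsg.isometryGroup F ⇑Q)
    (h h' : GL ι F) (v v' : ι → F) (hP : PPair ρ Q B H h h' v v') :
    ∃ (v₁ v₀ : ι → F) (g₀ : GL ι F), MaxP ρ Q B H v₁ v₀ g₀ := by
  classical
  obtain ⟨Cand, hCand⟩ : ∃ Cand : ℕ → Prop, ∀ δ, Cand δ ↔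
      ∃ (k k' : GL ι F) (w w' : ι → F), PPair ρ Q B H k k' w w' ∧
        finrank F ↥(Img ρ k w ⊓ Img ρ k' w') = δ := ⟨_, fun _ => Iff.rfl⟩
  obtain ⟨N, hN⟩ : ∃ N : ℕ, N = finrank F (ι → F) := ⟨_, rfl⟩
  have hbound : ∀ δ, Cand δ → δ ≤ N := by
    intro δ hδ
    obtain ⟨k, k', w, w', -, rfl⟩ := (hCand δ).mp hδ
    rw [hN]
    exact Submodule.finrank_le _
  have hδ₀ : Cand (finrank F ↥(Img ρ h v ⊓ Img ρ h' v')) :=
    (hCand _).mpr ⟨h, h', v, v', hP, rfl⟩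
  have hCδ : Cand (Nat.findGreatest Cand N) := Nat.findGreatest_spec (hbound _ hδ₀) hδ₀
  have hmax : ∀ δ', Cand δ' → δ' ≤ Nat.findGreatest Cand N :=
    fun δ' h => Nat.le_findGreatest (hbound δ' h) h
  obtain ⟨δ, hδdef⟩ : ∃ δ, δ = Nat.findGreatest Cand N := ⟨_, rfl⟩
  rw [← hδdef] at hCδ hmax
  obtain ⟨k, k', w, w', ⟨⟨hk, hk', hw, hw', hne, hbot⟩, hperp⟩, hfin⟩ := (hCand δ).mp hCδ
  have hkinv : k⁻¹ ∈ H := H.inv_mem hk
  obtain ⟨e1, e2, e3, e4⟩ := conj_data (ρ := ρ) k k' w w'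
  refine ⟨w, w', k⁻¹ * k', H.mul_mem hkinv hk', hw, hw', ?_, ?_, ?_, ?_⟩
  · intro heq
    apply hne
    apply map_actL_inj k⁻¹
    rw [e1, e2]
    exact heq
  · intro hb
    apply hbot
    rw [← e3] at hb
    have h0 := finrank_map_actL k⁻¹ (Img ρ k w ⊓ Img ρ k' w')
    rw [hb, finrank_bot] at h0
    exact Submodule.finrank_eq_zero.mp h0.symm
  · intro x hx y hy
    rw [← e1] at hx
    rw [← e2] at hy
    obtain ⟨x', hx', rfl⟩ := hx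
    obtain ⟨y', hy', rfl⟩ := hy
    rw [actL_apply, actL_apply, polar_act' (hH hkinv)]
    exact hperp x' hx' y' hy'
  · intro k₂ k₂' w₂ w₂' hT₂
    rw [e4, hfin]
    exact hmax _ ((hCand _).mpr ⟨k₂, k₂', w₂, w₂', hT₂, rfl⟩)

end Cfsg.Agent.Lib.Helper22.S5701C0D0
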