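import Cfsg.Agent.Lib.Helper22.StCCBBTSL

set_option autoImplicit false
set_option maxRecDepth 100000

/-! Steinberg's Theorem 10, PART B, piece [BT], simply-laced types: row checks of the chain table in
small ranges (one `decide +kernel` per range keeps the kernel's memory small). -/

namespace Cfsg.Agent.Lib.Helper14.StCC.B.Helper22

open Cfsg.Lie Cfsg.Agent.Lib.Helper8.Chev

theorem slB_E8 : slB chevE8 = true := by decide +kernel
theorem cE8_0 : nilRangeB chevE8 0 6 = true := by decide +kernel
theorem cE8_1 : nilRangeB chevE8 6 12 = true := by decide +kernel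
theorem cE8_2 : nilRangeB chevE8 12 18 = true := by decide +kernel
theorem cE8_3 : nilRangeB chevE8 18 24 = true := by decide +kernel
theorem cE8_4 : nilRangeB chevE8 24 30 = true := by decide +kernel
theorem cE8_5 : nilRangeB chevE8 30 36 = true := by decide +kernel
theorem cE8_6 : nilRangeB chevE8 36 42 = true := by decide +kernel
theorem cE8_7 : nilRangeB chevE8 42 48 = true := by decide +kernel
theorem cE8_8 : nilRangeB chevE8 48 54 = true := by decide +kernel
theorem cE8_9 : nilRangeB chevE8 54 60 = true := by decide +kernel
theorem cE8_10 : nilRangeB chevE8 60 66 = true := by decide +kernel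
theorem cE8_11 : nilRangeB chevE8 66 72 = true := by decide +kernel
theorem cE8_12 : nilRangeB chevE8 72 78 = true := by decide +kernel
theorem cE8_13 : nilRangeB chevE8 78 84 = true := by decide +kernel
theorem cE8_14 : nilRangeB chevE8 84 90 = true := by decide +kernel
theorem cE8_15 : nilRangeB chevE8 90 96 = true := by decide +kernel
theorem cE8_16 : nilRangeB chevE8 96 102 = true := by decide +kernel
theorem cE8_17 : nilRangeB chevE8 102 108 = true := by decide +kernel
theorem cE8_18 : nilRangeB chevE8 108 114 = true := by decide +kernel
theorem cE8_19 : nilRangeB chevE8 114 120 = true := by decide +kernel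

end Cfsg.Agent.Lib.Helper14.StCC.B.Helper22
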