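import Cfsg.Agent.Lib.Helper22.StCCBBTSL

set_option autoImplicit false
set_option maxRecDepth 100000

/-! Steinberg's Theorem 10, PART B, piece [BT], simply-laced types: row checks of the chain table in
small ranges (one `decide +kernel` per range keeps the kernel's memory small). -/

namespace Cfsg.Agent.Lib.Helper14.StCC.B.Helper22

open Cfsg.Lie Cfsg.Agent.Lib.Helper8.Chev

theorem cE8_20 : nilRangeB chevE8 120 126 = true := by decide +kernel
theorem cE8_21 : nilRangeB chevE8 126 132 = true := by decide +kernel
theorem cE8_22 : nilRangeB chevE8 132 138 = true := by decide +kernel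
theorem cE8_23 : nilRangeB chevE8 138 144 = true := by decide +kernel
theorem cE8_24 : nilRangeB chevE8 144 150 = true := by decide +kernel
theorem cE8_25 : nilRangeB chevE8 150 156 = true := by decide +kernel
theorem cE8_26 : nilRangeB chevE8 156 162 = true := by decide +kernel
theorem cE8_27 : nilRangeB chevE8 162 168 = true := by decide +kernel
theorem cE8_28 : nilRangeB chevE8 168 174 = true := by decide +kernel
theorem cE8_29 : nilRangeB chevE8 174 180 = true := by decide +kernel
theorem cE8_30 : nilRangeB chevE8 180 186 = true := by decide +kernel
theorem cE8_31 : nilRangeB chevE8 186 192 = true := by decide +kernel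
theorem cE8_32 : nilRangeB chevE8 192 198 = true := by decide +kernel
theorem cE8_33 : nilRangeB chevE8 198 204 = true := by decide +kernel
theorem cE8_34 : nilRangeB chevE8 204 210 = true := by decide +kernel
theorem cE8_35 : nilRangeB chevE8 210 216 = true := by decide +kernel
theorem cE8_36 : nilRangeB chevE8 216 222 = true := by decide +kernel
theorem cE8_37 : nilRangeB chevE8 222 228 = true := by decide +kernel
theorem cE8_38 : nilRangeB chevE8 228 234 = true := by decide +kernel
theorem cE8_39 : nilRangeB chevE8 234 240 = true := by decide +kernel

end Cfsg.Agent.Lib.Helper14.StCC.B.Helper22
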