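import Cfsg.Agent.Lib.Helper22.StCCBBTE7
import Cfsg.Agent.Lib.Helper22.StCCBBTE8a
import Cfsg.Agent.Lib.Helper22.StCCBBTE8b

set_option autoImplicit false

/-! Steinberg's Theorem 10, PART B, piece [BT] for the simply-laced types `D4`, `E6`, `E7`, `E8`:
every admissible ordered pair of roots has shape 0 or shape 1 (`ShapeP`). -/

namespace Cfsg.Agent.Lib.Helper14.StCC.B.Helper22

open Cfsg.Lie Cfsg.Agent.Lib.Helper8.Chev

theorem nilRowB_D4 : ∀ r < chevD4.nroots, nilRowB chevD4 r = true := by
  intro r hr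
  have hr' : r < 24 := hr
  by_cases h0 : r < 24
  · exact nilRowB_of_range cD4_0 (by omega) h0
  omega

theorem nilRowB_E6 : ∀ r < chevE6.nroots, nilRowB chevE6 r = true := by
  intro r hr
  have hr' : r < 72 := hr
  by_cases h0 : r < 18
  · exact nilRowB_of_range cE6_0 (by omega) h0
  by_cases h1 : r < 36
  · exact nilRowB_of_range cE6_1 (by omega) h1
  by_cases h2 : r < 54
  · exact nilRowB_of_range cE6_2 (by omega) h2
  by_cases h3 : r < 72
  · exact nilRowB_of_range cE6_3 (by omega) h3
  omega

theorem nilRowB_E7 : ∀ r < chevE7.nroots, nilRowB chevE7 r = true := by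
  intro r hr
  have hr' : r < 126 := hr
  by_cases h0 : r < 14
  · exact nilRowB_of_range cE7_0 (by omega) h0
  by_cases h1 : r < 28
  · exact nilRowB_of_range cE7_1 (by omega) h1
  by_cases h2 : r < 42
  · exact nilRowB_of_range cE7_2 (by omega) h2
  by_cases h3 : r < 56
  · exact nilRowB_of_range cE7_3 (by omega) h3
  by_cases h4 : r < 70
  · exact nilRowB_of_range cE7_4 (by omega) h4
  by_cases h5 : r < 84
  · exact nilRowB_of_range cE7_5 (by omega) h5
  by_cases h6 : r < 98
  · exact nilRowB_of_range cE7_6 (by omega) h6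
  by_cases h7 : r < 112
  · exact nilRowB_of_range cE7_7 (by omega) h7
  by_cases h8 : r < 126
  · exact nilRowB_of_range cE7_8 (by omega) h8
  omega

theorem nilRowB_E8 : ∀ r < chevE8.nroots, nilRowB chevE8 r = true := by
  intro r hr
  have hr' : r < 240 := hr
  by_cases h0 : r < 6
  · exact nilRowB_of_range cE8_0 (by omega) h0
  by_cases h1 : r < 12
  · exact nilRowB_of_range cE8_1 (by omega) h1
  by_cases h2 : r < 18
  · exact nilRowB_of_range cE8_2 (by omega) h2
  by_cases h3 : r < 24
  · exact nilRowB_of_range cE8_3 (by omega) h3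
  by_cases h4 : r < 30
  · exact nilRowB_of_range cE8_4 (by omega) h4
  by_cases h5 : r < 36
  · exact nilRowB_of_range cE8_5 (by omega) h5
  by_cases h6 : r < 42
  · exact nilRowB_of_range cE8_6 (by omega) h6
  by_cases h7 : r < 48
  · exact nilRowB_of_range cE8_7 (by omega) h7
  by_cases h8 : r < 54
  · exact nilRowB_of_range cE8_8 (by omega) h8
  by_cases h9 : r < 60
  · exact nilRowB_of_range cE8_9 (by omega) h9
  by_cases h10 : r < 66
  · exact nilRowB_of_range cE8_10 (by omega) h10
  by_cases h11 : r < 72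
  · exact nilRowB_of_range cE8_11 (by omega) h11
  by_cases h12 : r < 78
  · exact nilRowB_of_range cE8_12 (by omega) h12
  by_cases h13 : r < 84
  · exact nilRowB_of_range cE8_13 (by omega) h13
  by_cases h14 : r < 90
  · exact nilRowB_of_range cE8_14 (by omega) h14
  by_cases h15 : r < 96
  · exact nilRowB_of_range cE8_15 (by omega) h15
  by_cases h16 : r < 102
  · exact nilRowB_of_range cE8_16 (by omega) h16
  by_cases h17 : r < 108
  · exact nilRowB_of_range cE8_17 (by omega) h17
  by_cases h18 : r < 114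
  · exact nilRowB_of_range cE8_18 (by omega) h18
  by_cases h19 : r < 120
  · exact nilRowB_of_range cE8_19 (by omega) h19
  by_cases h20 : r < 126
  · exact nilRowB_of_range cE8_20 (by omega) h20
  by_cases h21 : r < 132
  · exact nilRowB_of_range cE8_21 (by omega) h21
  by_cases h22 : r < 138
  · exact nilRowB_of_range cE8_22 (by omega) h22
  by_cases h23 : r < 144
  · exact nilRowB_of_range cE8_23 (by omega) h23
  by_cases h24 : r < 150
  · exact nilRowB_of_range cE8_24 (by omega) h24
  by_cases h25 : r < 156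
  · exact nilRowB_of_range cE8_25 (by omega) h25
  by_cases h26 : r < 162
  · exact nilRowB_of_range cE8_26 (by omega) h26
  by_cases h27 : r < 168
  · exact nilRowB_of_range cE8_27 (by omega) h27
  by_cases h28 : r < 174
  · exact nilRowB_of_range cE8_28 (by omega) h28
  by_cases h29 : r < 180
  · exact nilRowB_of_range cE8_29 (by omega) h29
  by_cases h30 : r < 186
  · exact nilRowB_of_range cE8_30 (by omega) h30
  by_cases h31 : r < 192
  · exact nilRowB_of_range cE8_31 (by omega) h31
  by_cases h32 : r < 198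
  · exact nilRowB_of_range cE8_32 (by omega) h32
  by_cases h33 : r < 204
  · exact nilRowB_of_range cE8_33 (by omega) h33
  by_cases h34 : r < 210
  · exact nilRowB_of_range cE8_34 (by omega) h34
  by_cases h35 : r < 216
  · exact nilRowB_of_range cE8_35 (by omega) h35
  by_cases h36 : r < 222
  · exact nilRowB_of_range cE8_36 (by omega) h36
  by_cases h37 : r < 228
  · exact nilRowB_of_range cE8_37 (by omega) h37
  by_cases h38 : r < 234
  · exact nilRowB_of_range cE8_38 (by omega) h38
  by_cases h39 : r < 240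
  · exact nilRowB_of_range cE8_39 (by omega) h39
  omega

/-- [BT] for `D4` -/
theorem shapeP_D4 {r s : ℕ} (hr : r < chevD4.nroots) (hs : s < chevD4.nroots) (_h1 : s ≠ r)
    (_h2 : s ≠ chevD4.neg r) : ShapeP chevD4 r s :=
  shapeP_of_sl validJ_D4.V slB_D4 hr hs (nilRowB_D4 r hr)

/-- [BT] for `E6` -/
theorem shapeP_E6 {r s : ℕ} (hr : r < chevE6.nroots) (hs : s < chevE6.nroots) (_h1 : s ≠ r)
    (_h2 : s ≠ chevE6.neg r) : ShapeP chevE6 r s :=
  shapeP_of_sl validJ_E6.V slB_E6 hr hs (nilRowB_E6 r hr)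

/-- [BT] for `E7` -/
theorem shapeP_E7 {r s : ℕ} (hr : r < chevE7.nroots) (hs : s < chevE7.nroots) (_h1 : s ≠ r)
    (_h2 : s ≠ chevE7.neg r) : ShapeP chevE7 r s :=
  shapeP_of_sl validJ_E7.V slB_E7 hr hs (nilRowB_E7 r hr)

/-- [BT] for `E8` -/
theorem shapeP_E8 {r s : ℕ} (hr : r < chevE8.nroots) (hs : s < chevE8.nroots) (_h1 : s ≠ r)
    (_h2 : s ≠ chevE8.neg r) : ShapeP chevE8 r s :=
  shapeP_of_sl validJ_E8.V slB_E8 hr hs (nilRowB_E8 r hr)

end Cfsg.Agent.Lib.Helper14.StCC.B.Helper22
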