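import Mathlib

/-!
# General lemmas on conjugation actions, used for the Sylow 5-subgroups of a simple group of
order 7920 (helper22, FO-B for helper11's S4429)
-/

set_option autoImplicit false

namespace Cfsg.Agent.Lib.Helper22.M11Five

variable {G : Type*} [Group G]

/-- conjugation action of a subgroup on a conjugation-stable set -/
@[reducible] def conjSet (H : Subgroup G) (X : Set G)
    (hX : ∀ h ∈ H, ∀ x ∈ X, h * x * h⁻¹ ∈ X) : MulAction H X where
  smul h x := ⟨(h : G) * (x : G) * (h : G)⁻¹, hX h h.2 x x.2⟩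
  one_smul x := by
    apply Subtype.ext
    change ((1 : H) : G) * (x : G) * ((1 : H) : G)⁻¹ = x
    simp
  mul_smul h k x := by
    apply Subtype.ext
    change ((h * k : H) : G) * (x : G) * ((h * k : H) : G)⁻¹ =
      (h : G) * ((k : G) * (x : G) * (k : G)⁻¹) * (h : G)⁻¹
    simp only [Subgroup.coe_mul]
    group

/-- fixed point congruence for the conjugation action of a `p`-subgroup on a stable set -/
theorem card_modEq_card_commuting {p : ℕ} [Fact p.Prime] (H : Subgroup G) (hH : IsPGroup p H)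
    (X : Set G) [Finite X] (hX : ∀ h ∈ H, ∀ x ∈ X, h * x * h⁻¹ ∈ X) :
    Nat.card X ≡ Nat.card {x : G // x ∈ X ∧ ∀ h ∈ H, h * x = x * h} [MOD p] := by
  let _ : MulAction H X := conjSet H X hX
  have h1 := hH.card_modEq_card_fixedPoints X
  have e : MulAction.fixedPoints H X ≃ {x : G // x ∈ X ∧ ∀ h ∈ H, h * x = x * h} :=
    { toFun := fun x => ⟨((x : X) : G), (x : X).2, fun h hh => by
        have h2 : h * ((x : X) : G) * h⁻¹ = ((x : X) : G) :=
          congrArg Subtype.val (x.2 ⟨h, hh⟩)
        calc h * ((x : X) : G) = h * ((x : X) : G) * h⁻¹ * h := by group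
          _ = ((x : X) : G) * h := by rw [h2]⟩
      invFun := fun x => ⟨⟨x.1, x.2.1⟩, fun h => by
        apply Subtype.ext
        change (h : G) * x.1 * (h : G)⁻¹ = x.1
        rw [x.2.2 h h.2]; group⟩
      left_inv := fun x => rfl
      right_inv := fun x => rfl }
  rw [Nat.card_congr e] at h1
  exact h1

theorem isPGroup_zpowers {p n : ℕ} {x : G} (h : x ^ (p ^ n) = 1) :
    IsPGroup p (Subgroup.zpowers x) := by
  rintro ⟨y, hy⟩
  obtain ⟨j, rfl⟩ := Subgroup.mem_zpowers_iff.mp hy
  refine ⟨n, Subtype.ext ?_⟩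
  change (x ^ j) ^ (p ^ n) = 1
  rw [← zpow_natCast, ← zpow_mul, mul_comm, zpow_mul, zpow_natCast, h, one_zpow]

/-- the centralizer in `E` of a `p`-element normalizing `E` has order `≡ |E|` mod `p` -/
theorem card_modEq_card_centralizer {p n : ℕ} [Fact p.Prime] [Finite G] (E : Subgroup G) {a : G}
    (ha : a ∈ Subgroup.normalizer (E : Set G)) (hpow : a ^ (p ^ n) = 1) :
    Nat.card E ≡ Nat.card (E ⊓ Subgroup.centralizer ({a} : Set G) : Subgroup G) [MOD p] := by
  have hle : Subgroup.zpowers a ≤ Subgroup.normalizer (E : Set G) := Subgroup.zpowers_le.mpr ha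
  have hX : ∀ h ∈ Subgroup.zpowers a, ∀ x ∈ (E : Set G), h * x * h⁻¹ ∈ (E : Set G) :=
    fun h hh x hx => (Subgroup.mem_normalizer_iff.mp (hle hh) x).mp hx
  have h1 := card_modEq_card_commuting (Subgroup.zpowers a) (isPGroup_zpowers hpow) (E : Set G) hX
  have e : {x : G // x ∈ (E : Set G) ∧ ∀ h ∈ Subgroup.zpowers a, h * x = x * h} ≃
      (E ⊓ Subgroup.centralizer ({a} : Set G) : Subgroup G) :=
    Equiv.subtypeEquivRight (fun x => by
      rw [Subgroup.mem_inf, Subgroup.mem_centralizer_iff]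
      constructor
      · rintro ⟨h1, h2⟩
        refine ⟨h1, fun y hy => ?_⟩
        rw [Set.mem_singleton_iff] at hy
        rw [hy]; exact h2 a (Subgroup.mem_zpowers a)
      · rintro ⟨h1, h2⟩
        refine ⟨h1, fun h hh => ?_⟩
        obtain ⟨j, rfl⟩ := Subgroup.mem_zpowers_iff.mp hh
        have hc : Commute a x := h2 a rfl
        exact (hc.zpow_left j).eq)
  rw [Nat.card_congr e] at h1
  exact h1

/-- a `p`-element of `K` normalizing a `p`-subgroup `E` of `K` of maximal order lies in `E` -/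
theorem mem_of_pow_eq_one_of_mem_normalizer {p : ℕ} [Fact p.Prime] [Finite G]
    (K E : Subgroup G) (hEK : E ≤ K) (hE : IsPGroup p E)
    (hmax : ∀ m, p ^ m ∣ Nat.card K → p ^ m ≤ Nat.card E)
    {u : G} (huK : u ∈ K) (huN : u ∈ Subgroup.normalizer (E : Set G)) {n : ℕ}
    (hu : u ^ (p ^ n) = 1) : u ∈ E := by
  have hle : Subgroup.zpowers u ≤ Subgroup.normalizer (E : Set G) := Subgroup.zpowers_le.mpr huN
  have hT : IsPGroup p (Subgroup.zpowers u ⊔ E : Subgroup G) :=
    IsPGroup.to_sup_of_normal_right' (isPGroup_zpowers hu) hE hle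
  have hTK : Subgroup.zpowers u ⊔ E ≤ K := sup_le (Subgroup.zpowers_le.mpr huK) hEK
  obtain ⟨m, hm⟩ := IsPGroup.iff_card.mp hT
  have h1 : p ^ m ≤ Nat.card E := hmax m (by rw [← hm]; exact Subgroup.card_dvd_of_le hTK)
  have h2 : E = Subgroup.zpowers u ⊔ E :=
    Subgroup.eq_of_le_of_card_ge le_sup_right (by rw [hm]; exact h1)
  rw [h2]
  exact le_sup_left (a := Subgroup.zpowers u) (Subgroup.mem_zpowers u)

theorem two_mul_card_le_of_lt [Finite G] {A B : Subgroup G} (h : A < B) :
    2 * Nat.card A ≤ Nat.card B := by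
  obtain ⟨m, hm⟩ := Subgroup.card_dvd_of_le h.le
  have hB : 0 < Nat.card B := Nat.card_pos
  have hA : 0 < Nat.card A := Nat.card_pos
  have hne : Nat.card A ≠ Nat.card B := by
    intro he
    exact h.ne (Subgroup.eq_of_le_of_card_ge h.le he.ge)
  have hm2 : 2 ≤ m := by
    rcases m with _ | _ | m
    · rw [hm] at hB; simp at hB
    · exfalso; apply hne; rw [hm]; ring
    · omega
  rw [hm]
  calc 2 * Nat.card A = Nat.card A * 2 := by ring
    _ ≤ Nat.card A * m := Nat.mul_le_mul_left _ hm2

/-- a subgroup whose order is less than four times the order of its centre is abelian -/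
theorem le_centralizer_of_card_lt [Finite G] (E : Subgroup G)
    (h : Nat.card E < 4 * Nat.card (E ⊓ Subgroup.centralizer (E : Set G) : Subgroup G)) :
    E ≤ Subgroup.centralizer (E : Set G) := by
  intro x hx
  by_contra hxc
  set Z : Subgroup G := E ⊓ Subgroup.centralizer (E : Set G) with hZ
  set C : Subgroup G := E ⊓ Subgroup.centralizer ({x} : Set G) with hC
  have hZC : Z ≤ C :=
    inf_le_inf_left E (Subgroup.centralizer_le (Set.singleton_subset_iff.mpr hx))
  have hxC : x ∈ C := by
    rw [hC, Subgroup.mem_inf, Subgroup.mem_centralizer_iff]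
    refine ⟨hx, fun y hy => ?_⟩
    rw [Set.mem_singleton_iff] at hy
    rw [hy]
  have hxZ : x ∉ Z := fun hh => hxc (Subgroup.mem_inf.mp hh).2
  have hlt1 : Z < C := lt_of_le_of_ne hZC (fun he => hxZ (he ▸ hxC))
  have hCE : C ≤ E := inf_le_left
  have hne : C ≠ E := by
    intro he
    apply hxc
    rw [Subgroup.mem_centralizer_iff]
    intro y hy
    have hyC : y ∈ C := he ▸ hy
    have := (Subgroup.mem_centralizer_iff.mp (Subgroup.mem_inf.mp hyC).2) x rfl
    exact this.symm
  have hlt2 : C < E := lt_of_le_of_ne hCE hne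
  have h1 := two_mul_card_le_of_lt hlt1
  have h2 := two_mul_card_le_of_lt hlt2
  omega

/-- orbit-stabilizer for the conjugates of `t` under a subgroup `N` -/
theorem card_conj_orbit_mul_dvd [Finite G] (N D : Subgroup G) (t : G) (hDN : D ≤ N)
    (hD : ∀ d ∈ D, d * t = t * d) :
    Nat.card {x : G // ∃ n ∈ N, n * t * n⁻¹ = x} * Nat.card D ∣ Nat.card N := by
  set X : Set G := {x : G | ∃ n ∈ N, n * t * n⁻¹ = x} with hXdef
  have hX : ∀ h ∈ N, ∀ x ∈ X, h * x * h⁻¹ ∈ X := by
    rintro h hh x ⟨n, hn, rfl⟩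
    exact ⟨h * n, N.mul_mem hh hn, by group⟩
  let _ : MulAction N X := conjSet N X hX
  let x₀ : X := ⟨t, 1, N.one_mem, by simp⟩
  have horb : MulAction.orbit N x₀ = Set.univ := by
    apply Set.eq_univ_of_forall
    rintro ⟨x, n, hn, rfl⟩
    exact ⟨⟨n, hn⟩, rfl⟩
  have h1 : (MulAction.stabilizer N x₀).index = Nat.card X := by
    rw [MulAction.index_stabilizer, horb, Set.ncard_univ]
  have h2 := Subgroup.card_mul_index (MulAction.stabilizer N x₀)
  have h3 : D.subgroupOf N ≤ MulAction.stabilizer N x₀ := by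
    intro d hd
    rw [MulAction.mem_stabilizer_iff]
    apply Subtype.ext
    change (d : G) * t * (d : G)⁻¹ = t
    rw [hD d (Subgroup.mem_subgroupOf.mp hd)]; group
  have h4 : Nat.card (D.subgroupOf N) = Nat.card D :=
    Nat.card_congr (Subgroup.subgroupOfEquivOfLe hDN).toEquiv
  have h5 := Subgroup.card_dvd_of_le h3
  rw [h4] at h5
  obtain ⟨c, hc⟩ := h5
  change Nat.card X * Nat.card D ∣ Nat.card N
  rw [← h2, h1, hc]
  exact ⟨c, by ring⟩

/-- a subgroup of index two is normalized -/
theorem le_normalizer_of_two_mul_card [Finite G] (E S : Subgroup G) (hES : E ≤ S)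
    (h : 2 * Nat.card E = Nat.card S) : S ≤ Subgroup.normalizer (E : Set G) := by
  have h2 := Subgroup.card_mul_index (E.subgroupOf S)
  have h4 : Nat.card (E.subgroupOf S) = Nat.card E :=
    Nat.card_congr (Subgroup.subgroupOfEquivOfLe hES).toEquiv
  rw [h4, ← h] at h2
  have hE : 0 < Nat.card E := Nat.card_pos
  have h5 : (E.subgroupOf S).index = 2 := by
    have : Nat.card E * (E.subgroupOf S).index = Nat.card E * 2 := by rw [h2]; ring
    exact Nat.eq_of_mul_eq_mul_left hE this
  have hn : (E.subgroupOf S).Normal := Subgroup.normal_of_index_eq_two h5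
  exact (Subgroup.normal_subgroupOf_iff_le_normalizer hES).mp hn

end Cfsg.Agent.Lib.Helper22.M11Five
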