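import Mathlib
import Cfsg.Agent.H5.SmallOrdD

/-!
# Sylow `p`-subgroups of order `p²` meeting in a subgroup of order `p` (helper22, for S0983)

* `card_eq_card_inf_normalizer_mul`: for a Sylow `p`-subgroup `P ≤ K`,
  `|K| = |K ∩ N_G(P)| · n_p(K)`.
* `inter_cfg`: in a non-abelian simple group of order `p² m` with `n_p ≢ 1 (mod p²)` there are
  Sylow `p`-subgroups `P ≠ R` with `D = P ∩ R` of order `p`, both inside `N = N_G(D)`, and
  `|N| = j k`, `j = |N ∩ N_G(P)|`, `k = n_p(N) ≡ 1 (mod p)`, `k > 1`, `p² ∣ j ∣ |N_G(P)|`,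
  `j k i = |G|` with `i = |G : N|` and `2 |G| ∣ i!`.
-/

set_option autoImplicit false
set_option linter.unusedSectionVars false

namespace Cfsg.Agent.Lib.Helper22.SylowInter

open Cfsg.H5.SmallOrd
open scoped Nat

variable {G : Type*} [Group G] [Finite G]

/-- If `P ≤ K` is a Sylow `p`-subgroup of `G` then `|K| = |K ∩ N_G(P)| · n_p(K)`. -/
theorem card_eq_card_inf_normalizer_mul {p : ℕ} [Fact p.Prime] (P : Sylow p G) (K : Subgroup G)
    (hPK : (P : Subgroup G) ≤ K) :
    Nat.card K =
      Nat.card (K ⊓ Subgroup.normalizer ((P : Subgroup G) : Set G) : Subgroup G) *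
        Nat.card (Sylow p K) := by
  have h1 : Nat.card (Sylow p K) =
      (Subgroup.normalizer (((P.subtype hPK : Sylow p K) : Subgroup K) : Set K)).index :=
    Sylow.card_eq_index_normalizer _
  have h2 : ((P.subtype hPK : Sylow p K) : Subgroup K) = (P : Subgroup G).subgroupOf K := rfl
  rw [h2, ← Subgroup.subgroupOf_normalizer_eq hPK] at h1
  have h3 := Subgroup.card_mul_index
    ((Subgroup.normalizer ((P : Subgroup G) : Set G)).subgroupOf K)
  rw [← h1, card_subgroupOf_eq_card_inf] at h3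
  exact h3.symm

/-- two distinct Sylow subgroups of `G` inside `K` give two distinct Sylow subgroups of `K` -/
theorem one_lt_card_sylow_of_two {p : ℕ} [hp : Fact p.Prime] (P R : Sylow p G) (hPR : P ≠ R)
    (K : Subgroup G) (hP : (P : Subgroup G) ≤ K) (hR : (R : Subgroup G) ≤ K) :
    1 < Nat.card (Sylow p K) := by
  have hne : P.subtype hP ≠ R.subtype hR := by
    intro h
    apply hPR
    have h2 : ((P.subtype hP : Sylow p K) : Subgroup K) =
        ((R.subtype hR : Sylow p K) : Subgroup K) := congrArg _ h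
    rw [Sylow.coe_subtype, Sylow.coe_subtype] at h2
    apply Sylow.ext
    have h3 := congrArg (Subgroup.map K.subtype) h2
    rw [Subgroup.subgroupOf_map_subtype, Subgroup.subgroupOf_map_subtype,
      inf_eq_left.mpr hP, inf_eq_left.mpr hR] at h3
    exact h3
  have hpos : 0 < Nat.card (Sylow p K) := Nat.card_pos
  have hne1 : Nat.card (Sylow p K) ≠ 1 := by
    intro h
    have hss : Subsingleton (Sylow p K) := (Nat.card_eq_one_iff_unique.mp h).1
    exact hne (Subsingleton.elim _ _)
  omega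

theorem card_sylow_mod {p : ℕ} [hp : Fact p.Prime] (K : Subgroup G) :
    Nat.card (Sylow p K) % p = 1 := by
  have := card_sylow_modEq_one p K
  unfold Nat.ModEq at this
  rw [this, Nat.mod_eq_of_lt hp.out.one_lt]

/-- The intersection configuration in a simple group of order `p² m`. -/
theorem inter_cfg [IsSimpleGroup G] (hG : ¬ IsMulCommutative G) (p : ℕ) [hp : Fact p.Prime]
    (m : ℕ) (hm1 : 1 < m) (hm : ¬ p ∣ m) (hcard : Nat.card G = p ^ 2 * m)
    (hmod : Nat.card (Sylow p G) % p ^ 2 ≠ 1) :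
    ∃ (P R : Sylow p G) (j k i : ℕ), P ≠ R ∧
      Nat.card ((P : Subgroup G) ⊓ (R : Subgroup G) : Subgroup G) = p ∧
      (P : Subgroup G) ≤
        Subgroup.normalizer (((P : Subgroup G) ⊓ (R : Subgroup G) : Subgroup G) : Set G) ∧
      (R : Subgroup G) ≤
        Subgroup.normalizer (((P : Subgroup G) ⊓ (R : Subgroup G) : Subgroup G) : Set G) ∧
      Nat.card (Subgroup.normalizer (((P : Subgroup G) ⊓ (R : Subgroup G) : Subgroup G) : Set G) ⊓
        Subgroup.normalizer ((P : Subgroup G) : Set G) : Subgroup G) = j ∧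
      Nat.card (Sylow p (Subgroup.normalizer
        (((P : Subgroup G) ⊓ (R : Subgroup G) : Subgroup G) : Set G))) = k ∧
      (Subgroup.normalizer
        (((P : Subgroup G) ⊓ (R : Subgroup G) : Subgroup G) : Set G)).index = i ∧
      p ^ 2 ∣ j ∧ j ∣ Nat.card (Subgroup.normalizer ((P : Subgroup G) : Set G)) ∧
      k % p = 1 ∧ 1 < k ∧
      Nat.card (Subgroup.normalizer
        (((P : Subgroup G) ⊓ (R : Subgroup G) : Subgroup G) : Set G)) = j * k ∧
      j * k * i = Nat.card G ∧ i ≠ 1 ∧ 2 * Nat.card G ∣ i ! := by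
  obtain ⟨P, R, hPR, hDc, hPN, hRN⟩ := exists_inter p 2 m (by norm_num) hm hcard hmod
  have hp0 : 0 < p := hp.out.pos
  have hD : Nat.card ((P : Subgroup G) ⊓ (R : Subgroup G) : Subgroup G) = p := by
    have : Nat.card ((P : Subgroup G) ⊓ (R : Subgroup G) : Subgroup G) * p = p * p := by
      rw [hDc]; ring
    exact Nat.eq_of_mul_eq_mul_right hp0 this
  set D : Subgroup G := (P : Subgroup G) ⊓ (R : Subgroup G) with hDdef
  set N : Subgroup G := Subgroup.normalizer (D : Set G) with hNdef
  have hPc := sylow_card p 2 m hm hcard P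
  have hD1 : D ≠ ⊥ := by
    intro h
    rw [h, Subgroup.card_bot] at hD
    have := hp.out.one_lt
    omega
  have hD2 : D ≠ ⊤ := by
    intro h
    have hle : (⊤ : Subgroup G) ≤ (P : Subgroup G) := by rw [← h]; exact inf_le_left
    have h5 : (P : Subgroup G) = ⊤ := top_le_iff.mp hle
    have h6 := sylow_index p 2 m hm hcard P
    rw [h5, Subgroup.index_top] at h6
    omega
  have hNtop : N ≠ ⊤ := by
    intro h
    rw [hNdef, Subgroup.normalizer_eq_top_iff] at h
    exact Cfsg.Agent.S0493.false_of_normal D h hD1 hD2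
  have hL1 := card_eq_card_inf_normalizer_mul P N hPN
  have hidx := Subgroup.card_mul_index N
  refine ⟨P, R, _, _, _, hPR, hD, hPN, hRN, rfl, rfl, rfl, ?_, ?_, card_sylow_mod N,
    one_lt_card_sylow_of_two P R hPR N hPN hRN, hL1, ?_, ?_,
    two_card_dvd_factorial_index hG N hNtop⟩
  · rw [← hPc]
    exact Subgroup.card_dvd_of_le (le_inf hPN Subgroup.le_normalizer)
  · exact Subgroup.card_dvd_of_le inf_le_right
  · rw [← hL1]
    exact hidx
  · intro h
    exact hNtop (Subgroup.index_eq_one.mp h)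

end Cfsg.Agent.Lib.Helper22.SylowInter
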