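import Mathlib
import Cfsg.Agent.Lib.Helper11.M11A
import Cfsg.Agent.Lib.Helper29.Ord5040A
import Cfsg.Agent.Lib.Helper22.SylowInter
import Cfsg.Agent.Lib.Helper22.M11FiveA
import Cfsg.Agent.H5.SylowTuple

/-!
# Sylow 5-subgroups of a simple group of order 7920: set-up (helper22, FO-B for helper11)

Assume `|C(Q)| = 10`, `|N(Q)| = 20` for a Sylow 5-subgroup `Q`.  Then `C(Q)` has a unique
involution `t`, `N(Q) ≤ K := C(t)`, `11 ∤ |K|`, `|K| = 20 k` with `k = n_5(K) ∈ {1, 6, 36}`;
the case `k = 1` is impossible.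
-/

set_option autoImplicit false
set_option linter.unusedSectionVars false

namespace Cfsg.Agent.Lib.Helper22.M11Five

open Cfsg.Agent.Lib.Helper29.Ord5040

variable {G : Type*} [Group G] [Finite G]

theorem ncomm7920 [IsSimpleGroup G] (hord : Nat.card G = 7920) : ¬ IsMulCommutative G := by
  intro h
  let _ : CommGroup G := { ‹Group G› with mul_comm := h.is_comm.comm }
  have hprime : (Nat.card G).Prime := IsSimpleGroup.prime_card
  rw [hord] at hprime
  norm_num at hprime

theorem orderOf_dvd_card_of_mem' {K : Subgroup G} {g : G} (hg : g ∈ K) :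
    orderOf g ∣ Nat.card K := by
  have := orderOf_dvd_natCard (⟨g, hg⟩ : K)
  rwa [Subgroup.orderOf_mk] at this

theorem sq_eq_one_of_orderOf_two {t : G} (ht : orderOf t = 2) : t * t = 1 := by
  have := pow_orderOf_eq_one t
  rw [ht, pow_two] at this
  exact this

theorem ne_one_of_orderOf_two {t : G} (ht : orderOf t = 2) : t ≠ 1 := by
  intro h
  rw [h, orderOf_one] at ht
  omega

/-- `Q ≤ C(Q)` for `Q` of prime order -/
theorem le_centralizer_of_card_five (Q : Sylow 5 G) (hQ : Nat.card (Q : Subgroup G) = 5) :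
    (Q : Subgroup G) ≤ Subgroup.centralizer ((Q : Subgroup G) : Set G) := by
  have : Fact (Nat.Prime 5) := ⟨by norm_num⟩
  have : IsCyclic (Q : Subgroup G) := isCyclic_of_prime_card hQ
  intro x hx
  rw [Subgroup.mem_centralizer_iff]
  intro y hy
  have := mul_comm' (⟨y, hy⟩ : (Q : Subgroup G)) ⟨x, hx⟩
  exact congrArg Subtype.val this

/-- uniqueness of the involution of `C(Q)` when `|C(Q)| = 10` -/
theorem eq_of_orderOf_two_of_mem_centralizer (Q : Sylow 5 G)
    (hQ : Nat.card (Q : Subgroup G) = 5)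
    (hC : Nat.card (Subgroup.centralizer ((Q : Subgroup G) : Set G)) = 10)
    {t u : G} (ht : orderOf t = 2) (hu : orderOf u = 2)
    (htC : t ∈ Subgroup.centralizer ((Q : Subgroup G) : Set G))
    (huC : u ∈ Subgroup.centralizer ((Q : Subgroup G) : Set G)) : u = t := by
  set C := Subgroup.centralizer ((Q : Subgroup G) : Set G) with hCdef
  have hQC : (Q : Subgroup G) ≤ C := le_centralizer_of_card_five Q hQ
  have h2 := Subgroup.card_mul_index ((Q : Subgroup G).subgroupOf C)
  have h4 : Nat.card ((Q : Subgroup G).subgroupOf C) = Nat.card (Q : Subgroup G) :=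
    Nat.card_congr (Subgroup.subgroupOfEquivOfLe hQC).toEquiv
  rw [h4, hQ, hC] at h2
  have h5 : ((Q : Subgroup G).subgroupOf C).index = 2 := by omega
  have hnot : ∀ w : G, orderOf w = 2 → w ∉ (Q : Subgroup G) := by
    intro w hw hwQ
    have := orderOf_dvd_card_of_mem' hwQ
    rw [hw, hQ] at this
    omega
  have hmem := Subgroup.mul_mem_iff_of_index_two h5 (a := (⟨u, huC⟩ : C)) (b := (⟨t, htC⟩ : C))
  have hq : u * t ∈ (Q : Subgroup G) := by
    have : (⟨u, huC⟩ : C) * ⟨t, htC⟩ ∈ (Q : Subgroup G).subgroupOf C := by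
      rw [hmem]
      constructor
      · intro h; exact absurd (Subgroup.mem_subgroupOf.mp h) (hnot u hu)
      · intro h; exact absurd (Subgroup.mem_subgroupOf.mp h) (hnot t ht)
    exact Subgroup.mem_subgroupOf.mp this
  have ht2 := sq_eq_one_of_orderOf_two ht
  have hu2 := sq_eq_one_of_orderOf_two hu
  -- t commutes with u * t
  have hcomm : (u * t) * t = t * (u * t) := (Subgroup.mem_centralizer_iff.mp htC) _ hq
  have hut : u * t = t * u := by
    have h1 : u = t * (u * t) := by
      rw [← hcomm, mul_assoc, ht2, mul_one]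
    calc u * t = t * (u * t) * t := by rw [← h1]
      _ = t * u * (t * t) := by group
      _ = t * u := by rw [ht2, mul_one]
  have hq2 : (u * t) ^ 2 = 1 := by
    rw [pow_two]
    calc u * t * (u * t) = u * (t * u) * t := by group
      _ = u * (u * t) * t := by rw [hut]
      _ = (u * u) * (t * t) := by group
      _ = 1 := by rw [hu2, ht2, one_mul]
  have hq5 : orderOf (u * t) ∣ 5 := by
    have := orderOf_dvd_card_of_mem' hq
    rwa [hQ] at this
  have hq2' : orderOf (u * t) ∣ 2 := orderOf_dvd_of_pow_eq_one hq2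
  have hq1 : orderOf (u * t) = 1 := by
    have := Nat.dvd_gcd hq5 hq2'
    simpa using this
  rw [orderOf_eq_one_iff] at hq1
  calc u = u * (t * t) := by rw [ht2, mul_one]
    _ = (u * t) * t := by group
    _ = t := by rw [hq1, one_mul]

/-- `N(Q) ≤ C(t)` for the involution `t` of `C(Q)` -/
theorem normalizer_le_centralizer_involution (Q : Sylow 5 G)
    (hQ : Nat.card (Q : Subgroup G) = 5)
    (hC : Nat.card (Subgroup.centralizer ((Q : Subgroup G) : Set G)) = 10)
    {t : G} (ht : orderOf t = 2)
    (htC : t ∈ Subgroup.centralizer ((Q : Subgroup G) : Set G)) :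
    Subgroup.normalizer ((Q : Subgroup G) : Set G) ≤ Subgroup.centralizer ({t} : Set G) := by
  intro n hn
  have hu : orderOf (n * t * n⁻¹) = 2 := by
    have := (MulAut.conj n).orderOf_eq t
    rw [MulAut.conj_apply] at this
    rw [this, ht]
  have huC : n * t * n⁻¹ ∈ Subgroup.centralizer ((Q : Subgroup G) : Set G) := by
    rw [Subgroup.mem_centralizer_iff]
    intro q hq
    have hq' : n⁻¹ * q * n ∈ (Q : Subgroup G) := (Subgroup.mem_normalizer_iff''.mp hn q).mp hq
    have h := (Subgroup.mem_centralizer_iff.mp htC) _ hq'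
    calc q * (n * t * n⁻¹) = n * ((n⁻¹ * q * n) * t) * n⁻¹ := by group
      _ = n * (t * (n⁻¹ * q * n)) * n⁻¹ := by rw [h]
      _ = n * t * n⁻¹ * q := by group
  have h1 := eq_of_orderOf_two_of_mem_centralizer Q hQ hC ht hu htC huC
  rw [mem_centralizer_singleton]
  calc t * n = (n * t * n⁻¹) * n := by rw [h1]
    _ = n * t := by group

/-- `11 ∤ |C(t)|` for an involution `t` of a simple group of order 7920 -/
theorem not_eleven_dvd_card_centralizer [IsSimpleGroup G] (hord : Nat.card G = 7920) {t : G}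
    (ht : orderOf t = 2) : ¬ 11 ∣ Nat.card (Subgroup.centralizer ({t} : Set G)) := by
  have : Fact (Nat.Prime 11) := ⟨by norm_num⟩
  intro h
  obtain ⟨x, hx⟩ := exists_prime_orderOf_dvd_card' 11 h
  have hx' : orderOf (x : G) = 11 := by rw [Subgroup.orderOf_coe]; exact hx
  have hc : Commute t (x : G) := mem_centralizer_singleton.mp x.2
  have hmem := Cfsg.Agent.Lib.Helper11.M11.orderOf_eq_of_commute_eleven hord hx' hc
  have := orderOf_dvd_of_mem_zpowers hmem
  rw [ht, hx'] at this
  omega

/-- the possible orders of `K = C(t)` -/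
theorem card_centralizer_involution_cases [IsSimpleGroup G] (hord : Nat.card G = 7920)
    (Q : Sylow 5 G) (hQ : Nat.card (Q : Subgroup G) = 5)
    (hC : Nat.card (Subgroup.centralizer ((Q : Subgroup G) : Set G)) = 10)
    (hN : Nat.card (Subgroup.normalizer ((Q : Subgroup G) : Set G)) = 20)
    {t : G} (ht : orderOf t = 2)
    (htC : t ∈ Subgroup.centralizer ((Q : Subgroup G) : Set G)) :
    ∃ k : ℕ, Nat.card (Subgroup.centralizer ({t} : Set G)) = 20 * k ∧
      Nat.card (Sylow 5 (Subgroup.centralizer ({t} : Set G))) = k ∧ (k = 1 ∨ k = 6 ∨ k = 36) := by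
  have : Fact (Nat.Prime 5) := ⟨by norm_num⟩
  set K := Subgroup.centralizer ({t} : Set G) with hK
  have hNK := normalizer_le_centralizer_involution Q hQ hC ht htC
  have hQK : (Q : Subgroup G) ≤ K := Subgroup.le_normalizer.trans hNK
  have h1 := Cfsg.Agent.Lib.Helper22.SylowInter.card_eq_card_inf_normalizer_mul Q K hQK
  rw [inf_eq_right.mpr hNK, hN] at h1
  have h2 := Cfsg.Agent.Lib.Helper22.SylowInter.card_sylow_mod (p := 5) K
  have h3 : Nat.card K ∣ 7920 := by rw [← hord]; exact Subgroup.card_subgroup_dvd_card K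
  have h4 := not_eleven_dvd_card_centralizer hord ht
  rw [← hK] at h4
  refine ⟨Nat.card (Sylow 5 K), h1, rfl, ?_⟩
  generalize Nat.card (Sylow 5 K) = k at *
  rw [h1] at h3 h4
  have h5 : Nat.Coprime (20 * k) 11 := by
    rw [Nat.coprime_comm, Nat.Prime.coprime_iff_not_dvd (by norm_num)]
    exact h4
  have h6 : 20 * k ∣ 720 := by
    have : 20 * k ∣ 720 * 11 := by norm_num; exact h3
    exact h5.dvd_of_dvd_mul_right this
  have h7 : k ∣ 36 := by
    have : 20 * k ∣ 20 * 36 := by norm_num; exact h6
    exact Nat.dvd_of_mul_dvd_mul_left (by norm_num) this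
  have h8 : k ≤ 36 := Nat.le_of_dvd (by norm_num) h7
  interval_cases k <;> omega

/-- conjugates of an involution are involutions -/
theorem orderOf_of_isConj {t y : G} (ht : orderOf t = 2) (h : IsConj t y) : orderOf y = 2 := by
  obtain ⟨c, hc⟩ := isConj_iff.mp h
  have := (MulAut.conj c).orderOf_eq t
  rw [MulAut.conj_apply, hc] at this
  rw [this, ht]

/-- the case `|C(t)| = 20` is impossible -/
theorem false_of_card_twenty [IsSimpleGroup G] (hord : Nat.card G = 7920)
    (Q : Sylow 5 G) (hQ : Nat.card (Q : Subgroup G) = 5)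
    (hC : Nat.card (Subgroup.centralizer ((Q : Subgroup G) : Set G)) = 10)
    {t : G} (ht : orderOf t = 2)
    (htC : t ∈ Subgroup.centralizer ((Q : Subgroup G) : Set G))
    (hK : Nat.card (Subgroup.centralizer ({t} : Set G)) = 20) : False := by
  have : Fact (Nat.Prime 5) := ⟨by norm_num⟩
  have hG := ncomm7920 hord
  have hNK := normalizer_le_centralizer_involution Q hQ hC ht htC
  have hcm := card_mul_fixed (Subgroup.centralizer ({t} : Set G)) t
  set K := Subgroup.centralizer ({t} : Set G) with hKdef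
  have hQK : (Q : Subgroup G) ≤ K := Subgroup.le_normalizer.trans hNK
  have hKtop : K ≠ ⊤ := by
    intro h; rw [h, Subgroup.card_top, hord] at hK; omega
  have hidx : K.index = 396 := by
    have := Subgroup.card_mul_index K
    rw [hK, hord] at this; omega
  obtain ⟨m, hm, hpar⟩ := fixed_parity hG K hKtop t ht
  rw [hidx] at hpar
  have hmod := fixed_mod_p Q K hNK t
    (fun x hx => ((Subgroup.mem_centralizer_iff.mp htC) x hx).symm)
  have hf : Nat.card (MulAction.fixedBy (G ⧸ K) t) =
      Nat.card {y : G // IsConj t y ∧ y ∈ K} :=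
    Nat.eq_of_mul_eq_mul_left (by rw [hK]; norm_num) hcm
  have hbound : Nat.card {y : G // IsConj t y ∧ y ∈ K} + 5 ≤ 20 := by
    set A : Set G := {y : G | IsConj t y ∧ y ∈ K} with hA
    change Nat.card A + 5 ≤ 20
    rw [Nat.card_coe_set_eq]
    have hdisj : Disjoint A ((Q : Subgroup G) : Set G) := by
      rw [Set.disjoint_left]
      rintro y ⟨hy1, -⟩ hyQ
      have h1 := orderOf_of_isConj ht hy1
      have h2 := orderOf_dvd_card_of_mem' (SetLike.mem_coe.mp hyQ)
      rw [h1, hQ] at h2
      omega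
    have hsub : A ∪ ((Q : Subgroup G) : Set G) ⊆ (K : Set G) := by
      apply Set.union_subset
      · rintro y ⟨-, hy2⟩; exact hy2
      · exact hQK
    have h1 := Set.ncard_le_ncard hsub (Set.toFinite _)
    rw [Set.ncard_union_eq hdisj (Set.toFinite _) (Set.toFinite _)] at h1
    have h2 : (((Q : Subgroup G) : Set G)).ncard = 5 := by
      rw [← Nat.card_coe_set_eq]; exact hQ
    have h3 : ((K : Set G)).ncard = 20 := by
      rw [← Nat.card_coe_set_eq]; exact hK
    omega
  omega

end Cfsg.Agent.Lib.Helper22.M11Five
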