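import Mathlib
import Cfsg.Agent.Lib.Helper22.M11FiveB

/-!
# Sylow 5-subgroups of a simple group of order 7920: the 2-local part of the case `|C(t)| = 120`
(helper22, FO-B for helper11)

`E` a Sylow 2-subgroup of `K = C(t)` (order 8): `t ∈ E`, `E` is abelian and `t` is not fixed by
`N_G(E)`.
-/

set_option autoImplicit false
set_option linter.unusedSectionVars false

namespace Cfsg.Agent.Lib.Helper22.M11Five

open Cfsg.Agent.Lib.Helper29.Ord5040 Cfsg.H5.SmallOrd

variable {G : Type*} [Group G] [Finite G]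

theorem two_pow_le_eight {m : ℕ} (h : 2 ^ m ∣ 120) : 2 ^ m ≤ 8 := by
  by_contra hc
  push Not at hc
  have hm : 4 ≤ m := by
    by_contra h4
    push Not at h4
    have : 2 ^ m ≤ 2 ^ 3 := Nat.pow_le_pow_right (by norm_num) (by omega)
    omega
  have h16 : 2 ^ 4 ∣ 2 ^ m := pow_dvd_pow 2 hm
  have := h16.trans h
  norm_num at this

/-- a Sylow 2-subgroup of a subgroup of order 120, as a subgroup of `G` -/
theorem exists_two_subgroup (K : Subgroup G) (hK : Nat.card K = 120) :
    ∃ (E : Subgroup G) (P : Sylow 2 K), E ≤ K ∧ Nat.card E = 8 ∧ IsPGroup 2 E ∧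
      (P : Subgroup K) = E.subgroupOf K := by
  have : Fact (Nat.Prime 2) := ⟨by norm_num⟩
  obtain ⟨P⟩ : Nonempty (Sylow 2 K) := inferInstance
  have hP : Nat.card (P : Subgroup K) = 2 ^ 3 :=
    sylow_card 2 3 15 (by norm_num) (by rw [hK]; norm_num) P
  refine ⟨(P : Subgroup K).map K.subtype, P, Subgroup.map_subtype_le _, ?_, ?_, ?_⟩
  · rw [Subgroup.card_map_of_injective K.subtype_injective, hP]; norm_num
  · apply IsPGroup.of_card (n := 3)
    rw [Subgroup.card_map_of_injective K.subtype_injective, hP]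
  · exact (Subgroup.comap_map_eq_self_of_injective K.subtype_injective _).symm

/-- the 2-local analysis -/
theorem two_local [IsSimpleGroup G] (hord : Nat.card G = 7920) {t : G} (ht : orderOf t = 2)
    (hK : Nat.card (Subgroup.centralizer ({t} : Set G)) = 120)
    (E : Subgroup G) (hEK : E ≤ Subgroup.centralizer ({t} : Set G)) (hE : Nat.card E = 8)
    (hE2 : IsPGroup 2 E) :
    t ∈ E ∧ E ≤ Subgroup.centralizer (E : Set G) ∧
      ∃ s ∈ Subgroup.normalizer (E : Set G), s * t * s⁻¹ ≠ t := by
  have : Fact (Nat.Prime 2) := ⟨by norm_num⟩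
  set K := Subgroup.centralizer ({t} : Set G) with hKdef
  have hmax : ∀ m, 2 ^ m ∣ Nat.card K → 2 ^ m ≤ Nat.card E := by
    intro m hm
    rw [hK] at hm
    rw [hE]
    exact two_pow_le_eight hm
  have htK : t ∈ K := mem_centralizer_singleton.mpr rfl
  have hEt : ∀ e ∈ E, t * e = e * t := fun e he => mem_centralizer_singleton.mp (hEK he)
  have htcent : t ∈ Subgroup.centralizer (E : Set G) := by
    rw [Subgroup.mem_centralizer_iff]
    intro e he
    exact (hEt e he).symm
  have ht2 := sq_eq_one_of_orderOf_two ht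
  have htE : t ∈ E :=
    mem_of_pow_eq_one_of_mem_normalizer K E hEK hE2 hmax htK
      (Subgroup.centralizer_le_normalizer _ htcent) (n := 1) (by rw [pow_one, pow_two]; exact ht2)
  obtain ⟨S, hES⟩ := hE2.exists_le_sylow
  have hS : Nat.card (S : Subgroup G) = 2 ^ 4 :=
    sylow_card 2 4 495 (by norm_num) (by rw [hord]; norm_num) S
  have hSN : (S : Subgroup G) ≤ Subgroup.normalizer (E : Set G) :=
    le_normalizer_of_two_mul_card E S hES (by rw [hE, hS]; norm_num)
  have hlt : E < (S : Subgroup G) := by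
    refine lt_of_le_of_ne hES ?_
    intro h
    have h' : Nat.card E = Nat.card (S : Subgroup G) := by rw [← h]
    rw [hE, hS] at h'
    norm_num at h'
  obtain ⟨s, hsS, hsE⟩ := SetLike.exists_of_lt hlt
  have hs16 : s ^ (2 ^ 4) = 1 := by
    have := orderOf_dvd_card_of_mem' hsS
    rw [hS] at this
    exact orderOf_dvd_iff_pow_eq_one.mp this
  have hsN := hSN hsS
  have hsK : s ∉ K := fun h =>
    hsE (mem_of_pow_eq_one_of_mem_normalizer K E hEK hE2 hmax h hsN hs16)
  have hne : s * t * s⁻¹ ≠ t := by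
    intro h
    apply hsK
    rw [mem_centralizer_singleton]
    calc t * s = (s * t * s⁻¹) * s := by rw [h]
      _ = s * t := by group
  have ht'E : s * t * s⁻¹ ∈ E := (Subgroup.mem_normalizer_iff.mp hsN t).mp htE
  have ht'cent : s * t * s⁻¹ ∈ Subgroup.centralizer (E : Set G) := by
    rw [Subgroup.mem_centralizer_iff]
    intro e he
    have he' : s⁻¹ * e * s ∈ E := (Subgroup.mem_normalizer_iff''.mp hsN e).mp he
    have h := hEt _ he'
    calc e * (s * t * s⁻¹) = s * ((s⁻¹ * e * s) * t) * s⁻¹ := by group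
      _ = s * (t * (s⁻¹ * e * s)) * s⁻¹ := by rw [h]
      _ = s * t * s⁻¹ * e := by group
  have h3 : 3 ≤ Nat.card (E ⊓ Subgroup.centralizer (E : Set G) : Subgroup G) := by
    have hsub : ({1, t, s * t * s⁻¹} : Set G) ⊆
        ((E ⊓ Subgroup.centralizer (E : Set G) : Subgroup G) : Set G) := by
      intro x hx
      simp only [Set.mem_insert_iff, Set.mem_singleton_iff] at hx
      rcases hx with rfl | rfl | rfl
      · exact Subgroup.one_mem _
      · exact ⟨htE, htcent⟩
      · exact ⟨ht'E, ht'cent⟩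
    have h1 := Set.ncard_le_ncard hsub (Set.toFinite _)
    have h2 : ({1, t, s * t * s⁻¹} : Set G).ncard = 3 := by
      rw [Set.ncard_eq_three]
      refine ⟨1, t, s * t * s⁻¹, (ne_one_of_orderOf_two ht).symm, ?_, hne.symm, rfl⟩
      intro h
      apply ne_one_of_orderOf_two ht
      calc t = s⁻¹ * (s * t * s⁻¹) * s := by group
        _ = 1 := by rw [← h]; group
    rw [h2] at h1
    rwa [← Nat.card_coe_set_eq] at h1
  refine ⟨htE, le_centralizer_of_card_lt E (by rw [hE]; omega), s, hsN, hne⟩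

end Cfsg.Agent.Lib.Helper22.M11Five
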