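import Mathlib
import Cfsg.Agent.Lib.Helper22.M11FiveC

/-!
# Sylow 5-subgroups of a simple group of order 7920: `C(Q) = Q` (helper22, FO-B for helper11)

The case `|C(t)| = 120`: Burnside transfer or an element of order 3 of `N_K(E)`, then the
orbit of `t` under `N_G(E)`.  Main result: `card_centralizer_sylow_five'`.
-/

set_option autoImplicit false
set_option linter.unusedSectionVars false

namespace Cfsg.Agent.Lib.Helper22.M11Five

open Cfsg.Agent.Lib.Helper29.Ord5040 Cfsg.H5.SmallOrd

variable {G : Type*} [Group G] [Finite G]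

/-- Burnside transfer case: `N_K(E) ≤ C_K(E)` is impossible -/
theorem false_of_normalizer_le_centralizer (K : Subgroup G) (hK : Nat.card K = 120)
    (Q : Sylow 5 G) (hQ : Nat.card (Q : Subgroup G) = 5) (hQK : (Q : Subgroup G) ≤ K)
    (h6 : Nat.card (Sylow 5 K) = 6)
    (E : Subgroup G) (hEK : E ≤ K) (P : Sylow 2 K) (hPE : (P : Subgroup K) = E.subgroupOf K)
    (hE : Nat.card E = 8)
    (hNC : ∀ g ∈ K, g ∈ Subgroup.normalizer (E : Set G) →
      g ∈ Subgroup.centralizer (E : Set G)) : False := by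
  have : Fact (Nat.Prime 2) := ⟨by norm_num⟩
  have : Fact (Nat.Prime 5) := ⟨by norm_num⟩
  have hP : Subgroup.normalizer ((P : Subgroup K) : Set K) ≤
      Subgroup.centralizer ((P : Subgroup K) : Set K) := by
    intro g hg
    have h1 : g ∈ (Subgroup.normalizer (E : Set G)).subgroupOf K := by
      rw [Subgroup.subgroupOf_normalizer_eq hEK, ← hPE]; exact hg
    have h2 := hNC g g.2 (Subgroup.mem_subgroupOf.mp h1)
    rw [Subgroup.mem_centralizer_iff]
    intro h hh
    have hhE : (h : G) ∈ E := by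
      have : h ∈ E.subgroupOf K := by rw [← hPE]; exact hh
      exact Subgroup.mem_subgroupOf.mp this
    exact Subtype.ext ((Subgroup.mem_centralizer_iff.mp h2) _ hhE)
  have hcomp := MonoidHom.ker_transferSylow_isComplement' P hP
  set M := (MonoidHom.transferSylow P hP).ker with hM
  have hPcard : Nat.card (P : Subgroup K) = 8 := by
    rw [hPE, Nat.card_congr (Subgroup.subgroupOfEquivOfLe hEK).toEquiv, hE]
  have hMcard : Nat.card M = 15 := by
    have := hcomp.card_mul_card
    rw [hPcard, hK] at this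
    omega
  let Q₅ : Sylow 5 K := Q.subtype hQK
  have hQ₅card : Nat.card (Q₅ : Subgroup K) = 5 := by
    have : (Q₅ : Subgroup K) = (Q : Subgroup G).subgroupOf K := rfl
    rw [this, Nat.card_congr (Subgroup.subgroupOfEquivOfLe hQK).toEquiv, hQ]
  have hQM : (Q₅ : Subgroup K) ≤ M := by
    intro x hx
    rw [hM, MonoidHom.mem_ker]
    have h1 : orderOf x ∣ 5 := by
      have := orderOf_dvd_card_of_mem' hx
      rwa [hQ₅card] at this
    have h2 : orderOf (MonoidHom.transferSylow P hP x) ∣ 5 := (orderOf_map_dvd _ x).trans h1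
    have h3 : orderOf (MonoidHom.transferSylow P hP x) ∣ 8 := by
      have := orderOf_dvd_natCard (MonoidHom.transferSylow P hP x)
      rwa [hPcard] at this
    have h4 := Nat.dvd_gcd h2 h3
    have h5 : orderOf (MonoidHom.transferSylow P hP x) = 1 := by simpa using h4
    exact orderOf_eq_one_iff.mp h5
  have h1 := Cfsg.Agent.Lib.Helper22.SylowInter.card_eq_card_inf_normalizer_mul Q₅ M hQM
  have h2 := Cfsg.Agent.Lib.Helper22.SylowInter.card_sylow_mod (p := 5) M
  rw [hMcard] at h1
  have h3 : Nat.card (Sylow 5 M) = 1 := by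
    have hd : Nat.card (Sylow 5 M) ∣ 15 := Dvd.intro_left _ h1.symm
    have hle : Nat.card (Sylow 5 M) ≤ 15 := Nat.le_of_dvd (by norm_num) hd
    generalize Nat.card (Sylow 5 M) = y at *
    interval_cases y <;> omega
  rw [h3, mul_one] at h1
  have h4 : Nat.card (M ⊓ Subgroup.normalizer ((Q₅ : Subgroup K) : Set K) : Subgroup K) ∣
      Nat.card (Subgroup.normalizer ((Q₅ : Subgroup K) : Set K)) :=
    Subgroup.card_dvd_of_le inf_le_right
  rw [← h1] at h4
  have h5 := Subgroup.card_mul_index (Subgroup.normalizer ((Q₅ : Subgroup K) : Set K))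
  have hidx : Nat.card (Sylow 5 K) =
      (Subgroup.normalizer ((Q₅ : Subgroup K) : Set K)).index :=
    Sylow.card_eq_index_normalizer Q₅
  rw [← hidx, h6, hK] at h5
  have h6' : Nat.card (Subgroup.normalizer ((Q₅ : Subgroup K) : Set K)) = 20 := by omega
  rw [h6'] at h4
  omega

theorem mem_centralizer_of_card_inf_eq (E : Subgroup G) {a : G}
    (h : Nat.card (E ⊓ Subgroup.centralizer ({a} : Set G) : Subgroup G) = Nat.card E) :
    a ∈ Subgroup.centralizer (E : Set G) := by
  have h1 : E ⊓ Subgroup.centralizer ({a} : Set G) = E :=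
    Subgroup.eq_of_le_of_card_ge inf_le_left h.ge
  rw [Subgroup.mem_centralizer_iff]
  intro e he
  have : e ∈ E ⊓ Subgroup.centralizer ({a} : Set G) := by rw [h1]; exact he
  exact (mem_centralizer_singleton.mp (Subgroup.mem_inf.mp this).2).symm

/-- an element of `N_K(E) ∖ C_K(E)` yields a 3-element of `N_K(E) ∖ C_K(E)` -/
theorem exists_three_element (K : Subgroup G) (hK : Nat.card K = 120)
    (E : Subgroup G) (hEK : E ≤ K) (hE : Nat.card E = 8) (hE2 : IsPGroup 2 E)
    (hab : E ≤ Subgroup.centralizer (E : Set G))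
    {g : G} (hgK : g ∈ K) (hgN : g ∈ Subgroup.normalizer (E : Set G))
    (hgC : g ∉ Subgroup.centralizer (E : Set G)) :
    ∃ a ∈ K, a ∈ Subgroup.normalizer (E : Set G) ∧ a ^ 3 = 1 ∧
      a ∉ Subgroup.centralizer (E : Set G) := by
  have : Fact (Nat.Prime 2) := ⟨by norm_num⟩
  have : Fact (Nat.Prime 5) := ⟨by norm_num⟩
  have h120 : g ^ 120 = 1 := by
    have := orderOf_dvd_card_of_mem' hgK
    rw [hK] at this
    exact orderOf_dvd_iff_pow_eq_one.mp this
  have hmax : ∀ m, 2 ^ m ∣ Nat.card K → 2 ^ m ≤ Nat.card E := by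
    intro m hm
    rw [hK] at hm
    rw [hE]
    exact two_pow_le_eight hm
  -- the 2-part
  have hu : g ^ 15 ∈ Subgroup.centralizer (E : Set G) := by
    apply hab
    refine mem_of_pow_eq_one_of_mem_normalizer K E hEK hE2 hmax (K.pow_mem hgK 15)
      (Subgroup.pow_mem _ hgN 15) (n := 3) ?_
    rw [← pow_mul]; norm_num; exact h120
  -- the 5-part
  have hv : g ^ 24 ∈ Subgroup.centralizer (E : Set G) := by
    apply mem_centralizer_of_card_inf_eq
    have hmod := card_modEq_card_centralizer (p := 5) (n := 1) E (Subgroup.pow_mem _ hgN 24)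
      (by rw [pow_one, ← pow_mul]; norm_num; exact h120)
    have hd : Nat.card (E ⊓ Subgroup.centralizer ({g ^ 24} : Set G) : Subgroup G) ∣ Nat.card E :=
      Subgroup.card_dvd_of_le inf_le_left
    rw [hE] at hd hmod ⊢
    unfold Nat.ModEq at hmod
    have hle := Nat.le_of_dvd (by norm_num) hd
    generalize Nat.card (E ⊓ Subgroup.centralizer ({g ^ 24} : Set G) : Subgroup G) = c at *
    interval_cases c <;> omega
  refine ⟨g ^ 40, K.pow_mem hgK 40, Subgroup.pow_mem _ hgN 40, ?_, ?_⟩
  · rw [← pow_mul]; norm_num; exact h120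
  · intro ha
    apply hgC
    have hg : g = (g ^ 15) ^ 7 * g ^ 40 * (g ^ 24) ^ 4 := by
      rw [← pow_mul, ← pow_mul, ← pow_add, ← pow_add]
      norm_num
      calc g = (g ^ 120) ^ 2 * g := by rw [h120, one_pow, one_mul]
        _ = g ^ 241 := by rw [← pow_mul, ← pow_succ]
    rw [hg]
    exact Subgroup.mul_mem _ (Subgroup.mul_mem _ (Subgroup.pow_mem _ hu 7) ha)
      (Subgroup.pow_mem _ hv 4)

/-- the fixed points on `E` of a 3-element of `N_K(E) ∖ C_K(E)` are `1` and `t` -/
theorem eq_one_or_eq_of_commute (E : Subgroup G) (hE : Nat.card E = 8) {t a : G} (ht1 : t ≠ 1)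
    (htE : t ∈ E) (hat : a * t = t * a) (haN : a ∈ Subgroup.normalizer (E : Set G))
    (ha3 : a ^ 3 = 1) (haC : a ∉ Subgroup.centralizer (E : Set G)) :
    ∀ x ∈ E, a * x = x * a → x = 1 ∨ x = t := by
  have : Fact (Nat.Prime 3) := ⟨by norm_num⟩
  have hmod := card_modEq_card_centralizer (p := 3) (n := 1) E haN (by rw [pow_one]; exact ha3)
  have hd : Nat.card (E ⊓ Subgroup.centralizer ({a} : Set G) : Subgroup G) ∣ Nat.card E :=
    Subgroup.card_dvd_of_le inf_le_left
  have hne : Nat.card (E ⊓ Subgroup.centralizer ({a} : Set G) : Subgroup G) ≠ Nat.card E :=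
    fun h => haC (mem_centralizer_of_card_inf_eq E h)
  have h2 : Nat.card (E ⊓ Subgroup.centralizer ({a} : Set G) : Subgroup G) = 2 := by
    rw [hE] at hd hmod hne
    unfold Nat.ModEq at hmod
    have hle := Nat.le_of_dvd (by norm_num) hd
    generalize Nat.card (E ⊓ Subgroup.centralizer ({a} : Set G) : Subgroup G) = c at *
    interval_cases c <;> omega
  intro x hx hax
  by_contra hcon
  push Not at hcon
  have hsub : ({1, t, x} : Set G) ⊆
      ((E ⊓ Subgroup.centralizer ({a} : Set G) : Subgroup G) : Set G) := by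
    intro y hy
    simp only [Set.mem_insert_iff, Set.mem_singleton_iff] at hy
    rcases hy with rfl | rfl | rfl
    · exact Subgroup.one_mem _
    · exact ⟨htE, mem_centralizer_singleton.mpr hat⟩
    · exact ⟨hx, mem_centralizer_singleton.mpr hax⟩
  have h1 := Set.ncard_le_ncard hsub (Set.toFinite _)
  have h3 : ({1, t, x} : Set G).ncard = 3 := by
    rw [Set.ncard_eq_three]
    exact ⟨1, t, x, ht1.symm, hcon.1.symm, hcon.2.symm, rfl⟩
  rw [h3, ← Nat.card_coe_set_eq] at h1
  have : Nat.card (((E ⊓ Subgroup.centralizer ({a} : Set G) : Subgroup G) : Set G)) = 2 := h2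
  omega

/-- the orbit of `t` under `N_G(E)` -/
theorem false_of_three_element (hord : Nat.card G = 7920) (E : Subgroup G) (hE : Nat.card E = 8)
    {t a s : G} (ht1 : t ≠ 1) (htE : t ∈ E) (hEt : ∀ e ∈ E, e * t = t * e)
    (haN : a ∈ Subgroup.normalizer (E : Set G)) (ha3 : a ^ 3 = 1)
    (hfix : ∀ x ∈ E, a * x = x * a → x = 1 ∨ x = t) (hat : a * t = t * a)
    (hsN : s ∈ Subgroup.normalizer (E : Set G)) (hst : s * t * s⁻¹ ≠ t) : False := by
  have : Fact (Nat.Prime 3) := ⟨by norm_num⟩
  set N := Subgroup.normalizer (E : Set G) with hN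
  set X : Set G := {x : G | ∃ n ∈ N, n * t * n⁻¹ = x} with hXdef
  have hXE : ∀ x ∈ X, x ∈ E ∧ x ≠ 1 := by
    rintro x ⟨n, hn, rfl⟩
    refine ⟨(Subgroup.mem_normalizer_iff.mp hn t).mp htE, ?_⟩
    intro h
    apply ht1
    calc t = n⁻¹ * (n * t * n⁻¹) * n := by group
      _ = 1 := by rw [h]; group
  have hXN : ∀ h ∈ N, ∀ x ∈ X, h * x * h⁻¹ ∈ X := by
    rintro h hh x ⟨n, hn, rfl⟩
    exact ⟨h * n, N.mul_mem hh hn, by group⟩
  have hle : Subgroup.zpowers a ≤ N := Subgroup.zpowers_le.mpr haN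
  have hXa : ∀ h ∈ Subgroup.zpowers a, ∀ x ∈ X, h * x * h⁻¹ ∈ X :=
    fun h hh x hx => hXN h (hle hh) x hx
  have htX : t ∈ X := ⟨1, N.one_mem, by simp⟩
  have hsX : s * t * s⁻¹ ∈ X := ⟨s, hsN, rfl⟩
  have hmod := card_modEq_card_commuting (p := 3) (Subgroup.zpowers a)
    (isPGroup_zpowers (n := 1) (by rw [pow_one]; exact ha3)) X hXa
  have hone : Nat.card {x : G // x ∈ X ∧ ∀ h ∈ Subgroup.zpowers a, h * x = x * h} = 1 := by
    rw [Nat.card_eq_one_iff_unique]
    constructor
    · constructor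
      rintro ⟨x, hx1, hx2⟩ ⟨y, hy1, hy2⟩
      apply Subtype.ext
      change x = y
      have hx : x = t := by
        rcases hfix x (hXE x hx1).1 (hx2 a (Subgroup.mem_zpowers a)) with h | h
        · exact absurd h (hXE x hx1).2
        · exact h
      have hy : y = t := by
        rcases hfix y (hXE y hy1).1 (hy2 a (Subgroup.mem_zpowers a)) with h | h
        · exact absurd h (hXE y hy1).2
        · exact h
      rw [hx, hy]
    · refine ⟨⟨t, htX, fun h hh => ?_⟩⟩
      obtain ⟨j, rfl⟩ := Subgroup.mem_zpowers_iff.mp hh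
      have hc : Commute a t := hat
      exact (hc.zpow_left j).eq
  rw [hone] at hmod
  unfold Nat.ModEq at hmod
  have hupper : Nat.card X ≤ 7 := by
    rw [Nat.card_coe_set_eq]
    have hsub : X ⊆ (E : Set G) \ {1} := by
      intro x hx
      exact ⟨(hXE x hx).1, by simpa using (hXE x hx).2⟩
    have h1 := Set.ncard_le_ncard hsub (Set.toFinite _)
    have h8 : ((E : Set G)).ncard = 8 := by
      rw [← Nat.card_coe_set_eq]; exact hE
    rw [Set.ncard_sdiff_singleton_of_mem (by exact E.one_mem), h8] at h1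
    omega
  have hlower : 2 ≤ Nat.card X := by
    rw [Nat.card_coe_set_eq]
    have hsub : ({t, s * t * s⁻¹} : Set G) ⊆ X := by
      intro x hx
      simp only [Set.mem_insert_iff, Set.mem_singleton_iff] at hx
      rcases hx with rfl | rfl
      · exact htX
      · exact hsX
    have h1 := Set.ncard_le_ncard hsub (Set.toFinite _)
    rwa [Set.ncard_pair hst.symm] at h1
  have hdiv : Nat.card X * Nat.card E ∣ Nat.card N :=
    card_conj_orbit_mul_dvd N E t Subgroup.le_normalizer hEt
  have hN7920 : Nat.card N ∣ 7920 := by rw [← hord]; exact Subgroup.card_subgroup_dvd_card N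
  have hdiv' := hdiv.trans hN7920
  rw [hE] at hdiv'
  generalize Nat.card X = c at *
  interval_cases c <;> omega

end Cfsg.Agent.Lib.Helper22.M11Five
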