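import Mathlib
import Cfsg.Agent.Lib.Helper22.M11FiveD

/-!
# Sylow 5-subgroups of a simple group of order 7920 are self-centralizing
(helper22, FO-B for helper11's S4429)

`card_centralizer_sylow_five'`: if `G` is simple of order 7920 with `n_5 = 396` and no involution
has a centralizer of order 720, then `|C(Q)| = 5` for every Sylow 5-subgroup `Q`.
-/

set_option autoImplicit false
set_option linter.unusedSectionVars false

namespace Cfsg.Agent.Lib.Helper22.M11Five

open Cfsg.Agent.Lib.Helper29.Ord5040 Cfsg.H5.SmallOrd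

variable {G : Type*} [Group G] [Finite G]

/-- the case `|C(t)| = 120` is impossible -/
theorem false_of_card_120 [IsSimpleGroup G] (hord : Nat.card G = 7920)
    (Q : Sylow 5 G) (hQ : Nat.card (Q : Subgroup G) = 5)
    (hC : Nat.card (Subgroup.centralizer ((Q : Subgroup G) : Set G)) = 10)
    {t : G} (ht : orderOf t = 2)
    (htC : t ∈ Subgroup.centralizer ((Q : Subgroup G) : Set G))
    (hK : Nat.card (Subgroup.centralizer ({t} : Set G)) = 120)
    (h6 : Nat.card (Sylow 5 (Subgroup.centralizer ({t} : Set G))) = 6) : False := by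
  have hNK := normalizer_le_centralizer_involution Q hQ hC ht htC
  have hQK : (Q : Subgroup G) ≤ Subgroup.centralizer ({t} : Set G) :=
    Subgroup.le_normalizer.trans hNK
  obtain ⟨E, P, hEK, hE, hE2, hPE⟩ := exists_two_subgroup (Subgroup.centralizer ({t} : Set G)) hK
  obtain ⟨htE, hab, s, hsN, hst⟩ := two_local hord ht hK E hEK hE hE2
  by_cases hNC : ∀ g ∈ Subgroup.centralizer ({t} : Set G),
      g ∈ Subgroup.normalizer (E : Set G) → g ∈ Subgroup.centralizer (E : Set G)
  · exact false_of_normalizer_le_centralizer _ hK Q hQ hQK h6 E hEK P hPE hE hNC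
  · push Not at hNC
    obtain ⟨g, hgK, hgN, hgC⟩ := hNC
    obtain ⟨a, haK, haN, ha3, haC⟩ := exists_three_element _ hK E hEK hE hE2 hab hgK hgN hgC
    have hat : a * t = t * a := (mem_centralizer_singleton.mp haK).symm
    have ht1 := ne_one_of_orderOf_two ht
    have hEt : ∀ e ∈ E, e * t = t * e :=
      fun e he => (mem_centralizer_singleton.mp (hEK he)).symm
    exact false_of_three_element hord E hE ht1 htE hEt haN ha3
      (eq_one_or_eq_of_commute E hE ht1 htE hat haN ha3 haC) hat hsN hst

/-- **FO-B** (with FO-A and FO-A2 as hypotheses): the Sylow 5-subgroups of a simple group of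
order 7920 are self-centralizing. -/
theorem card_centralizer_sylow_five' [IsSimpleGroup G] (hord : Nat.card G = 7920)
    (h396 : Nat.card (Sylow 5 G) = 396)
    (h720 : ∀ t : G, orderOf t = 2 → Nat.card (Subgroup.centralizer ({t} : Set G)) ≠ 720)
    (Q : Sylow 5 G) : Nat.card (Subgroup.centralizer ((Q : Subgroup G) : Set G)) = 5 := by
  have : Fact (Nat.Prime 5) := ⟨by norm_num⟩
  have : Fact (Nat.Prime 2) := ⟨by norm_num⟩
  have hG := ncomm7920 hord
  obtain ⟨k, e, c, hsd, hkec, -, -, -, -⟩ :=
    Cfsg.H5.SylowTuple.exists_isSD hG 5 1584 (by norm_num) (by norm_num) (by rw [hord])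
  have hk : k = 396 := by rw [← hsd.card_sylow, h396]
  subst hk
  have hec : e * c = 4 := by omega
  have he1 := hsd.one_lt
  have hedvd : e ∣ 4 := hsd.e_dvd
  have hCQ := hsd.card_C Q
  have hNQ := hsd.card_N Q
  have hQ := hsd.card_P Q
  have he4 : e ≤ 4 := Nat.le_of_dvd (by norm_num) hedvd
  interval_cases e
  · have hc : c = 2 := by omega
    subst hc
    exfalso
    have hC10 : Nat.card (Subgroup.centralizer ((Q : Subgroup G) : Set G)) = 10 := by
      rw [hCQ]
    have hN20 : Nat.card (Subgroup.normalizer ((Q : Subgroup G) : Set G)) = 20 := by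
      rw [hNQ]
    obtain ⟨t', ht'⟩ := exists_prime_orderOf_dvd_card' (G :=
      Subgroup.centralizer ((Q : Subgroup G) : Set G)) 2 (by rw [hC10]; norm_num)
    have ht : orderOf (t' : G) = 2 := by rw [Subgroup.orderOf_coe]; exact ht'
    obtain ⟨k, hk1, hk2, hk3⟩ :=
      card_centralizer_involution_cases hord Q hQ hC10 hN20 ht t'.2
    rcases hk3 with rfl | rfl | rfl
    · exact false_of_card_twenty hord Q hQ hC10 ht t'.2 (by rw [hk1])
    · exact false_of_card_120 hord Q hQ hC10 ht t'.2 (by rw [hk1]) hk2
    · exact h720 (t' : G) ht (by rw [hk1])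
  · omega
  · have hc : c = 1 := by omega
    subst hc
    rw [hCQ]

end Cfsg.Agent.Lib.Helper22.M11Five
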