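import Mathlib
import Cfsg.Agent.Lib.Helper22.M11Five
import Cfsg.Agent.Lib.Helper3.M11Five
import Cfsg.Agent.Lib.Helper13.M11FO

/-!
# Sylow 5-subgroups of a simple group of order 7920 are self-centralizing (hypothesis-free form)
(helper22, FO-B for helper11's S4429; uses helper3's FO-A and helper13's FO-A2)
-/

set_option autoImplicit false

namespace Cfsg.Agent.Lib.Helper22.M11Five

/-- **FO-B**: in a simple group of order 7920, `|C(Q)| = 5` for every Sylow 5-subgroup `Q`. -/
theorem card_centralizer_sylow_five {G : Type*} [Group G] [Finite G] [IsSimpleGroup G]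
    (hord : Nat.card G = 7920) (Q : Sylow 5 G) :
    Nat.card (Subgroup.centralizer ((Q : Subgroup G) : Set G)) = 5 :=
  card_centralizer_sylow_five' hord (Cfsg.Agent.Lib.Helper3.M11Five.card_sylow_five hord)
    (fun t ht => Cfsg.Agent.Lib.Helper13.M11FO.centralizer_involution_ne_720 hord t ht) Q

/-- the centralizer of a Sylow 5-subgroup is the subgroup itself -/
theorem centralizer_sylow_five {G : Type*} [Group G] [Finite G] [IsSimpleGroup G]
    (hord : Nat.card G = 7920) (Q : Sylow 5 G) :
    Subgroup.centralizer ((Q : Subgroup G) : Set G) = (Q : Subgroup G) := by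
  have : Fact (Nat.Prime 5) := ⟨by norm_num⟩
  have hQ : Nat.card (Q : Subgroup G) = 5 := by
    have := Cfsg.H5.SmallOrd.sylow_card 5 1 1584 (by norm_num) (by rw [hord]; norm_num) Q
    rwa [pow_one] at this
  symm
  apply Subgroup.eq_of_le_of_card_ge (le_centralizer_of_card_five Q hQ)
  rw [card_centralizer_sylow_five hord Q, hQ]

/-- the normalizer of a Sylow 5-subgroup has order 20 -/
theorem card_normalizer_sylow_five {G : Type*} [Group G] [Finite G] [IsSimpleGroup G]
    (hord : Nat.card G = 7920) (Q : Sylow 5 G) :
    Nat.card (Subgroup.normalizer ((Q : Subgroup G) : Set G)) = 20 := by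
  have : Fact (Nat.Prime 5) := ⟨by norm_num⟩
  have hidx : Nat.card (Sylow 5 G) =
      (Subgroup.normalizer ((Q : Subgroup G) : Set G)).index :=
    Sylow.card_eq_index_normalizer Q
  have h := Subgroup.card_mul_index (Subgroup.normalizer ((Q : Subgroup G) : Set G))
  rw [← hidx, Cfsg.Agent.Lib.Helper3.M11Five.card_sylow_five hord, hord] at h
  omega

end Cfsg.Agent.Lib.Helper22.M11Five
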