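import Mathlib

set_option autoImplicit false

namespace Cfsg.Agent.Lib.Helper22

open Subgroup

variable {G : Type*} [Group G]

/-- The index of the centralizer of `g` is the size of its conjugacy class. -/
theorem index_centralizer_eq_ncard_orbit (g : G) :
    (centralizer ({g} : Set G)).index = (MulAction.orbit (ConjAct G) g).ncard := by
  rw [← MulAction.index_stabilizer, Subgroup.centralizer_eq_comap_stabilizer]
  exact Subgroup.index_comap_of_surjective _ (ConjAct.toConjAct (G := G)).surjective

theorem index_centralizer_eq_ncard_carrier (g : G) :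
    (centralizer ({g} : Set G)).index = (ConjClasses.mk g).carrier.ncard := by
  rw [index_centralizer_eq_ncard_orbit, ConjAct.orbit_eq_carrier_conjClasses]

theorem carrier_eq_setOf_isConj (g : G) :
    (ConjClasses.mk g).carrier = {h : G | IsConj g h} := by
  ext h
  rw [ConjClasses.mem_carrier_iff_mk_eq, ConjClasses.mk_eq_mk_iff_isConj, Set.mem_ofPred_eq, isConj_comm]

theorem index_centralizer_eq_ncard_setOf_isConj (g : G) :
    (centralizer ({g} : Set G)).index = {h : G | IsConj g h}.ncard := by
  rw [index_centralizer_eq_ncard_carrier, carrier_eq_setOf_isConj]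

theorem index_centralizer_eq_card_isConj (g : G) :
    (centralizer ({g} : Set G)).index = Nat.card {h : G // IsConj g h} := by
  rw [index_centralizer_eq_ncard_setOf_isConj]
  rfl

theorem isConj_inv_inv {a b : G} (h : IsConj a b) : IsConj a⁻¹ b⁻¹ := by
  obtain ⟨c, hc⟩ := isConj_iff.mp h
  exact isConj_iff.mpr ⟨c, by rw [← hc, conj_inv]⟩

end Cfsg.Agent.Lib.Helper22
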