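import Mathlib
import Cfsg.Prelude.Def_Characters
import Cfsg.Prelude.Def_LocalEven
import Cfsg.Prelude.Def_PLocal
import Cfsg.Agent.Lib.Helper11.S3282Defs
import Cfsg.Agent.S3277
import Cfsg.Agent.Lib.Helper22.Conj

/-!
S3282, piece K2a (`K2_split`): in the case `|K| = 2` of the abstract Brauer–Suzuki–Wall setting, `C(t)` is a four-group
and `G` has order `12` or is isomorphic to `A₅` (via the landed `Cfsg.Agent.S3277.result`).
-/

set_option autoImplicit false

namespace Cfsg.Agent.Lib.Helper22.S3282K2a

open Cfsg Cfsg.Agent.Lib.Helper11 Cfsg.Agent.Lib.Helper11.S3282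

universe u

variable {G : Type u} [Group G] {t s : G} {K : Subgroup G}

theorem sq_of_order_two {x : G} (hx : orderOf x = 2) : x * x = 1 := by
  rw [← pow_two, ← hx, pow_orderOf_eq_one]

theorem order_two_of_sq {x : G} (h1 : x ≠ 1) (h2 : x * x = 1) : orderOf x = 2 := by
  apply orderOf_eq_prime
  · rw [pow_two]; exact h2
  · exact h1

theorem ne_one_of_order_two {x : G} (hx : orderOf x = 2) : x ≠ 1 := by
  intro h
  rw [h, orderOf_one] at hx
  omega

/-- a subgroup of order two consists of `1` and its non-trivial element -/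
theorem elems_of_card_two {X : Subgroup G} (hX : Nat.card X = 2) {a : G} (ha : a ∈ X) (ha1 : a ≠ 1)
    {x : G} (hx : x ∈ X) : x = 1 ∨ x = a := by
  by_cases h1 : x = 1
  · exact Or.inl h1
  right
  obtain ⟨y, -, hy⟩ := (Nat.card_eq_two_iff' (1 : X)).mp hX
  have e1 : (⟨x, hx⟩ : X) = y := hy _ (fun h0 => h1 (congrArg Subtype.val h0))
  have e2 : (⟨a, ha⟩ : X) = y := hy _ (fun h0 => ha1 (congrArg Subtype.val h0))
  exact congrArg Subtype.val (e1.trans e2.symm)

theorem hst (h : Hyp t s K) : s * t = t * s :=
  (Subgroup.mem_centralizer_singleton_iff.mp h.hsH)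

/-- the elements of `C(t)` -/
theorem H_elems (h : Hyp t s K) (hk : Nat.card K = 2) {x : G}
    (hx : x ∈ Subgroup.centralizer ({t} : Set G)) : x = 1 ∨ x = t ∨ x = s ∨ x = t * s := by
  have htt := sq_of_order_two h.ht
  have hss := sq_of_order_two h.hs
  have hst := hst h
  have htt' : ∀ x : G, t * (t * x) = x := fun x => by rw [← mul_assoc, htt, one_mul]
  have hss' : ∀ x : G, s * (s * x) = x := fun x => by rw [← mul_assoc, hss, one_mul]
  have hst' : ∀ x : G, s * (t * x) = t * (s * x) := fun x => by rw [← mul_assoc, hst, mul_assoc]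
  have htinv : t⁻¹ = t := inv_eq_of_mul_eq_one_right htt
  have hsinv : s⁻¹ = s := inv_eq_of_mul_eq_one_right hss
  have hZ : Nat.card (Subgroup.zpowers s) = 2 := by rw [Nat.card_zpowers, h.hs]
  rw [← h.hH, Subgroup.sup_eq_closure] at hx
  induction hx using Subgroup.closure_induction with
  | mem y hy =>
    rcases hy with hy | hy
    · rcases elems_of_card_two hk h.htK (ne_one_of_order_two h.ht) hy with h1 | h1
      · exact Or.inl h1
      · exact Or.inr (Or.inl h1)
    · rcases elems_of_card_two hZ (Subgroup.mem_zpowers s) (ne_one_of_order_two h.hs) hy with h1 | h1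
      · exact Or.inl h1
      · exact Or.inr (Or.inr (Or.inl h1))
  | one => exact Or.inl rfl
  | mul a b _ _ ha hb =>
    rcases ha with ha | ha | ha | ha <;> rcases hb with hb | hb | hb | hb <;> rw [ha, hb] <;>
      simp only [mul_assoc, htt, hss, hst, htt', hst', mul_one, one_mul, or_true, true_or]
  | inv a _ ha =>
    rcases ha with ha | ha | ha | ha <;> rw [ha] <;>
      simp only [mul_inv_rev, inv_one, htinv, hsinv, hst, or_true, true_or]

theorem t_ne_s (h : Hyp t s K) : t ≠ s := fun h0 => h.hsK (h0 ▸ h.htK)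

theorem ts_ne_one (h : Hyp t s K) : t * s ≠ 1 := by
  intro h0
  have htt := sq_of_order_two h.ht
  apply t_ne_s h
  have : t * s = t * t := by rw [h0, htt]
  exact (mul_left_cancel this).symm

/-- `C(t)` has exponent two -/
theorem H_sq (h : Hyp t s K) (hk : Nat.card K = 2) :
    ∀ c ∈ Subgroup.centralizer ({t} : Set G), c ^ 2 = 1 := by
  intro c hc
  have htt := sq_of_order_two h.ht
  have hss := sq_of_order_two h.hs
  have hst := hst h
  rw [pow_two]
  rcases H_elems h hk hc with h1 | h1 | h1 | h1 <;> rw [h1]
  · exact mul_one 1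
  · exact htt
  · exact hss
  · calc t * s * (t * s) = t * (s * t) * s := by group
      _ = t * (t * s) * s := by rw [hst]
      _ = (t * t) * (s * s) := by group
      _ = 1 := by rw [htt, hss, mul_one]

/-- `C(t)` has order four -/
theorem card_H (h : Hyp t s K) (hk : Nat.card K = 2) :
    Nat.card (Subgroup.centralizer ({t} : Set G)) = 4 := by
  have ht1 := ne_one_of_order_two h.ht
  have hs1 := ne_one_of_order_two h.hs
  have hts := t_ne_s h
  have hts1 := ts_ne_one h
  have hset : ((Subgroup.centralizer ({t} : Set G) : Subgroup G) : Set G) = {1, t, s, t * s} := by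
    ext x
    constructor
    · intro hx
      have := H_elems h hk hx
      simpa only [Set.mem_insert_iff, Set.mem_singleton_iff] using this
    · intro hx
      simp only [Set.mem_insert_iff, Set.mem_singleton_iff] at hx
      have htm : t ∈ Subgroup.centralizer ({t} : Set G) := Subgroup.mem_centralizer_singleton_iff.mpr rfl
      rcases hx with h1 | h1 | h1 | h1 <;> rw [h1]
      · exact one_mem _
      · exact htm
      · exact h.hsH
      · exact mul_mem htm h.hsH
  have e : Nat.card (Subgroup.centralizer ({t} : Set G)) =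
      ((Subgroup.centralizer ({t} : Set G) : Subgroup G) : Set G).ncard := Nat.card_coe_set_eq _
  rw [e, hset]
  rw [Set.ncard_insert_of_notMem, Set.ncard_insert_of_notMem, Set.ncard_insert_of_notMem,
    Set.ncard_singleton]
  · simp only [Set.mem_singleton_iff]
    intro h0
    apply ht1
    have : 1 * s = t * s := by rw [one_mul]; exact h0
    exact (mul_right_cancel this).symm
  · simp only [Set.mem_insert_iff, Set.mem_singleton_iff, not_or]
    refine ⟨hts, ?_⟩
    intro h0
    apply hs1
    have : t * 1 = t * s := by rw [mul_one]; exact h0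
    exact (mul_left_cancel this).symm
  · simp only [Set.mem_insert_iff, Set.mem_singleton_iff, not_or]
    exact ⟨fun h0 => ht1 h0.symm, fun h0 => hs1 h0.symm, fun h0 => hts1 h0.symm⟩

theorem not_central (h : Hyp t s K) : ¬ ∀ g : G, g * t * g⁻¹ = t := by
  intro hc
  obtain ⟨g, hg⟩ := isConj_iff.mp (h.hconj t s h.ht h.hs)
  rw [hc g] at hg
  exact t_ne_s h hg

section K2
variable [Finite G]

theorem hall (h : Hyp t s K) (hk : Nat.card K = 2) :
    ∀ c ∈ Subgroup.centralizer ({t} : Set G), c ≠ 1 →
      Subgroup.centralizer ({c} : Set G) = Subgroup.centralizer ({t} : Set G) := by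
  intro c hc hc1
  have hc2 : orderOf c = 2 := order_two_of_sq hc1 (by rw [← pow_two]; exact H_sq h hk c hc)
  exact Cfsg.Agent.S3277.cent_eq_of_conj t h.ht (card_H h hk) (H_sq h hk) hc (h.hconj t c h.ht hc2)

theorem no_complement (h : Hyp t s K) (hk : Nat.card K = 2) : ¬ Cfsg.HasNormalPComplement 2 G := by
  rintro ⟨P', N, hN, hc⟩
  have := hN
  have hC4 := card_H h hk
  obtain ⟨P, hP⟩ := Cfsg.Agent.S3277.exists_sylow_eq t h.ht hC4 (hall h hk)
  have hcardP : Nat.card (P : Subgroup G) = 4 := by rw [hP]; exact hC4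
  have hcardP' : Nat.card (P' : Subgroup G) = 4 := by
    rw [← hcardP]
    exact (Sylow.card_eq_multiplicity P').trans (Sylow.card_eq_multiplicity P).symm
  have hmul : Nat.card N * Nat.card (P' : Subgroup G) = Nat.card G := hc.card_mul_card
  have hG0 : Nat.card G ≠ 0 := Nat.card_pos.ne'
  have hodd : Odd (Nat.card N) := by
    rw [← Nat.coprime_two_left]
    have h1 := Nat.coprime_ordCompl Nat.prime_two hG0
    have h3 : 2 ^ (Nat.card G).factorization 2 = 4 := by
      rw [← Sylow.card_eq_multiplicity P', hcardP']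
    rw [h3] at h1
    have h4 : Nat.card G / 4 = Nat.card N := by
      rw [← hmul, hcardP']
      exact Nat.mul_div_cancel _ (by norm_num)
    rw [h4] at h1
    exact h1
  have hNbot : N = ⊥ :=
    Cfsg.Agent.S3277.odd_normal_eq_bot t h.ht hC4 (H_sq h hk) (hall h hk) N hodd
  have hG4 : Nat.card G = 4 := by
    rw [← hmul, hNbot, Subgroup.card_bot, one_mul, hcardP']
  have htop : Subgroup.centralizer ({t} : Set G) = ⊤ := by
    rw [← Subgroup.card_eq_iff_eq_top, hC4, hG4]
  apply not_central h
  intro g
  have : g ∈ Subgroup.centralizer ({t} : Set G) := by rw [htop]; trivial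
  rw [Subgroup.mem_centralizer_singleton_iff] at this
  rw [this, mul_inv_cancel_right]

theorem K2_split (h : Hyp t s K) (hk : Nat.card K = 2) :
    Nat.card G = 12 ∨ Nonempty (G ≃* ↥(alternatingGroup (Fin 5))) := by
  have hC4 := card_H h hk
  have hCe := H_sq h hk
  have hnc := no_complement h hk
  by_cases hne : ∀ E : Subgroup G, E.Normal → Cfsg.IsElementaryAbelian 2 E →
      Nat.card ↥E ≠ 2 ∧ Nat.card ↥E ≠ 4
  · right
    exact Cfsg.Agent.S3277.result t h.ht hC4 hCe hnc hne
  left
  push Not at hne
  obtain ⟨E, hEn, hEe, hE⟩ := hne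
  have ht1 := ne_one_of_order_two h.ht
  have hEsq : ∀ a ∈ E, a * a = 1 := fun a ha => by rw [← pow_two]; exact hEe.2 a ha
  by_cases h2 : Nat.card E = 2
  · exfalso
    -- the non-trivial element of `E` is a central involution
    have : Nontrivial E := (Finite.one_lt_card_iff_nontrivial).mp (by rw [h2]; norm_num)
    obtain ⟨z, hz⟩ := exists_ne (1 : E)
    have hz1 : (z : G) ≠ 1 := fun h0 => hz (Subtype.ext h0)
    have hz2 : orderOf (z : G) = 2 := order_two_of_sq hz1 (hEsq _ z.2)
    have hzc : ∀ g : G, g * (z : G) * g⁻¹ = z := by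
      intro g
      have hm : g * (z : G) * g⁻¹ ∈ E := hEn.conj_mem _ z.2 g
      rcases elems_of_card_two h2 z.2 hz1 hm with h0 | h0
      · exfalso
        apply hz1
        have : g * (z : G) = g := by
          have := congrArg (· * g) h0
          simpa using this
        exact mul_left_cancel (a := g) (by rw [this, mul_one])
      · exact h0
    obtain ⟨g, hg⟩ := isConj_iff.mp (h.hconj t z h.ht hz2)
    have htz : t = (z : G) := by
      have h1 := hzc g⁻¹
      rw [inv_inv] at h1
      rw [← h1, ← hg]
      group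
    apply not_central h
    intro x
    rw [htz]
    exact hzc x
  · have h4 : Nat.card E = 4 := hE h2
    have : Nontrivial E := (Finite.one_lt_card_iff_nontrivial).mp (by rw [h4]; norm_num)
    obtain ⟨e, he⟩ := exists_ne (1 : E)
    have he1 : (e : G) ≠ 1 := fun h0 => he (Subtype.ext h0)
    have he2 : orderOf (e : G) = 2 := order_two_of_sq he1 (hEsq _ e.2)
    have hinv : ∀ x : G, orderOf x = 2 → x ∈ E := by
      intro x hx
      obtain ⟨g, hg⟩ := isConj_iff.mp (h.hconj e x he2 hx)
      rw [← hg]
      exact hEn.conj_mem _ e.2 g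
    have hset : {y : G | IsConj t y} = (E : Set G) \ {1} := by
      ext y
      simp only [Set.mem_ofPred_eq, Set.mem_sdiff, SetLike.mem_coe, Set.mem_singleton_iff]
      constructor
      · intro hy
        obtain ⟨g, hg⟩ := isConj_iff.mp hy
        have hy2 : orderOf y = 2 := by
          rw [← hg, Cfsg.Agent.S3277.orderOf_conj']
          exact h.ht
        exact ⟨hinv y hy2, ne_one_of_order_two hy2⟩
      · rintro ⟨hyE, hy1⟩
        exact h.hconj t y h.ht (order_two_of_sq hy1 (hEsq y hyE))
    have hidx : (Subgroup.centralizer ({t} : Set G)).index = 3 := by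
      rw [Cfsg.Agent.Lib.Helper22.index_centralizer_eq_ncard_setOf_isConj, hset,
        Set.ncard_sdiff_singleton_of_mem (E.one_mem)]
      have e4 : ((E : Subgroup G) : Set G).ncard = 4 := by
        rw [← h4]
        exact (Nat.card_coe_set_eq _).symm
      rw [e4]
    have := Subgroup.card_mul_index (Subgroup.centralizer ({t} : Set G))
    rw [hC4, hidx] at this
    omega

end K2

end Cfsg.Agent.Lib.Helper22.S3282K2a
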