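import Mathlib
import Cfsg.Prelude.Def_GeometricClasses
import Cfsg.Agent.Lib.Helper7.AschDefs

/-!
# S5630, block I7 (`c7_case`, tensor-induced case): vocabulary  (helper22)

* `cj h L`      : the conjugate `h L h⁻¹` of a subgroup of `GL (Fin n) F`;
* `conjAlg P`   : conjugation by `P` as an `F`-algebra endomorphism of the matrix algebra;
* `pt as`       : the pure tensor `as 0 ⊗ ⋯ ⊗ as (t-1)` of `t` arbitrary `m × m` matrices, a matrix indexed by `Fin t → Fin m`
                  (entries `∏ i, as i (x i) (y i)`, exactly the shape of the frozen `IsPureTensor`);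
* `pos i a`     : the matrix `a` in tensor position `i` (`1 ⊗ ⋯ ⊗ a ⊗ ⋯ ⊗ 1`).
-/

set_option autoImplicit false

namespace Cfsg.Agent.Lib.Helper22.AschC7

open Matrix Cfsg.Geo Cfsg.Agent.Lib.Helper7.Asch

variable {F : Type*} [Field F] {n m t : ℕ}

/-- the conjugate `h L h⁻¹` -/
def cj (h : GL (Fin n) F) (L : Subgroup (GL (Fin n) F)) : Subgroup (GL (Fin n) F) :=
  L.map (MulAut.conj h).toMonoidHom

theorem mem_cj {h : GL (Fin n) F} {L : Subgroup (GL (Fin n) F)} {y : GL (Fin n) F} :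
    y ∈ cj h L ↔ ∃ x ∈ L, h * x * h⁻¹ = y := by
  unfold cj
  rw [Subgroup.mem_map]
  rfl

theorem conj_mem_cj {h : GL (Fin n) F} {L : Subgroup (GL (Fin n) F)} {x : GL (Fin n) F} (hx : x ∈ L) :
    h * x * h⁻¹ ∈ cj h L := mem_cj.mpr ⟨x, hx, rfl⟩

/-- conjugation by `P` as an algebra endomorphism of the matrix algebra -/
def conjAlg (P : GL (Fin n) F) : Matrix (Fin n) (Fin n) F →ₐ[F] Matrix (Fin n) (Fin n) F where
  toFun A := (P : Matrix (Fin n) (Fin n) F) * A * ((P⁻¹ : GL (Fin n) F) : Matrix (Fin n) (Fin n) F)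
  map_one' := by rw [mul_one, ← Units.val_mul, mul_inv_cancel, Units.val_one]
  map_mul' A B := by
    have h : ((P⁻¹ : GL (Fin n) F) : Matrix (Fin n) (Fin n) F) * (P : Matrix (Fin n) (Fin n) F) = 1 := by
      rw [← Units.val_mul, inv_mul_cancel, Units.val_one]
    calc (P : Matrix (Fin n) (Fin n) F) * (A * B) * ((P⁻¹ : GL (Fin n) F) : Matrix (Fin n) (Fin n) F)
        = (P : Matrix (Fin n) (Fin n) F) * A * 1 * B * ((P⁻¹ : GL (Fin n) F) : Matrix (Fin n) (Fin n) F) := by
          rw [mul_one, mul_assoc (P : Matrix (Fin n) (Fin n) F) A B]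
      _ = _ := by rw [← h]; simp only [mul_assoc]
  map_zero' := by rw [mul_zero, zero_mul]
  map_add' A B := by rw [mul_add, add_mul]
  commutes' c := by
    rw [Algebra.algebraMap_eq_smul_one, Matrix.mul_smul, Matrix.smul_mul, mul_one, ← Units.val_mul, mul_inv_cancel,
      Units.val_one]

theorem conjAlg_apply (P : GL (Fin n) F) (A : Matrix (Fin n) (Fin n) F) :
    conjAlg P A = (P : Matrix (Fin n) (Fin n) F) * A * ((P⁻¹ : GL (Fin n) F) : Matrix (Fin n) (Fin n) F) := rfl

/-- the pure tensor of `t` arbitrary `m × m` matrices -/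
def pt (as : Fin t → Matrix (Fin m) (Fin m) F) : Matrix (Fin t → Fin m) (Fin t → Fin m) F :=
  fun x y => ∏ i, as i (x i) (y i)

theorem pt_apply (as : Fin t → Matrix (Fin m) (Fin m) F) (x y : Fin t → Fin m) :
    pt as x y = ∏ i, as i (x i) (y i) := rfl

/-- the matrix `a` in tensor position `i` -/
def pos (i : Fin t) (a : Matrix (Fin m) (Fin m) F) : Matrix (Fin t → Fin m) (Fin t → Fin m) F :=
  pt (Function.update (fun _ => (1 : Matrix (Fin m) (Fin m) F)) i a)

theorem pos_def (i : Fin t) (a : Matrix (Fin m) (Fin m) F) :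
    pos i a = pt (Function.update (fun _ => (1 : Matrix (Fin m) (Fin m) F)) i a) := rfl

/-- the frozen `IsPureTensor` in terms of `pt` -/
theorem isPureTensor_iff (g : GL (Fin t → Fin m) F) :
    IsPureTensor m t g ↔ ∃ gs : Fin t → GL (Fin m) F,
      (g : Matrix (Fin t → Fin m) (Fin t → Fin m) F) = pt (fun i => ((gs i : GL (Fin m) F) : Matrix (Fin m) (Fin m) F)) := by
  constructor
  · rintro ⟨gs, h⟩
    exact ⟨gs, by ext x y; exact h x y⟩
  · rintro ⟨gs, h⟩
    exact ⟨gs, fun x y => by rw [h]; rfl⟩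

end Cfsg.Agent.Lib.Helper22.AschC7
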