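import Mathlib
import Cfsg.Prelude.Def_GeometricClasses
import Cfsg.Agent.Lib.Helper7.AschDefs
import Cfsg.Agent.Lib.Helper22.AschC7Defs

/-!
# S5630 I7, pieces A1, A2, A3: the calculus of pure tensors `pt` and position matrices `pos`  (helper22)
-/

set_option autoImplicit false

namespace Cfsg.Agent.Lib.Helper22.S5630I7A

open Matrix Cfsg.Geo Cfsg.Agent.Lib.Helper7.Asch Cfsg.Agent.Lib.Helper22.AschC7

variable {F : Type*} [Field F] {n m t : ℕ}

/-- **P1a** -/
theorem pt_mul (as bs : Fin t → Matrix (Fin m) (Fin m) F) : pt as * pt bs = pt (fun i => as i * bs i) := by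
  ext x y
  rw [Matrix.mul_apply]
  simp only [pt_apply, Matrix.mul_apply]
  rw [Finset.prod_univ_sum, Fintype.piFinset_univ]
  apply Finset.sum_congr rfl
  intro z _
  rw [Finset.prod_mul_distrib]

theorem prod_one_apply (x y : Fin t → Fin m) (s : Finset (Fin t)) :
    (∏ i ∈ s, (1 : Matrix (Fin m) (Fin m) F) (x i) (y i)) = if (∀ i ∈ s, x i = y i) then 1 else 0 := by
  simp only [Matrix.one_apply]
  rw [Finset.prod_ite_zero]
  simp

/-- **P1b** -/
theorem pt_one : pt (fun _ : Fin t => (1 : Matrix (Fin m) (Fin m) F)) = 1 := by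
  ext x y
  rw [pt_apply, prod_one_apply, Matrix.one_apply]
  by_cases h : x = y
  · subst h
    simp
  · rw [if_neg h, if_neg]
    intro h'
    exact h (funext fun i => h' i (Finset.mem_univ i))

theorem pt_update_apply (as : Fin t → Matrix (Fin m) (Fin m) F) (i : Fin t) (a : Matrix (Fin m) (Fin m) F)
    (x y : Fin t → Fin m) :
    pt (Function.update as i a) x y = a (x i) (y i) * ∏ j ∈ Finset.univ.erase i, as j (x j) (y j) := by
  rw [pt_apply, ← Finset.mul_prod_erase Finset.univ _ (Finset.mem_univ i), Function.update_self]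
  congr 1
  apply Finset.prod_congr rfl
  intro j hj
  rw [Function.update_of_ne (Finset.ne_of_mem_erase hj)]

/-- **P1c** -/
theorem pt_update_smul (as : Fin t → Matrix (Fin m) (Fin m) F) (i : Fin t) (c : F) (a : Matrix (Fin m) (Fin m) F) :
    pt (Function.update as i (c • a)) = c • pt (Function.update as i a) := by
  ext x y
  rw [Matrix.smul_apply, pt_update_apply, pt_update_apply, Matrix.smul_apply, smul_eq_mul, smul_eq_mul, mul_assoc]

/-- **P1d** -/
theorem pt_update_add (as : Fin t → Matrix (Fin m) (Fin m) F) (i : Fin t) (a b : Matrix (Fin m) (Fin m) F) :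
    pt (Function.update as i (a + b)) = pt (Function.update as i a) + pt (Function.update as i b) := by
  ext x y
  rw [Matrix.add_apply, pt_update_apply, pt_update_apply, pt_update_apply, Matrix.add_apply, add_mul]

/-- **P1e** -/
theorem pt_transpose (as : Fin t → Matrix (Fin m) (Fin m) F) : (pt as)ᵀ = pt (fun i => (as i)ᵀ) := by
  ext x y
  rw [Matrix.transpose_apply, pt_apply, pt_apply]
  rfl

/-- **P1f** matrix units are pure tensors of matrix units -/
theorem pt_single (x y : Fin t → Fin m) :
    pt (fun i => Matrix.single (x i) (y i) (1 : F)) = Matrix.single x y 1 := by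
  ext x' y'
  rw [pt_apply, Matrix.single_apply]
  simp only [Matrix.single_apply]
  rw [Finset.prod_ite_zero]
  simp only [Finset.mem_univ, forall_true_left, Finset.prod_const_one]
  by_cases h : x = x' ∧ y = y'
  · obtain ⟨rfl, rfl⟩ := h
    simp
  · rw [if_neg h, if_neg]
    intro h'
    exact h ⟨funext fun i => (h' i).1, funext fun i => (h' i).2⟩

/-- **P2a** -/
theorem pos_apply (i : Fin t) (a : Matrix (Fin m) (Fin m) F) (x y : Fin t → Fin m) :
    pos i a x y = if (∀ j, j ≠ i → x j = y j) then a (x i) (y i) else 0 := by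
  rw [pos_def, pt_update_apply, prod_one_apply]
  by_cases h : ∀ j, j ≠ i → x j = y j
  · rw [if_pos h, if_pos, mul_one]
    intro j hj
    exact h j (Finset.ne_of_mem_erase hj)
  · rw [if_neg h, if_neg, mul_zero]
    intro h'
    exact h fun j hj => h' j (Finset.mem_erase.mpr ⟨hj, Finset.mem_univ j⟩)

theorem pos_one (i : Fin t) : pos i (1 : Matrix (Fin m) (Fin m) F) = 1 := by
  rw [pos_def, Function.update_eq_self, pt_one]

theorem pos_mul (i : Fin t) (a b : Matrix (Fin m) (Fin m) F) : pos i (a * b) = pos i a * pos i b := by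
  rw [pos_def, pos_def, pos_def, pt_mul]
  congr 1
  funext j
  by_cases hj : j = i
  · subst hj
    rw [Function.update_self, Function.update_self, Function.update_self]
  · rw [Function.update_of_ne hj, Function.update_of_ne hj, Function.update_of_ne hj, mul_one]

theorem pos_add (i : Fin t) (a b : Matrix (Fin m) (Fin m) F) : pos i (a + b) = pos i a + pos i b := by
  rw [pos_def, pos_def, pos_def, pt_update_add]

theorem pos_smul (i : Fin t) (c : F) (a : Matrix (Fin m) (Fin m) F) : pos i (c • a) = c • pos i a := by
  rw [pos_def, pos_def, pt_update_smul]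

theorem pos_zero (i : Fin t) : pos i (0 : Matrix (Fin m) (Fin m) F) = 0 := by
  have := pos_smul i (0 : F) (0 : Matrix (Fin m) (Fin m) F)
  rwa [zero_smul, zero_smul] at this

/-- `pos i` as an algebra homomorphism -/
def posAlgHom (i : Fin t) : Matrix (Fin m) (Fin m) F →ₐ[F] Matrix (Fin t → Fin m) (Fin t → Fin m) F where
  toFun := pos i
  map_one' := pos_one i
  map_mul' := pos_mul i
  map_zero' := pos_zero i
  map_add' := pos_add i
  commutes' c := by
    rw [Algebra.algebraMap_eq_smul_one, Algebra.algebraMap_eq_smul_one, pos_smul, pos_one]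

theorem posAlgHom_apply (i : Fin t) (a : Matrix (Fin m) (Fin m) F) : posAlgHom i a = pos i a := rfl

/-- **P2b** `pos i` is an algebra homomorphism -/
theorem exists_posAlgHom (i : Fin t) :
    ∃ ψ : Matrix (Fin m) (Fin m) F →ₐ[F] Matrix (Fin t → Fin m) (Fin t → Fin m) F, ∀ a, ψ a = pos i a :=
  ⟨posAlgHom i, fun _ => rfl⟩

/-- **P2c** -/
theorem pos_injective (i : Fin t) : Function.Injective (pos (F := F) (m := m) i) := by
  intro a b hab
  ext c d
  have h := congrFun (congrFun hab (fun _ => c)) (Function.update (fun _ => c) i d)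
  have hcond : ∀ j, j ≠ i → (fun _ : Fin t => c) j = Function.update (fun _ : Fin t => c) i d j := by
    intro j hj
    rw [Function.update_of_ne hj]
  rw [pos_apply, pos_apply, if_pos hcond, if_pos hcond, Function.update_self] at h
  exact h

/-- **P2d** -/
theorem pt_mul_pos (as : Fin t → Matrix (Fin m) (Fin m) F) (i : Fin t) (a : Matrix (Fin m) (Fin m) F) :
    pt as * pos i a = pt (Function.update as i (as i * a)) := by
  rw [pos_def, pt_mul]
  congr 1
  funext j
  by_cases hj : j = i
  · subst hj
    rw [Function.update_self, Function.update_self]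
  · rw [Function.update_of_ne hj, Function.update_of_ne hj, mul_one]

/-- **P2e** -/
theorem pos_mul_pt (as : Fin t → Matrix (Fin m) (Fin m) F) (i : Fin t) (a : Matrix (Fin m) (Fin m) F) :
    pos i a * pt as = pt (Function.update as i (a * as i)) := by
  rw [pos_def, pt_mul]
  congr 1
  funext j
  by_cases hj : j = i
  · subst hj
    rw [Function.update_self, Function.update_self]
  · rw [Function.update_of_ne hj, Function.update_of_ne hj, one_mul]

theorem pos_commute {i j : Fin t} (hij : i ≠ j) (a b : Matrix (Fin m) (Fin m) F) :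
    pos i a * pos j b = pos j b * pos i a := by
  rw [pos_def j b, pos_mul_pt, pt_mul_pos, Function.update_of_ne hij, mul_one, one_mul]

theorem pt_mem_adjoin (as : Fin t → Matrix (Fin m) (Fin m) F) (s : Finset (Fin t)) :
    pt (fun j => if j ∈ s then as j else 1) ∈
      Algebra.adjoin F (⋃ i : Fin t, Set.range (pos (F := F) (m := m) i)) := by
  induction s using Finset.induction_on with
  | empty =>
    simp only [Finset.notMem_empty, if_false]
    rw [pt_one]
    exact Subalgebra.one_mem _
  | insert i s hi ih =>
    have h : pt (fun j => if j ∈ insert i s then as j else 1) =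
        pos i (as i) * pt (fun j => if j ∈ s then as j else 1) := by
      rw [pos_mul_pt]
      congr 1
      funext j
      by_cases hj : j = i
      · subst hj
        rw [Function.update_self, if_pos (Finset.mem_insert_self _ _), if_neg hi, mul_one]
      · rw [Function.update_of_ne hj]
        by_cases hjs : j ∈ s
        · rw [if_pos hjs, if_pos (Finset.mem_insert_of_mem hjs)]
        · rw [if_neg hjs, if_neg]
          intro h'
          rcases Finset.mem_insert.mp h' with h'' | h''
          · exact hj h''
          · exact hjs h''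
    rw [h]
    exact Subalgebra.mul_mem _ (Algebra.subset_adjoin (Set.mem_iUnion.mpr ⟨i, as i, rfl⟩)) ih

/-- **P3a** the position algebras generate the matrix algebra -/
theorem adjoin_pos_eq_top :
    Algebra.adjoin F (⋃ i : Fin t, Set.range (pos (F := F) (m := m) i)) = ⊤ := by
  rw [eq_top_iff]
  intro M _
  rw [Matrix.matrix_eq_sum_single M]
  apply Subalgebra.sum_mem
  intro x _
  apply Subalgebra.sum_mem
  intro y _
  have h1 : Matrix.single x y (M x y) = (M x y) • Matrix.single x y (1 : F) := by
    rw [Matrix.smul_single, smul_eq_mul, mul_one]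
  rw [h1]
  apply Subalgebra.smul_mem
  rw [← pt_single]
  have := pt_mem_adjoin (fun i => Matrix.single (x i) (y i) (1 : F)) Finset.univ
  simpa using this

/-- **P3b** a matrix commuting with all position matrices is scalar -/
theorem scalar_of_commute_pos (Z : Matrix (Fin t → Fin m) (Fin t → Fin m) F)
    (hZ : ∀ (i : Fin t) (a : Matrix (Fin m) (Fin m) F), Z * pos i a = pos i a * Z) :
    ∃ c : F, Z = c • (1 : Matrix (Fin t → Fin m) (Fin t → Fin m) F) := by
  have hall : ∀ M : Matrix (Fin t → Fin m) (Fin t → Fin m) F, Z * M = M * Z := by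
    intro M
    have hM : M ∈ Algebra.adjoin F (⋃ i : Fin t, Set.range (pos (F := F) (m := m) i)) := by
      rw [adjoin_pos_eq_top]
      exact Algebra.mem_top
    induction hM using Algebra.adjoin_induction with
    | mem M hM =>
      obtain ⟨i, a, rfl⟩ := Set.mem_iUnion.mp hM
      exact hZ i a
    | algebraMap c => exact (Algebra.commutes c Z).symm
    | add M₁ M₂ _ _ h1 h2 => rw [mul_add, add_mul, h1, h2]
    | mul M₁ M₂ _ _ h1 h2 => rw [← mul_assoc, h1, mul_assoc, h2, mul_assoc]
  have hmem : Z ∈ Set.range (Matrix.scalar (Fin t → Fin m)) := by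
    apply Matrix.mem_range_scalar_of_commute_single
    intro x y _
    exact (hall (Matrix.single x y 1)).symm
  obtain ⟨c, rfl⟩ := hmem
  exact ⟨c, by rw [Matrix.scalar_apply, Matrix.smul_one_eq_diagonal]⟩

end Cfsg.Agent.Lib.Helper22.S5630I7A
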