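import Mathlib
import Cfsg.Prelude.Def_GeometricClasses
import Cfsg.Agent.Lib.Helper7.AschDefs
import Cfsg.Agent.Lib.Helper22.AschC7Defs

/-!
# S5663, block U7 (`c7_caseU`, tensor-induced case with a hermitian form): vocabulary  (helper22)

`X = Fin t → Fin m` is the tensor index set; `pt`, `pos` are those of `AschC7Defs`.

* `slice i u v G` : the `m × m` matrix `(α, β) ↦ G (u[i := α]) (v[i := β])` cut out of a matrix `G` on `X`;
* `Phi e P A`     : the matrix `P * (A reindexed along e) * P⁻¹` on `Fin n` of a matrix `A` on `X`;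
* `gramX f e P`   : the Gram matrix on `X` of the form `f` in the basis `P (single a ∘ e)`, `a : X`
                    (the basis in which the frozen `IsTensorPowerFormStructure` is written).
-/

set_option autoImplicit false

namespace Cfsg.Agent.Lib.Helper22.U7

open Matrix Cfsg.Geo Cfsg.Agent.Lib.Helper7.Asch Cfsg.Agent.Lib.Helper22.AschC7

variable {F : Type*} [Field F] {n m t : ℕ}

/-- the `(u, v)`-slice in direction `i` of a matrix on the tensor index set -/
def slice (i : Fin t) (u v : Fin t → Fin m) (G : Matrix (Fin t → Fin m) (Fin t → Fin m) F) :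
    Matrix (Fin m) (Fin m) F :=
  fun α β => G (Function.update u i α) (Function.update v i β)

theorem slice_apply (i : Fin t) (u v : Fin t → Fin m) (G : Matrix (Fin t → Fin m) (Fin t → Fin m) F)
    (α β : Fin m) : slice i u v G α β = G (Function.update u i α) (Function.update v i β) := rfl

/-- the matrix on `Fin n` of a matrix on the tensor index set, through `e` and `P` -/
def Phi (e : Fin n ≃ (Fin t → Fin m)) (P : GL (Fin n) F) (A : Matrix (Fin t → Fin m) (Fin t → Fin m) F) :
    Matrix (Fin n) (Fin n) F :=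
  (P : Matrix (Fin n) (Fin n) F) * Matrix.reindex e.symm e.symm A *
    ((P⁻¹ : GL (Fin n) F) : Matrix (Fin n) (Fin n) F)

theorem Phi_def (e : Fin n ≃ (Fin t → Fin m)) (P : GL (Fin n) F) (A : Matrix (Fin t → Fin m) (Fin t → Fin m) F) :
    Phi e P A = (P : Matrix (Fin n) (Fin n) F) * Matrix.reindex e.symm e.symm A *
      ((P⁻¹ : GL (Fin n) F) : Matrix (Fin n) (Fin n) F) := rfl

/-- the Gram matrix of `f` in the tensor basis given by `e` and `P` -/
def gramX (f : (Fin n → F) → (Fin n → F) → F) (e : Fin n ≃ (Fin t → Fin m)) (P : GL (Fin n) F) :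
    Matrix (Fin t → Fin m) (Fin t → Fin m) F :=
  fun a b => f ((P : Matrix (Fin n) (Fin n) F) *ᵥ ((Pi.single a 1 : (Fin t → Fin m) → F) ∘ e))
    ((P : Matrix (Fin n) (Fin n) F) *ᵥ ((Pi.single b 1 : (Fin t → Fin m) → F) ∘ e))

theorem gramX_apply (f : (Fin n → F) → (Fin n → F) → F) (e : Fin n ≃ (Fin t → Fin m)) (P : GL (Fin n) F)
    (a b : Fin t → Fin m) :
    gramX f e P a b = f ((P : Matrix (Fin n) (Fin n) F) *ᵥ ((Pi.single a 1 : (Fin t → Fin m) → F) ∘ e))
      ((P : Matrix (Fin n) (Fin n) F) *ᵥ ((Pi.single b 1 : (Fin t → Fin m) → F) ∘ e)) := rfl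

end Cfsg.Agent.Lib.Helper22.U7
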