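import Mathlib
import Cfsg.Agent.Lib.Helper10.Basic
import Cfsg.Agent.Lib.Helper10.BGBase
import Cfsg.Prelude.Def_OddOrderLocal

/-!
# B & G Corollary 14.8 (S1435), part A: generic group-theoretic lemmas (helper22)
-/

set_option autoImplicit false
set_option linter.unusedVariables false
set_option linter.unusedSectionVars false
set_option linter.style.longLine false

open Cfsg
open scoped commutatorElement

namespace Cfsg.Agent.Lib.Helper22.BG148

variable {G : Type*} [Group G]

/-- if `κ` commutes with `κ z κ⁻¹ z⁻¹`, `κ ^ k = 1` and the order of `z'` is prime to `k`,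
then `κ` and `z` commute. -/
theorem comm_of_comm_comm {κ z : G} {k : ℕ} (hκ : κ ^ k = 1)
    (hc : κ * (κ * z * κ⁻¹ * z⁻¹) = (κ * z * κ⁻¹ * z⁻¹) * κ)
    (hcop : (orderOf (κ * z * κ⁻¹ * z⁻¹)).Coprime k) : κ * z = z * κ := by
  -- use helper10's lemma with `x := κ`, `h := z`
  have e : ⁅z, κ⁆ = (κ * z * κ⁻¹ * z⁻¹)⁻¹ := by
    rw [commutatorElement_def]; group
  have hcomm : Commute ⁅z, κ⁆ κ := by
    rw [e]
    exact (Commute.inv_left (show Commute (κ * z * κ⁻¹ * z⁻¹) κ from hc.symm))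
  have hz : ⁅z, κ⁆ ^ orderOf (κ * z * κ⁻¹ * z⁻¹) = 1 := by
    rw [e, inv_pow, pow_orderOf_eq_one, inv_one]
  have := Cfsg.Agent.Lib.Helper10.commute_of_coprime_of_commute_commutator κ z k _ hκ hz
    hcop.symm hcomm
  exact this.eq.symm

/-- a coprime automorphism (conjugation by `κ`) of an abelian subgroup `A` that fixes every
element of prime order is trivial; contrapositive form. -/
theorem exists_prime_order_not_comm [Finite G] {A : Subgroup G} {κ : G} {k : ℕ}
    (hA : ∀ a ∈ A, ∀ b ∈ A, a * b = b * a) (hκA : ∀ a ∈ A, κ * a * κ⁻¹ ∈ A)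
    (hκ : κ ^ k = 1) (hcop : (Nat.card A).Coprime k)
    (hne : ∃ a ∈ A, κ * a ≠ a * κ) :
    ∃ c ∈ A, (orderOf c).Prime ∧ κ * c ≠ c * κ := by
  classical
  -- minimal order counterexample
  have hex : ∃ n : ℕ, ∃ a ∈ A, κ * a ≠ a * κ ∧ orderOf a = n := by
    obtain ⟨a, ha, hne⟩ := hne
    exact ⟨_, a, ha, hne, rfl⟩
  obtain ⟨a, ha, hane, han⟩ := Nat.find_spec hex
  have hmin : ∀ b ∈ A, orderOf b < Nat.find hex → κ * b = b * κ := by
    intro b hb hlt
    by_contra hbne
    exact Nat.find_min hex hlt ⟨b, hb, hbne, rfl⟩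
  set n := Nat.find hex with hn
  have ha1 : a ≠ 1 := by
    rintro rfl
    exact hane (by rw [mul_one, one_mul])
  have hn1 : n ≠ 1 := by
    intro h
    rw [← han, orderOf_eq_one_iff] at h
    exact ha1 h
  have hn0 : 0 < n := by
    rw [← han]
    exact orderOf_pos a
  obtain ⟨p, hp, hpn⟩ := Nat.exists_prime_and_dvd hn1
  -- `a ^ p` commutes with `κ`
  have hap : κ * a ^ p = a ^ p * κ := by
    apply hmin _ (A.pow_mem ha p)
    rw [orderOf_pow' a hp.ne_zero, han, Nat.gcd_eq_right hpn]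
    exact Nat.div_lt_self hn0 hp.one_lt
  set y := κ * a * κ⁻¹ * a⁻¹ with hy
  have hyA : y ∈ A := A.mul_mem (hκA a ha) (A.inv_mem ha)
  have hy1 : y ≠ 1 := by
    intro h
    apply hane
    have : κ * a * κ⁻¹ = a := by
      have := congrArg (· * a) h
      simpa [hy] using this
    calc κ * a = κ * a * κ⁻¹ * κ := by group
      _ = a * κ := by rw [this]
  have hyp : y ^ p = 1 := by
    have hc : Commute (κ * a * κ⁻¹) a⁻¹ := hA _ (hκA a ha) _ (A.inv_mem ha)
    rw [hy, hc.mul_pow, conj_pow, inv_pow]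
    have : κ * a ^ p * κ⁻¹ = a ^ p := by
      rw [hap]; group
    rw [this, mul_inv_cancel]
  haveI : Fact p.Prime := ⟨hp⟩
  have hyo : orderOf y = p := orderOf_eq_prime hyp hy1
  refine ⟨y, hyA, hyo ▸ hp, ?_⟩
  intro hcy
  -- then `κ` commutes with `y = κ a κ⁻¹ a⁻¹`, so with `a`
  apply hane
  apply comm_of_comm_comm hκ hcy
  rw [← hy, hyo]
  have hpA : p ∣ Nat.card A := by
    have h1 : orderOf (⟨y, hyA⟩ : A) ∣ Nat.card A := orderOf_dvd_natCard _
    rwa [Subgroup.orderOf_mk, hyo] at h1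
  exact Nat.Coprime.coprime_dvd_left hpA hcop

/-- the normalizer of a nontrivial normal subgroup of a maximal subgroup of a simple group. -/
theorem normalizer_set_eq_of_isCoatom {M F : Subgroup G} (hsimple : IsSimpleGroup G)
    (hM : IsCoatom M) (hF1 : F ≠ ⊥) (hFM : F ≤ M) (hn : M ≤ Subgroup.normalizer (F : Set G)) :
    Subgroup.normalizer (F : Set G) = M := by
  rcases hM.le_iff.mp hn with h | h
  · exfalso
    have hnorm : F.Normal := Subgroup.normalizer_eq_top_iff.mp h
    rcases hnorm.eq_bot_or_eq_top with h1 | h1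
    · exact hF1 h1
    · rw [h1, top_le_iff] at hFM
      exact hM.1 hFM
  · exact h

/-- if `F(L)` is a TI-subset, `x ≠ 1` lies in `F(L)` and the maximal subgroup `H` normalizes
`⟨x⟩`, then `H = L`. -/
theorem eq_of_TI (hsimple : IsSimpleGroup G) {L H : Subgroup G} (hL : IsCoatom L)
    (hH : IsCoatom H) (hTI : IsTISubset (fittingOf L : Set G)) {x : G} (hx : x ∈ fittingOf L)
    (hx1 : x ≠ 1) (hHx : H ≤ Subgroup.normalizer (Subgroup.zpowers x : Set G)) : H = L := by
  have hF1 : fittingOf L ≠ ⊥ := by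
    intro h
    rw [h, Subgroup.mem_bot] at hx
    exact hx1 hx
  have hN : Subgroup.normalizer (fittingOf L : Set G) = L :=
    normalizer_set_eq_of_isCoatom hsimple hL hF1 (Cfsg.Agent.Lib.Helper10.BG.fittingOf_le L)
      (Cfsg.Agent.Lib.Helper10.BG.le_normalizer_fittingOf L)
  have hle : H ≤ L := by
    intro h hh
    by_contra hhL
    rw [← hN] at hhL
    have h1 : h * x * h⁻¹ ∈ Subgroup.zpowers x :=
      (Subgroup.mem_normalizer_iff.mp (hHx hh) x).mp (Subgroup.mem_zpowers x)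
    have h2 : Subgroup.zpowers x ≤ fittingOf L := Subgroup.zpowers_le.mpr hx
    exact hx1 (hTI h hhL x hx (h2 h1))
  exact ((hH.le_iff.mp hle).resolve_left hL.1).symm

end Cfsg.Agent.Lib.Helper22.BG148
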