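import Mathlib
import Cfsg.Agent.Lib.Helper22.BG148A
import Cfsg.Agent.Lib.Helper1.BGStubs2
import Cfsg.Agent.Lib.Helper1.BGSigmaDecomp
import Cfsg.Agent.Lib.Helper1.BGConjEq
import Cfsg.Agent.Lib.Helper3.BG14E
import Cfsg.Agent.Lib.Helper3.BG14M
import Cfsg.Agent.Lib.Helper7.BG13B
import Cfsg.Agent.Lib.Helper29.BG1430A
import Cfsg.Agent.Lib.Helper9.BGTenB
import Cfsg.Agent.S1378
import Cfsg.Agent.S1417
import Cfsg.Agent.S1430

/-!
# B & G Corollary 14.8 (S1435), part B: the set-up and the first steps (helper22)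

`Rows G` bundles the frozen rows of sections 14/15 that the proof uses and that were not yet landed
when this file was written (as hypothesis-props; `Helper1.BGStubs2` + three local ones).
`Setup M K U Mstar` is the situation of S1435 (a maximal subgroup of type P2 with its partner).
For a maximal subgroup `H ≥ N_G(R)`, `R` a Sylow `r`-subgroup of `U`, we prove:
`UK ≤ H`, `H` is not conjugate to `M` or `M*`, `κ(H) = ∅`, `K` acts regularly on `H_σ`,
`H_σ` is nilpotent, `H_σ ∩ M* = 1`, `M_σ ∩ H = 1` and `M ∩ H = UK`.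
-/

set_option autoImplicit false
set_option linter.unusedVariables false
set_option linter.unusedSectionVars false
set_option linter.style.longLine false
set_option linter.style.haveILetI false

open Cfsg
open scoped commutatorElement
open Cfsg.Agent.Lib.Helper10.BG Cfsg.Agent.Lib.Helper10 Cfsg.Agent.Lib.Helper9.BGExc
open Cfsg.Agent.Lib.Helper1.BGStubs2 Cfsg.Agent.Lib.Helper1.BGSigmaDecomp

namespace Cfsg.Agent.Lib.Helper22.BG148

/-- the frozen row `S1355` as a hypothesis. -/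
def P1355 (G : Type*) [Group G] [Finite G] : Prop :=
  ∀ (M : Subgroup G) (hM : IsCoatom M),
    Cfsg.fittingHallOf M ≠ ⊥ ∧ Cfsg.fittingHallOf M ≤ Cfsg.sigmaCore M ∧ Cfsg.sigmaCore M ≤ ⁅M, M⁆ ∧ ⁅M, M⁆ < M ∧
      Group.IsNilpotent ↥((commutator ↥M).map (QuotientGroup.mk' (Cfsg.fittingHall ↥M)))

/-- the frozen row `S1357` as a hypothesis. -/
def P1357 (G : Type*) [Group G] [Finite G] : Prop :=
  ∀ (M : Subgroup G) (hM : IsCoatom M) (K U : Subgroup G) (hKU : Cfsg.IsSigmaDecomposition M K U) (hne : Cfsg.fittingHallOf M ≠ Cfsg.sigmaCore M),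
    U = ⊥ ∧ Cfsg.IsTISubset (Cfsg.fittingOf M : Set G) ∧ (Nat.card K).Prime

/-- the frozen row `S1369` as a hypothesis. -/
def P1369 (G : Type*) [Group G] [Finite G] : Prop :=
  ∀ (M : Subgroup G) (hM : IsCoatom M) (K U : Subgroup G) (hKU : Cfsg.IsSigmaDecomposition M K U) (hK1 : K ≠ ⊥) (Mstar : Subgroup G) (hMstar : IsCoatom Mstar)
    (hKst : K = Cfsg.sigmaCore Mstar ⊓ Subgroup.centralizer ((Cfsg.sigmaCore M ⊓ Subgroup.centralizer (K : Set G)) : Set G))
    (hKstH : Cfsg.IsPiHallOf (Cfsg.kappa Mstar) (Cfsg.sigmaCore M ⊓ Subgroup.centralizer (K : Set G)) Mstar),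
    (U ≠ ⊥ ∨ ∀ Ustar : Subgroup G, Cfsg.IsSigmaDecomposition Mstar (Cfsg.sigmaCore M ⊓ Subgroup.centralizer (K : Set G)) Ustar → Ustar ≠ ⊥) ∧
      ∀ H : Subgroup G, IsCoatom H → (Cfsg.kappa H).Nonempty →
        ∃ g : G, H = M.map (MulAut.conj g).toMonoidHom ∨ H = Mstar.map (MulAut.conj g).toMonoidHom

/-- the rows of B & G sections 14 and 15 used in the proof of Corollary 14.8. -/
structure Rows (G : Type*) [Group G] [Finite G] : Prop where
  h51 : P1351 G
  h52 : P1352 G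
  h53 : P1353 G
  h54 : P1354 G
  h55 : P1355 G
  h57 : P1357 G
  h67 : P1367 G
  h68 : P1368 G
  h69 : P1369 G
  h72 : P1372 G
  h31 : P1431 G
  h32 : P1432 G

variable {G : Type*} [Group G] [Finite G]

/-- the situation of S1435: `M` of type `P₂` with standard factorisation `K U M_σ` and
partner `M*`. -/
structure Setup (M K U Mstar : Subgroup G) : Prop where
  hM : IsCoatom M
  hKU : IsSigmaDecomposition M K U
  hK1 : K ≠ ⊥
  hU1 : U ≠ ⊥
  hMstar : IsCoatom Mstar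
  hKst : K = sigmaCore Mstar ⊓ Subgroup.centralizer ((sigmaCore M ⊓ Subgroup.centralizer (K : Set G) : Subgroup G) : Set G)
  hKstH : IsPiHallOf (kappa Mstar) (sigmaCore M ⊓ Subgroup.centralizer (K : Set G)) Mstar

variable {M K U Mstar : Subgroup G}

namespace Setup

theorem simple (hG : IsMinSimpleOddOrder G) : IsSimpleGroup G := hG.2.1

theorem hKM (s : Setup M K U Mstar) : K ≤ M := s.hKU.hall.1
theorem hUM (s : Setup M K U Mstar) : U ≤ M := s.hKU.compl.1

theorem card_K_prime (s : Setup M K U Mstar) (rw : Rows G) : (Nat.card K).Prime :=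
  (rw.h72 M s.hM K U s.hKU s.hK1 s.hU1).1

theorem TI_M (s : Setup M K U Mstar) (rw : Rows G) : IsTISubset (fittingOf M : Set G) :=
  (rw.h72 M s.hM K U s.hKU s.hK1 s.hU1).2.1

theorem sigmaCore_le_fittingOf (s : Setup M K U Mstar) (rw : Rows G) :
    sigmaCore M ≤ fittingOf M :=
  (rw.h72 M s.hM K U s.hKU s.hK1 s.hU1).2.2

theorem U_comm (s : Setup M K U Mstar) (hG : IsMinSimpleOddOrder G) :
    ∀ a ∈ U, ∀ b ∈ U, a * b = b * a := by
  have h := Cfsg.Agent.Lib.Helper3.BG14.s1363a_of hG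
    (fun M hM K hK hK1 => Cfsg.Agent.S1430.result hG M hM K hK hK1) M s.hM K U s.hKU s.hK1
  intro a ha b hb
  exact congrArg Subtype.val (h.is_comm.comm (⟨a, ha⟩ : U) ⟨b, hb⟩)

theorem fpf_U (s : Setup M K U Mstar) (rw : Rows G) :
    ∀ k ∈ K, k ≠ 1 → U ⊓ Subgroup.centralizer ({k} : Set G) = ⊥ :=
  rw.h53 M s.hM K U s.hKU

theorem Ks_ne_bot (s : Setup M K U Mstar) (rw : Rows G) :
    sigmaCore M ⊓ Subgroup.centralizer (K : Set G) ≠ ⊥ :=
  (rw.h54 M s.hM K s.hKU.cyclic s.hKU.hall).1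

theorem K_le_Mstar_sigma (s : Setup M K U Mstar) : K ≤ sigmaCore Mstar :=
  s.hKst.le.trans inf_le_left

theorem K_le_Mstar (s : Setup M K U Mstar) : K ≤ Mstar :=
  s.K_le_Mstar_sigma.trans (sigmaCore_le Mstar)

theorem centralizer_K (s : Setup M K U Mstar) (rw : Rows G) :
    Subgroup.centralizer (K : Set G) ≤ Mstar ∧
      ∀ L : Subgroup G, IsCoatom L → Subgroup.centralizer (K : Set G) ≤ L → L = Mstar :=
  (rw.h67 M s.hM K U s.hKU s.hK1 Mstar s.hMstar s.hKst s.hKstH).2 K le_rfl (s.card_K_prime rw)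

theorem normalizer_K (s : Setup M K U Mstar) (hG : IsMinSimpleOddOrder G) (rw : Rows G) :
    Subgroup.normalizer (K : Set G) ≤ Mstar := by
  have hne : Subgroup.normalizer (K : Set G) ≠ ⊤ := by
    intro h
    have hn : K.Normal := Subgroup.normalizer_eq_top_iff.mp h
    haveI := hG.2.1
    rcases hn.eq_bot_or_eq_top with h1 | h1
    · exact s.hK1 h1
    · have := s.hKM
      rw [h1, top_le_iff] at this
      exact s.hM.1 this
  obtain ⟨L, hL, hNL⟩ := exists_isCoatom_ge hne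
  have := (s.centralizer_K rw).2 L hL ((Subgroup.centralizer_le_normalizer (K : Set G)).trans hNL)
  rwa [this] at hNL

theorem M_inf_Mstar (s : Setup M K U Mstar) (rw : Rows G) :
    M ⊓ Mstar = K ⊔ (sigmaCore M ⊓ Subgroup.centralizer (K : Set G)) :=
  (rw.h68 M s.hM K U s.hKU s.hK1 Mstar s.hMstar s.hKst s.hKstH).1

theorem U_inf_Mstar (s : Setup M K U Mstar) (rw : Rows G) : U ⊓ Mstar = ⊥ := by
  rw [eq_bot_iff]
  have h1 : U ⊓ Mstar ≤ U ⊓ (K ⊔ sigmaCore M) := by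
    apply le_inf inf_le_left
    have h2 : U ⊓ Mstar ≤ M ⊓ Mstar := inf_le_inf_right _ s.hUM
    rw [s.M_inf_Mstar rw] at h2
    exact h2.trans (sup_le_sup_left inf_le_left K)
  rw [s.hKU.compl.2.2.1] at h1
  exact h1

theorem s1431_4 (s : Setup M K U Mstar) (rw : Rows G) (Y : Subgroup G)
    (hY : ∀ p : ℕ, p.Prime → p ∣ Nat.card Y → p ∈ sigma Mstar) (hYK : Y ⊓ K ≠ ⊥) :
    Y ≤ sigmaCore Mstar := by
  have h := (rw.h31 Mstar s.hMstar _ s.hKstH (s.Ks_ne_bot rw)).2.2.2 Y hY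
  rw [← s.hKst] at h
  exact h hYK

theorem k_mem_sigma_Mstar (s : Setup M K U Mstar) (hG : IsMinSimpleOddOrder G) (rw : Rows G) :
    Nat.card K ∈ sigma Mstar :=
  mem_sigma_of_dvd_card_sigmaCore hG s.hMstar (s.card_K_prime rw)
    (Subgroup.card_dvd_of_le s.K_le_Mstar_sigma)

end Setup


/-- `C_G(κ) ≤ C_G(⟨κ⟩)`. -/
theorem centralizer_singleton_le_zpowers (x : G) :
    Subgroup.centralizer ({x} : Set G) ≤ Subgroup.centralizer (Subgroup.zpowers x : Set G) := by
  intro g hg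
  rw [Subgroup.mem_centralizer_iff] at hg ⊢
  intro h hh
  obtain ⟨n, rfl⟩ := Subgroup.mem_zpowers_iff.mp hh
  have h1 : Commute x g := hg x (Set.mem_singleton x)
  exact (h1.zpow_left n).eq

/-- a non-identity element of a group of prime order has that order. -/
theorem orderOf_eq_card_of_prime {K : Subgroup G} (hk : (Nat.card K).Prime) {x : G} (hx : x ∈ K)
    (hx1 : x ≠ 1) : orderOf x = Nat.card K := by
  have h1 : orderOf (⟨x, hx⟩ : K) ∣ Nat.card K := orderOf_dvd_natCard _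
  rw [Subgroup.orderOf_mk] at h1
  rcases (Nat.dvd_prime hk).mp h1 with h | h
  · exact absurd (orderOf_eq_one_iff.mp h) hx1
  · exact h

/-- a group of prime order is generated by each of its non-identity elements. -/
theorem zpowers_eq_of_prime {K : Subgroup G} (hk : (Nat.card K).Prime) {x : G} (hx : x ∈ K)
    (hx1 : x ≠ 1) : Subgroup.zpowers x = K := by
  apply Subgroup.eq_of_le_of_card_ge (Subgroup.zpowers_le.mpr hx)
  rw [Nat.card_zpowers, orderOf_eq_card_of_prime hk hx hx1]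

theorem exists_ne_one_of_ne_bot {K : Subgroup G} (h : K ≠ ⊥) : ∃ x ∈ K, x ≠ 1 := by
  by_contra hcon
  push Not at hcon
  apply h
  rw [eq_bot_iff]
  intro x hx
  exact Subgroup.mem_bot.mpr (hcon x hx)

/-- a prime `r ∉ κ(M) ∪ σ(M)` with cyclic Sylow subgroups acts regularly on `M_σ`. -/
theorem regular_of_not_mem_kappa (hG : IsMinSimpleOddOrder G) {M : Subgroup G} (hM : IsCoatom M)
    {r : ℕ} [Fact r.Prime] (hrM : r ∣ Nat.card M) (hrσ : r ∉ sigma M) (hrκ : r ∉ kappa M)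
    (hr1 : PRankLE r 1 ↥M) {R : Subgroup G} (hR : IsSylowIn r R M) :
    ∀ u ∈ R, u ≠ 1 → ∀ y ∈ sigmaCore M, u * y = y * u → y = 1 := by
  intro u hu hu1 y hy huy
  by_contra hy1
  apply hrκ
  have hrp : r.Prime := Fact.out
  have hr2 : r ≠ 2 := prime_ne_two hG (hrM.trans (Subgroup.card_subgroup_dvd_card M))
  refine ⟨hrp, hrM, hrσ, fun P => ?_⟩
  have hP₀ : IsSylowIn r ((P : Subgroup M).map M.subtype) M := isSylowIn_of_sylow P
  constructor
  · have hc : IsCyclic ↥((P : Subgroup M).map M.subtype) :=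
      isCyclic_of_pRankLE_one hr2 hr1 hP₀.le hP₀.isPGroup
    exact isCyclic_of_surjective
      ((P : Subgroup M).equivMapOfInjective M.subtype M.subtype_injective).symm.toMonoidHom
      ((P : Subgroup M).equivMapOfInjective M.subtype M.subtype_injective).symm.surjective
  · obtain ⟨m, hm, hPm⟩ := hR.exists_conj hP₀
    have hx' : m * u * m⁻¹ ∈ (P : Subgroup M).map M.subtype := by
      rw [hPm]
      exact ⟨u, hu, rfl⟩
    obtain ⟨z, hz, hzx⟩ := hx'
    refine ⟨z, hz, ?_, m * y * m⁻¹, ?_, ?_, ?_⟩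
    · intro h
      rw [h] at hzx
      apply hu1
      have : m * u * m⁻¹ = 1 := hzx.symm
      calc u = m⁻¹ * (m * u * m⁻¹) * m := by group
        _ = 1 := by rw [this]; group
    · exact conj_mem_of_mem_normalizer (le_normalizer_sigmaCore M hm) hy
    · intro h
      apply hy1
      calc y = m⁻¹ * (m * y * m⁻¹) * m := by group
        _ = 1 := by rw [h]; group
    · have : (z : G) = m * u * m⁻¹ := hzx
      rw [this]
      calc m * u * m⁻¹ * (m * y * m⁻¹) = m * (u * y) * m⁻¹ := by group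
        _ = m * (y * u) * m⁻¹ := by rw [huy]
        _ = m * y * m⁻¹ * (m * u * m⁻¹) := by group

/-- the situation of S1435 together with the maximal subgroup `H ≥ N_G(R)`. -/
structure HS (M K U Mstar H R : Subgroup G) (r : ℕ) : Prop where
  s : Setup M K U Mstar
  hH : IsCoatom H
  hR : IsSylowIn r R U
  hR1 : R ≠ ⊥
  hNR : Subgroup.normalizer (R : Set G) ≤ H

variable {H R : Subgroup G} {r : ℕ} [Fact r.Prime]

namespace HS

theorem U_le_H (t : HS M K U Mstar H R r) (hG : IsMinSimpleOddOrder G) : U ≤ H := by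
  have hUab := t.s.U_comm hG
  have h1 : U ≤ Subgroup.centralizer (R : Set G) := by
    intro u hu
    rw [Subgroup.mem_centralizer_iff]
    intro x hx
    exact hUab x (t.hR.le hx) u hu
  exact h1.trans ((Subgroup.centralizer_le_normalizer _).trans t.hNR)

theorem K_le_H (t : HS M K U Mstar H R r) (hG : IsMinSimpleOddOrder G) : K ≤ H := by
  have hUab := t.s.U_comm hG
  intro k hk
  apply t.hNR
  apply mem_normalizer_of_map_conj_eq
  have h1 : IsSylowIn r (R.map (MulAut.conj k).toMonoidHom) U :=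
    t.hR.map_conj (t.s.hKU.normal hk)
  obtain ⟨x, hxU, hx⟩ := t.hR.exists_conj h1
  rw [hx]
  apply Cfsg.Agent.Lib.Helper10.map_conj_eq_of_mem_normalizer
  apply Subgroup.centralizer_le_normalizer
  rw [Subgroup.mem_centralizer_iff]
  intro y hy
  exact hUab y (t.hR.le hy) x hxU

theorem r_dvd_U (t : HS M K U Mstar H R r) : r ∣ Nat.card U :=
  (Cfsg.Agent.Lib.Helper9.BGPrime.dvd_card_of_pgroup_ne_bot t.hR.isPGroup t.hR1).trans
    (Subgroup.card_dvd_of_le t.hR.le)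

theorem r_dvd_M (t : HS M K U Mstar H R r) : r ∣ Nat.card M :=
  t.r_dvd_U.trans (Subgroup.card_dvd_of_le t.s.hUM)

theorem r_not_sigma (t : HS M K U Mstar H R r) (hG : IsMinSimpleOddOrder G) : r ∉ sigma M :=
  not_mem_sigma_of_dvd_card_U hG t.s.hM t.s.hKU Fact.out t.r_dvd_U

theorem r_not_kappa (t : HS M K U Mstar H R r) (hG : IsMinSimpleOddOrder G) : r ∉ kappa M :=
  not_mem_kappa_of_dvd_card_U hG t.s.hM t.s.hKU Fact.out t.r_dvd_U

theorem R_sylow_M (t : HS M K U Mstar H R r) (hG : IsMinSimpleOddOrder G) : IsSylowIn r R M := by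
  have hrp : r.Prime := Fact.out
  apply t.hR.of_not_dvd_relIndex t.s.hUM
  have h1 := Cfsg.Agent.Lib.Helper12.card_mul_relIndex_eq t.s.hUM
  have h3 : U.relIndex M = Nat.card K * Nat.card (sigmaCore M) := by
    have : Nat.card U * U.relIndex M = Nat.card U * (Nat.card K * Nat.card (sigmaCore M)) := by
      rw [h1, card_eq hG t.s.hM t.s.hKU]; ring
    exact Nat.eq_of_mul_eq_mul_left Nat.card_pos this
  rw [h3]
  intro hd
  rcases (Nat.Prime.dvd_mul hrp).mp hd with h | h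
  · exact t.r_not_kappa hG (t.s.hKU.hall.2.1 r hrp h)
  · exact t.r_not_sigma hG (mem_sigma_of_dvd_card_sigmaCore hG t.s.hM hrp h)

theorem H_ne_M (t : HS M K U Mstar H R r) (hG : IsMinSimpleOddOrder G) : H ≠ M := by
  intro h
  obtain ⟨g, hgN, hgM⟩ := Cfsg.Agent.Lib.Helper9.BG10.exists_normalizer_not_mem (t.r_not_sigma hG)
    t.r_dvd_M (t.R_sylow_M hG)
  exact hgM (h ▸ t.hNR hgN)

theorem not_conj_M (t : HS M K U Mstar H R r) (hG : IsMinSimpleOddOrder G) :
    ∀ g : G, H ≠ cj g M := by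
  intro g hg
  have hRM := t.R_sylow_M hG
  have h1 : IsSylowIn r (cj g R) (cj g M) := hRM.map_conj_gen g
  have hRH : R ≤ cj g M := hg ▸ (t.hR.le.trans (t.U_le_H hG))
  have h2 : IsSylowIn r R (cj g M) := by
    apply isSylowIn_of_card_ge hRH t.hR.isPGroup
    intro Q hQ hQr _
    have := h1.card_le hQ hQr
    rwa [card_cj] at this
  obtain ⟨x, hx, hxR⟩ := h1.exists_conj h2
  have h3 : x * g ∈ Subgroup.normalizer (R : Set G) := by
    apply mem_normalizer_of_map_conj_eq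
    have : cj x (cj g R) = cj (x * g) R := cj_cj x g R
    show cj (x * g) R = R
    rw [← this]
    exact hxR.symm
  have h4 : x * g ∈ cj g M := hg ▸ t.hNR h3
  have h5 : g ∈ cj g M := by
    have := (cj g M).mul_mem ((cj g M).inv_mem hx) h4
    rwa [inv_mul_cancel_left] at this
  have h6 : g ∈ M := by
    have := mem_cj.mp h5
    rwa [inv_mul_cancel, one_mul] at this
  exact t.H_ne_M hG (hg.trans (cj_eq_self_of_mem h6))

theorem k_not_sigma_H (t : HS M K U Mstar H R r) (hG : IsMinSimpleOddOrder G) (rw : Rows G) :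
    Nat.card K ∉ sigma H := by
  intro hk
  have hkp := t.s.card_K_prime rw
  haveI : Fact (Nat.card K).Prime := ⟨hkp⟩
  obtain ⟨g, hg⟩ := (Cfsg.Agent.S1378.result hG).2 Mstar H t.s.hMstar t.hH
    ⟨_, t.s.k_mem_sigma_Mstar hG rw, hk⟩
  have hKp : IsPGroup (Nat.card K) K := IsPGroup.of_card (n := 1) (by rw [pow_one])
  have hKσ : K ≤ sigmaCore H := pgroup_le_sigmaCore hG t.hH hk hKp (t.K_le_H hG)
  have hσ : sigmaCore H = cj g (sigmaCore Mstar) := by
    rw [hg]
    exact Cfsg.Agent.Lib.Helper1.BGConjEq.sigmaCore_cj t.s.hMstar g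
  have hle : sigmaCore H ≤ sigmaCore Mstar := by
    apply t.s.s1431_4 rw
    · intro p hp hd
      rw [hσ, card_cj] at hd
      exact mem_sigma_of_dvd_card_sigmaCore hG t.s.hMstar hp hd
    · rw [inf_eq_right.mpr hKσ]
      exact t.s.hK1
  have heq : sigmaCore H = sigmaCore Mstar := by
    apply Subgroup.eq_of_le_of_card_ge hle
    rw [hσ, card_cj]
  have hHM : H = Mstar := by
    rw [← normalizer_eq_of_isCoatom' hG t.hH (sigmaCore_ne_bot hG t.hH) (sigmaCore_le H)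
      (le_normalizer_sigmaCore H), heq]
    exact normalizer_eq_of_isCoatom' hG t.s.hMstar (sigmaCore_ne_bot hG t.s.hMstar)
      (sigmaCore_le Mstar) (le_normalizer_sigmaCore Mstar)
  apply t.s.hU1
  rw [← t.s.U_inf_Mstar rw, ← hHM]
  exact (inf_eq_left.mpr (t.U_le_H hG)).symm

theorem not_conj_Mstar (t : HS M K U Mstar H R r) (hG : IsMinSimpleOddOrder G) (rw : Rows G) :
    ∀ g : G, H ≠ cj g Mstar := by
  intro g hg
  apply t.k_not_sigma_H hG rw
  rw [hg, Cfsg.Agent.Lib.Helper1.BGConjEq.sigma_cj t.s.hMstar g]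
  exact t.s.k_mem_sigma_Mstar hG rw

theorem H_ne_Mstar (t : HS M K U Mstar H R r) (hG : IsMinSimpleOddOrder G) (rw : Rows G) :
    H ≠ Mstar := by
  intro h
  apply t.not_conj_Mstar hG rw 1
  rw [cj_one]
  exact h

theorem kappa_H (t : HS M K U Mstar H R r) (hG : IsMinSimpleOddOrder G) (rw : Rows G) :
    kappa H = ∅ := by
  by_contra hne
  obtain ⟨g, hg | hg⟩ := (rw.h69 M t.s.hM K U t.s.hKU t.s.hK1 Mstar t.s.hMstar t.s.hKst
    t.s.hKstH).2 H t.hH (Set.nonempty_iff_ne_empty.mpr hne)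
  · exact t.not_conj_M hG g hg
  · exact t.not_conj_Mstar hG rw g hg

/-- `K` acts regularly on `H_σ`. -/
theorem regular (t : HS M K U Mstar H R r) (hG : IsMinSimpleOddOrder G) (rw : Rows G) :
    ∀ κ ∈ K, κ ≠ 1 → ∀ y ∈ sigmaCore H, κ * y = y * κ → y = 1 := by
  intro κ hκ hκ1 y hy hκy
  by_contra hy1
  have hkp := t.s.card_K_prime rw
  have hord : orderOf κ = Nat.card K := orderOf_eq_card_of_prime hkp hκ hκ1
  have hκC : κ ∈ H ⊓ Subgroup.centralizer ({y} : Set G) := by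
    refine Subgroup.mem_inf.mpr ⟨t.K_le_H hG hκ, ?_⟩
    rw [Subgroup.mem_centralizer_iff]
    intro z hz
    rw [Set.mem_singleton_iff] at hz
    rw [hz]
    exact hκy.symm
  have hσ : ∀ p : ℕ, p.Prime → p ∣ orderOf κ → p ∉ sigma H := by
    intro p hp hd
    rw [hord] at hd
    rw [(Nat.prime_dvd_prime_iff_eq hp hkp).mp hd]
    exact t.k_not_sigma_H hG rw
  rcases rw.h32 H t.hH y hy hy1 κ hκC hκ1 hσ with ⟨h1, -⟩ | ⟨-, -, h3, h4⟩
  · have : Nat.card K ∈ kappa H := h1 _ hkp (by rw [hord])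
    rw [t.kappa_H hG rw] at this
    exact this
  · have hz : Subgroup.zpowers κ = K := zpowers_eq_of_prime hkp hκ hκ1
    have h5 : Subgroup.centralizer ({κ} : Set G) ≤ Mstar := by
      apply (centralizer_singleton_le_zpowers κ).trans
      rw [hz]
      exact (t.s.centralizer_K rw).1
    exact t.H_ne_Mstar hG rw (h4 Mstar t.s.hMstar h5).symm

theorem coprime_Hσ_K (t : HS M K U Mstar H R r) (hG : IsMinSimpleOddOrder G) (rw : Rows G) :
    (Nat.card (sigmaCore H)).Coprime (Nat.card K) :=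
  coprime_card_sigmaCore hG t.hH (t.s.card_K_prime rw) (t.k_not_sigma_H hG rw)

theorem H_ne_top (t : HS M K U Mstar H R r) : H ≠ ⊤ := t.hH.1

theorem nilpotent_Hσ (t : HS M K U Mstar H R r) (hG : IsMinSimpleOddOrder G) (rw : Rows G) :
    Group.IsNilpotent (sigmaCore H) := by
  have hle : sigmaCore H ⊔ K ≤ H := sup_le (sigmaCore_le H) (t.K_le_H hG)
  apply Cfsg.Agent.Lib.Helper3.BG14.isNilpotent_of_regular (R := K)
    ((t.K_le_H hG).trans (le_normalizer_sigmaCore H))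
    (isSolvable_of_ne_top hG (ne_top_of_le_isCoatom t.hH hle))
    (odd_card_subgroup hG _) (t.coprime_Hσ_K hG rw) t.s.hK1
  intro x hx hx1
  rw [eq_bot_iff]
  intro y hy
  rw [Subgroup.mem_bot]
  obtain ⟨hy1, hy2⟩ := Subgroup.mem_inf.mp hy
  apply t.regular hG rw x hx hx1 y hy1
  rw [Subgroup.mem_centralizer_iff] at hy2
  exact hy2 x (Set.mem_singleton x)

theorem Hσ_inf_Mstarσ (t : HS M K U Mstar H R r) (hG : IsMinSimpleOddOrder G) (rw : Rows G) :
    sigmaCore H ⊓ sigmaCore Mstar = ⊥ := by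
  apply inf_eq_bot_of_coprime
  apply Nat.coprime_of_dvd
  intro p hp hd1 hd2
  exact Cfsg.Agent.Lib.Helper1.BGConjEq.sigma_disjoint hG t.s.hMstar t.hH (t.not_conj_Mstar hG rw)
    (mem_sigma_of_dvd_card_sigmaCore hG t.s.hMstar hp hd2)
    (mem_sigma_of_dvd_card_sigmaCore hG t.hH hp hd1)

theorem Hσ_inf_Mstar (t : HS M K U Mstar H R r) (hG : IsMinSimpleOddOrder G) (rw : Rows G) :
    sigmaCore H ⊓ Mstar = ⊥ := by
  rw [eq_bot_iff]
  intro w hw
  rw [Subgroup.mem_bot]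
  obtain ⟨hw1, hw2⟩ := Subgroup.mem_inf.mp hw
  obtain ⟨κ, hκ, hκ1⟩ := exists_ne_one_of_ne_bot t.s.hK1
  have hκH : κ ∈ H := t.K_le_H hG hκ
  have hκσ : κ ∈ sigmaCore Mstar := t.s.K_le_Mstar_sigma hκ
  have hc1 : κ * w * κ⁻¹ * w⁻¹ ∈ sigmaCore H :=
    (sigmaCore H).mul_mem (conj_mem_of_mem_normalizer (le_normalizer_sigmaCore H hκH) hw1)
      ((sigmaCore H).inv_mem hw1)
  have hc2 : κ * w * κ⁻¹ * w⁻¹ ∈ sigmaCore Mstar := by
    have e : κ * w * κ⁻¹ * w⁻¹ = κ * (w * κ⁻¹ * w⁻¹) := by group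
    rw [e]
    exact (sigmaCore Mstar).mul_mem hκσ
      (conj_mem_of_mem_normalizer (le_normalizer_sigmaCore Mstar hw2)
        ((sigmaCore Mstar).inv_mem hκσ))
  have hc : κ * w * κ⁻¹ * w⁻¹ = 1 := by
    have := Subgroup.mem_inf.mpr ⟨hc1, hc2⟩
    rw [t.Hσ_inf_Mstarσ hG rw, Subgroup.mem_bot] at this
    exact this
  apply t.regular hG rw κ hκ hκ1 w hw1
  calc κ * w = (κ * w * κ⁻¹ * w⁻¹) * w * κ := by group
    _ = w * κ := by rw [hc, one_mul]

/-- `M_σ ∩ H = 1`. -/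
theorem Mσ_inf_H (t : HS M K U Mstar H R r) (hG : IsMinSimpleOddOrder G) :
    sigmaCore M ⊓ H = ⊥ := by
  have hrp : r.Prime := Fact.out
  have hRM := t.R_sylow_M hG
  rcases Cfsg.Agent.Lib.Helper29.BG1430Asm.mem_tau_of_not_sigma hG t.s.hM hrp t.r_dvd_M
    (t.r_not_sigma hG) with h1 | h2 | h3
  · -- τ₁
    have h13 : r ∈ tau1 M ∨ r ∈ tau3 M := Or.inl h1
    obtain ⟨-, hc, -, -⟩ := Cfsg.Agent.Lib.Helper7.BG13.cor_13_2 hG t.s.hM t.hH h13
      t.hR.isPGroup t.hR1 t.hNR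
    have hcR := hc R (le_inf hRM.le (t.hR.le.trans (t.U_le_H hG))) t.hR.isPGroup
    obtain ⟨u, hu, hu1⟩ := exists_ne_one_of_ne_bot t.hR1
    rw [eq_bot_iff]
    intro y hy
    rw [Subgroup.mem_bot]
    apply regular_of_not_mem_kappa hG t.s.hM t.r_dvd_M (t.r_not_sigma hG) (t.r_not_kappa hG)
      h1.2.2.2.2 hRM u hu hu1 y (Subgroup.mem_inf.mp hy).1
    have h5 : ⁅y, u⁆ ∈ ⁅sigmaCore M ⊓ H, R⁆ := Subgroup.commutator_mem_commutator hy hu
    rw [hcR, Subgroup.mem_bot, commutatorElement_eq_one_iff_mul_comm] at h5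
    exact h5.symm
  · -- τ₂
    obtain ⟨A, hAM, hAe, hAc⟩ := Cfsg.Agent.Lib.Helper9.BG10.exists_elementary_sq h2.2.2.1 h2.2.2.2
    have hAp : IsPGroup r A := IsPGroup.of_card hAc
    obtain ⟨T, hT, hAT⟩ := exists_isSylowIn_ge hAM hAp
    obtain ⟨m, hm, hTm⟩ := hT.exists_conj hRM
    have hA' : cj m A ≤ R := by
      rw [hTm]
      exact cj_mono m hAT
    have hA'H : cj m A ≤ H := hA'.trans (t.hR.le.trans (t.U_le_H hG))
    exact (Cfsg.Agent.S1417.result hG M t.s.hM r h2 (cj m A)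
      ⟨hA'.trans hRM.le, isElementaryAbelian_cj hAe m, by rw [card_cj, hAc]⟩).2.2.2.2.1 H t.hH
      (t.H_ne_M hG) hA'H
  · -- τ₃
    have h13 : r ∈ tau1 M ∨ r ∈ tau3 M := Or.inr h3
    obtain ⟨-, hc, -, -⟩ := Cfsg.Agent.Lib.Helper7.BG13.cor_13_2 hG t.s.hM t.hH h13
      t.hR.isPGroup t.hR1 t.hNR
    have hcR := hc R (le_inf hRM.le (t.hR.le.trans (t.U_le_H hG))) t.hR.isPGroup
    obtain ⟨u, hu, hu1⟩ := exists_ne_one_of_ne_bot t.hR1
    rw [eq_bot_iff]
    intro y hy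
    rw [Subgroup.mem_bot]
    apply regular_of_not_mem_kappa hG t.s.hM t.r_dvd_M (t.r_not_sigma hG) (t.r_not_kappa hG)
      h3.2.2.2 hRM u hu hu1 y (Subgroup.mem_inf.mp hy).1
    have h5 : ⁅y, u⁆ ∈ ⁅sigmaCore M ⊓ H, R⁆ := Subgroup.commutator_mem_commutator hy hu
    rw [hcR, Subgroup.mem_bot, commutatorElement_eq_one_iff_mul_comm] at h5
    exact h5.symm

/-- `M ∩ H = U K`. -/
theorem M_inf_H (t : HS M K U Mstar H R r) (hG : IsMinSimpleOddOrder G) :
    M ⊓ H = U ⊔ K := by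
  apply le_antisymm
  · intro m hm
    obtain ⟨hmM, hmH⟩ := Subgroup.mem_inf.mp hm
    obtain ⟨a, ha, b, hb, hab⟩ := (isComplIn_UK hG t.s.hM t.s.hKU).2.2.2 m hmM
    -- `b ∈ M_σ ∩ H = 1`
    have hbH : b ∈ H := by
      have : b = a⁻¹ * m := by rw [hab]; group
      rw [this]
      exact H.mul_mem (H.inv_mem (sup_le (t.U_le_H hG) (t.K_le_H hG) ha)) hmH
    have hb1 : b = 1 := by
      have := Subgroup.mem_inf.mpr ⟨hb, hbH⟩
      rwa [t.Mσ_inf_H hG, Subgroup.mem_bot] at this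
    rw [hab, hb1, mul_one]
    exact ha
  · exact le_inf (sup_le t.s.hUM t.s.hKM) (sup_le (t.U_le_H hG) (t.K_le_H hG))

end HS

end Cfsg.Agent.Lib.Helper22.BG148
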