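import Mathlib
import Cfsg.Agent.Lib.Helper22.BG148B
import Cfsg.Agent.Lib.Helper9.BGExc7
import Cfsg.Agent.Lib.Helper9.BGPrime2
import Cfsg.Agent.Lib.Helper10.BGTwelveG
import Cfsg.Agent.Lib.Helper10.BGEleven
import Cfsg.Agent.Lib.Helper1.BGFcons
import Cfsg.Agent.S1415
import Cfsg.Agent.S1418
import Cfsg.Agent.S1420

/-!
# B & G Corollary 14.8 (S1435), part C: the cases `|K| ∈ τ₃(H)` and `|K| ∈ τ₂(H)` (helper22)

In both cases `H ∩ M*` is a complement of `H_σ` in `H` and `K ≤ F(H ∩ M*)`.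
-/

set_option autoImplicit false
set_option linter.unusedVariables false
set_option linter.unusedSectionVars false
set_option linter.style.longLine false
set_option linter.style.haveILetI false

open Cfsg
open scoped commutatorElement
open Cfsg.Agent.Lib.Helper10.BG Cfsg.Agent.Lib.Helper10 Cfsg.Agent.Lib.Helper9.BGExc
open Cfsg.Agent.Lib.Helper1.BGStubs2 Cfsg.Agent.Lib.Helper1.BGSigmaDecomp

namespace Cfsg.Agent.Lib.Helper22.BG148

variable {G : Type*} [Group G] [Finite G]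
variable {M K U Mstar H R : Subgroup G} {r : ℕ} [Fact r.Prime]

namespace Setup

theorem K_comm (s : Setup M K U Mstar) : ∀ a ∈ K, ∀ b ∈ K, a * b = b * a := by
  intro a ha b hb
  haveI := s.hKU.cyclic
  haveI : IsMulCommutative K := IsCyclic.isMulCommutative
  exact congrArg Subtype.val (mul_comm' (⟨a, ha⟩ : K) ⟨b, hb⟩)

theorem K_nilpotent (s : Setup M K U Mstar) : Group.IsNilpotent K :=
  Cfsg.Agent.Lib.Helper1.BGFcons.isNilpotent_of_forall_comm K s.K_comm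

theorem K_isPGroup (s : Setup M K U Mstar) (rw : Rows G) : IsPGroup (Nat.card K) K := by
  haveI : Fact (Nat.card K).Prime := ⟨s.card_K_prime rw⟩
  exact IsPGroup.of_card (n := 1) (by rw [pow_one])

theorem pow_card_K (s : Setup M K U Mstar) {x : G} (hx : x ∈ K) : x ^ Nat.card K = 1 := by
  have h : (⟨x, hx⟩ : K) ^ Nat.card K = 1 := pow_card_eq_one'
  exact congrArg Subtype.val h

end Setup

/-- the image of a `toSylow` in the ambient group. -/
theorem map_toSylow {p : ℕ} [Fact p.Prime] {T X : Subgroup G} (h : IsSylowIn p T X) :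
    ((h.toSylow : Sylow p ↥X) : Subgroup X).map X.subtype = T := by
  rw [h.coe_toSylow, Subgroup.subgroupOf_map_subtype]
  exact inf_eq_left.mpr h.le

/-- if `H ≤ H_σ (L ∩ H)` and `H_σ ∩ L = 1` then `H ∩ L` is a complement of `H_σ` in `H`. -/
theorem isComplIn_of_le_sup {H L : Subgroup G} (h1 : H ≤ sigmaCore H ⊔ (L ⊓ H))
    (h2 : sigmaCore H ⊓ L = ⊥) : IsComplIn (H ⊓ L) (sigmaCore H) H := by
  refine ⟨inf_le_left, sigmaCore_le H, ?_, fun m hm => ?_⟩
  · rw [eq_bot_iff, ← h2]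
    exact le_inf inf_le_right (inf_le_left.trans inf_le_right)
  · have hn : L ⊓ H ≤ Subgroup.normalizer (sigmaCore H : Set G) :=
      inf_le_right.trans (le_normalizer_sigmaCore H)
    obtain ⟨n, hn', e, he, hne⟩ := exists_mul_of_mem_sup_of_le_normalizer hn (h1 hm)
    refine ⟨e, ?_, e⁻¹ * n * e, ?_, ?_⟩
    · exact Subgroup.mem_inf.mpr ⟨(Subgroup.mem_inf.mp he).2, (Subgroup.mem_inf.mp he).1⟩
    · have := conj_mem_of_mem_normalizer (inv_mem (hn he)) hn'
      simpa using this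
    · rw [hne]; group

namespace HS

/-- if a complement `E` of `H_σ` in `H` lies in `M*` then `H ∩ M* = E`. -/
theorem inf_Mstar_eq (t : HS M K U Mstar H R r) (hG : IsMinSimpleOddOrder G) (rw : Rows G)
    {E : Subgroup G} (hE : IsComplIn E (sigmaCore H) H) (hEM : E ≤ Mstar) : H ⊓ Mstar = E := by
  apply le_antisymm
  · intro x hx
    obtain ⟨hxH, hxM⟩ := Subgroup.mem_inf.mp hx
    obtain ⟨a, ha, b, hb, hab⟩ := hE.2.2.2 x hxH
    have hbM : b ∈ Mstar := by
      have : b = a⁻¹ * x := by rw [hab]; group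
      rw [this]
      exact Mstar.mul_mem (Mstar.inv_mem (hEM ha)) hxM
    have hb1 : b = 1 := by
      have := Subgroup.mem_inf.mpr ⟨hb, hbM⟩
      rwa [t.Hσ_inf_Mstar hG rw, Subgroup.mem_bot] at this
    rw [hab, hb1, mul_one]
    exact ha
  · exact le_inf hE.1 hEM

/-- the form of the conclusions (e), (f) used below. -/
def Concl (Mstar H K : Subgroup G) : Prop :=
  IsComplIn (H ⊓ Mstar) (sigmaCore H) H ∧ K ≤ fittingOf (H ⊓ Mstar)

theorem concl_of_le (t : HS M K U Mstar H R r) (hG : IsMinSimpleOddOrder G) (rw : Rows G)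
    {E : Subgroup G} (hE : IsComplIn E (sigmaCore H) H) (hEM : E ≤ Mstar)
    (hK : K ≤ fittingOf E) : Concl Mstar H K := by
  unfold Concl
  rw [t.inf_Mstar_eq hG rw hE hEM]
  exact ⟨hE, hK⟩

theorem exists_compl_ge (t : HS M K U Mstar H R r) (hG : IsMinSimpleOddOrder G) (rw : Rows G)
    {X : Subgroup G} (hXH : X ≤ H) (hX : (Nat.card X).Coprime (Nat.card (sigmaCore H))) :
    ∃ E : Subgroup G, IsComplIn E (sigmaCore H) H ∧ X ≤ E :=
  exists_isComplIn_sigmaCore_ge hG t.hH hXH hX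

/-- the case `|K| ∈ τ₃(H)`. -/
theorem case_tau3 (t : HS M K U Mstar H R r) (hG : IsMinSimpleOddOrder G) (rw : Rows G)
    (h3 : Nat.card K ∈ tau3 H) : Concl Mstar H K := by
  obtain ⟨E, hE, hKE⟩ := t.exists_compl_ge hG rw (t.K_le_H hG) (t.coprime_Hσ_K hG rw).symm
  have hEtop : E ≠ ⊤ := ne_top_of_le_isCoatom t.hH hE.1
  obtain ⟨E₃, hE₃, hKE₃⟩ := Cfsg.Agent.Lib.Helper29.BG1430Asm.exists_hall_ge hG hEtop (tau3 H)
    hKE (by
      intro p hp hd
      rw [(Nat.prime_dvd_prime_iff_eq hp (t.s.card_K_prime rw)).mp hd]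
      exact h3)
  obtain ⟨hc, -, hn⟩ := (Cfsg.Agent.S1415.result hG H t.hH E hE).2.2 E₃ hE₃
  have hEN : E ≤ Subgroup.normalizer (K : Set G) :=
    hn.trans (Cfsg.Agent.Lib.Helper9.BGPrime.normalizer_le_normalizer_of_le_cyclic hc hKE₃)
  exact t.concl_of_le hG rw hE (hEN.trans (t.s.normalizer_K hG rw))
    (le_fittingOf hKE hEN t.s.K_nilpotent)

/-- the case `|K| ∈ τ₂(H)`. -/
theorem case_tau2 (t : HS M K U Mstar H R r) (hG : IsMinSimpleOddOrder G) (rw : Rows G)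
    (h2 : Nat.card K ∈ tau2 H) : Concl Mstar H K := by
  have hkp := t.s.card_K_prime rw
  haveI : Fact (Nat.card K).Prime := ⟨hkp⟩
  obtain ⟨A₀, hA₀H, hA₀e, hA₀c⟩ :=
    Cfsg.Agent.Lib.Helper9.BG10.exists_elementary_sq h2.2.2.1 h2.2.2.2
  have hA₀p : IsPGroup (Nat.card K) A₀ := IsPGroup.of_card hA₀c
  obtain ⟨T, hT, hA₀T⟩ := exists_isSylowIn_ge hA₀H hA₀p
  obtain ⟨T', hT', hKT'⟩ := exists_isSylowIn_ge (t.K_le_H hG) (t.s.K_isPGroup rw)
  obtain ⟨h, hh, hTh⟩ := hT.exists_conj hT'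
  have hAT' : cj h A₀ ≤ T' := by
    rw [hTh]
    exact cj_mono h hA₀T
  have hAH : cj h A₀ ≤ H := hAT'.trans hT'.le
  have hAe : IsElementaryAbelian (Nat.card K) (cj h A₀) := isElementaryAbelian_cj hA₀e h
  have hAc : Nat.card (cj h A₀) = Nat.card K ^ 2 := by rw [card_cj, hA₀c]
  have h17 := Cfsg.Agent.S1417.result hG H t.hH (Nat.card K) h2 (cj h A₀) ⟨hAH, hAe, hAc⟩
  -- `K ≤ A`
  have hKA : K ≤ cj h A₀ := by
    have hP := (h17.2.1 hT'.toSylow).2 (by rw [map_toSylow]; exact hAT')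
    intro x hx
    exact (hP.1 x (by rw [map_toSylow]; exact hKT' hx)).mp (t.s.pow_card_K hx)
  -- `A ≤ C_G(K) ≤ M*`
  have hAM : cj h A₀ ≤ Mstar := by
    refine le_trans ?_ (t.s.centralizer_K rw).1
    intro a ha
    rw [Subgroup.mem_centralizer_iff]
    intro x hx
    haveI := hAe.1
    exact congrArg Subtype.val (mul_comm' (⟨x, hKA hx⟩ : cj h A₀) ⟨a, ha⟩)
  have h12 := le_sigmaCore_sup_of_tau2 hG t.s.hMstar t.hH (t.s.k_mem_sigma_Mstar hG rw) h2 hAM hAH
    hAe hAc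
  have hE : IsComplIn (H ⊓ Mstar) (sigmaCore H) H :=
    isComplIn_of_le_sup h12.2 (t.Hσ_inf_Mstar hG rw)
  refine ⟨hE, ?_⟩
  have hAE : cj h A₀ ≤ H ⊓ Mstar := le_inf hAH hAM
  have h18 := (Cfsg.Agent.S1418.result hG H t.hH (H ⊓ Mstar) hE (Nat.card K) h2 (cj h A₀)
    ⟨hAE, hAe, hAc⟩).1.1
  have hAnil : Group.IsNilpotent ↥(cj h A₀) :=
    Cfsg.Agent.Lib.Helper1.BGFcons.isNilpotent_of_forall_comm _ (by
      intro a ha b hb
      haveI := hAe.1
      exact congrArg Subtype.val (mul_comm' (⟨a, ha⟩ : cj h A₀) ⟨b, hb⟩))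
  exact hKA.trans (le_fittingOf hAE h18 hAnil)

end HS

end Cfsg.Agent.Lib.Helper22.BG148
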