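import Mathlib
import Cfsg.Agent.Lib.Helper22.BG148C
import Cfsg.Agent.Lib.Helper29.BG36c
import Cfsg.Agent.Lib.Lead.BGTrans5
import Cfsg.Agent.Lib.Helper7.BGTypesA
import Cfsg.Agent.Lib.Helper10.FittingHall
import Cfsg.Agent.S1425
import Cfsg.Agent.S1439

/-!
# B & G Corollary 14.8 (S1435), part D: the case `|K| ∈ τ₁(H)` (helper22)

`C0 H = O_{σ(H)'}(F(H))` is cyclic and normal in `H` (S1439).  The main point is that `K`
centralizes `C0 H`; then `K` centralizes `E'` and finally `E ≤ C_G(K) ≤ M*`.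
-/

set_option autoImplicit false
set_option linter.unusedVariables false
set_option linter.unusedSectionVars false
set_option linter.style.longLine false
set_option linter.style.haveILetI false

open Cfsg
open scoped commutatorElement
open Cfsg.Agent.Lib.Helper10.BG Cfsg.Agent.Lib.Helper10 Cfsg.Agent.Lib.Helper9.BGExc
open Cfsg.Agent.Lib.Helper1.BGStubs2 Cfsg.Agent.Lib.Helper1.BGSigmaDecomp
open Cfsg.Agent.Lib.Lead.BGTrans Cfsg.Agent.Lib.Lead.BGTrans5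

namespace Cfsg.Agent.Lib.Helper22.BG148

variable {G : Type*} [Group G] [Finite G]

/-- `O_{σ(H)'}(F(H))`. -/
def C0 (H : Subgroup G) : Subgroup G :=
  piCoreOf {q | q.Prime ∧ q ∉ sigma H} (fittingOf H)

theorem C0_le (H : Subgroup G) : C0 H ≤ H := (piCoreOf_le _ _).trans (fittingOf_le H)

theorem le_normalizer_C0 (H : Subgroup G) : H ≤ Subgroup.normalizer (C0 H : Set G) :=
  (le_normalizer_fittingOf H).trans (normalizer_le_normalizer_piCoreOf _ _)

theorem C0_cyclic (hG : IsMinSimpleOddOrder G) {H : Subgroup G} (hH : IsCoatom H) :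
    IsCyclic (C0 H) := (Cfsg.Agent.S1439.result hG H hH).1

theorem C0_tau2 (hG : IsMinSimpleOddOrder G) {H : Subgroup G} (hH : IsCoatom H) :
    ∀ p : ℕ, p.Prime → p ∣ Nat.card (C0 H) → p ∈ tau2 H :=
  (Cfsg.Agent.S1439.result hG H hH).2.1

theorem C0_comm (hG : IsMinSimpleOddOrder G) {H : Subgroup G} (hH : IsCoatom H) :
    ∀ a ∈ C0 H, ∀ b ∈ C0 H, a * b = b * a := by
  intro a ha b hb
  haveI := C0_cyclic hG hH
  haveI : IsMulCommutative (C0 H) := IsCyclic.isMulCommutative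
  exact congrArg Subtype.val (mul_comm' (⟨a, ha⟩ : C0 H) ⟨b, hb⟩)

theorem coprime_C0 (hG : IsMinSimpleOddOrder G) {H : Subgroup G} (hH : IsCoatom H) :
    (Nat.card (C0 H)).Coprime (Nat.card (sigmaCore H)) := by
  apply Nat.coprime_of_dvd
  intro p hp hd1 hd2
  exact (C0_tau2 hG hH p hp hd1).2.1 (mem_sigma_of_dvd_card_sigmaCore hG hH hp hd2)

theorem C0_centralizes (hG : IsMinSimpleOddOrder G) {H : Subgroup G} (hH : IsCoatom H)
    {c y : G} (hc : c ∈ C0 H) (hy : y ∈ sigmaCore H) : c * y = y * c :=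
  commute_of_normalize_of_inf_eq_bot ((C0_le H).trans (le_normalizer_sigmaCore H))
    ((sigmaCore_le H).trans (le_normalizer_C0 H)) (inf_eq_bot_of_coprime (coprime_C0 hG hH)) hc hy

/-- an abelian normal `σ(H)'`-subgroup of `H` lies in `C0 H`. -/
theorem le_C0 {H Z : Subgroup G} (hZH : Z ≤ H)
    (hn : H ≤ Subgroup.normalizer (Z : Set G)) (hZab : ∀ a ∈ Z, ∀ b ∈ Z, a * b = b * a)
    (hZσ : ∀ p : ℕ, p.Prime → p ∣ Nat.card Z → p ∉ sigma H) : Z ≤ C0 H := by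
  have h1 : Z ≤ fittingOf H :=
    le_fittingOf hZH hn (Cfsg.Agent.Lib.Helper1.BGFcons.isNilpotent_of_forall_comm Z hZab)
  apply le_piCoreOf h1
  · intro x hx w hw
    exact conj_mem_of_mem_normalizer (hn (fittingOf_le H hx)) hw
  · intro p hp hd
    exact ⟨hp, hZσ p hp hd⟩

variable {M K U Mstar H R : Subgroup G} {r : ℕ} [Fact r.Prime]

namespace HS

/-- the primes of `τ₁(H)` and `τ₂(H)` are different. -/
theorem ne_of_tau1_tau2 {H : Subgroup G} {k l : ℕ} (hk : k ∈ tau1 H) (hl : l ∈ tau2 H) : k ≠ l := by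
  rintro rfl
  exact hl.2.2.2 hk.2.2.2.2

theorem coprime_k_C0 (t : HS M K U Mstar H R r) (hG : IsMinSimpleOddOrder G)
    (h1 : Nat.card K ∈ tau1 H) : (Nat.card (C0 H)).Coprime (Nat.card K) := by
  rw [Nat.coprime_comm, Nat.Prime.coprime_iff_not_dvd h1.1]
  intro hd
  exact ne_of_tau1_tau2 h1 (C0_tau2 hG t.hH _ h1.1 hd) rfl

/-- if `K` does not centralize `C0 H`, there is `c ∈ C0 H` of prime order not centralized by some
`κ ∈ K`. -/
theorem exists_c (t : HS M K U Mstar H R r) (hG : IsMinSimpleOddOrder G)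
    (h1 : Nat.card K ∈ tau1 H) {κ c₀ : G} (hκ : κ ∈ K) (hc₀ : c₀ ∈ C0 H)
    (hne : κ * c₀ ≠ c₀ * κ) :
    ∃ c ∈ C0 H, (orderOf c).Prime ∧ κ * c ≠ c * κ := by
  apply exists_prime_order_not_comm (C0_comm hG t.hH) (k := Nat.card K)
  · intro a ha
    exact conj_mem_of_mem_normalizer (le_normalizer_C0 H (t.K_le_H hG hκ)) ha
  · exact t.s.pow_card_K hκ
  · exact t.coprime_k_C0 hG h1
  · exact ⟨c₀, hc₀, hne⟩

/-- an elementary abelian subgroup of order `l ^ 2` in a complement `E`, for `l ∈ τ₂(H)`. -/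
theorem exists_A (t : HS M K U Mstar H R r) (hG : IsMinSimpleOddOrder G) {E : Subgroup G}
    (hE : IsComplIn E (sigmaCore H) H) {l : ℕ} [Fact l.Prime] (hl : l ∈ tau2 H) :
    ∃ A : Subgroup G, A ≤ E ∧ IsElementaryAbelian l A ∧ Nat.card A = l ^ 2 := by
  obtain ⟨A₀, hA₀H, hA₀e, hA₀c⟩ :=
    Cfsg.Agent.Lib.Helper9.BG10.exists_elementary_sq hl.2.2.1 hl.2.2.2
  have hA₀p : IsPGroup l A₀ := IsPGroup.of_card hA₀c
  obtain ⟨T, hT, hA₀T⟩ := exists_isSylowIn_ge hA₀H hA₀p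
  obtain ⟨T', hT'⟩ := exists_isSylowIn l E
  have hT'H : IsSylowIn l T' H := IsComplIn.isSylowIn hG t.hH hE hl.2.1 hT'
  obtain ⟨h, hh, hTh⟩ := hT.exists_conj hT'H
  refine ⟨cj h A₀, ?_, isElementaryAbelian_cj hA₀e h, by rw [card_cj, hA₀c]⟩
  refine le_trans ?_ hT'.le
  rw [hTh]
  exact cj_mono h hA₀T

/-- `K` does not act fixed-point-freely on `A`. -/
theorem exists_d (t : HS M K U Mstar H R r) (hG : IsMinSimpleOddOrder G) (rw : Rows G)
    {E A : Subgroup G} (hE : IsComplIn E (sigmaCore H) H) (hKE : K ≤ E) {l : ℕ} [Fact l.Prime]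
    (hl : l ∈ tau2 H) (hlk : l ≠ Nat.card K) (hAE : A ≤ E) (hAe : IsElementaryAbelian l A)
    (hAc : Nat.card A = l ^ 2) {κ : G} (hκ : κ ∈ K) (hκ1 : κ ≠ 1) :
    ∃ d ∈ A, d ≠ 1 ∧ κ * d = d * κ := by
  by_contra hcon
  push Not at hcon
  have hkp := t.s.card_K_prime rw
  have hlp : l.Prime := Fact.out
  have hAH : A ≤ H := hAE.trans hE.1
  have h18 := (Cfsg.Agent.S1418.result hG H t.hH E hE l hl A ⟨hAE, hAe, hAc⟩).1.1
  have h17 := (Cfsg.Agent.S1417.result hG H t.hH l hl A ⟨hAH, hAe, hAc⟩).2.2.2.1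
  have hκN : κ ∈ Subgroup.normalizer (A : Set G) := h18 (hKE hκ)
  have hC : A ⊓ Subgroup.centralizer ({κ} : Set G) = ⊥ := by
    rw [eq_bot_iff]
    intro d hd
    rw [Subgroup.mem_bot]
    by_contra hd1
    apply hcon d (Subgroup.mem_inf.mp hd).1 hd1
    have := (Subgroup.mem_inf.mp hd).2
    rw [Subgroup.mem_centralizer_iff] at this
    exact this κ (Set.mem_singleton κ)
  have hκH : κ ∈ H := t.K_le_H hG hκ
  have hcopA : (Nat.card A).Coprime (Nat.card (sigmaCore H)) := by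
    rw [hAc]
    apply Nat.Coprime.pow_left
    exact (coprime_card_sigmaCore hG t.hH hlp hl.2.1).symm
  have key := commutator_centralizes_of_fpf (Y := H) (Q := sigmaCore H) (R := A) (a := κ)
    (p := Nat.card K) (isSolvable_of_ne_top hG t.hH.1) (odd_card_subgroup hG H) (sigmaCore_le H) hAH
    hκH (t.nilpotent_Hσ hG rw) hkp (t.s.pow_card_K hκ) (hAH.trans (le_normalizer_sigmaCore H))
    (le_normalizer_sigmaCore H hκH) hκN hcopA
    (fun hd => t.k_not_sigma_H hG rw (mem_sigma_of_dvd_card_sigmaCore hG t.hH hkp hd))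
    (by
      rw [hAc]
      intro hd
      exact hlk ((Nat.prime_dvd_prime_iff_eq hkp hlp).mp (hkp.dvd_of_dvd_pow hd)).symm)
    (fun x hx hκx => t.regular hG rw κ hκ hκ1 x hx hκx)
  -- `A` centralizes `H_σ`
  have hAC : sigmaCore H ≤ sigmaCore H ⊓ Subgroup.centralizer (A : Set G) := by
    apply le_inf le_rfl
    intro y hy
    rw [Subgroup.mem_centralizer_iff]
    intro a ha
    obtain ⟨b, hb, hab⟩ := Cfsg.Agent.Lib.Helper29.BG36.exists_eq_comm_of_fpf A κ hκN hC a ha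
    have h5 := key b hb
    rw [commutatorElement_def, ← hab, Subgroup.mem_centralizer_iff] at h5
    exact (h5 y hy).symm
  rw [h17, le_bot_iff] at hAC
  exact sigmaCore_ne_bot hG t.hH hAC

end HS

/-- `κ c κ⁻¹ c⁻¹ ∈ ⟨c⟩` when `κ` normalizes `⟨c⟩`. -/
theorem comm_mem_zpowers {κ c : G}
    (hκ : κ ∈ Subgroup.normalizer (Subgroup.zpowers c : Set G)) :
    κ * c * κ⁻¹ * c⁻¹ ∈ Subgroup.zpowers c :=
  mul_mem (conj_mem_of_mem_normalizer hκ (Subgroup.mem_zpowers c))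
    (inv_mem (Subgroup.mem_zpowers c))

theorem comm_ne_one {κ c : G} (hne : κ * c ≠ c * κ) : κ * c * κ⁻¹ * c⁻¹ ≠ 1 := by
  intro h
  apply hne
  calc κ * c = (κ * c * κ⁻¹ * c⁻¹) * c * κ := by group
    _ = c * κ := by rw [h, one_mul]

theorem zpowers_comm_eq {κ c : G} (hp : (orderOf c).Prime)
    (hκ : κ ∈ Subgroup.normalizer (Subgroup.zpowers c : Set G)) (hne : κ * c ≠ c * κ) :
    Subgroup.zpowers (κ * c * κ⁻¹ * c⁻¹) = Subgroup.zpowers c :=
  zpowers_eq_of_prime (by rw [Nat.card_zpowers]; exact hp) (comm_mem_zpowers hκ) (comm_ne_one hne)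

/-- two elements of coprime orders of `L_σ` have their commutator in `L_F`
(as `L' / L_F` is nilpotent). -/
theorem comm_mem_fittingHallOf {L : Subgroup G}
    (h55 : Group.IsNilpotent ↥((commutator ↥L).map (QuotientGroup.mk' (fittingHall ↥L))))
    (hσ : sigmaCore L ≤ ⁅L, L⁆) {a b : G} (ha : a ∈ sigmaCore L) (hb : b ∈ sigmaCore L)
    (hcop : (orderOf a).Coprime (orderOf b)) : a * b * a⁻¹ * b⁻¹ ∈ fittingHallOf L := by
  have haL : a ∈ L := sigmaCore_le L ha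
  have hbL : b ∈ L := sigmaCore_le L hb
  have hmem : ∀ x : G, ∀ hx : x ∈ L, x ∈ sigmaCore L → (⟨x, hx⟩ : ↥L) ∈ commutator ↥L := by
    intro x hx hxσ
    have h1 : x ∈ (commutator ↥L).map L.subtype := by
      rw [Subgroup.map_subtype_commutator]
      exact hσ hxσ
    obtain ⟨z, hz, hzx⟩ := h1
    have : z = ⟨x, hx⟩ := Subtype.ext hzx
    rwa [this] at hz
  set Q := QuotientGroup.mk' (fittingHall ↥L) with hQ
  have hQa : Q ⟨a, haL⟩ ∈ (commutator ↥L).map Q := ⟨_, hmem a haL ha, rfl⟩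
  have hQb : Q ⟨b, hbL⟩ ∈ (commutator ↥L).map Q := ⟨_, hmem b hbL hb, rfl⟩
  have hcop' : (orderOf (Q ⟨a, haL⟩)).Coprime (orderOf (Q ⟨b, hbL⟩)) := by
    have h1 : orderOf (Q ⟨a, haL⟩) ∣ orderOf a := by
      have := orderOf_map_dvd Q (⟨a, haL⟩ : ↥L)
      rwa [Subgroup.orderOf_mk] at this
    have h2 : orderOf (Q ⟨b, hbL⟩) ∣ orderOf b := by
      have := orderOf_map_dvd Q (⟨b, hbL⟩ : ↥L)
      rwa [Subgroup.orderOf_mk] at this
    exact (hcop.coprime_dvd_left h1).coprime_dvd_right h2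
  have hcomm := Cfsg.Agent.Lib.Helper1.BGFcons.commute_of_coprime_of_nilpotent h55 hQa hQb hcop'
  have h1 : Q ((⟨a, haL⟩ : ↥L) * ⟨b, hbL⟩ * (⟨a, haL⟩ : ↥L)⁻¹ * (⟨b, hbL⟩ : ↥L)⁻¹) = 1 := by
    rw [map_mul, map_mul, map_mul, map_inv, map_inv, hcomm]
    group
  have h2 : (⟨a, haL⟩ : ↥L) * ⟨b, hbL⟩ * (⟨a, haL⟩ : ↥L)⁻¹ * (⟨b, hbL⟩ : ↥L)⁻¹ ∈ fittingHall ↥L :=
    (QuotientGroup.eq_one_iff _).mp h1
  exact ⟨_, h2, rfl⟩

theorem fittingHallOf_le_fittingOf (L : Subgroup G) : fittingHallOf L ≤ fittingOf L :=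
  Subgroup.map_mono fittingHall_le_fittingSubgroup

namespace Setup

/-- a conjugate of `M*` containing `K` is `M*`. -/
theorem eq_Mstar_of_K_le_conj (s : Setup M K U Mstar) (hG : IsMinSimpleOddOrder G) (rw : Rows G)
    {g : G} (hK : K ≤ cj g Mstar) : cj g Mstar = Mstar := by
  have hkp := s.card_K_prime rw
  haveI : Fact (Nat.card K).Prime := ⟨hkp⟩
  have hL : IsCoatom (cj g Mstar) := isCoatom_map_conj g s.hMstar
  have hkσ : Nat.card K ∈ sigma (cj g Mstar) := by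
    rw [Cfsg.Agent.Lib.Helper1.BGConjEq.sigma_cj s.hMstar g]
    exact s.k_mem_sigma_Mstar hG rw
  have hKσ : K ≤ sigmaCore (cj g Mstar) := pgroup_le_sigmaCore hG hL hkσ (s.K_isPGroup rw) hK
  have hσ : sigmaCore (cj g Mstar) = cj g (sigmaCore Mstar) :=
    Cfsg.Agent.Lib.Helper1.BGConjEq.sigmaCore_cj s.hMstar g
  have hle : sigmaCore (cj g Mstar) ≤ sigmaCore Mstar := by
    apply s.s1431_4 rw
    · intro p hp hd
      rw [hσ, card_cj] at hd
      exact mem_sigma_of_dvd_card_sigmaCore hG s.hMstar hp hd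
    · rw [inf_eq_right.mpr hKσ]
      exact s.hK1
  have heq : sigmaCore (cj g Mstar) = sigmaCore Mstar := by
    apply Subgroup.eq_of_le_of_card_ge hle
    rw [hσ, card_cj]
  rw [← normalizer_eq_of_isCoatom' hG hL (sigmaCore_ne_bot hG hL) (sigmaCore_le _)
    (le_normalizer_sigmaCore _), heq]
  exact normalizer_eq_of_isCoatom' hG s.hMstar (sigmaCore_ne_bot hG s.hMstar)
    (sigmaCore_le Mstar) (le_normalizer_sigmaCore Mstar)

end Setup

namespace HS

/-- if `c ∈ M*` is not centralized by `κ ∈ K` and `κ` normalizes `⟨c⟩` (of prime order), then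
`⟨c⟩ ≤ M*_σ`. -/
theorem zpowers_le_sigmaCore_Mstar (t : HS M K U Mstar H R r) {κ c : G} (hκ : κ ∈ K)
    (hp : (orderOf c).Prime) (hκN : κ ∈ Subgroup.normalizer (Subgroup.zpowers c : Set G))
    (hne : κ * c ≠ c * κ) (hcM : c ∈ Mstar) : Subgroup.zpowers c ≤ sigmaCore Mstar := by
  rw [← zpowers_comm_eq hp hκN hne, Subgroup.zpowers_le]
  have hκσ : κ ∈ sigmaCore Mstar := t.s.K_le_Mstar_sigma hκ
  have e : κ * c * κ⁻¹ * c⁻¹ = κ * (c * κ⁻¹ * c⁻¹) := by group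
  rw [e]
  exact (sigmaCore Mstar).mul_mem hκσ
    (conj_mem_of_mem_normalizer (le_normalizer_sigmaCore Mstar hcM) ((sigmaCore Mstar).inv_mem hκσ))

/-- `c ∈ M*_σ` of prime order `≠ |K|`, with `⟨c⟩` normal in `H`, is centralized by `K`. -/
theorem false_of_mem_sigmaCore_Mstar (t : HS M K U Mstar H R r) (hG : IsMinSimpleOddOrder G)
    (rw : Rows G) {κ c : G} (hκ : κ ∈ K) (hκ1 : κ ≠ 1) (hp : (orderOf c).Prime)
    (hcσ : c ∈ sigmaCore Mstar) (hne : κ * c ≠ c * κ)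
    (hHc : H ≤ Subgroup.normalizer (Subgroup.zpowers c : Set G))
    (hkl : orderOf c ≠ Nat.card K) : False := by
  have hkp := t.s.card_K_prime rw
  have hκσ : κ ∈ sigmaCore Mstar := t.s.K_le_Mstar_sigma hκ
  have hord : orderOf κ = Nat.card K := orderOf_eq_card_of_prime hkp hκ hκ1
  have hcop : (orderOf κ).Coprime (orderOf c) := by
    rw [hord]
    exact (Nat.coprime_primes hkp hp).mpr hkl.symm
  have hneF : fittingHallOf Mstar ≠ sigmaCore Mstar := by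
    intro h
    have hnil : Group.IsNilpotent (sigmaCore Mstar) :=
      h ▸ Cfsg.Agent.Lib.Helper7.BGTypes.isNilpotent_fittingHallOf Mstar
    exact hne (Cfsg.Agent.Lib.Helper1.BGFcons.commute_of_coprime_of_nilpotent hnil hκσ hcσ hcop)
  have hKsc := (rw.h51 Mstar t.s.hMstar).2 _ t.s.hKstH
  obtain ⟨Ustar, hdec⟩ := (rw.h52 Mstar t.s.hMstar _ hKsc t.s.hKstH).1
  have hTI := (rw.h57 Mstar t.s.hMstar _ Ustar hdec hneF).2.1
  have h55 := rw.h55 Mstar t.s.hMstar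
  have hxF : κ * c * κ⁻¹ * c⁻¹ ∈ fittingOf Mstar :=
    fittingHallOf_le_fittingOf Mstar (comm_mem_fittingHallOf h55.2.2.2.2 h55.2.2.1 hκσ hcσ hcop)
  have hκN := hHc (t.K_le_H hG hκ)
  have hHx : H ≤ Subgroup.normalizer (Subgroup.zpowers (κ * c * κ⁻¹ * c⁻¹) : Set G) := by
    rw [zpowers_comm_eq hp hκN hne]
    exact hHc
  exact t.H_ne_Mstar hG rw (eq_of_TI hG.2.1 t.s.hMstar t.hH hTI hxF (comm_ne_one hne) hHx)

/-- a nontrivial `σ(M)`-subgroup of the form `⟨c⟩` cannot be normal in `H`. -/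
theorem false_of_sigma_M (t : HS M K U Mstar H R r) (hG : IsMinSimpleOddOrder G) (rw : Rows G)
    {c : G} (hc1 : c ≠ 1)
    (hσ : ∀ p : ℕ, p.Prime → p ∣ Nat.card (Subgroup.zpowers c) → p ∈ sigma M)
    (hHc : H ≤ Subgroup.normalizer (Subgroup.zpowers c : Set G)) : False := by
  have hX1 : Subgroup.zpowers c ≠ ⊥ := by
    intro h
    apply hc1
    have := Subgroup.mem_zpowers c
    rwa [h, Subgroup.mem_bot] at this
  obtain ⟨g, hg⟩ := Cfsg.Agent.S1425.result hG M t.s.hM _ hX1 hσ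
  have hx' : g * c * g⁻¹ ∈ fittingOf M :=
    t.s.sigmaCore_le_fittingOf rw (hg ⟨c, Subgroup.mem_zpowers c, rfl⟩)
  have hx'1 : g * c * g⁻¹ ≠ 1 := by
    intro h
    apply hc1
    calc c = g⁻¹ * (g * c * g⁻¹) * g := by group
      _ = 1 := by rw [h]; group
  have hz : Subgroup.zpowers (g * c * g⁻¹) = cj g (Subgroup.zpowers c) := by
    unfold cj
    rw [MonoidHom.map_zpowers]
    rfl
  have hn : cj g H ≤ Subgroup.normalizer (Subgroup.zpowers (g * c * g⁻¹) : Set G) := by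
    rw [hz, normalizer_cj]
    exact cj_mono g hHc
  have h1 := eq_of_TI hG.2.1 t.s.hM (isCoatom_map_conj g t.hH) (t.s.TI_M rw) hx' hx'1 hn
  apply t.not_conj_M hG g⁻¹
  have : cj g⁻¹ (cj g H) = cj g⁻¹ M := by
    show cj g⁻¹ (H.map (MulAut.conj g).toMonoidHom) = cj g⁻¹ M
    rw [h1]
  rwa [cj_inv_cj] at this

/-- if `l ∈ σ(M*) ∩ τ₂(H)`, `A ≤ H` is elementary abelian of order `l ^ 2` and `c ∈ A` generates a
normal subgroup of `H`, then `c ∈ M*`. -/
theorem mem_Mstar_of_sigma (t : HS M K U Mstar H R r) (hG : IsMinSimpleOddOrder G) (rw : Rows G)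
    {l : ℕ} [Fact l.Prime] (hl : l ∈ tau2 H) (hlσ : l ∈ sigma Mstar) {A : Subgroup G}
    (hAH : A ≤ H) (hAe : IsElementaryAbelian l A) (hAc : Nat.card A = l ^ 2) {c : G} (hcA : c ∈ A)
    (hHc : H ≤ Subgroup.normalizer (Subgroup.zpowers c : Set G)) : c ∈ Mstar := by
  have hlp : l.Prime := Fact.out
  have hkp := t.s.card_K_prime rw
  haveI : Fact (Nat.card K).Prime := ⟨hkp⟩
  have hA1 : A ≠ ⊥ := by
    intro h
    rw [h, Subgroup.card_bot] at hAc
    have : 1 < l ^ 2 := Nat.one_lt_pow (by norm_num) hlp.one_lt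
    omega
  obtain ⟨g, hg⟩ := Cfsg.Agent.S1425.result hG Mstar t.s.hMstar A hA1 (by
    intro p hp hd
    rw [hAc] at hd
    rw [(Nat.prime_dvd_prime_iff_eq hp hlp).mp (hp.dvd_of_dvd_pow hd)]
    exact hlσ)
  have hAL : A ≤ cj g⁻¹ Mstar := cj_le_iff.mp (hg.trans (sigmaCore_le Mstar))
  have hL : IsCoatom (cj g⁻¹ Mstar) := isCoatom_map_conj g⁻¹ t.s.hMstar
  have hlL : l ∈ sigma (cj g⁻¹ Mstar) := by
    rw [Cfsg.Agent.Lib.Helper1.BGConjEq.sigma_cj t.s.hMstar g⁻¹]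
    exact hlσ
  have hLH : cj g⁻¹ Mstar ≠ H := fun h => t.not_conj_Mstar hG rw g⁻¹ h.symm
  have h12 := le_sigmaCore_sup_of_tau2 hG hL t.hH hlL hl hAL hAH hAe hAc
  have h17 := (Cfsg.Agent.S1417.result hG H t.hH l hl A ⟨hAH, hAe, hAc⟩).2.2.2.2.1 _ hL hLH hAL
  have hE₁ : IsComplIn (H ⊓ cj g⁻¹ Mstar) (sigmaCore H) H := isComplIn_of_le_sup h12.2 h17
  obtain ⟨T₁, hT₁⟩ := exists_isSylowIn (Nat.card K) (H ⊓ cj g⁻¹ Mstar)
  have hT₁H : IsSylowIn (Nat.card K) T₁ H :=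
    IsComplIn.isSylowIn hG t.hH hE₁ (t.k_not_sigma_H hG rw) hT₁
  obtain ⟨T', hT', hKT'⟩ := exists_isSylowIn_ge (t.K_le_H hG) (t.s.K_isPGroup rw)
  obtain ⟨h, hh, hTh⟩ := hT₁H.exists_conj hT'
  have hKL : K ≤ cj (h * g⁻¹) Mstar := by
    rw [← cj_cj]
    refine hKT'.trans ?_
    rw [hTh]
    exact cj_mono h (hT₁.le.trans inf_le_right)
  have hL2 := t.s.eq_Mstar_of_K_le_conj hG rw hKL
  have h1 : cj h (Subgroup.zpowers c) ≤ cj (h * g⁻¹) Mstar := by
    rw [← cj_cj]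
    exact cj_mono h ((Subgroup.zpowers_le.mpr hcA).trans hAL)
  rw [cj_eq_self_of_mem_normalizer (hHc hh), hL2] at h1
  exact h1 (Subgroup.mem_zpowers c)

end HS

namespace HS

/-- **the key step**: for `|K| ∈ τ₁(H)`, `K` centralizes `C0 H = O_{σ(H)'}(F(H))`. -/
theorem centralizes_C0 (t : HS M K U Mstar H R r) (hG : IsMinSimpleOddOrder G) (rw : Rows G)
    (h1 : Nat.card K ∈ tau1 H) : ∀ κ ∈ K, ∀ c ∈ C0 H, κ * c = c * κ := by
  by_contra hcon
  push Not at hcon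
  obtain ⟨κ, hκ, c₀, hc₀, hne₀⟩ := hcon
  have hκ1 : κ ≠ 1 := by
    rintro rfl
    exact hne₀ (by rw [one_mul, mul_one])
  have hkp := t.s.card_K_prime rw
  obtain ⟨c, hc, hcp, hne⟩ := t.exists_c hG h1 hκ hc₀ hne₀
  haveI : Fact (orderOf c).Prime := ⟨hcp⟩
  have hc1 : c ≠ 1 := by
    rintro rfl
    exact hne (by rw [one_mul, mul_one])
  have hlC : orderOf c ∣ Nat.card (C0 H) := by
    have h := orderOf_dvd_natCard (⟨c, hc⟩ : C0 H)
    rwa [Subgroup.orderOf_mk] at h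
  have hl2 : orderOf c ∈ tau2 H := C0_tau2 hG t.hH _ hcp hlC
  have hlk : orderOf c ≠ Nat.card K := (ne_of_tau1_tau2 h1 hl2).symm
  have hXC : Subgroup.zpowers c ≤ C0 H := Subgroup.zpowers_le.mpr hc
  have hHc : H ≤ Subgroup.normalizer (Subgroup.zpowers c : Set G) :=
    (le_normalizer_C0 H).trans
      (Cfsg.Agent.Lib.Helper9.BGPrime.normalizer_le_normalizer_of_le_cyclic (C0_cyclic hG t.hH) hXC)
  have hκN := hHc (t.K_le_H hG hκ)
  -- a complement `E` containing `K` and `C0 H`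
  have hKC : (Nat.card ↥(C0 H ⊔ K)).Coprime (Nat.card (sigmaCore H)) := by
    have hd := Cfsg.Agent.Lib.Helper9.card_sup_dvd_of_le_normalizer
      ((t.K_le_H hG).trans (le_normalizer_C0 H))
    exact Nat.Coprime.coprime_dvd_left hd
      (Nat.Coprime.mul_left (coprime_C0 hG t.hH) (t.coprime_Hσ_K hG rw).symm)
  obtain ⟨E, hE, hCKE⟩ := t.exists_compl_ge hG rw (sup_le (C0_le H) (t.K_le_H hG)) hKC
  have hKE : K ≤ E := le_sup_right.trans hCKE
  have hCE : C0 H ≤ E := le_sup_left.trans hCKE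
  obtain ⟨A, hAE, hAe, hAc⟩ := t.exists_A hG hE hl2
  have hAH : A ≤ H := hAE.trans hE.1
  have h18 := (Cfsg.Agent.S1418.result hG H t.hH E hE _ hl2 A ⟨hAE, hAe, hAc⟩).1
  have hcA : c ∈ A :=
    h18.2 (Subgroup.zpowers c) (hXC.trans hCE) (Nat.card_zpowers c) (Subgroup.mem_zpowers c)
  obtain ⟨d, hdA, hd1, hκd⟩ := t.exists_d hG rw hE hKE hl2 hlk hAE hAe hAc hκ hκ1
  have hdC : d ∈ Subgroup.centralizer ({κ} : Set G) := by
    rw [Subgroup.mem_centralizer_iff]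
    intro z hz
    rw [Set.mem_singleton_iff] at hz
    rw [hz]
    exact hκd
  have hdM : d ∈ Mstar := by
    apply (t.s.centralizer_K rw).1
    have := centralizer_singleton_le_zpowers κ hdC
    rwa [zpowers_eq_of_prime hkp hκ hκ1] at this
  have hdo : orderOf d = orderOf c := orderOf_eq_prime (hAe.2 d hdA) hd1
  have hcd : c * d = d * c := by
    haveI := hAe.1
    exact congrArg Subtype.val (mul_comm' (⟨c, hcA⟩ : A) ⟨d, hdA⟩)
  have hκσ : κ ∈ sigmaCore Mstar := t.s.K_le_Mstar_sigma hκ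
  by_cases hlσ : orderOf c ∈ sigma Mstar
  · -- `l ∈ σ(M*)`
    have hcM : c ∈ Mstar := t.mem_Mstar_of_sigma hG rw hl2 hlσ hAH hAe hAc hcA hHc
    have hcσ : c ∈ sigmaCore Mstar :=
      t.zpowers_le_sigmaCore_Mstar hκ hcp hκN hne hcM (Subgroup.mem_zpowers c)
    exact t.false_of_mem_sigmaCore_Mstar hG rw hκ hκ1 hcp hcσ hne hHc hlk
  · -- `l ∉ σ(M*)`
    have hσd : ∀ p : ℕ, p.Prime → p ∣ orderOf d → p ∉ sigma Mstar := by
      intro p hp hd
      rw [hdo] at hd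
      rw [(Nat.prime_dvd_prime_iff_eq hp hcp).mp hd]
      exact hlσ
    rcases rw.h32 Mstar t.s.hMstar κ hκσ hκ1 d (Subgroup.mem_inf.mpr ⟨hdM, hdC⟩) hd1 hσd with
      ⟨h1', -⟩ | ⟨-, -, h3, -⟩
    · -- `l ∈ κ(M*)`, hence `l ∈ σ(M)`
      have hlκ : orderOf c ∈ kappa Mstar := h1' _ hcp (by rw [hdo])
      have hlKs : orderOf c ∣ Nat.card ↥(sigmaCore M ⊓ Subgroup.centralizer (K : Set G)) := by
        have h5 := Cfsg.Agent.Lib.Helper12.card_mul_relIndex_eq t.s.hKstH.1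
        have h6 : orderOf c ∣ Nat.card Mstar := hlκ.2.1
        rw [← h5] at h6
        rcases (Nat.Prime.dvd_mul hcp).mp h6 with h | h
        · exact h
        · exact absurd h (t.s.hKstH.2.2 _ hcp hlκ)
      have hlM : orderOf c ∈ sigma M :=
        mem_sigma_of_dvd_card_sigmaCore hG t.s.hM hcp
          (hlKs.trans (Subgroup.card_dvd_of_le inf_le_left))
      apply t.false_of_sigma_M hG rw hc1 _ hHc
      intro p hp hd
      rw [Nat.card_zpowers] at hd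
      rw [(Nat.prime_dvd_prime_iff_eq hp hcp).mp hd]
      exact hlM
    · -- `C_G(d) ≤ M*`, so `c ∈ M*`, `c ∈ M*_σ`
      have hcM : c ∈ Mstar := by
        apply h3
        rw [Subgroup.mem_centralizer_iff]
        intro z hz
        rw [Set.mem_singleton_iff] at hz
        rw [hz]
        exact hcd.symm
      have hXσ := t.zpowers_le_sigmaCore_Mstar hκ hcp hκN hne hcM
      apply hlσ
      apply mem_sigma_of_dvd_card_sigmaCore hG t.s.hMstar hcp
      have := Subgroup.card_dvd_of_le hXσ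
      rwa [Nat.card_zpowers] at this

/-- for `|K| ∈ τ₁(H)`, `K` centralizes `E'`. -/
theorem centralizes_comm (t : HS M K U Mstar H R r) (hG : IsMinSimpleOddOrder G) (rw : Rows G)
    (h1 : Nat.card K ∈ tau1 H) {E : Subgroup G} (hE : IsComplIn E (sigmaCore H) H) (hKE : K ≤ E) :
    ∀ κ ∈ K, ∀ z ∈ ⁅E, E⁆, z * κ = κ * z := by
  intro κ hκ z hz
  by_cases hκ1 : κ = 1
  · rw [hκ1, one_mul, mul_one]
  have hkp := t.s.card_K_prime rw
  have hκH : κ ∈ H := t.K_le_H hG hκ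
  have hE'E : ⁅E, E⁆ ≤ E := Subgroup.commutator_le.mpr (fun a ha b hb =>
    E.mul_mem (E.mul_mem (E.mul_mem ha hb) (E.inv_mem ha)) (E.inv_mem hb))
  have hE'H : ⁅E, E⁆ ≤ H := hE'E.trans hE.1
  have hE'ab : ∀ a ∈ ⁅E, E⁆, ∀ b ∈ ⁅E, E⁆, a * b = b * a := by
    intro a ha b hb
    haveI := (Cfsg.Agent.S1420.result hG H t.hH E hE).2.1
    exact congrArg Subtype.val (mul_comm' (⟨a, ha⟩ : ↥⁅E, E⁆) ⟨b, hb⟩)
  -- `k ∤ |E'|`
  have hkE' : ¬ Nat.card K ∣ Nat.card ↥⁅E, E⁆ := fun hd =>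
    h1.2.2.2.1 (hd.trans (Subgroup.card_dvd_of_le (Subgroup.commutator_mono hE.1 hE.1)))
  have hcardE : Nat.card E = (sigmaCore H).relIndex H := by
    have hcard := Cfsg.Agent.Lib.Helper10.IsComplIn.card_eq hE
    have h1' := Cfsg.Agent.Lib.Helper12.card_mul_relIndex_eq (sigmaCore_le H)
    have h3 : Nat.card (sigmaCore H) * (sigmaCore H).relIndex H =
        Nat.card (sigmaCore H) * Nat.card E := by rw [h1', hcard, mul_comm]
    exact (Nat.eq_of_mul_eq_mul_left Nat.card_pos h3).symm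
  have hEσ : ∀ p : ℕ, p.Prime → p ∣ Nat.card E → p ∉ sigma H := by
    intro p hp hd hpσ
    rw [hcardE] at hd
    exact not_dvd_relIndex_sigmaCore hG t.hH hp hpσ hd
  have hcopE' : (Nat.card ↥⁅E, E⁆).Coprime (Nat.card (sigmaCore H)) :=
    Nat.Coprime.coprime_dvd_left (Subgroup.card_dvd_of_le hE'E) (IsComplIn.coprime_sigmaCore hG t.hH hE)
  have hκNE' : κ ∈ Subgroup.normalizer ((⁅E, E⁆ : Subgroup G) : Set G) :=
    le_normalizer_commutator_self E (hKE hκ)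
  have key := commutator_centralizes_of_fpf (Y := H) (Q := sigmaCore H) (R := ⁅E, E⁆) (a := κ)
    (p := Nat.card K) (isSolvable_of_ne_top hG t.hH.1) (odd_card_subgroup hG H) (sigmaCore_le H)
    hE'H hκH (t.nilpotent_Hσ hG rw) hkp (t.s.pow_card_K hκ)
    (hE'H.trans (le_normalizer_sigmaCore H)) (le_normalizer_sigmaCore H hκH) hκNE' hcopE'
    (fun hd => t.k_not_sigma_H hG rw (mem_sigma_of_dvd_card_sigmaCore hG t.hH hkp hd)) hkE'
    (fun x hx hκx => t.regular hG rw κ hκ hκ1 x hx hκx)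
  -- `Z = E' ∩ C_G(H_σ) ≤ C0 H`
  have hZ : ⁅E, E⁆ ⊓ Subgroup.centralizer (sigmaCore H : Set G) ≤ C0 H := by
    apply le_C0 (inf_le_left.trans hE'H)
    · refine (IsComplIn.sup_eq hE).ge.trans (sup_le ?_ ?_)
      · exact le_normalizer_inf (le_normalizer_commutator_self E)
          (le_normalizer_centralizer (hE.1.trans (le_normalizer_sigmaCore H)))
      · intro s hs
        apply Subgroup.centralizer_le_normalizer
        rw [Subgroup.mem_centralizer_iff]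
        intro w hw
        have := (Subgroup.mem_inf.mp hw).2
        rw [Subgroup.mem_centralizer_iff] at this
        exact (this s hs).symm
    · intro a ha b hb
      exact hE'ab a (Subgroup.mem_inf.mp ha).1 b (Subgroup.mem_inf.mp hb).1
    · intro p hp hd
      exact hEσ p hp (hd.trans (Subgroup.card_dvd_of_le (inf_le_left.trans hE'E)))
  -- `w = [z, κ]` lies in `C0 H`, so commutes with `κ`
  have hwE' : ⁅z, κ⁆ ∈ ⁅E, E⁆ := by
    rw [commutatorElement_def]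
    have e : z * κ * z⁻¹ * κ⁻¹ = z * (κ * z⁻¹ * κ⁻¹) := by group
    rw [e]
    exact (⁅E, E⁆ : Subgroup G).mul_mem hz
      (conj_mem_of_mem_normalizer hκNE' ((⁅E, E⁆ : Subgroup G).inv_mem hz))
  have hwC : ⁅z, κ⁆ ∈ C0 H := hZ (Subgroup.mem_inf.mpr ⟨hwE', key z hz⟩)
  have hcomm : Commute ⁅z, κ⁆ κ := (t.centralizes_C0 hG rw h1 κ hκ _ hwC).symm
  have hwpow : ⁅z, κ⁆ ^ Nat.card ↥⁅E, E⁆ = 1 := by
    have h : (⟨⁅z, κ⁆, hwE'⟩ : ↥⁅E, E⁆) ^ Nat.card ↥⁅E, E⁆ = 1 := pow_card_eq_one'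
    exact congrArg Subtype.val h
  exact (commute_of_coprime_of_commute_commutator κ z _ _ (t.s.pow_card_K hκ) hwpow
    ((Nat.Prime.coprime_iff_not_dvd hkp).mpr hkE') hcomm).eq

/-- the case `|K| ∈ τ₁(H)`. -/
theorem case_tau1 (t : HS M K U Mstar H R r) (hG : IsMinSimpleOddOrder G) (rw : Rows G)
    (h1 : Nat.card K ∈ tau1 H) : Concl Mstar H K := by
  have hkp := t.s.card_K_prime rw
  obtain ⟨E, hE, hKE⟩ := t.exists_compl_ge hG rw (t.K_le_H hG) (t.coprime_Hσ_K hG rw).symm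
  have hkE' : ¬ Nat.card K ∣ Nat.card ↥⁅E, E⁆ := fun hd =>
    h1.2.2.2.1 (hd.trans (Subgroup.card_dvd_of_le (Subgroup.commutator_mono hE.1 hE.1)))
  have hEC : E ≤ Subgroup.centralizer (K : Set G) := by
    intro e he
    rw [Subgroup.mem_centralizer_iff]
    intro κ hκ
    have hwE' : ⁅e, κ⁆ ∈ ⁅E, E⁆ := Subgroup.commutator_mem_commutator he (hKE hκ)
    have hcomm : Commute ⁅e, κ⁆ κ := t.centralizes_comm hG rw h1 hE hKE κ hκ _ hwE'
    have hwpow : ⁅e, κ⁆ ^ Nat.card ↥⁅E, E⁆ = 1 := by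
      have h : (⟨⁅e, κ⁆, hwE'⟩ : ↥⁅E, E⁆) ^ Nat.card ↥⁅E, E⁆ = 1 := pow_card_eq_one'
      exact congrArg Subtype.val h
    exact (commute_of_coprime_of_commute_commutator κ e _ _ (t.s.pow_card_K hκ) hwpow
      ((Nat.Prime.coprime_iff_not_dvd hkp).mpr hkE') hcomm).eq.symm
  exact t.concl_of_le hG rw hE (hEC.trans (t.s.centralizer_K rw).1)
    (le_fittingOf hKE (hEC.trans (Subgroup.centralizer_le_normalizer _)) t.s.K_nilpotent)

/-- conclusions (e) and (f) of Corollary 14.8. -/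
theorem concl (t : HS M K U Mstar H R r) (hG : IsMinSimpleOddOrder G) (rw : Rows G) :
    Concl Mstar H K := by
  have hkp := t.s.card_K_prime rw
  have hkH : Nat.card K ∣ Nat.card H := Subgroup.card_dvd_of_le (t.K_le_H hG)
  rcases Cfsg.Agent.Lib.Helper29.BG1430Asm.mem_tau_of_not_sigma hG t.hH hkp hkH
    (t.k_not_sigma_H hG rw) with h1 | h2 | h3
  · exact t.case_tau1 hG rw h1
  · exact t.case_tau2 hG rw h2
  · exact t.case_tau3 hG rw h3

end HS

end Cfsg.Agent.Lib.Helper22.BG148
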