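import Mathlib
import Cfsg.Agent.Lib.Helper22.BG148D

/-!
# B & G Corollary 14.8 (S1435), part E: `U ≤ H_σ`, `N_H(U) ⊄ M`, and the assembly (helper22)

Exports:
* `s1435_of`: the statement of S1435 from `Rows G`;
* `normalizer_not_le`: the second half of S1363 from `Rows G`.
-/

set_option autoImplicit false
set_option linter.unusedVariables false
set_option linter.unusedSectionVars false
set_option linter.style.longLine false
set_option linter.style.haveILetI false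

open Cfsg
open scoped commutatorElement
open Cfsg.Agent.Lib.Helper10.BG Cfsg.Agent.Lib.Helper10 Cfsg.Agent.Lib.Helper9.BGExc
open Cfsg.Agent.Lib.Helper1.BGStubs2 Cfsg.Agent.Lib.Helper1.BGSigmaDecomp

namespace Cfsg.Agent.Lib.Helper22.BG148

variable {G : Type*} [Group G] [Finite G]

/-- `(s u) ^ n ∈ N u ^ n` when `u` normalizes `N ∋ s`. -/
theorem mul_pow_mem {N : Subgroup G} {s u : G} (hs : s ∈ N)
    (hu : u ∈ Subgroup.normalizer (N : Set G)) (n : ℕ) : (s * u) ^ n * (u ^ n)⁻¹ ∈ N := by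
  induction n with
  | zero => simp
  | succ n ih =>
    have hun : u ^ n ∈ Subgroup.normalizer (N : Set G) := pow_mem hu n
    have h1 : u ^ n * s * (u ^ n)⁻¹ ∈ N := conj_mem_of_mem_normalizer hun hs
    have e : (s * u) ^ (n + 1) * (u ^ (n + 1))⁻¹ =
        ((s * u) ^ n * (u ^ n)⁻¹) * (u ^ n * s * (u ^ n)⁻¹) := by
      rw [pow_succ, pow_succ]
      group
    rw [e]
    exact N.mul_mem ih h1

variable {M K U Mstar H R : Subgroup G} {r : ℕ} [Fact r.Prime]

namespace Setup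

/-- `K` normalizes every maximal `p`-subgroup of the abelian group `U`. -/
theorem K_le_normalizer_sylow (s : Setup M K U Mstar) (hG : IsMinSimpleOddOrder G) {p : ℕ}
    [Fact p.Prime] {P : Subgroup G} (hP : IsSylowIn p P U) :
    K ≤ Subgroup.normalizer (P : Set G) := by
  have hUab := s.U_comm hG
  intro k hk
  apply mem_normalizer_of_map_conj_eq
  have h1 : IsSylowIn p (P.map (MulAut.conj k).toMonoidHom) U := hP.map_conj (s.hKU.normal hk)
  obtain ⟨x, hxU, hx⟩ := hP.exists_conj h1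
  rw [hx]
  apply Cfsg.Agent.Lib.Helper10.map_conj_eq_of_mem_normalizer
  apply Subgroup.centralizer_le_normalizer
  rw [Subgroup.mem_centralizer_iff]
  intro y hy
  exact hUab y (hP.le hy) x hxU

/-- `|U|` is prime to `|M*_σ|`. -/
theorem coprime_U_Mstarσ (s : Setup M K U Mstar) (hG : IsMinSimpleOddOrder G) (rw : Rows G) :
    (Nat.card U).Coprime (Nat.card (sigmaCore Mstar)) := by
  apply Nat.coprime_of_dvd
  intro p hp hd1 hd2
  haveI : Fact p.Prime := ⟨hp⟩
  have hkp := s.card_K_prime rw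
  have hpσ : p ∈ sigma Mstar := mem_sigma_of_dvd_card_sigmaCore hG s.hMstar hp hd2
  obtain ⟨P, hP⟩ := exists_isSylowIn p U
  have hP1 : P ≠ ⊥ := hP.ne_bot_of_dvd hd1
  have hKP := s.K_le_normalizer_sylow hG hP
  have hY : P ⊔ K ≤ sigmaCore Mstar := by
    apply s.s1431_4 rw
    · intro q hq hd
      have h1 := hd.trans (Cfsg.Agent.Lib.Helper9.card_sup_dvd_of_le_normalizer hKP)
      rcases (Nat.Prime.dvd_mul hq).mp h1 with h | h
      · obtain ⟨n, hn⟩ := hP.isPGroup.exists_card_eq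
        rw [hn] at h
        rw [(Nat.prime_dvd_prime_iff_eq hq hp).mp (hq.dvd_of_dvd_pow h)]
        exact hpσ
      · rw [(Nat.prime_dvd_prime_iff_eq hq hkp).mp h]
        exact s.k_mem_sigma_Mstar hG rw
    · rw [inf_eq_right.mpr le_sup_right]
      exact s.hK1
  apply hP1
  rw [eq_bot_iff, ← s.U_inf_Mstar rw]
  exact le_inf hP.le (le_sup_left.trans (hY.trans (sigmaCore_le Mstar)))

end Setup

namespace HS

/-- conclusion (b) of Corollary 14.8: `U ≤ H_σ`. -/
theorem U_le_Hσ (t : HS M K U Mstar H R r) (hG : IsMinSimpleOddOrder G) (rw : Rows G) :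
    U ≤ sigmaCore H := by
  obtain ⟨hf, -⟩ := t.concl hG rw
  obtain ⟨κ, hκ, hκ1⟩ := exists_ne_one_of_ne_bot t.s.hK1
  have hκH : κ ∈ H := t.K_le_H hG hκ
  have hκσ : κ ∈ sigmaCore Mstar := t.s.K_le_Mstar_sigma hκ
  intro u hu
  obtain ⟨b, hb, hub⟩ := Cfsg.Agent.Lib.Helper29.BG36.exists_eq_comm_of_fpf U κ
    (t.s.hKU.normal hκ) (t.s.fpf_U rw κ hκ hκ1) u hu
  obtain ⟨e, he, s, hs, hbes⟩ := hf.2.2.2 b (t.U_le_H hG hb)
  obtain ⟨heH, heM⟩ := Subgroup.mem_inf.mp he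
  have hu' : u = (e * (s * κ * s⁻¹ * κ⁻¹) * e⁻¹) * (e * κ * e⁻¹ * κ⁻¹) := by
    rw [hub, hbes]; group
  have hs' : e * (s * κ * s⁻¹ * κ⁻¹) * e⁻¹ ∈ sigmaCore H := by
    apply conj_mem_of_mem_normalizer (le_normalizer_sigmaCore H heH)
    have e1 : s * κ * s⁻¹ * κ⁻¹ = s * (κ * s⁻¹ * κ⁻¹) := by group
    rw [e1]
    exact (sigmaCore H).mul_mem hs
      (conj_mem_of_mem_normalizer (le_normalizer_sigmaCore H hκH) ((sigmaCore H).inv_mem hs))
  have htσ : e * κ * e⁻¹ * κ⁻¹ ∈ sigmaCore Mstar :=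
    (sigmaCore Mstar).mul_mem (conj_mem_of_mem_normalizer (le_normalizer_sigmaCore Mstar heM) hκσ)
      ((sigmaCore Mstar).inv_mem hκσ)
  have htE : e * κ * e⁻¹ * κ⁻¹ ∈ H ⊓ Mstar := by
    have hκE : κ ∈ H ⊓ Mstar := Subgroup.mem_inf.mpr ⟨hκH, t.s.K_le_Mstar hκ⟩
    exact (H ⊓ Mstar).mul_mem ((H ⊓ Mstar).mul_mem ((H ⊓ Mstar).mul_mem he hκE)
      ((H ⊓ Mstar).inv_mem he)) ((H ⊓ Mstar).inv_mem hκE)
  set s' := e * (s * κ * s⁻¹ * κ⁻¹) * e⁻¹ with hs'def
  set tt := e * κ * e⁻¹ * κ⁻¹ with httdef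
  have htt : tt = s'⁻¹ * u := by rw [hu']; group
  have huN : u ∈ Subgroup.normalizer (sigmaCore H : Set G) :=
    le_normalizer_sigmaCore H (t.U_le_H hG hu)
  have hpow : tt ^ orderOf u ∈ sigmaCore H := by
    have := mul_pow_mem ((sigmaCore H).inv_mem hs') huN (orderOf u)
    rwa [pow_orderOf_eq_one, inv_one, mul_one, ← htt] at this
  have hpow1 : tt ^ orderOf u = 1 := by
    have h1 : tt ^ orderOf u ∈ (H ⊓ Mstar) ⊓ sigmaCore H :=
      Subgroup.mem_inf.mpr ⟨(H ⊓ Mstar).pow_mem htE _, hpow⟩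
    rwa [hf.2.2.1, Subgroup.mem_bot] at h1
  have h1 : orderOf tt ∣ orderOf u := orderOf_dvd_of_pow_eq_one hpow1
  have h2 : orderOf tt ∣ Nat.card (sigmaCore Mstar) := by
    have := orderOf_dvd_natCard (⟨tt, htσ⟩ : sigmaCore Mstar)
    rwa [Subgroup.orderOf_mk] at this
  have h3 : orderOf u ∣ Nat.card U := by
    have := orderOf_dvd_natCard (⟨u, hu⟩ : U)
    rwa [Subgroup.orderOf_mk] at this
  have h4 : orderOf tt = 1 :=
    Nat.eq_one_of_dvd_coprimes (t.s.coprime_U_Mstarσ hG rw) (h1.trans h3) h2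
  rw [orderOf_eq_one_iff] at h4
  rw [hu', h4, mul_one]
  exact hs'

/-- `K ∩ H_σ = 1`. -/
theorem K_inf_Hσ (t : HS M K U Mstar H R r) (hG : IsMinSimpleOddOrder G) (rw : Rows G) :
    K ⊓ sigmaCore H = ⊥ :=
  inf_eq_bot_of_coprime (t.coprime_Hσ_K hG rw).symm

/-- conclusion (d) of Corollary 14.8: `N_H(U) ⊄ M`. -/
theorem normalizer_not_le (t : HS M K U Mstar H R r) (hG : IsMinSimpleOddOrder G) (rw : Rows G) :
    ¬ H ⊓ Subgroup.normalizer (U : Set G) ≤ M := by
  intro hle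
  have hUσ := t.U_le_Hσ hG rw
  by_cases hUeq : U = sigmaCore H
  · have h1 : H ≤ H ⊓ Subgroup.normalizer (U : Set G) := by
      apply le_inf le_rfl
      rw [hUeq]
      exact le_normalizer_sigmaCore H
    exact t.H_ne_M hG (eq_of_isCoatom_of_le t.hH t.s.hM (h1.trans hle)).symm
  · have hlt : U.subgroupOf (sigmaCore H) < ⊤ := by
      rw [lt_top_iff_ne_top]
      intro h
      apply hUeq
      apply le_antisymm hUσ
      intro x hx
      have : (⟨x, hx⟩ : sigmaCore H) ∈ U.subgroupOf (sigmaCore H) := by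
        rw [h]; exact Subgroup.mem_top _
      exact this
    have := t.nilpotent_Hσ hG rw
    have hnc := Group.normalizerCondition_of_isNilpotent (G := sigmaCore H) _ hlt
    obtain ⟨n, hnN, hnU⟩ := SetLike.exists_of_lt hnc
    have hnN' : (n : G) ∈ Subgroup.normalizer (U : Set G) := by
      rw [Subgroup.mem_normalizer_iff]
      intro k
      constructor
      · intro hk
        exact (Subgroup.mem_normalizer_iff.mp hnN ⟨k, hUσ hk⟩).mp hk
      · intro hk
        have hkF : k ∈ sigmaCore H := by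
          have h2 : (n : G)⁻¹ * ((n : G) * k * (n : G)⁻¹) * (n : G) ∈ sigmaCore H :=
            (sigmaCore H).mul_mem ((sigmaCore H).mul_mem ((sigmaCore H).inv_mem n.2) (hUσ hk)) n.2
          have h3 : (n : G)⁻¹ * ((n : G) * k * (n : G)⁻¹) * (n : G) = k := by group
          rwa [h3] at h2
        exact (Subgroup.mem_normalizer_iff.mp hnN ⟨k, hkF⟩).mpr hk
    have hnM : (n : G) ∈ M :=
      hle (Subgroup.mem_inf.mpr ⟨sigmaCore_le H n.2, hnN'⟩)
    have hnUK : (n : G) ∈ U ⊔ K := by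
      rw [← t.M_inf_H hG]
      exact Subgroup.mem_inf.mpr ⟨hnM, sigmaCore_le H n.2⟩
    obtain ⟨a, ha, b, hb, hab⟩ :=
      (Cfsg.Agent.Lib.Helper9.mem_sup_of_le_normalizer t.s.hKU.normal).mp hnUK
    have hbσ : b ∈ sigmaCore H := by
      have : b = a⁻¹ * (n : G) := by rw [← hab]; group
      rw [this]
      exact (sigmaCore H).mul_mem ((sigmaCore H).inv_mem (hUσ ha)) n.2
    have hb1 : b = 1 := by
      have := Subgroup.mem_inf.mpr ⟨hb, hbσ⟩
      rwa [t.K_inf_Hσ hG rw, Subgroup.mem_bot] at this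
    apply hnU
    show (n : G) ∈ U
    rw [← hab, hb1, mul_one]
    exact ha

/-- **B & G, Corollary 14.8**, all six conclusions. -/
theorem cor_14_8 (t : HS M K U Mstar H R r) (hG : IsMinSimpleOddOrder G) (rw : Rows G) :
    kappa H = ∅ ∧ U ≤ sigmaCore H ∧ M ⊓ H = U ⊔ K ∧
      ¬ H ⊓ Subgroup.normalizer (U : Set G) ≤ M ∧
      K ≤ fittingOf (H ⊓ Mstar) ∧ IsComplIn (H ⊓ Mstar) (sigmaCore H) H :=
  ⟨t.kappa_H hG rw, t.U_le_Hσ hG rw, t.M_inf_H hG, t.normalizer_not_le hG rw,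
    (t.concl hG rw).2, (t.concl hG rw).1⟩

end HS

/-- the statement of `S1435`, from the rows `Rows G`. -/
theorem s1435_of (hG : IsMinSimpleOddOrder G) (rw : Rows G)
    (M : Subgroup G) (hM : IsCoatom M) (K U : Subgroup G) (hKU : IsSigmaDecomposition M K U)
    (hK1 : K ≠ ⊥) (hU1 : U ≠ ⊥) (Mstar : Subgroup G) (hMstar : IsCoatom Mstar)
    (hKst : K = sigmaCore Mstar ⊓ Subgroup.centralizer ((sigmaCore M ⊓ Subgroup.centralizer (K : Set G)) : Set G))
    (hKstH : IsPiHallOf (kappa Mstar) (sigmaCore M ⊓ Subgroup.centralizer (K : Set G)) Mstar)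
    (r : ℕ) [Fact r.Prime] (hr : r ∣ Nat.card U) (R : Sylow r U) (H : Subgroup G) (hH : IsCoatom H)
    (hNR : Subgroup.normalizer (((R : Subgroup U).map U.subtype : Subgroup G) : Set G) ≤ H) :
    kappa H = ∅ ∧ U ≤ sigmaCore H ∧ M ⊓ H = U ⊔ K ∧ ¬ H ⊓ Subgroup.normalizer (U : Set G) ≤ M ∧
      K ≤ fittingOf (H ⊓ Mstar) ∧ IsComplIn (H ⊓ Mstar) (sigmaCore H) H := by
  have hR : IsSylowIn r ((R : Subgroup U).map U.subtype) U := isSylowIn_of_sylow R
  have t : HS M K U Mstar H ((R : Subgroup U).map U.subtype) r :=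
    ⟨⟨hM, hKU, hK1, hU1, hMstar, hKst, hKstH⟩, hH, hR, hR.ne_bot_of_dvd hr, hNR⟩
  exact t.cor_14_8 hG rw

/-- the second half of `S1363`, from the rows `Rows G` and the existence and uniqueness of the
partner `M*` (row `S1366`). -/
theorem normalizer_not_le (hG : IsMinSimpleOddOrder G) (rw : Rows G) (h66 : P1366 G)
    (M : Subgroup G) (hM : IsCoatom M) (K U : Subgroup G) (hKU : IsSigmaDecomposition M K U)
    (hK1 : K ≠ ⊥) : ¬ Subgroup.normalizer (U : Set G) ≤ M := by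
  by_cases hU1 : U = ⊥
  · intro h
    have h1 : Subgroup.normalizer ((⊥ : Subgroup G) : Set G) = ⊤ :=
      Subgroup.normalizer_eq_top_iff.mpr inferInstance
    rw [hU1, h1, top_le_iff] at h
    exact hM.1 h
  obtain ⟨Mstar, ⟨hMstar, hKst, hKstH⟩, -⟩ := h66 M hM K U hKU hK1
  -- a prime divisor of `|U|`
  have hcard : Nat.card U ≠ 1 := fun h => hU1 (Subgroup.card_eq_one.mp h)
  obtain ⟨r, hr, hrU⟩ := Nat.exists_prime_and_dvd hcard
  haveI : Fact r.Prime := ⟨hr⟩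
  obtain ⟨R, hR⟩ := exists_isSylowIn r U
  have hR1 : R ≠ ⊥ := hR.ne_bot_of_dvd hrU
  have hRtop : Subgroup.normalizer (R : Set G) ≠ ⊤ := by
    intro h
    have hn : R.Normal := Subgroup.normalizer_eq_top_iff.mp h
    haveI := hG.2.1
    rcases hn.eq_bot_or_eq_top with h1 | h1
    · exact hR1 h1
    · have h2 : R ≤ M := hR.le.trans hKU.compl.1
      rw [h1, top_le_iff] at h2
      exact hM.1 h2
  obtain ⟨H, hH, hNR⟩ := exists_isCoatom_ge hRtop
  have t : HS M K U Mstar H R r :=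
    ⟨⟨hM, hKU, hK1, hU1, hMstar, hKst, hKstH⟩, hH, hR, hR1, hNR⟩
  intro hle
  exact t.normalizer_not_le hG rw (inf_le_right.trans hle)

end Cfsg.Agent.Lib.Helper22.BG148
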