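import Mathlib
import Cfsg.Agent.Lib.Helper22.PElt

/-!
# `π`-elements, `π`-decomposition of elements, counting `π`-classes by commuting pairs
-/

set_option autoImplicit false

namespace Cfsg.Agent.Lib.Helper22

/-- `π`-elements: all prime divisors of the order lie in `π` -/
def IsPiElt (π : Set ℕ) {H : Type*} [Monoid H] (g : H) : Prop :=
  ∀ q : ℕ, q.Prime → q ∣ orderOf g → q ∈ π

section basic

variable {H : Type*} [Group H] {π : Set ℕ}

theorem isPiElt_one : IsPiElt π (1 : H) := by
  intro q hq hdvd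
  rw [orderOf_one] at hdvd
  exact absurd (Nat.dvd_one.mp hdvd) hq.ne_one

theorem IsPiElt.of_orderOf_dvd {K : Type*} [Monoid K] {g : H} {k : K} (hg : IsPiElt π g)
    (h : orderOf k ∣ orderOf g) : IsPiElt π k :=
  fun q hq hd => hg q hq (hd.trans h)

theorem IsPiElt.mul {u v : H} (hu : IsPiElt π u) (hv : IsPiElt π v) (huv : Commute u v) :
    IsPiElt π (u * v) := by
  intro q hq hd
  have h1 : orderOf (u * v) ∣ orderOf u * orderOf v := huv.orderOf_mul_dvd_mul_orderOf
  rcases (Nat.Prime.dvd_mul hq).mp (hd.trans h1) with h | h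
  · exact hu q hq h
  · exact hv q hq h

theorem IsPiElt.inv {u : H} (hu : IsPiElt π u) : IsPiElt π u⁻¹ := by
  intro q hq hd
  rw [orderOf_inv] at hd
  exact hu q hq hd

theorem IsPiElt.of_mem_zpowers {u g : H} (hg : IsPiElt π g) (hu : u ∈ Subgroup.zpowers g) :
    IsPiElt π u :=
  hg.of_orderOf_dvd (orderOf_dvd_of_mem_zpowers hu)

theorem IsPiElt.of_isConj {u v : H} (hu : IsPiElt π u) (h : IsConj u v) : IsPiElt π v := by
  obtain ⟨c, hc⟩ := isConj_iff.mp h
  have hs : SemiconjBy c u v := by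
    rw [SemiconjBy, ← hc]; group
  exact hu.of_orderOf_dvd (hs.orderOf_eq c).symm.dvd

theorem eq_one_of_isPiElt_compl {d : H} (h1 : IsPiElt π d) (h2 : IsPiElt πᶜ d) : d = 1 := by
  by_contra hne
  have : orderOf d ≠ 1 := fun h => hne (orderOf_eq_one_iff.mp h)
  obtain ⟨q, hq, hd⟩ := Nat.exists_prime_and_dvd this
  exact h2 q hq hd (h1 q hq hd)

theorem coprime_orderOf {u v : H} (hu : IsPiElt π u) (hv : IsPiElt πᶜ v) :
    (orderOf u).Coprime (orderOf v) :=
  Nat.coprime_of_dvd (fun q hq h1 h2 => hv q hq h2 (hu q hq h1))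

theorem commute_of_mem_zpowers {g a b : H} (ha : a ∈ Subgroup.zpowers g)
    (hb : b ∈ Subgroup.zpowers g) : Commute a b := by
  obtain ⟨i, rfl⟩ := Subgroup.mem_zpowers_iff.mp ha
  obtain ⟨j, rfl⟩ := Subgroup.mem_zpowers_iff.mp hb
  exact Commute.zpow_zpow_self g i j

theorem commute_of_mem_zpowers_right {g a x : H} (ha : a ∈ Subgroup.zpowers g)
    (hx : Commute x g) : Commute x a := by
  obtain ⟨i, rfl⟩ := Subgroup.mem_zpowers_iff.mp ha
  exact hx.zpow_right i

/-- existence of the `π`-decomposition -/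
theorem exists_pi_decomp [Finite H] (π : Set ℕ) : ∀ (n : ℕ) (g : H), orderOf g = n →
    ∃ u v : H, u ∈ Subgroup.zpowers g ∧ v ∈ Subgroup.zpowers g ∧ g = u * v ∧
      IsPiElt π u ∧ IsPiElt πᶜ v := by
  intro n
  induction n using Nat.strong_induction_on with
  | _ n ih =>
    intro g hg
    by_cases h : IsPiElt πᶜ g
    · exact ⟨1, g, one_mem _, Subgroup.mem_zpowers g, (one_mul g).symm, isPiElt_one, h⟩
    · unfold IsPiElt at h
      push Not at h
      obtain ⟨p, hp, hpd, hpπ⟩ := h
      have hpπ' : p ∈ π := by simpa using hpπ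
      have : Fact p.Prime := ⟨hp⟩
      obtain ⟨t, w, ht, hw, hgtw, ⟨k, hk⟩, hwp⟩ := exists_p_decomp p g
      have hwd : orderOf w ∣ orderOf g := orderOf_dvd_of_mem_zpowers hw
      have hwlt : orderOf w < n := by
        rw [← hg]
        apply lt_of_le_of_ne (Nat.le_of_dvd (orderOf_pos g) hwd)
        intro heq
        rw [heq] at hwp
        exact (Nat.Prime.coprime_iff_not_dvd hp).mp hwp.symm hpd
      obtain ⟨u', v', hu', hv', hw', hpu, hpv⟩ := ih _ hwlt w rfl
      have hle : Subgroup.zpowers w ≤ Subgroup.zpowers g := Subgroup.zpowers_le.mpr hw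
      refine ⟨t * u', v', Subgroup.mul_mem _ ht (hle hu'), hle hv', ?_, ?_, hpv⟩
      · rw [hgtw, hw', mul_assoc]
      · refine IsPiElt.mul ?_ hpu (commute_of_mem_zpowers ht (hle hu'))
        intro q hq hd
        rw [hk] at hd
        have := (Nat.prime_dvd_prime_iff_eq hq hp).mp (hq.dvd_of_dvd_pow hd)
        rw [this]
        exact hpπ'

theorem mem_zpowers_mul_of_coprime {u v : H} (huv : Commute u v)
    (hcop : (orderOf u).Coprime (orderOf v)) : u ∈ Subgroup.zpowers (u * v) := by
  have hc' : (orderOf v).Coprime (orderOf u) := hcop.symm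
  obtain ⟨m, hm⟩ := exists_pow_eq_self_of_coprime hc'
  have h1 : (u * v) ^ orderOf v = u ^ orderOf v := by
    rw [huv.mul_pow, pow_orderOf_eq_one, mul_one]
  have h3 : ((u * v) ^ orderOf v) ^ m ∈ Subgroup.zpowers (u * v) :=
    Subgroup.pow_mem _ (Subgroup.pow_mem _ (Subgroup.mem_zpowers _) _) _
  rw [h1, hm] at h3
  exact h3

/-- uniqueness of the `π`-decomposition -/
theorem pi_decomp_unique {u v u' v' : H} (huv : Commute u v) (hu'v' : Commute u' v')
    (h : u * v = u' * v') (hu : IsPiElt π u) (hv : IsPiElt πᶜ v) (hu' : IsPiElt π u')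
    (hv' : IsPiElt πᶜ v') : u = u' ∧ v = v' := by
  have h1 : u ∈ Subgroup.zpowers (u * v) := mem_zpowers_mul_of_coprime huv (coprime_orderOf hu hv)
  have h2 : v ∈ Subgroup.zpowers (u * v) := by
    rw [huv.eq]
    exact mem_zpowers_mul_of_coprime huv.symm (coprime_orderOf hu hv).symm
  have h3 : u' ∈ Subgroup.zpowers (u * v) := by
    rw [h]
    exact mem_zpowers_mul_of_coprime hu'v' (coprime_orderOf hu' hv')
  have h4 : v' ∈ Subgroup.zpowers (u * v) := by
    rw [h, hu'v'.eq]
    exact mem_zpowers_mul_of_coprime hu'v'.symm (coprime_orderOf hu' hv').symm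
  have hd : u'⁻¹ * u = v' * v⁻¹ := by
    have : u'⁻¹ * (u * v) * v⁻¹ = u'⁻¹ * (u' * v') * v⁻¹ := by rw [h]
    simpa [mul_assoc] using this
  have hpi : IsPiElt π (u'⁻¹ * u) :=
    hu'.inv.mul hu (commute_of_mem_zpowers (Subgroup.inv_mem _ h3) h1)
  have hpi' : IsPiElt πᶜ (u'⁻¹ * u) := by
    rw [hd]
    exact hv'.mul hv.inv (commute_of_mem_zpowers h4 (Subgroup.inv_mem _ h2))
  have h5 := eq_one_of_isPiElt_compl hpi hpi'
  have huu : u = u' := by
    rw [inv_mul_eq_one] at h5
    exact h5.symm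
  refine ⟨huu, ?_⟩
  rw [huu] at h
  exact mul_left_cancel h

/-- the `π`-part of an element -/
noncomputable def piPart [Finite H] (π : Set ℕ) (g : H) : H :=
  Classical.choose (exists_pi_decomp π _ g rfl)

/-- the `π'`-part of an element -/
noncomputable def piPart' [Finite H] (π : Set ℕ) (g : H) : H :=
  Classical.choose (Classical.choose_spec (exists_pi_decomp π _ g rfl))

theorem piPart_spec [Finite H] (π : Set ℕ) (g : H) :
    piPart π g ∈ Subgroup.zpowers g ∧ piPart' π g ∈ Subgroup.zpowers g ∧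
      g = piPart π g * piPart' π g ∧ IsPiElt π (piPart π g) ∧ IsPiElt πᶜ (piPart' π g) :=
  Classical.choose_spec (Classical.choose_spec (exists_pi_decomp π _ g rfl))

end basic

section count

variable {H : Type*} [Group H] (π : Set ℕ)

/-- the predicate on conjugacy classes: the class consists of `π`-elements -/
def PiClassPred (π : Set ℕ) (C : ConjClasses H) : Prop :=
  ∀ q : ℕ, q.Prime → (∃ g : H, ConjClasses.mk g = C ∧ q ∣ orderOf g) → q ∈ π

theorem piClassPred_mk (g : H) : PiClassPred π (ConjClasses.mk g) ↔ IsPiElt π g := by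
  constructor
  · intro h q hq hd
    exact h q hq ⟨g, rfl, hd⟩
  · rintro h q hq ⟨g', hg', hd⟩
    have hc : IsConj g' g := ConjClasses.mk_eq_mk_iff_isConj.mp hg'
    exact (h.of_isConj hc.symm) q hq hd

/-- commuting pairs whose first component is a `π`-element -/
def CommPairs (π : Set ℕ) (H : Type*) [Group H] : Type _ :=
  {p : H × H // IsPiElt π p.1 ∧ p.1 * p.2 = p.2 * p.1}

instance instFiniteCommPairs [Finite H] : Finite (CommPairs π H) := by
  unfold CommPairs; infer_instance

theorem exists_conj_out (x : H) :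
    ∃ c : H, c * (Quotient.out (ConjClasses.mk x)) * c⁻¹ = x := by
  have h1 : ConjClasses.mk (Quotient.out (ConjClasses.mk x)) = ConjClasses.mk x :=
    Quotient.out_eq _
  exact isConj_iff.mp (ConjClasses.mk_eq_mk_iff_isConj.mp h1)

/-- a chosen conjugator from the representative of the class of `x` to `x` -/
noncomputable def cj (x : H) : H := Classical.choose (exists_conj_out x)

theorem cj_spec (x : H) : cj x * (Quotient.out (ConjClasses.mk x)) * (cj x)⁻¹ = x :=
  Classical.choose_spec (exists_conj_out x)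

theorem mk_conj_out (C : ConjClasses H) (u : H) :
    ConjClasses.mk (u * Quotient.out C * u⁻¹) = C := by
  have h1 : ConjClasses.mk (Quotient.out C) = C := Quotient.out_eq C
  conv_rhs => rw [← h1]
  exact ConjClasses.mk_eq_mk_iff_isConj.mpr (isConj_iff.mpr ⟨u⁻¹, by group⟩)

theorem commute_aux {x o u c : H} (h1 : u * o * u⁻¹ = x) (h2 : c * o * c⁻¹ = x) :
    x * (u * c⁻¹) = (u * c⁻¹) * x := by
  calc x * (u * c⁻¹) = (u * o * u⁻¹) * (u * c⁻¹) := by rw [h1]
  _ = u * c⁻¹ * (c * o * c⁻¹) := by group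
  _ = u * c⁻¹ * x := by rw [h2]

/-- commuting pairs `(x, g)` with `x` a `π`-element correspond to pairs (`π`-class, element) -/
noncomputable def commPairsEquiv :
    CommPairs π H ≃ {C : ConjClasses H // PiClassPred π C} × H where
  toFun a := (⟨ConjClasses.mk a.1.1, (piClassPred_mk π _).mpr a.2.1⟩, a.1.2 * cj a.1.1)
  invFun b := ⟨(b.2 * Quotient.out b.1.1 * b.2⁻¹,
      b.2 * (cj (b.2 * Quotient.out b.1.1 * b.2⁻¹))⁻¹),
    (piClassPred_mk π _).mp (by rw [mk_conj_out]; exact b.1.2), by
      have h2 := cj_spec (b.2 * Quotient.out b.1.1 * b.2⁻¹)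
      rw [mk_conj_out] at h2
      exact commute_aux rfl h2⟩
  left_inv := by
    rintro ⟨⟨x, g⟩, hx, hc⟩
    have hc' : x * g = g * x := hc
    have e1 : (g * cj x) * Quotient.out (ConjClasses.mk x) * (g * cj x)⁻¹ = x := by
      calc (g * cj x) * Quotient.out (ConjClasses.mk x) * (g * cj x)⁻¹
          = g * (cj x * Quotient.out (ConjClasses.mk x) * (cj x)⁻¹) * g⁻¹ := by group
        _ = g * x * g⁻¹ := by rw [cj_spec]
        _ = x := by rw [← hc']; group
    apply Subtype.ext
    apply Prod.ext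
    · exact e1
    · show g * cj x * (cj ((g * cj x) * Quotient.out (ConjClasses.mk x) * (g * cj x)⁻¹))⁻¹ = g
      rw [e1]
      group
  right_inv := by
    rintro ⟨⟨C, hC⟩, u⟩
    apply Prod.ext
    · apply Subtype.ext
      exact mk_conj_out C u
    · show u * (cj (u * Quotient.out C * u⁻¹))⁻¹ * cj (u * Quotient.out C * u⁻¹) = u
      group

theorem card_commPairs :
    Nat.card (CommPairs π H) = Nat.card {C : ConjClasses H // PiClassPred π C} * Nat.card H := by
  rw [Nat.card_congr (commPairsEquiv π), Nat.card_prod]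

theorem card_le_mul_of_fiber {α β : Type*} [Finite α] [Finite β] (f : α → β) (k : ℕ)
    (h : ∀ b, Nat.card {a // f a = b} ≤ k) : Nat.card α ≤ Nat.card β * k := by
  classical
  have := Fintype.ofFinite β
  rw [← Nat.card_congr (Equiv.sigmaFiberEquiv f), Nat.card_sigma]
  calc ∑ b, Nat.card {a // f a = b} ≤ ∑ _b : β, k := Finset.sum_le_sum (fun b _ => h b)
  _ = Nat.card β * k := by
    rw [Finset.sum_const, Finset.card_univ, smul_eq_mul, Nat.card_eq_fintype_card]

end count

end Cfsg.Agent.Lib.Helper22
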