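import Mathlib
import Cfsg.Agent.Lib.Helper11.M11T1
import Cfsg.Agent.Lib.Helper22.M11FiveA

/-!
# Sylow 3-normalizers in a simple group of order 7920 (helper22; FO-A / FO-A2 of helper11's S0434)

* `n3_cases` : `|N(P₃)| = 144 ∨ |N(P₃)| = 36`;
* `centralizer_three_of_36` : if all involution centralizers have order 48 and `|N(P₃)| = 36`,
  then `C(P₃) = P₃`.
-/

set_option autoImplicit false

namespace Cfsg.Agent.Lib.Helper22.M11Three

open Subgroup

variable {G : Type*} [Group G] [Finite G]

theorem card_sylow_three (hord : Nat.card G = 7920) (P : Sylow 3 G) :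
    Nat.card (P : Subgroup G) = 9 := by
  have : Fact (Nat.Prime 3) := ⟨by norm_num⟩
  have := Cfsg.H5.SmallOrd.sylow_card 3 2 880 (by norm_num) (by rw [hord]; norm_num) P
  simpa using this

/-- the Sylow 3-subgroup is abelian -/
theorem le_centralizer_sylow_three (hord : Nat.card G = 7920) (P : Sylow 3 G) :
    (P : Subgroup G) ≤ centralizer ((P : Subgroup G) : Set G) := by
  have : Fact (Nat.Prime 3) := ⟨by norm_num⟩
  have hP : Nat.card (P : Subgroup G) = 3 ^ 2 := by rw [card_sylow_three hord P]; norm_num
  have hcomm := (IsPGroup.isMulCommutative_of_card_eq_prime_sq hP).is_comm.comm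
  intro x hx
  rw [mem_centralizer_iff]
  intro y hy
  have := hcomm ⟨y, hy⟩ ⟨x, hx⟩
  exact congrArg Subtype.val this

/-- an element of order `q ∈ {5, 11}` normalizing `P` would centralize it -/
theorem le_centralizer_of_mem_normalizer (hord : Nat.card G = 7920) (P : Sylow 3 G) {q : ℕ}
    [Fact q.Prime] (hq : q = 5 ∨ q = 11) {x : G} (hx : orderOf x = q)
    (hxN : x ∈ normalizer ((P : Subgroup G) : Set G)) :
    (P : Subgroup G) ≤ centralizer ({x} : Set G) := by
  have hpow : x ^ (q ^ 1) = 1 := by rw [pow_one, ← hx]; exact pow_orderOf_eq_one x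
  have h1 := Cfsg.Agent.Lib.Helper22.M11Five.card_modEq_card_centralizer (p := q) (n := 1)
    (P : Subgroup G) hxN hpow
  rw [card_sylow_three hord P] at h1
  have hdvd : Nat.card ((P : Subgroup G) ⊓ centralizer ({x} : Set G) : Subgroup G) ∣ 9 := by
    rw [← card_sylow_three hord P]
    exact Subgroup.card_dvd_of_le inf_le_left
  have hle : Nat.card ((P : Subgroup G) ⊓ centralizer ({x} : Set G) : Subgroup G) ≤ 9 :=
    Nat.le_of_dvd (by norm_num) hdvd
  have h9 : Nat.card ((P : Subgroup G) ⊓ centralizer ({x} : Set G) : Subgroup G) = 9 := by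
    generalize Nat.card ((P : Subgroup G) ⊓ centralizer ({x} : Set G) : Subgroup G) = c at *
    unfold Nat.ModEq at h1
    rcases hq with rfl | rfl <;> interval_cases c <;> omega
  have heq : (P : Subgroup G) ⊓ centralizer ({x} : Set G) = (P : Subgroup G) :=
    Subgroup.eq_of_le_of_card_ge inf_le_left (by rw [h9, card_sylow_three hord P])
  rw [← heq]
  exact inf_le_right

section simple

variable [IsSimpleGroup G]

/-- no element of order 5 or 11 normalizes a Sylow 3-subgroup -/
theorem not_mem_normalizer (hord : Nat.card G = 7920) (P : Sylow 3 G) {q : ℕ}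
    [Fact q.Prime] (hq : q = 5 ∨ q = 11) {x : G} (hx : orderOf x = q) :
    x ∉ normalizer ((P : Subgroup G) : Set G) := by
  intro hxN
  have hle := le_centralizer_of_mem_normalizer hord P hq hx hxN
  have hcent : centralizer ({x} : Set G) = zpowers x := by
    rcases hq with rfl | rfl
    · exact Cfsg.Agent.Lib.Helper11.M11T.centralizer_five hord hx
    · exact Cfsg.Agent.Lib.Helper11.M11T.centralizer_eleven' hord hx
  rw [hcent] at hle
  have h1 : Nat.card (P : Subgroup G) ∣ Nat.card (zpowers x) := Subgroup.card_dvd_of_le hle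
  rw [card_sylow_three hord P, Nat.card_zpowers, hx] at h1
  rcases hq with rfl | rfl <;> omega

theorem not_dvd_card_normalizer (hord : Nat.card G = 7920) (P : Sylow 3 G) {q : ℕ}
    [Fact q.Prime] (hq : q = 5 ∨ q = 11) :
    ¬ q ∣ Nat.card (normalizer ((P : Subgroup G) : Set G)) := by
  intro hdvd
  obtain ⟨x, hx⟩ := exists_prime_orderOf_dvd_card' q hdvd
  have hx' : orderOf (x : G) = q := by rw [Subgroup.orderOf_coe]; exact hx
  exact not_mem_normalizer hord P hq hx' x.2

/-- Burnside: the normalizer of `P` is not `P` itself -/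
theorem card_normalizer_ne_nine (hord : Nat.card G = 7920) (P : Sylow 3 G) :
    Nat.card (normalizer ((P : Subgroup G) : Set G)) ≠ 9 := by
  have : Fact (Nat.Prime 3) := ⟨by norm_num⟩
  intro h9
  have hNP : normalizer ((P : Subgroup G) : Set G) = (P : Subgroup G) :=
    (Subgroup.eq_of_le_of_card_ge le_normalizer (by rw [h9, card_sylow_three hord P])).symm
  have hP : normalizer ((P : Subgroup G) : Set G) ≤ centralizer ((P : Subgroup G) : Set G) := by
    rw [hNP]; exact le_centralizer_sylow_three hord P
  have hcomp := MonoidHom.ker_transferSylow_isComplement' P hP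
  have hcard := hcomp.card_mul_card
  rw [card_sylow_three hord P, hord] at hcard
  rcases (MonoidHom.transferSylow P hP).normal_ker.eq_bot_or_eq_top with h | h
  · rw [h, Subgroup.card_bot] at hcard; omega
  · rw [h, Subgroup.card_top, hord] at hcard; omega

/-- **FO-A**: `|N(P₃)| ∈ {144, 36}` in a simple group of order 7920. -/
theorem n3_cases (hord : Nat.card G = 7920) (P : Sylow 3 G) :
    Nat.card (normalizer ((P : Subgroup G) : Set G)) = 144 ∨
      Nat.card (normalizer ((P : Subgroup G) : Set G)) = 36 := by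
  have : Fact (Nat.Prime 3) := ⟨by norm_num⟩
  have : Fact (Nat.Prime 5) := ⟨by norm_num⟩
  have : Fact (Nat.Prime 11) := ⟨by norm_num⟩
  have h5 := not_dvd_card_normalizer hord P (q := 5) (Or.inl rfl)
  have h11 := not_dvd_card_normalizer hord P (q := 11) (Or.inr rfl)
  have hne9 := card_normalizer_ne_nine hord P
  have h9 : 9 ∣ Nat.card (normalizer ((P : Subgroup G) : Set G)) := by
    rw [← card_sylow_three hord P]
    exact Subgroup.card_dvd_of_le le_normalizer
  have hmul := (normalizer ((P : Subgroup G) : Set G)).card_mul_index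
  have hidx : Nat.card (Sylow 3 G) = (normalizer ((P : Subgroup G) : Set G)).index :=
    P.card_eq_index_normalizer
  rw [hord, ← hidx] at hmul
  have hmod : Nat.card (Sylow 3 G) ≡ 1 [MOD 3] := card_sylow_modEq_one 3 G
  unfold Nat.ModEq at hmod
  generalize Nat.card (normalizer ((P : Subgroup G) : Set G)) = k at *
  generalize Nat.card (Sylow 3 G) = n at *
  obtain ⟨m, rfl⟩ := h9
  have hm : m ∣ 880 := by
    have : 9 * (m * n) = 9 * 880 := by rw [← mul_assoc, hmul]
    exact Dvd.intro n (Nat.eq_of_mul_eq_mul_left (by norm_num) this)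
  have hmle : m ≤ 880 := Nat.le_of_dvd (by norm_num) hm
  have hmn : m * n = 880 := by
    have : 9 * (m * n) = 9 * 880 := by rw [← mul_assoc, hmul]
    exact Nat.eq_of_mul_eq_mul_left (by norm_num) this
  -- m ∣ 880, 5 ∤ m, 11 ∤ m ⇒ m ∈ {1,2,4,8,16}
  have h5' : ¬ 5 ∣ m := fun h => h5 (Dvd.dvd.mul_left h 9)
  have h11' : ¬ 11 ∣ m := fun h => h11 (Dvd.dvd.mul_left h 9)
  have hm16 : m ∣ 16 := by
    have h880 : (880 : ℕ) = 16 * 55 := by norm_num
    rw [h880] at hm
    have hc : Nat.Coprime m 55 := by
      have h55 : (55 : ℕ) = 5 * 11 := by norm_num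
      rw [h55]
      apply Nat.Coprime.mul_right
      · exact (Nat.Coprime.symm ((Nat.Prime.coprime_iff_not_dvd (by norm_num)).mpr h5'))
      · exact (Nat.Coprime.symm ((Nat.Prime.coprime_iff_not_dvd (by norm_num)).mpr h11'))
    exact hc.dvd_of_dvd_mul_right hm
  have hm16le : m ≤ 16 := Nat.le_of_dvd (by norm_num) hm16
  interval_cases m <;> omega

/-- **FO-A2**: if `|N(P₃)| = 36` (and involution centralizers have order 48), then `C(P₃) = P₃`. -/
theorem centralizer_three_of_36 (hord : Nat.card G = 7920)
    (h48 : ∀ t : G, orderOf t = 2 → Nat.card (centralizer ({t} : Set G)) = 48) (P : Sylow 3 G)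
    (hN : Nat.card (normalizer ((P : Subgroup G) : Set G)) = 36) :
    centralizer ((P : Subgroup G) : Set G) = (P : Subgroup G) := by
  have : Fact (Nat.Prime 2) := ⟨by norm_num⟩
  have hle := le_centralizer_sylow_three hord P
  have hCN : centralizer ((P : Subgroup G) : Set G) ≤ normalizer ((P : Subgroup G) : Set G) :=
    Subgroup.centralizer_le_normalizer _
  have hd36 : Nat.card (centralizer ((P : Subgroup G) : Set G)) ∣ 36 := by
    rw [← hN]; exact Subgroup.card_dvd_of_le hCN
  have hd9 : 9 ∣ Nat.card (centralizer ((P : Subgroup G) : Set G)) := by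
    rw [← card_sylow_three hord P]; exact Subgroup.card_dvd_of_le hle
  have hodd : ¬ 2 ∣ Nat.card (centralizer ((P : Subgroup G) : Set G)) := by
    intro h2
    obtain ⟨t, ht⟩ := exists_prime_orderOf_dvd_card' 2 h2
    have ht' : orderOf (t : G) = 2 := by rw [Subgroup.orderOf_coe]; exact ht
    have hPt : (P : Subgroup G) ≤ centralizer ({(t : G)} : Set G) := by
      intro x hx
      rw [mem_centralizer_singleton_iff]
      exact ((mem_centralizer_iff.mp t.2) x hx)
    have := Subgroup.card_dvd_of_le hPt
    rw [card_sylow_three hord P, h48 _ ht'] at this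
    omega
  have hc9 : Nat.card (centralizer ((P : Subgroup G) : Set G)) = 9 := by
    generalize Nat.card (centralizer ((P : Subgroup G) : Set G)) = c at *
    have hcle : c ≤ 36 := Nat.le_of_dvd (by norm_num) hd36
    interval_cases c <;> omega
  exact (Subgroup.eq_of_le_of_card_ge hle (by rw [hc9, card_sylow_three hord P])).symm

end simple

end Cfsg.Agent.Lib.Helper22.M11Three
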