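import Mathlib

/-!
# Miller's theorem, part A: tuple transitivity, restriction homs, small support
-/

set_option autoImplicit false

namespace Cfsg.Agent.Lib.Helper22.MillerT

open Equiv Equiv.Perm MulAction

variable {α : Type*} [Fintype α] [DecidableEq α]

/-- tuple-transitivity at exact cardinality `t`, in a form convenient for use. -/
def TT (G : Subgroup (Perm α)) (t : ℕ) : Prop :=
  ∀ (S : Finset α) (φ : α → α), S.card = t → Set.InjOn φ (S : Set α) →
    ∃ σ ∈ G, ∀ s ∈ S, σ s = φ s

theorem TT_of_imp (G : Subgroup (Perm α)) (t : ℕ)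
    (h : IsMultiplyPretransitive G α t) : TT G t := by
  intro S φ hS hφ
  let e : S ≃ Fin t := S.equivFinOfCardEq hS
  let f : Fin t ↪ α := ⟨fun i => ((e.symm i : S) : α), fun i j hij => by
    have : e.symm i = e.symm j := Subtype.ext hij
    exact e.symm.injective this⟩
  let g : Fin t ↪ α := ⟨fun i => φ ((e.symm i : S) : α), fun i j hij => by
    have h1 := hφ (e.symm i).2 (e.symm j).2 hij
    have : e.symm i = e.symm j := Subtype.ext h1
    exact e.symm.injective this⟩
  obtain ⟨σ, hσ⟩ := exists_smul_eq G f g
  refine ⟨σ.1, σ.2, fun s hs => ?_⟩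
  have h1 := DFunLike.congr_fun hσ (e ⟨s, hs⟩)
  rw [Function.Embedding.smul_apply] at h1
  have h2 : f (e ⟨s, hs⟩) = s := by
    show ((e.symm (e ⟨s, hs⟩) : S) : α) = s
    rw [Equiv.symm_apply_apply]
  have h3 : g (e ⟨s, hs⟩) = φ s := by
    show φ ((e.symm (e ⟨s, hs⟩) : S) : α) = φ s
    rw [Equiv.symm_apply_apply]
  rw [h2, h3] at h1
  exact h1

theorem imp_of_TT (G : Subgroup (Perm α)) (t : ℕ) (h : TT G t) :
    IsMultiplyPretransitive G α t := by
  classical
  refine ⟨fun f g => ?_⟩
  let S : Finset α := Finset.univ.map f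
  have hS : S.card = t := by simp [S]
  let φ : α → α := fun a => if h : ∃ i, f i = a then g h.choose else a
  have hφf : ∀ i, φ (f i) = g i := by
    intro i
    have h : ∃ j, f j = f i := ⟨i, rfl⟩
    have : h.choose = i := f.injective h.choose_spec
    simp only [φ, dif_pos h, this]
  have hφ : Set.InjOn φ (S : Set α) := by
    intro a ha b hb hab
    simp only [S, Finset.coe_map, Finset.coe_univ, Set.image_univ, Set.mem_range] at ha hb
    obtain ⟨i, rfl⟩ := ha
    obtain ⟨j, rfl⟩ := hb
    rw [hφf, hφf] at hab
    rw [g.injective hab]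
  obtain ⟨σ, hσG, hσ⟩ := h S φ hS hφ
  refine ⟨⟨σ, hσG⟩, ?_⟩
  ext i
  simp only [Function.Embedding.smul_apply]
  have := hσ (f i) (by simp [S])
  rw [hφf] at this
  exact this

theorem TT_of_imp_le (G : Subgroup (Perm α)) (t m : ℕ)
    (h : IsMultiplyPretransitive G α t) (hm : m ≤ t) (ht : t ≤ Fintype.card α) : TT G m := by
  apply TT_of_imp
  have ht' : t ≤ Nat.card α := by rwa [Nat.card_eq_fintype_card]
  exact isMultiplyPretransitive_of_le hm ht'

/-- Restriction homomorphism to an invariant set. -/
def resHom (N : Subgroup (Perm α)) (s : Set α)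
    (h : ∀ g ∈ N, ∀ a, g a ∈ s ↔ a ∈ s) : N →* Perm s where
  toFun g := (g : Perm α).subtypePerm (h g g.2)
  map_one' := by
    ext x
    rfl
  map_mul' g₁ g₂ := by
    ext x
    rfl

@[simp] theorem resHom_apply (N : Subgroup (Perm α)) (s : Set α)
    (h : ∀ g ∈ N, ∀ a, g a ∈ s ↔ a ∈ s) (g : N) (x : s) :
    ((resHom N s h g) x : α) = (g : Perm α) x := rfl

/-- A nontrivial element of small support in a multiply transitive group forces `A_n ≤ G`. -/
theorem alt_le_of_small_support (G : Subgroup (Perm α)) (t : ℕ) (ht2 : 2 ≤ t)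
    (hG : IsMultiplyPretransitive G α t) (htn : t ≤ Fintype.card α)
    (g : Perm α) (hg : g ∈ G) (hg1 : g ≠ 1) (hs : g.support.card ≤ t)
    (hsn : g.support.card < Fintype.card α) :
    alternatingGroup α ≤ G := by
  classical
  have h2 : IsMultiplyPretransitive G α 2 := by
    have ht' : t ≤ Nat.card α := by rwa [Nat.card_eq_fintype_card]
    exact isMultiplyPretransitive_of_le ht2 ht'
  have hprim : IsPreprimitive G α := isPreprimitive_of_is_two_pretransitive h2
  -- a point in the support
  obtain ⟨a, ha⟩ : ∃ a, a ∈ g.support := by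
    by_contra hcon
    push Not at hcon
    apply hg1
    ext y
    have := hcon y
    simpa [Perm.mem_support] using this
  -- a point outside the support
  obtain ⟨b, hb⟩ : ∃ b, b ∉ g.support := by
    by_contra hcon
    push Not at hcon
    have : g.support = Finset.univ := Finset.eq_univ_iff_forall.mpr hcon
    rw [this, Finset.card_univ] at hsn
    exact lt_irrefl _ hsn
  have hga : g a ≠ a := Perm.mem_support.mp ha
  have hgb : g b = b := Perm.notMem_support.mp hb
  have hab : a ≠ b := fun h => hb (h ▸ ha)
  set a' := g⁻¹ a with ha'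
  have ha'a : a' ≠ a := by
    intro h
    apply hga
    have : g a' = a := by simp [ha']
    rw [h] at this
    exact this
  have hga' : g a' = a := by simp [ha']
  have ha's : a' ∈ g.support := by
    rw [Perm.mem_support, hga']
    exact ha'a.symm
  have ha'b : a' ≠ b := fun h => hb (h ▸ ha's)
  -- the transitivity element
  have hTT := TT_of_imp_le G t g.support.card hG hs htn
  let φ : α → α := fun y => if y = a then b else y
  have hφ : Set.InjOn φ (g.support : Set α) := by
    intro y hy z hz hyz
    simp only [φ] at hyz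
    by_cases h1 : y = a <;> by_cases h2 : z = a
    · rw [h1, h2]
    · rw [if_pos h1, if_neg h2] at hyz
      exact absurd (hyz ▸ hz) hb
    · rw [if_neg h1, if_pos h2] at hyz
      exact absurd (hyz.symm ▸ hy) hb
    · rwa [if_neg h1, if_neg h2] at hyz
  obtain ⟨σ, hσG, hσ⟩ := hTT g.support φ rfl hφ
  have hσa : σ a = b := by
    have := hσ a ha
    simpa [φ] using this
  have hσy : ∀ y ∈ g.support, y ≠ a → σ y = y := by
    intro y hy hya
    have := hσ y hy
    simpa [φ, hya] using this
  -- σ⁻¹ y ∉ support for y ∉ support, y ≠ b ; and for y = a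
  have hσinv : ∀ y, (y ∉ g.support ∧ y ≠ b) ∨ y = a → σ⁻¹ y ∉ g.support := by
    intro y hy hz
    by_cases hza : σ⁻¹ y = a
    · have : σ (σ⁻¹ y) = b := by rw [hza, hσa]
      simp only [Equiv.Perm.coe_inv, Equiv.apply_symm_apply] at this
      rcases hy with hy | hy
      · exact hy.2 this
      · exact hab (hy ▸ this)
    · have : σ (σ⁻¹ y) = σ⁻¹ y := hσy _ hz hza
      simp only [Equiv.Perm.coe_inv, Equiv.apply_symm_apply] at this
      rcases hy with hy | hy
      · exact hy.1 (this ▸ hz)
      · exact hza (this ▸ hy)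
  set h := σ * g * σ⁻¹ with hh
  have hhG : h ∈ G := G.mul_mem (G.mul_mem hσG hg) (G.inv_mem hσG)
  have hconj : ∀ y, h (σ y) = σ (g y) := by
    intro y
    simp [hh]
  have hfix : ∀ y, σ⁻¹ y ∉ g.support → h y = y := by
    intro y hy
    have : g (σ⁻¹ y) = σ⁻¹ y := Perm.notMem_support.mp hy
    show σ (g (σ⁻¹ y)) = y
    rw [this]
    simp
  set u := g⁻¹ * h with hu
  have huG : u ∈ G := G.mul_mem (G.inv_mem hg) hhG
  have hginv : ∀ y, g y = y → g⁻¹ y = y := by
    intro y hy
    rw [Perm.inv_eq_iff_eq]
    exact hy.symm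
  have hu3 : u = swap a b * swap a a' := by
    ext y
    simp only [hu, Perm.mul_apply]
    by_cases hya : y = a
    · subst hya
      rw [hfix y (hσinv y (Or.inr rfl))]
      rw [swap_apply_left, swap_apply_of_ne_of_ne ha'a ha'b]
    by_cases hyb : y = b
    · have hgas : g a ∈ g.support := by
        rw [Perm.mem_support]
        intro h
        exact hga (g.injective h)
      have hhb : h b = g a := by
        have h1 := hconj a
        rw [hσa, hσy (g a) hgas hga] at h1
        exact h1
      rw [hyb, hhb, swap_apply_of_ne_of_ne hab.symm ha'b.symm, swap_apply_right]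
      simp
    by_cases hya' : y = a'
    · rw [hya', swap_apply_right, swap_apply_left]
      have : h a' = b := by
        have h1 := hconj a'
        rw [hσy a' ha's ha'a, hga', hσa] at h1
        exact h1
      rw [this]
      exact hginv b hgb
    rw [swap_apply_of_ne_of_ne hya hya', swap_apply_of_ne_of_ne hya hyb]
    by_cases hys : y ∈ g.support
    · have h1 : h y = g y := by
        have hgys : g y ∈ g.support := by
          rw [Perm.mem_support]
          intro h
          exact (Perm.mem_support.mp hys) (g.injective h)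
        have hgya : g y ≠ a := by
          intro h
          apply hya'
          rw [ha', ← h]
          simp
        rw [← hσy y hys hya, hconj, hσy y hys hya, hσy (g y) hgys hgya]
      rw [h1]
      simp
    · rw [hfix y (hσinv y (Or.inl ⟨hys, hyb⟩))]
      exact hginv y (Perm.notMem_support.mp hys)
  have h3 : u.IsThreeCycle := by
    rw [hu3]
    exact isThreeCycle_swap_mul_swap_same hab ha'a.symm ha'b.symm
  exact alternatingGroup_le_of_isPreprimitive_of_isThreeCycle_mem hprim h3 huG

end Cfsg.Agent.Lib.Helper22.MillerT
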