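import Mathlib
import Cfsg.Agent.Lib.Helper28.OTDefs
import Cfsg.Agent.Lib.Helper3.SpTL1b

/-!
# S5681 / S5709 skeleton pieces ROOT-B + END-TS  (helper22)

Exact statements of `notes/S5681Skel_helper28.lean.txt`:
`finrank_Lp`, `Rg_nL`, `yL_mem_kron`, `Lp_ts`, `Rg_conj`, `img_ts`, `ts_of_tW_ts`.
-/

set_option autoImplicit false
set_option linter.unusedSectionVars false
set_option linter.unusedVariables false

namespace Cfsg.Agent.Lib.Helper22.OTRootB

open Matrix Module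
open Cfsg.Agent.Lib.Helper16.Tens Cfsg.Agent.Lib.Helper10.TensFund
open Cfsg.Agent.Lib.Helper3.SpT (bf E adj uni Over)
open Cfsg.Agent.Lib.Helper13.TensSO (OrthG IsoG)
open Cfsg.Agent.Lib.Helper28.OT
open scoped Kronecker

variable {F : Type*} [Field F] [Fintype F] {a b : ℕ}
variable {J1 : Matrix (Fin a) (Fin a) F} {J2 : Matrix (Fin b) (Fin b) F}

/-- the parametrisation `(u₁, u₂) ↦ u₁ ⊗ k₁ + u₂ ⊗ k₂` of `U ⊗ ⟨k₁,k₂⟩` -/
def par (k1 k2 : Fin b → F) : ((Fin a → F) × (Fin a → F)) →ₗ[F] (Fin a × Fin b → F) :=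
  (purL (F := F) (a := a) k1).coprod (purL (F := F) (a := a) k2)

theorem par_apply (k1 k2 : Fin b → F) (u1 u2 : Fin a → F) :
    par (a := a) k1 k2 (u1, u2) = pur u1 k1 + pur u2 k2 := by
  unfold par
  rw [LinearMap.coprod_apply, purL_apply, purL_apply]

theorem range_par (k1 k2 : Fin b → F) : LinearMap.range (par (F := F) (a := a) k1 k2) = Lp (a := a) k1 k2 := by
  apply le_antisymm
  · rintro _ ⟨⟨u1, u2⟩, rfl⟩
    rw [par_apply]
    apply Submodule.add_mem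
    · exact pur_mem_tW u1 (Submodule.subset_span (by simp))
    · exact pur_mem_tW u2 (Submodule.subset_span (by simp))
  · unfold Lp tW
    rw [Submodule.span_le]
    rintro v ⟨u, w, hw, rfl⟩
    obtain ⟨c1, c2, rfl⟩ := Submodule.mem_span_pair.mp hw
    refine ⟨(c1 • u, c2 • u), ?_⟩
    rw [par_apply, pur_add_right, pur_smul_right, pur_smul_right, pur_smul_left, pur_smul_left]

theorem par_injective {k1 k2 : Fin b → F} (hind : ∀ c1 c2 : F, c1 • k1 + c2 • k2 = 0 → c1 = 0 ∧ c2 = 0) :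
    Function.Injective (par (F := F) (a := a) k1 k2) := by
  rw [← LinearMap.ker_eq_bot, LinearMap.ker_eq_bot']
  rintro ⟨u1, u2⟩ hu
  rw [par_apply] at hu
  have key : ∀ i, u1 i = 0 ∧ u2 i = 0 := by
    intro i
    apply hind
    funext j
    have := congrFun hu (i, j)
    simpa using this
  ext i
  · exact (key i).1
  · exact (key i).2

/-- ROOT (e) -/
theorem finrank_Lp (hJ2 : OrthG J2) {k1 k2 : Fin b → F} (h : Ts2 J2 k1 k2) : finrank F (Lp (a := a) k1 k2) = 2 * a := by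
  rw [← range_par, LinearMap.finrank_range_of_inj (par_injective h.indep), Module.finrank_prod,
    Module.finrank_fintype_fun_eq_card, Fintype.card_fin]
  omega

theorem bf_symm_zero (hJ2 : OrthG J2) {k1 k2 : Fin b → F} (h : Ts2 J2 k1 k2) : bf J2 k2 k1 = 0 := by
  rw [hJ2.symm, h.h12]

/-- dual vectors for a pair of independent vectors -/
theorem exists_dual_pair (hJ2 : OrthG J2) {k1 k2 : Fin b → F}
    (hind : ∀ c1 c2 : F, c1 • k1 + c2 • k2 = 0 → c1 = 0 ∧ c2 = 0) :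
    (∃ w : Fin b → F, bf J2 w k1 = 1 ∧ bf J2 w k2 = 0) ∧ (∃ w : Fin b → F, bf J2 w k1 = 0 ∧ bf J2 w k2 = 1) := by
  have hinj : ∀ x : Fin b → F, J2 *ᵥ x = 0 → x = 0 := by
    intro x hx
    apply hJ2.nondeg
    intro y
    rw [hJ2.symm]
    unfold bf
    rw [hx, dotProduct_zero]
  have hs : J2 *ᵥ k1 ≠ 0 := by
    intro h0
    have := hinj k1 h0
    have h1 := hind 1 0 (by rw [this]; simp)
    exact one_ne_zero h1.1
  have ht : ∀ κ : F, J2 *ᵥ k2 ≠ κ • (J2 *ᵥ k1) := by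
    intro κ h0
    have h1 : J2 *ᵥ ((-κ) • k1 + (1 : F) • k2) = 0 := by
      rw [Matrix.mulVec_add, Matrix.mulVec_smul, Matrix.mulVec_smul, h0]
      simp
    have h2 := hind (-κ) 1 (hinj _ h1)
    exact one_ne_zero h2.2
  obtain ⟨k, k', hd⟩ := exists_minor (J2 *ᵥ k1) (J2 *ᵥ k2) hs ht
  set s := J2 *ᵥ k1 with hs_def
  set t := J2 *ᵥ k2 with ht_def
  set d := s k * t k' - s k' * t k with hd_def
  have hbf : ∀ (α β : F) (r : Fin b → F), (α • (Pi.single k (1 : F) : Fin b → F) + β • (Pi.single k' (1 : F) : Fin b → F)) ⬝ᵥ r =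
      α * r k + β * r k' := by
    intro α β r
    rw [add_dotProduct, smul_dotProduct, smul_dotProduct, single_one_dotProduct, single_one_dotProduct, smul_eq_mul, smul_eq_mul]
  constructor
  · refine ⟨(t k' / d) • (Pi.single k (1 : F) : Fin b → F) + (- t k / d) • (Pi.single k' (1 : F) : Fin b → F), ?_, ?_⟩
    · unfold bf
      rw [hbf]
      field_simp
      rw [hd_def]
      ring
    · unfold bf
      rw [hbf]
      field_simp
      ring
  · refine ⟨(- s k' / d) • (Pi.single k (1 : F) : Fin b → F) + (s k / d) • (Pi.single k' (1 : F) : Fin b → F), ?_, ?_⟩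
    · unfold bf
      rw [hbf]
      field_simp
      ring
    · unfold bf
      rw [hbf]
      field_simp
      rw [hd_def]
      ring

theorem nL_mulVec_pur (k1 k2 : Fin b → F) (u : Fin a → F) (w : Fin b → F) :
    nL (a := a) J2 k1 k2 *ᵥ pur u w = bf J2 w k2 • pur u k1 - bf J2 w k1 • pur u k2 := by
  unfold nL
  rw [kron_mulVec_pur, Matrix.one_mulVec, T2_mulVec, sub_eq_add_neg, pur_add_right, pur_neg_right, pur_smul_right,
    pur_smul_right, ← sub_eq_add_neg]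

/-- ROOT (f) -/
theorem Rg_nL (hJ2 : OrthG J2) {k1 k2 : Fin b → F} (h : Ts2 J2 k1 k2) (c : F) (hc : c ≠ 0) :
    Rg (c • nL (a := a) J2 k1 k2) = Lp (a := a) k1 k2 := by
  apply le_antisymm
  · intro v hv
    obtain ⟨x, rfl⟩ := (mem_Rg_iff _ _).mp hv
    refine Cfsg.Agent.Lib.Helper3.SpT.pur_induction (p := fun x => (c • nL (a := a) J2 k1 k2) *ᵥ x ∈ Lp (a := a) k1 k2) ?_ ?_ ?_ x
    · simp
    · intro x y hx hy
      rw [Matrix.mulVec_add]
      exact Submodule.add_mem _ hx hy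
    · intro u w
      rw [Matrix.smul_mulVec, nL_mulVec_pur]
      apply Submodule.smul_mem
      apply Submodule.sub_mem
      · exact Submodule.smul_mem _ _ (pur_mem_tW u (Submodule.subset_span (by simp)))
      · exact Submodule.smul_mem _ _ (pur_mem_tW u (Submodule.subset_span (by simp)))
  · obtain ⟨⟨w1, hw11, hw12⟩, ⟨w2, hw21, hw22⟩⟩ := exists_dual_pair hJ2 h.indep
    rw [← range_par]
    rintro _ ⟨⟨u1, u2⟩, rfl⟩
    rw [par_apply, mem_Rg_iff]
    refine ⟨c⁻¹ • (pur u1 w2 - pur u2 w1), ?_⟩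
    rw [Matrix.smul_mulVec, Matrix.mulVec_smul, smul_smul, mul_inv_cancel₀ hc, one_smul, Matrix.mulVec_sub, nL_mulVec_pur,
      nL_mulVec_pur, hw11, hw12, hw21, hw22]
    simp

theorem smul_T2_sq (hJ2 : OrthG J2) {k1 k2 : Fin b → F} (h : Ts2 J2 k1 k2) (c : F) :
    (c • T2 J2 k1 k2) * (c • T2 J2 k1 k2) = 0 := by
  rw [Matrix.smul_mul, Matrix.mul_smul, T2_sq hJ2 h]
  simp

/-- ROOT (g) -/
theorem yL_mem_kron (hJ2 : OrthG J2) {k1 k2 : Fin b → F} (h : Ts2 J2 k1 k2) (c : F) :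
    yL (a := a) hJ2 h c ∈ Cfsg.Geo.kroneckerSubgroup a b F := by
  refine ⟨1, uni (c • T2 J2 k1 k2) (smul_T2_sq hJ2 h c), ?_⟩
  rw [yL_val, Cfsg.Agent.Lib.Helper3.SpT.uni_val, Units.val_one, Matrix.kronecker_add, Matrix.one_kronecker_one,
    Matrix.kronecker_smul]
  rfl

theorem bf_span_pair (hJ2 : OrthG J2) {k1 k2 : Fin b → F} (h : Ts2 J2 k1 k2) {w w' : Fin b → F}
    (hw : w ∈ Submodule.span F {k1, k2}) (hw' : w' ∈ Submodule.span F {k1, k2}) : bf J2 w w' = 0 := by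
  obtain ⟨c1, c2, rfl⟩ := Submodule.mem_span_pair.mp hw
  obtain ⟨d1, d2, rfl⟩ := Submodule.mem_span_pair.mp hw'
  simp only [Cfsg.Agent.Lib.Helper3.SpT.bf_add_left, Cfsg.Agent.Lib.Helper3.SpT.bf_add_right,
    Cfsg.Agent.Lib.Helper3.SpT.bf_smul_left, Cfsg.Agent.Lib.Helper3.SpT.bf_smul_right, h.h11, h.h12, h.h22,
    bf_symm_zero hJ2 h]
  ring

/-- ROOT (k) : `U ⊗ π` is totally singular -/
theorem Lp_ts (hJ1 : OrthG J1) (hJ2 : OrthG J2) {k1 k2 : Fin b → F} (h : Ts2 J2 k1 k2) :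
    ∀ x ∈ Lp (a := a) k1 k2, ∀ y ∈ Lp (a := a) k1 k2, bf (J1 ⊗ₖ J2) x y = 0 := by
  intro x hx y hy
  unfold Lp tW at hx hy
  induction hx using Submodule.span_induction with
  | mem x hx =>
    obtain ⟨u, w, hw, rfl⟩ := hx
    induction hy using Submodule.span_induction with
    | mem y hy =>
      obtain ⟨u', w', hw', rfl⟩ := hy
      rw [Cfsg.Agent.Lib.Helper3.SpT.bf_kron_pur, bf_span_pair hJ2 h hw hw', mul_zero]
    | zero => simp
    | add y y' _ _ hy hy' => rw [Cfsg.Agent.Lib.Helper3.SpT.bf_add_right, hy, hy', add_zero]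
    | smul c y _ hy => rw [Cfsg.Agent.Lib.Helper3.SpT.bf_smul_right, hy, mul_zero]
  | zero => simp
  | add x x' _ _ hx hx' => rw [Cfsg.Agent.Lib.Helper3.SpT.bf_add_left, hx, hx', add_zero]
  | smul c x _ hx => rw [Cfsg.Agent.Lib.Helper3.SpT.bf_smul_left, hx, mul_zero]

/-- ROOT (l) -/
theorem Rg_conj (g : GL (Fin a × Fin b) F) (n : Matrix (Fin a × Fin b) (Fin a × Fin b) F) :
    Rg ((g : Matrix (Fin a × Fin b) (Fin a × Fin b) F) * n * ((g⁻¹ : GL (Fin a × Fin b) F) : Matrix (Fin a × Fin b) (Fin a × Fin b) F)) =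
      img g (Rg n) := by
  ext v
  rw [mem_Rg_iff, mem_img_iff, mem_Rg_iff]
  constructor
  · rintro ⟨x, rfl⟩
    refine ⟨((g⁻¹ : GL (Fin a × Fin b) F) : Matrix (Fin a × Fin b) (Fin a × Fin b) F) *ᵥ x, ?_⟩
    rw [act_apply, Matrix.mulVec_mulVec, Matrix.mulVec_mulVec, ← mul_assoc, ← mul_assoc, ← Units.val_mul, inv_mul_cancel,
      Units.val_one, one_mul]
  · rintro ⟨x, hx⟩
    refine ⟨(g : Matrix (Fin a × Fin b) (Fin a × Fin b) F) *ᵥ x, ?_⟩
    rw [Matrix.mulVec_mulVec, mul_assoc, ← Units.val_mul, inv_mul_cancel, Units.val_one, mul_one, ← Matrix.mulVec_mulVec, hx,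
      ← act_apply, act_act_inv]

/-- ROOT (m) -/
theorem img_ts (g : GL (Fin a × Fin b) F) (hg : g ∈ IsoG (J1 ⊗ₖ J2)) (L : Submodule F (Fin a × Fin b → F))
    (hL : ∀ x ∈ L, ∀ y ∈ L, bf (J1 ⊗ₖ J2) x y = 0) : ∀ x ∈ img g L, ∀ y ∈ img g L, bf (J1 ⊗ₖ J2) x y = 0 := by
  rintro _ ⟨x, hx, rfl⟩ _ ⟨y, hy, rfl⟩
  change bf (J1 ⊗ₖ J2) (act g x) (act g y) = 0
  rw [act_apply, act_apply, hg x y]
  exact hL x hx y hy

/-- a non-degenerate symmetric form in odd characteristic on a non-zero space has an anisotropic vector -/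
theorem exists_aniso (hJ1 : OrthG J1) (h2 : (2 : F) ≠ 0) (ha : 1 ≤ a) : ∃ u : Fin a → F, bf J1 u u ≠ 0 := by
  by_contra hcon
  push Not at hcon
  have hall : ∀ u v : Fin a → F, bf J1 u v = 0 := by
    intro u v
    have h := hcon (u + v)
    rw [Cfsg.Agent.Lib.Helper3.SpT.bf_add_left, Cfsg.Agent.Lib.Helper3.SpT.bf_add_right,
      Cfsg.Agent.Lib.Helper3.SpT.bf_add_right, hcon u, hcon v, hJ1.symm v u] at h
    have h' : 2 * bf J1 u v = 0 := by linear_combination h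
    rcases mul_eq_zero.mp h' with h0 | h0
    · exact absurd h0 h2
    · exact h0
  have h0 : (Pi.single (⟨0, by omega⟩ : Fin a) (1 : F) : Fin a → F) = 0 := hJ1.nondeg _ (fun y => hall _ y)
  have := congrFun h0 ⟨0, by omega⟩
  simp at this

/-- END-TS: `U ⊗ W'` totally singular ⇒ `W'` totally singular (`U` has an anisotropic vector) -/
theorem ts_of_tW_ts (hJ1 : OrthG J1) (h2 : (2 : F) ≠ 0) (ha : 1 ≤ a) (W' : Submodule F (Fin b → F))
    (hts : ∀ x ∈ tW (a := a) W', ∀ y ∈ tW (a := a) W', bf (J1 ⊗ₖ J2) x y = 0) :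
    ∀ x ∈ W', ∀ y ∈ W', bf J2 x y = 0 := by
  obtain ⟨u, hu⟩ := exists_aniso hJ1 h2 ha
  intro x hx y hy
  have h := hts (pur u x) (pur_mem_tW u hx) (pur u y) (pur_mem_tW u hy)
  rw [Cfsg.Agent.Lib.Helper3.SpT.bf_kron_pur] at h
  rcases mul_eq_zero.mp h with h0 | h0
  · exact absurd h0 hu
  · exact h0

end Cfsg.Agent.Lib.Helper22.OTRootB
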