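import Mathlib
import Cfsg.Agent.Lib.Helper28.OTDefs
import Cfsg.Agent.Lib.Helper28.OTExitDefs
import Cfsg.Agent.Lib.Helper22.OTRootB
import Cfsg.Agent.Lib.Helper16.OTRootC
import Cfsg.Agent.Lib.Helper8.OTRel
import Cfsg.Agent.Lib.Helper9.OTX1
import Cfsg.Agent.Lib.Helper13.OTAllLongB
import Cfsg.Agent.Lib.Helper20.OTTorus

/-!
# S5681 / S5709, EXIT T3, piece GLUE-A (helper22): closure properties of `InZM`

EXACT statements of `notes/S5681T3Skel_helper12.lean.txt` (v2), section `glue`: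
`gZ_K1, gZ_K2, gZ_C, inZM_zero, inZM_add, inZM_neg, inZM_one, inZM_smul, inZM_shear, inZM_lshear`
and `inZM_smul` (from helper20's `OTTorus.gZ_smul_mem`).
-/

set_option autoImplicit false
set_option linter.unusedSectionVars false
set_option linter.unusedVariables false

namespace Cfsg.Agent.Lib.Helper22.OTGlueA

open Matrix Module
open Cfsg.Agent.Lib.Helper16.Tens Cfsg.Agent.Lib.Helper10.TensFund
open Cfsg.Agent.Lib.Helper3.SpT (bf E adj uni Over)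
open Cfsg.Agent.Lib.Helper13.TensSO (OrthG IsoG)
open Cfsg.Agent.Lib.Helper28.OT Cfsg.Agent.Lib.Helper28.OTX
open Cfsg.Agent.Lib.Helper16.OTRootC (oneK oneK_val oneK_mem_IsoG rho oneK_rho Om_le_IsoG)
open Cfsg.Agent.Lib.Helper8.OTRel (TO zL gTO gK gZ)
open scoped Kronecker

variable {F : Type*} [Field F] [Fintype F] {a b : ℕ}
variable {J1 : Matrix (Fin a) (Fin a) F} {J2 : Matrix (Fin b) (Fin b) F}
variable {Q : QuadraticForm F (Fin a × Fin b → F)}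
variable {M : Subgroup (GL (Fin a × Fin b) F)}
variable {k1 k2 : Fin b → F}

local notation "K" => Cfsg.Geo.kroneckerSubgroup a b F
local notation "V" => (Fin a × Fin b → F)

/-- `(K₁, C, K₂)` are the `Z_L`-coordinates of an element of `M` (`K₁, K₂` skew-adjoint);
same definition as `OTT3Skel.InZM` of the T3 skeleton -/
def InZM (J1 : Matrix (Fin a) (Fin a) F) {J2 : Matrix (Fin b) (Fin b) F} (hJ2 : OrthG J2)
    (M : Subgroup (GL (Fin a × Fin b) F)) {k1 k2 : Fin b → F} (h : Ts2 J2 k1 k2)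
    (K1 C K2 : Matrix (Fin a) (Fin a) F) : Prop :=
  adj J1 K1 = -K1 ∧ adj J1 K2 = -K2 ∧ gZ J1 J2 hJ2 K1 C K2 k1 k2 h.h11 h.h12 h.h22 ∈ M

theorem adj_zero' (J : Matrix (Fin a) (Fin a) F) : adj J (0 : Matrix (Fin a) (Fin a) F) = 0 := by
  unfold adj
  rw [Matrix.transpose_zero, mul_zero, zero_mul]

theorem TO_zero (J1 : Matrix (Fin a) (Fin a) F) (J2 : Matrix (Fin b) (Fin b) F) (k k' : Fin b → F) :
    TO J1 J2 0 k k' = 0 := by
  unfold TO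
  rw [adj_zero', Matrix.zero_kronecker, Matrix.zero_kronecker, sub_zero]

section glue
variable (hS : SetupO J1 J2 Q) (hb : 5 ≤ b) (hM : Over Q M) (h : Ts2 J2 k1 k2)
include hS hb hM h

/-- bridging to helper8's `gK` / `gTO` -/
theorem gZ_K1 (K' : Matrix (Fin a) (Fin a) F) :
    gZ J1 J2 hS.h2 K' 0 0 k1 k2 h.h11 h.h12 h.h22 = gK J2 K' k1 h.h11 := by
  apply Units.ext
  rw [Cfsg.Agent.Lib.Helper8.OTRel.gZ_val, Cfsg.Agent.Lib.Helper8.OTRel.gK_val]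
  unfold zL
  rw [TO_zero, Matrix.zero_kronecker, add_zero, add_zero]

theorem gZ_K2 (K' : Matrix (Fin a) (Fin a) F) :
    gZ J1 J2 hS.h2 0 0 K' k1 k2 h.h11 h.h12 h.h22 = gK J2 K' k2 h.h22 := by
  apply Units.ext
  rw [Cfsg.Agent.Lib.Helper8.OTRel.gZ_val, Cfsg.Agent.Lib.Helper8.OTRel.gK_val]
  unfold zL
  rw [TO_zero, Matrix.zero_kronecker, add_zero, zero_add]

theorem gZ_C (C : Matrix (Fin a) (Fin a) F) :
    gZ J1 J2 hS.h2 0 C 0 k1 k2 h.h11 h.h12 h.h22 = gTO J1 J2 hS.h2 C k1 k2 h.h11 h.h12 h.h22 := by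
  apply Units.ext
  rw [Cfsg.Agent.Lib.Helper8.OTRel.gZ_val, Cfsg.Agent.Lib.Helper8.OTRel.gTO_val]
  unfold zL
  rw [Matrix.zero_kronecker, Matrix.zero_kronecker, add_zero, zero_add]

theorem gZ_zero : gZ J1 J2 hS.h2 0 0 0 k1 k2 h.h11 h.h12 h.h22 = 1 := by
  apply Units.ext
  rw [Cfsg.Agent.Lib.Helper8.OTRel.gZ_val, Units.val_one]
  unfold zL
  rw [TO_zero, Matrix.zero_kronecker, Matrix.zero_kronecker, add_zero, add_zero, add_zero]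

theorem gZ_inv (K1 C K2 : Matrix (Fin a) (Fin a) F) :
    (gZ J1 J2 hS.h2 K1 C K2 k1 k2 h.h11 h.h12 h.h22)⁻¹ =
      gZ J1 J2 hS.h2 (-K1) (-C) (-K2) k1 k2 h.h11 h.h12 h.h22 := by
  rw [inv_eq_iff_mul_eq_one, Cfsg.Agent.Lib.Helper8.OTRel.gZ_mul, add_neg_cancel, add_neg_cancel, add_neg_cancel]
  exact gZ_zero hS hb hM h

theorem inZM_zero : InZM J1 hS.h2 M h 0 0 0 := by
  refine ⟨by rw [adj_zero', neg_zero], by rw [adj_zero', neg_zero], ?_⟩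
  rw [gZ_zero hS hb hM h]
  exact Subgroup.one_mem _

theorem inZM_add {K1 C K2 K1' C' K2' : Matrix (Fin a) (Fin a) F} (hX : InZM J1 hS.h2 M h K1 C K2)
    (hY : InZM J1 hS.h2 M h K1' C' K2') : InZM J1 hS.h2 M h (K1 + K1') (C + C') (K2 + K2') := by
  obtain ⟨h1, h2, h3⟩ := hX
  obtain ⟨h1', h2', h3'⟩ := hY
  refine ⟨?_, ?_, ?_⟩
  · rw [Cfsg.Agent.Lib.Helper8.OTRel.adj_add', h1, h1', neg_add]
  · rw [Cfsg.Agent.Lib.Helper8.OTRel.adj_add', h2, h2', neg_add]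
  · rw [← Cfsg.Agent.Lib.Helper8.OTRel.gZ_mul]
    exact Subgroup.mul_mem _ h3 h3'

theorem inZM_neg {K1 C K2 : Matrix (Fin a) (Fin a) F} (hX : InZM J1 hS.h2 M h K1 C K2) :
    InZM J1 hS.h2 M h (-K1) (-C) (-K2) := by
  obtain ⟨h1, h2, h3⟩ := hX
  refine ⟨?_, ?_, ?_⟩
  · rw [Cfsg.Agent.Lib.Helper8.OTRel.adj_neg', h1]
  · rw [Cfsg.Agent.Lib.Helper8.OTRel.adj_neg', h2]
  · rw [← gZ_inv hS hb hM h]
    exact Subgroup.inv_mem _ h3

/-- `Y_π ≤ M` -/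
theorem inZM_one (c : F) : InZM J1 hS.h2 M h 0 (c • (1 : Matrix (Fin a) (Fin a) F)) 0 := by
  refine ⟨by rw [adj_zero', neg_zero], by rw [adj_zero', neg_zero], ?_⟩
  have e : gZ J1 J2 hS.h2 0 (c • (1 : Matrix (Fin a) (Fin a) F)) 0 k1 k2 h.h11 h.h12 h.h22 =
      yL (a := a) hS.h2 h c := by
    apply Units.ext
    rw [Cfsg.Agent.Lib.Helper8.OTRel.gZ_val, yL_val,
      Cfsg.Agent.Lib.Helper8.OTRel.nL_eq_zL J1 J2 (Cfsg.Agent.Lib.Helper13.OTAllLong.adj_one_orth hS.h1),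
      ← Cfsg.Agent.Lib.Helper8.OTRel.zL_smul_coeff, smul_zero]
  rw [e]
  exact hM.kron_mem _ (Cfsg.Agent.Lib.Helper22.OTRootB.yL_mem_kron hS.h2 h c)
    (Cfsg.Agent.Lib.Helper16.OTRootC.yL_mem_Om hS hb h c)

/-- via TORUS (helper20 `gZ_smul_mem`) -/
theorem inZM_smul (c : F) {K1 C K2 : Matrix (Fin a) (Fin a) F} (hX : InZM J1 hS.h2 M h K1 C K2) :
    InZM J1 hS.h2 M h (c • K1) (c • C) (c • K2) := by
  obtain ⟨h1, h2, h3⟩ := hX
  refine ⟨?_, ?_, Cfsg.Agent.Lib.Helper20.OTTorus.gZ_smul_mem hS hM h K1 C K2 c h3⟩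
  · rw [Cfsg.Agent.Lib.Helper8.OTRel.adj_smul', h1, smul_neg]
  · rw [Cfsg.Agent.Lib.Helper8.OTRel.adj_smul', h2, smul_neg]

omit hS hb hM h in
/-- the lower-shear analogue of helper8's `zL_shear`: `k₁ ↦ k₁ + s k₂` -/
theorem zL_lshear (J1 : Matrix (Fin a) (Fin a) F) (J2 : Matrix (Fin b) (Fin b) F)
    (K1 C K2 : Matrix (Fin a) (Fin a) F) (hK1 : adj J1 K1 = -K1) (s : F) (k1 k2 : Fin b → F) :
    zL J1 J2 K1 C K2 (k1 + s • k2) k2 =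
      zL J1 J2 K1 (C + s • K1) (K2 + s • (C - adj J1 C) + (s * s) • K1) k1 k2 := by
  unfold zL TO
  rw [Cfsg.Agent.Lib.Helper8.OTRel.adj_add', Cfsg.Agent.Lib.Helper8.OTRel.adj_smul', hK1]
  simp only [Cfsg.Agent.Lib.Helper3.SpT.E_add_left, Cfsg.Agent.Lib.Helper3.SpT.E_add_right,
    Cfsg.Agent.Lib.Helper3.SpT.E_smul_left, Cfsg.Agent.Lib.Helper3.SpT.E_smul_right, Matrix.kronecker_add,
    Matrix.add_kronecker, Matrix.kronecker_smul, Matrix.smul_kronecker, smul_smul,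
    Cfsg.Agent.Lib.Helper8.OTRel.sub_kron, Cfsg.Agent.Lib.Helper8.OTRel.neg_kron, smul_neg, smul_add]
  module

omit hb hM h in
theorem adj_shear_skew {K1 C K2 : Matrix (Fin a) (Fin a) F} (h1 : adj J1 K1 = -K1) (h2 : adj J1 K2 = -K2) (s : F) :
    adj J1 (K1 + s • (C - adj J1 C) + (s * s) • K2) = -(K1 + s • (C - adj J1 C) + (s * s) • K2) := by
  rw [Cfsg.Agent.Lib.Helper8.OTRel.adj_add', Cfsg.Agent.Lib.Helper8.OTRel.adj_add',
    Cfsg.Agent.Lib.Helper8.OTRel.adj_smul', Cfsg.Agent.Lib.Helper8.OTRel.adj_smul',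
    Cfsg.Agent.Lib.Helper13.OTAllLongB.adj_skew_sub hS.h1, h1, h2]
  module

/-- the upper shear `k₂ ↦ k₂ + s k₁` -/
theorem inZM_shear (s : F) {K1 C K2 : Matrix (Fin a) (Fin a) F} (hX : InZM J1 hS.h2 M h K1 C K2) :
    InZM J1 hS.h2 M h (K1 + s • (C - adj J1 C) + (s * s) • K2) (C + s • K2) K2 := by
  obtain ⟨hK1, hK2, hg⟩ := hX
  refine ⟨adj_shear_skew hS hK1 hK2 s, hK2, ?_⟩
  obtain ⟨l, h1l, h2l, hll⟩ := Cfsg.Agent.Lib.Helper16.OTRootC.exists_partner hS.h2 hS.two h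
  have h21 : bf J2 k2 k1 = 0 := by rw [hS.h2.symm, h.h12]
  have hkd : bf J2 k1 (s • l) = 0 := by
    rw [Cfsg.Agent.Lib.Helper3.SpT.bf_smul_right, h1l, mul_zero]
  obtain ⟨β, hβ⟩ : ∃ β : GL (Fin b) F, β = rhoW hS.h2 hS.two k1 (s • l) h.h11 hkd := ⟨_, rfl⟩
  have hβI : β ∈ IsoG J2 := by
    rw [hβ]
    exact Cfsg.Agent.Lib.Helper9.OTX1.rhoW_mem_IsoG hS.h2 hS.two k1 (s • l) h.h11 hkd
  have hnM : oneK (a := a) β ∈ M := by
    refine hM.kron_mem _ (Cfsg.Agent.Lib.Helper9.OTX1.oneK_mem_kron β) ?_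
    rw [hβ]
    exact Cfsg.Agent.Lib.Helper9.OTX1.oneK_rhoW_mem_Om hS hb k1 (s • l) h.h11 hkd
  have e1 : (β : Matrix (Fin b) (Fin b) F) *ᵥ k1 = k1 := by
    rw [hβ, rhoW_val, Matrix.add_mulVec, Matrix.one_mulVec, SgN_mulVec, hkd, h.h11]
    simp
  have e2 : (β : Matrix (Fin b) (Fin b) F) *ᵥ k2 = k2 + s • k1 := by
    rw [hβ, rhoW_val, Matrix.add_mulVec, Matrix.one_mulVec, SgN_mulVec, h21,
      Cfsg.Agent.Lib.Helper3.SpT.bf_smul_right, h2l]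
    simp
  have h12' : bf J2 k1 (k2 + s • k1) = 0 := by
    rw [Cfsg.Agent.Lib.Helper3.SpT.bf_add_right, Cfsg.Agent.Lib.Helper3.SpT.bf_smul_right, h.h12, h.h11]
    simp
  have h22' : bf J2 (k2 + s • k1) (k2 + s • k1) = 0 := by
    simp only [Cfsg.Agent.Lib.Helper3.SpT.bf_add_right, Cfsg.Agent.Lib.Helper3.SpT.bf_smul_right,
      Cfsg.Agent.Lib.Helper3.SpT.bf_add_left, Cfsg.Agent.Lib.Helper3.SpT.bf_smul_left, h.h12, h.h11, h.h22, h21]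
    simp
  have hconj := Cfsg.Agent.Lib.Helper8.OTRel.R1_GL J1 J2 hS.h2 K1 C K2 β hβI (oneK (a := a) β) (oneK_val β)
    k1 k2 k1 (k2 + s • k1) h.h11 h.h12 h.h22 h.h11 h12' h22' e1 e2
  have e3 : gZ J1 J2 hS.h2 K1 C K2 k1 (k2 + s • k1) h.h11 h12' h22' =
      gZ J1 J2 hS.h2 (K1 + s • (C - adj J1 C) + (s * s) • K2) (C + s • K2) K2 k1 k2 h.h11 h.h12 h.h22 := by
    apply Units.ext
    rw [Cfsg.Agent.Lib.Helper8.OTRel.gZ_val, Cfsg.Agent.Lib.Helper8.OTRel.gZ_val,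
      Cfsg.Agent.Lib.Helper8.OTRel.zL_shear J1 J2 K1 C K2 hK2]
  rw [← e3, ← hconj]
  exact Subgroup.mul_mem _ (Subgroup.mul_mem _ hnM hg) (Subgroup.inv_mem _ hnM)

omit hb hM h in
theorem adj_lshear_skew {K1 C K2 : Matrix (Fin a) (Fin a) F} (h1 : adj J1 K1 = -K1) (h2 : adj J1 K2 = -K2) (s : F) :
    adj J1 (K2 + s • (C - adj J1 C) + (s * s) • K1) = -(K2 + s • (C - adj J1 C) + (s * s) • K1) :=
  adj_shear_skew hS h2 h1 s

/-- the lower shear `k₁ ↦ k₁ + s k₂` -/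
theorem inZM_lshear (s : F) {K1 C K2 : Matrix (Fin a) (Fin a) F} (hX : InZM J1 hS.h2 M h K1 C K2) :
    InZM J1 hS.h2 M h K1 (C + s • K1) (K2 + s • (C - adj J1 C) + (s * s) • K1) := by
  obtain ⟨hK1, hK2, hg⟩ := hX
  refine ⟨hK1, adj_lshear_skew hS hK1 hK2 s, ?_⟩
  have h21 : bf J2 k2 k1 = 0 := by rw [hS.h2.symm, h.h12]
  have hsw : Ts2 J2 k2 k1 :=
    ⟨fun c1 c2 hc => by
      have := h.indep c2 c1 (by rw [add_comm]; exact hc)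
      exact ⟨this.2, this.1⟩, h.h22, h21, h.h11⟩
  obtain ⟨l, h2l, h1l, hll⟩ := Cfsg.Agent.Lib.Helper16.OTRootC.exists_partner hS.h2 hS.two hsw
  have hkd : bf J2 k2 (s • l) = 0 := by
    rw [Cfsg.Agent.Lib.Helper3.SpT.bf_smul_right, h2l, mul_zero]
  obtain ⟨β, hβ⟩ : ∃ β : GL (Fin b) F, β = rhoW hS.h2 hS.two k2 (s • l) h.h22 hkd := ⟨_, rfl⟩
  have hβI : β ∈ IsoG J2 := by
    rw [hβ]
    exact Cfsg.Agent.Lib.Helper9.OTX1.rhoW_mem_IsoG hS.h2 hS.two k2 (s • l) h.h22 hkd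
  have hnM : oneK (a := a) β ∈ M := by
    refine hM.kron_mem _ (Cfsg.Agent.Lib.Helper9.OTX1.oneK_mem_kron β) ?_
    rw [hβ]
    exact Cfsg.Agent.Lib.Helper9.OTX1.oneK_rhoW_mem_Om hS hb k2 (s • l) h.h22 hkd
  have e2 : (β : Matrix (Fin b) (Fin b) F) *ᵥ k2 = k2 := by
    rw [hβ, rhoW_val, Matrix.add_mulVec, Matrix.one_mulVec, SgN_mulVec, hkd, h.h22]
    simp
  have e1 : (β : Matrix (Fin b) (Fin b) F) *ᵥ k1 = k1 + s • k2 := by
    rw [hβ, rhoW_val, Matrix.add_mulVec, Matrix.one_mulVec, SgN_mulVec, h.h12,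
      Cfsg.Agent.Lib.Helper3.SpT.bf_smul_right, h1l]
    simp
  have h12' : bf J2 (k1 + s • k2) k2 = 0 := by
    rw [Cfsg.Agent.Lib.Helper3.SpT.bf_add_left, Cfsg.Agent.Lib.Helper3.SpT.bf_smul_left, h.h12, h.h22]
    simp
  have h11' : bf J2 (k1 + s • k2) (k1 + s • k2) = 0 := by
    simp only [Cfsg.Agent.Lib.Helper3.SpT.bf_add_right, Cfsg.Agent.Lib.Helper3.SpT.bf_smul_right,
      Cfsg.Agent.Lib.Helper3.SpT.bf_add_left, Cfsg.Agent.Lib.Helper3.SpT.bf_smul_left, h.h12, h.h11, h.h22, h21]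
    simp
  have hconj := Cfsg.Agent.Lib.Helper8.OTRel.R1_GL J1 J2 hS.h2 K1 C K2 β hβI (oneK (a := a) β) (oneK_val β)
    k1 k2 (k1 + s • k2) k2 h.h11 h.h12 h.h22 h11' h12' h.h22 e1 e2
  have e3 : gZ J1 J2 hS.h2 K1 C K2 (k1 + s • k2) k2 h11' h12' h.h22 =
      gZ J1 J2 hS.h2 K1 (C + s • K1) (K2 + s • (C - adj J1 C) + (s * s) • K1) k1 k2 h.h11 h.h12 h.h22 := by
    apply Units.ext
    rw [Cfsg.Agent.Lib.Helper8.OTRel.gZ_val, Cfsg.Agent.Lib.Helper8.OTRel.gZ_val,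
      zL_lshear J1 J2 K1 C K2 hK1]
  rw [← e3, ← hconj]
  exact Subgroup.mul_mem _ (Subgroup.mul_mem _ hnM hg) (Subgroup.inv_mem _ hnM)

end glue

end Cfsg.Agent.Lib.Helper22.OTGlueA
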