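import Mathlib
import Cfsg.Agent.Lib.Helper12.S1903Defs

/-! FO-E3 of helper12's S1903 farm-out: explicit generators `σ, g` of `C_{SU₃(4)}(t0)` satisfying `Rel`. -/

set_option autoImplicit false
set_option linter.unusedSectionVars false
set_option linter.unusedVariables false

namespace Cfsg.Agent.Lib.Helper22.S1903

open Cfsg Matrix Cfsg.Agent.Lib.Helper12.S1903 Cfsg.Agent.Lib.Helper14.PSU3 Cfsg.Agent.Lib.Helper6

section M5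

variable {F : Type*} [Field F]

/-- the matrices commuting with the swap `(0 1)` -/
def M5 (a b c d f : F) : Matrix (Fin 3) (Fin 3) F := !![a, b, c; b, a, c; d, d, f]

lemma M5_mul (a b c d f a' b' c' d' f' : F) :
    M5 a b c d f * M5 a' b' c' d' f' =
      M5 (a * a' + b * b' + c * d') (a * b' + b * a' + c * d') (a * c' + b * c' + c * f')
        (d * a' + d * b' + f * d') (d * c' + d * c' + f * f') := by
  ext i j
  fin_cases i <;> fin_cases j <;> simp [M5, Matrix.mul_apply, Fin.sum_univ_three] <;> ring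

lemma M5_congr {a b c d f a' b' c' d' f' : F} (ha : a = a') (hb : b = b') (hc : c = c') (hd : d = d')
    (hf : f = f') : M5 a b c d f = M5 a' b' c' d' f' := by
  rw [ha, hb, hc, hd, hf]

lemma M5_transpose (a b c d f : F) : (M5 a b c d f)ᵀ = M5 a b d c f := by
  ext i j
  fin_cases i <;> fin_cases j <;> simp [M5, Matrix.transpose_apply]

lemma M5_map (φ : F →+* F) (a b c d f : F) :
    (M5 a b c d f).map φ = M5 (φ a) (φ b) (φ c) (φ d) (φ f) := by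
  ext i j
  fin_cases i <;> fin_cases j <;> simp [M5, Matrix.map_apply]

lemma M5_det (a b c d f : F) :
    (M5 a b c d f).det = (a * a - b * b) * f + 2 * (b * c * d) - 2 * (a * c * d) := by
  rw [Matrix.det_fin_three]
  simp [M5]
  ring

lemma M5_one : (1 : Matrix (Fin 3) (Fin 3) F) = M5 1 0 0 0 1 := by
  ext i j
  fin_cases i <;> fin_cases j <;> simp [M5]

lemma M5_swap : Matrix.swap F (0 : Fin 3) 1 = M5 0 1 0 0 1 := by
  ext i j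
  fin_cases i <;> fin_cases j <;> simp [M5, Matrix.swap, PEquiv.toMatrix_apply, Equiv.swap_apply_def]

lemma M5_inj_01 {a b c d f a' b' c' d' f' : F} (h : M5 a b c d f = M5 a' b' c' d' f') : b = b' := by
  have := congrFun (congrFun h 0) 1
  simpa [M5] using this

lemma M5_inj_00 {a b c d f a' b' c' d' f' : F} (h : M5 a b c d f = M5 a' b' c' d' f') : a = a' := by
  have := congrFun (congrFun h 0) 0
  simpa [M5] using this

end M5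

section Ids

variable {F : Type*} [Field F] (ζ : F) (hΦ : ζ ^ 4 + ζ ^ 3 + ζ ^ 2 + ζ + 1 = 0) (h2 : (2 : F) = 0)
include hΦ h2

lemma S_sq : M5 (ζ) (0) (0) (0) (ζ^3) * M5 (ζ) (0) (0) (0) (ζ^3) = M5 (ζ^2) (0) (0) (0) (ζ) := by
  simp only [M5_mul]
  apply M5_congr
  · linear_combination (0) * hΦ + (0) * h2
  · linear_combination (0) * hΦ + (0) * h2
  · linear_combination (0) * hΦ + (0) * h2
  · linear_combination (0) * hΦ + (0) * h2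
  · linear_combination ((-1)*ζ + ζ^2) * hΦ + (0) * h2

lemma S_cube : M5 (ζ^2) (0) (0) (0) (ζ) * M5 (ζ) (0) (0) (0) (ζ^3) = M5 (ζ^3) (0) (0) (0) (ζ^4) := by
  simp only [M5_mul]
  apply M5_congr
  · linear_combination (0) * hΦ + (0) * h2
  · linear_combination (0) * hΦ + (0) * h2
  · linear_combination (0) * hΦ + (0) * h2
  · linear_combination (0) * hΦ + (0) * h2
  · linear_combination (0) * hΦ + (0) * h2

lemma S_four : M5 (ζ^3) (0) (0) (0) (ζ^4) * M5 (ζ) (0) (0) (0) (ζ^3) = M5 (ζ^4) (0) (0) (0) (ζ^2) := by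
  simp only [M5_mul]
  apply M5_congr
  · linear_combination (0) * hΦ + (0) * h2
  · linear_combination (0) * hΦ + (0) * h2
  · linear_combination (0) * hΦ + (0) * h2
  · linear_combination (0) * hΦ + (0) * h2
  · linear_combination ((-1)*ζ^2 + ζ^3) * hΦ + (0) * h2

lemma S_five : M5 (ζ^4) (0) (0) (0) (ζ^2) * M5 (ζ) (0) (0) (0) (ζ^3) = M5 ((1)) (0) (0) (0) ((1)) := by
  simp only [M5_mul]
  apply M5_congr
  · linear_combination ((-1) + ζ) * hΦ + (0) * h2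
  · linear_combination (0) * hΦ + (0) * h2
  · linear_combination (0) * hΦ + (0) * h2
  · linear_combination (0) * hΦ + (0) * h2
  · linear_combination ((-1) + ζ) * hΦ + (0) * h2

lemma G1_conj : M5 ((1) + ζ + ζ^2) (ζ + ζ^2) (ζ^3) (ζ^2) ((1)) * M5 (ζ) (0) (0) (0) (ζ^3) = M5 (ζ) (0) (0) (0) (ζ^3) * M5 ((1) + ζ + ζ^2) (ζ + ζ^2) ((1)) ((1)) ((1)) := by
  simp only [M5_mul]
  apply M5_congr
  · linear_combination (0) * hΦ + (0) * h2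
  · linear_combination (0) * hΦ + (0) * h2
  · linear_combination ((-1)*ζ + ζ^2) * hΦ + (0) * h2
  · linear_combination (0) * hΦ + (0) * h2
  · linear_combination (0) * hΦ + (0) * h2

lemma G2_conj : M5 ((1) + ζ + ζ^2) (ζ + ζ^2) (ζ) (ζ^4) ((1)) * M5 (ζ^2) (0) (0) (0) (ζ) = M5 (ζ^2) (0) (0) (0) (ζ) * M5 ((1) + ζ + ζ^2) (ζ + ζ^2) ((1)) ((1)) ((1)) := by
  simp only [M5_mul]
  apply M5_congr
  · linear_combination (0) * hΦ + (0) * h2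
  · linear_combination (0) * hΦ + (0) * h2
  · linear_combination (0) * hΦ + (0) * h2
  · linear_combination ((-1)*ζ + ζ^2) * hΦ + (0) * h2
  · linear_combination (0) * hΦ + (0) * h2

lemma G3_conj : M5 ((1) + ζ + ζ^2) (ζ + ζ^2) (ζ^4) (ζ) ((1)) * M5 (ζ^3) (0) (0) (0) (ζ^4) = M5 (ζ^3) (0) (0) (0) (ζ^4) * M5 ((1) + ζ + ζ^2) (ζ + ζ^2) ((1)) ((1)) ((1)) := by
  simp only [M5_mul]
  apply M5_congr
  · linear_combination (0) * hΦ + (0) * h2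
  · linear_combination (0) * hΦ + (0) * h2
  · linear_combination ((-1)*ζ^3 + ζ^4) * hΦ + (0) * h2
  · linear_combination (0) * hΦ + (0) * h2
  · linear_combination (0) * hΦ + (0) * h2

lemma G4_conj : M5 ((1) + ζ + ζ^2) (ζ + ζ^2) (ζ^2) (ζ^3) ((1)) * M5 (ζ^4) (0) (0) (0) (ζ^2) = M5 (ζ^4) (0) (0) (0) (ζ^2) * M5 ((1) + ζ + ζ^2) (ζ + ζ^2) ((1)) ((1)) ((1)) := by
  simp only [M5_mul]
  apply M5_congr
  · linear_combination (0) * hΦ + (0) * h2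
  · linear_combination (0) * hΦ + (0) * h2
  · linear_combination (0) * hΦ + (0) * h2
  · linear_combination ((-1)*ζ^2 + ζ^3) * hΦ + (0) * h2
  · linear_combination (0) * hΦ + (0) * h2

lemma C1_def : M5 ((1) + ζ^2 + ζ^3) (ζ^2 + ζ^3) (0) (0) ((1)) * (M5 ((1) + ζ + ζ^2) (ζ + ζ^2) (ζ^3) (ζ^2) ((1)) * M5 ((1) + ζ + ζ^2) (ζ + ζ^2) ((1)) ((1)) ((1))) = M5 ((1) + ζ + ζ^2) (ζ + ζ^2) ((1)) ((1)) ((1)) * M5 ((1) + ζ + ζ^2) (ζ + ζ^2) (ζ^3) (ζ^2) ((1)) := by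
  simp only [M5_mul]
  apply M5_congr
  · linear_combination ((-6) + (4)*ζ + (10)*ζ^2 + (4)*ζ^3) * hΦ + ((3) + ζ + (-4)*ζ^2 + (-3)*ζ^3) * h2
  · linear_combination ((-6) + (4)*ζ + (10)*ζ^2 + (4)*ζ^3) * hΦ + ((3) + ζ + (-4)*ζ^2 + (-3)*ζ^3) * h2
  · linear_combination ((2) + (2)*ζ + (2)*ζ^2) * hΦ + ((-1) + (-1)*ζ + (-1)*ζ^2) * h2
  · linear_combination ((2)) * hΦ + ((-1) + (-2)*ζ + (-2)*ζ^2) * h2
  · linear_combination (0) * hΦ + (ζ^2 + (-1)*ζ^3) * h2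

lemma C2_def : M5 (ζ^2 + ζ^3) ((1) + ζ^2 + ζ^3) (0) (0) ((1)) * (M5 ((1) + ζ + ζ^2) (ζ + ζ^2) (ζ) (ζ^4) ((1)) * M5 ((1) + ζ + ζ^2) (ζ + ζ^2) ((1)) ((1)) ((1))) = M5 ((1) + ζ + ζ^2) (ζ + ζ^2) ((1)) ((1)) ((1)) * M5 ((1) + ζ + ζ^2) (ζ + ζ^2) (ζ) (ζ^4) ((1)) := by
  simp only [M5_mul]
  apply M5_congr
  · linear_combination ((-3) + (4)*ζ + (8)*ζ^2 + (4)*ζ^3) * hΦ + ((1) + (-4)*ζ^2 + (-3)*ζ^3) * h2
  · linear_combination ((-3) + (4)*ζ + (8)*ζ^2 + (4)*ζ^3) * hΦ + ((2) + (-4)*ζ^2 + (-3)*ζ^3) * h2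
  · linear_combination ((6) + (4)*ζ) * hΦ + ((-3) + (-4)*ζ + (-4)*ζ^2 + (-2)*ζ^3) * h2
  · linear_combination ((-2) + (2)*ζ^2) * hΦ + ((1) + (-1)*ζ^2) * h2
  · linear_combination ((2)) * hΦ + ((-1) + (-2)*ζ + (-1)*ζ^2 + (-1)*ζ^3) * h2

lemma C3_def : M5 (ζ^2 + ζ^3) ((1) + ζ^2 + ζ^3) (0) (0) ((1)) * (M5 ((1) + ζ + ζ^2) (ζ + ζ^2) (ζ^4) (ζ) ((1)) * M5 ((1) + ζ + ζ^2) (ζ + ζ^2) ((1)) ((1)) ((1))) = M5 ((1) + ζ + ζ^2) (ζ + ζ^2) ((1)) ((1)) ((1)) * M5 ((1) + ζ + ζ^2) (ζ + ζ^2) (ζ^4) (ζ) ((1)) := by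
  simp only [M5_mul]
  apply M5_congr
  · linear_combination ((-3) + (2)*ζ + (8)*ζ^2 + (6)*ζ^3) * hΦ + ((1) + (-3)*ζ^2 + (-4)*ζ^3) * h2
  · linear_combination ((-3) + (2)*ζ + (8)*ζ^2 + (6)*ζ^3) * hΦ + ((2) + (-3)*ζ^2 + (-4)*ζ^3) * h2
  · linear_combination ((6) + (2)*ζ + (-2)*ζ^2 + (2)*ζ^3) * hΦ + ((-3) + (-3)*ζ + (-1)*ζ^2 + (-1)*ζ^3) * h2
  · linear_combination (0) * hΦ + ((-1)*ζ + ζ^3) * h2
  · linear_combination ((-2)) * hΦ + ((1) + (2)*ζ + ζ^2 + ζ^3) * h2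

lemma C1_S : M5 ((1) + ζ^2 + ζ^3) (ζ^2 + ζ^3) (0) (0) ((1)) * M5 (ζ) (0) (0) (0) (ζ^3) = M5 (ζ) (0) (0) (0) (ζ^3) * M5 ((1) + ζ^2 + ζ^3) (ζ^2 + ζ^3) (0) (0) ((1)) := by
  simp only [M5_mul]
  apply M5_congr
  · linear_combination (0) * hΦ + (0) * h2
  · linear_combination (0) * hΦ + (0) * h2
  · linear_combination (0) * hΦ + (0) * h2
  · linear_combination (0) * hΦ + (0) * h2
  · linear_combination (0) * hΦ + (0) * h2

lemma C1_G : M5 ((1) + ζ^2 + ζ^3) (ζ^2 + ζ^3) (0) (0) ((1)) * M5 ((1) + ζ + ζ^2) (ζ + ζ^2) ((1)) ((1)) ((1)) = M5 ((1) + ζ + ζ^2) (ζ + ζ^2) ((1)) ((1)) ((1)) * M5 ((1) + ζ^2 + ζ^3) (ζ^2 + ζ^3) (0) (0) ((1)) := by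
  simp only [M5_mul]
  apply M5_congr
  · linear_combination (0) * hΦ + (0) * h2
  · linear_combination (0) * hΦ + (0) * h2
  · linear_combination (0) * hΦ + (ζ^2 + ζ^3) * h2
  · linear_combination (0) * hΦ + ((-1)*ζ^2 + (-1)*ζ^3) * h2
  · linear_combination (0) * hΦ + (0) * h2

lemma C2_S : M5 (ζ^2 + ζ^3) ((1) + ζ^2 + ζ^3) (0) (0) ((1)) * M5 (ζ) (0) (0) (0) (ζ^3) = M5 (ζ) (0) (0) (0) (ζ^3) * M5 (ζ^2 + ζ^3) ((1) + ζ^2 + ζ^3) (0) (0) ((1)) := by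
  simp only [M5_mul]
  apply M5_congr
  · linear_combination (0) * hΦ + (0) * h2
  · linear_combination (0) * hΦ + (0) * h2
  · linear_combination (0) * hΦ + (0) * h2
  · linear_combination (0) * hΦ + (0) * h2
  · linear_combination (0) * hΦ + (0) * h2

lemma C2_G : M5 (ζ^2 + ζ^3) ((1) + ζ^2 + ζ^3) (0) (0) ((1)) * M5 ((1) + ζ + ζ^2) (ζ + ζ^2) ((1)) ((1)) ((1)) = M5 ((1) + ζ + ζ^2) (ζ + ζ^2) ((1)) ((1)) ((1)) * M5 (ζ^2 + ζ^3) ((1) + ζ^2 + ζ^3) (0) (0) ((1)) := by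
  simp only [M5_mul]
  apply M5_congr
  · linear_combination (0) * hΦ + (0) * h2
  · linear_combination (0) * hΦ + (0) * h2
  · linear_combination (0) * hΦ + (ζ^2 + ζ^3) * h2
  · linear_combination (0) * hΦ + ((-1)*ζ^2 + (-1)*ζ^3) * h2
  · linear_combination (0) * hΦ + (0) * h2

lemma C1_sq : M5 ((1) + ζ^2 + ζ^3) (ζ^2 + ζ^3) (0) (0) ((1)) * M5 ((1) + ζ^2 + ζ^3) (ζ^2 + ζ^3) (0) (0) ((1)) = M5 ((1)) (0) (0) (0) ((1)) := by
  simp only [M5_mul]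
  apply M5_congr
  · linear_combination ((-2) + (2)*ζ + (2)*ζ^2) * hΦ + ((1)) * h2
  · linear_combination ((-2) + (2)*ζ + (2)*ζ^2) * hΦ + ((1)) * h2
  · linear_combination (0) * hΦ + (0) * h2
  · linear_combination (0) * hΦ + (0) * h2
  · linear_combination (0) * hΦ + (0) * h2

lemma C2_sq : M5 (ζ^2 + ζ^3) ((1) + ζ^2 + ζ^3) (0) (0) ((1)) * M5 (ζ^2 + ζ^3) ((1) + ζ^2 + ζ^3) (0) (0) ((1)) = M5 ((1)) (0) (0) (0) ((1)) := by
  simp only [M5_mul]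
  apply M5_congr
  · linear_combination ((-2) + (2)*ζ + (2)*ζ^2) * hΦ + ((1)) * h2
  · linear_combination ((-2) + (2)*ζ + (2)*ζ^2) * hΦ + ((1)) * h2
  · linear_combination (0) * hΦ + (0) * h2
  · linear_combination (0) * hΦ + (0) * h2
  · linear_combination (0) * hΦ + (0) * h2

lemma G_sq : M5 ((1) + ζ + ζ^2) (ζ + ζ^2) ((1)) ((1)) ((1)) * M5 ((1) + ζ + ζ^2) (ζ + ζ^2) ((1)) ((1)) ((1)) = M5 ((1) + ζ^2 + ζ^3) (ζ^2 + ζ^3) (0) (0) ((1)) * M5 (ζ^2 + ζ^3) ((1) + ζ^2 + ζ^3) (0) (0) ((1)) := by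
  simp only [M5_mul]
  apply M5_congr
  · linear_combination ((4) + (-2)*ζ + (-2)*ζ^2) * hΦ + ((-1) + ζ^2 + ζ^3) * h2
  · linear_combination ((4) + (-2)*ζ + (-2)*ζ^2) * hΦ + ((-2) + ζ^2 + ζ^3) * h2
  · linear_combination (0) * hΦ + ((1) + ζ + ζ^2) * h2
  · linear_combination (0) * hΦ + ((1) + ζ + ζ^2) * h2
  · linear_combination (0) * hΦ + ((1)) * h2

lemma G4_eq : M5 ((1) + ζ + ζ^2) (ζ + ζ^2) (ζ^2) (ζ^3) ((1)) = M5 ((1) + ζ + ζ^2) (ζ + ζ^2) ((1)) ((1)) ((1)) * M5 ((1) + ζ + ζ^2) (ζ + ζ^2) (ζ^3) (ζ^2) ((1)) * M5 ((1) + ζ + ζ^2) (ζ + ζ^2) (ζ) (ζ^4) ((1)) * M5 ((1) + ζ + ζ^2) (ζ + ζ^2) (ζ^4) (ζ) ((1)) := by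
  simp only [M5_mul]
  apply M5_congr
  · linear_combination ((12) + (-28)*ζ + (-47)*ζ^2 + (-21)*ζ^3 + (-4)*ζ^4 + (-4)*ζ^6 + (-4)*ζ^7) * hΦ + ((-6) + (6)*ζ + (23)*ζ^2 + (18)*ζ^3) * h2
  · linear_combination ((12) + (-28)*ζ + (-47)*ζ^2 + (-21)*ζ^3 + (-4)*ζ^4 + (-4)*ζ^6 + (-4)*ζ^7) * hΦ + ((-6) + (6)*ζ + (23)*ζ^2 + (18)*ζ^3) * h2
  · linear_combination ((-15) + (2)*ζ + (18)*ζ^2 + (6)*ζ^3 + (-22)*ζ^4 + (-16)*ζ^5 + (-6)*ζ^6 + (2)*ζ^7 + (-4)*ζ^9) * hΦ + ((7) + (6)*ζ + (-4)*ζ^2 + (-11)*ζ^3) * h2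
  · linear_combination ((-23) + (-20)*ζ + (-12)*ζ^2 + (2)*ζ^3 + (-4)*ζ^5) * hΦ + ((11) + (18)*ζ + (17)*ζ^2 + (7)*ζ^3) * h2
  · linear_combination ((6) + (14)*ζ + (-2)*ζ^2 + (-6)*ζ^3 + (-14)*ζ^4 + (4)*ζ^6 + (-4)*ζ^7) * hΦ + ((-3) + (-11)*ζ + (-11)*ζ^2 + (-10)*ζ^3) * h2

lemma S_T0 : M5 (ζ) (0) (0) (0) (ζ^3) * M5 (0) ((1)) (0) (0) ((1)) = M5 (0) ((1)) (0) (0) ((1)) * M5 (ζ) (0) (0) (0) (ζ^3) := by
  simp only [M5_mul]
  apply M5_congr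
  · linear_combination (0) * hΦ + (0) * h2
  · linear_combination (0) * hΦ + (0) * h2
  · linear_combination (0) * hΦ + (0) * h2
  · linear_combination (0) * hΦ + (0) * h2
  · linear_combination (0) * hΦ + (0) * h2

lemma G_T0 : M5 ((1) + ζ + ζ^2) (ζ + ζ^2) ((1)) ((1)) ((1)) * M5 (0) ((1)) (0) (0) ((1)) = M5 (0) ((1)) (0) (0) ((1)) * M5 ((1) + ζ + ζ^2) (ζ + ζ^2) ((1)) ((1)) ((1)) := by
  simp only [M5_mul]
  apply M5_congr
  · linear_combination (0) * hΦ + (0) * h2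
  · linear_combination (0) * hΦ + (0) * h2
  · linear_combination (0) * hΦ + (0) * h2
  · linear_combination (0) * hΦ + (0) * h2
  · linear_combination (0) * hΦ + (0) * h2

lemma S_unit : M5 (ζ) (0) (0) (0) (ζ^3) * M5 ((ζ)^4) ((0)^4) ((0)^4) ((0)^4) ((ζ^3)^4) = M5 ((1)) (0) (0) (0) ((1)) := by
  simp only [M5_mul]
  apply M5_congr
  · linear_combination ((-1) + ζ) * hΦ + (0) * h2
  · linear_combination (0) * hΦ + (0) * h2
  · linear_combination (0) * hΦ + (0) * h2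
  · linear_combination (0) * hΦ + (0) * h2
  · linear_combination ((-1) + ζ + (-1)*ζ^5 + ζ^6 + (-1)*ζ^10 + ζ^11) * hΦ + (0) * h2

lemma G_unit : M5 ((1) + ζ + ζ^2) (ζ + ζ^2) ((1)) ((1)) ((1)) * M5 (((1) + ζ + ζ^2)^4) ((ζ + ζ^2)^4) (((1))^4) (((1))^4) (((1))^4) = M5 ((1)) (0) (0) (0) ((1)) := by
  simp only [M5_mul]
  apply M5_congr
  · linear_combination ((1) + (4)*ζ + (10)*ζ^2 + (15)*ζ^3 + (15)*ζ^4 + (8)*ζ^5 + (2)*ζ^6) * hΦ + (0) * h2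
  · linear_combination ((-5) + (-4)*ζ + (6)*ζ^2 + (15)*ζ^3 + (15)*ζ^4 + (8)*ζ^5 + (2)*ζ^6) * hΦ + ((3) + (5)*ζ + (4)*ζ^2 + ζ^3) * h2
  · linear_combination (0) * hΦ + ((1) + ζ + ζ^2) * h2
  · linear_combination ((4)*ζ + (8)*ζ^2 + (6)*ζ^3 + (2)*ζ^4) * hΦ + ((1) + (-1)*ζ^2 + (-1)*ζ^3) * h2
  · linear_combination (0) * hΦ + ((1)) * h2

lemma S_det : (M5 (ζ) (0) (0) (0) (ζ^3)).det = 1 := by
  rw [M5_det]
  linear_combination ((-1) + ζ) * hΦ + (0) * h2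

lemma G_det : (M5 ((1) + ζ + ζ^2) (ζ + ζ^2) ((1)) ((1)) ((1))).det = 1 := by
  rw [M5_det]
  linear_combination (0) * hΦ + ((-1) + ζ + ζ^2) * h2

end Ids

section Main

variable {F : Type*} [Field F] [Fintype F]

lemma mat_mul_inv_eq {q : ℕ} (X Y : SU 3 F q) (M : Matrix (Fin 3) (Fin 3) F)
    (h : M * mat Y = mat X) : mat (X * Y⁻¹) = M := by
  have h1 : mat (X * Y⁻¹) = mat X * mat Y⁻¹ := mat_mul _ _
  rw [h1, ← h, Matrix.mul_assoc, ← mat_mul, mul_inv_cancel, mat_one, Matrix.mul_one]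

/-- FO-E3 -/
theorem exists_rel_SU (hF : Fintype.card F = 16) :
    ∃ σ g : Cfsg.SU 3 F 4, σ * t0 hF = t0 hF * σ ∧ g * t0 hF = t0 hF * g ∧ Rel σ g ∧
      c1 σ g ≠ 1 ∧ c2 σ g ≠ 1 ∧ c1 σ g ≠ c2 σ g := by
  classical
  have hF' : Fintype.card F = 4 ^ 2 := by rw [hF]; norm_num
  have h2 : (2 : F) = 0 := two_eq_zero hF
  -- an element of order 5
  have hcard : Fintype.card Fˣ = 15 := by rw [Fintype.card_units, hF]
  have : Fact (Nat.Prime 5) := ⟨by norm_num⟩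
  obtain ⟨u, hu⟩ := exists_prime_orderOf_dvd_card (G := Fˣ) 5 (by rw [hcard]; norm_num)
  obtain ⟨ζ, hζdef⟩ : ∃ ζ : F, ζ = (u : F) := ⟨_, rfl⟩
  have hζ5 : ζ ^ 5 = 1 := by
    have : u ^ 5 = 1 := by rw [← hu]; exact pow_orderOf_eq_one u
    rw [hζdef, ← Units.val_pow_eq_pow_val, this, Units.val_one]
  have hζ1 : ζ ≠ 1 := by
    intro h
    have : u = 1 := Units.ext (by rw [← hζdef, h, Units.val_one])
    rw [this, orderOf_one] at hu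
    norm_num at hu
  have hΦ : ζ ^ 4 + ζ ^ 3 + ζ ^ 2 + ζ + 1 = 0 := by
    have h : (ζ - 1) * (ζ ^ 4 + ζ ^ 3 + ζ ^ 2 + ζ + 1) = 0 := by
      linear_combination hζ5
    rcases mul_eq_zero.mp h with h | h
    · exact absurd (sub_eq_zero.mp h) hζ1
    · exact h
  have hconj : ∀ x : F, conjQ hF' x = x ^ 4 := fun x => rfl
  -- the two generators
  obtain ⟨σ, hσ⟩ := exists_of_matrix hF' (M5 (ζ) (0) (0) (0) (ζ^3))
    (by
      rw [M5_transpose, M5_map]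
      simp only [hconj]
      have := S_unit ζ hΦ h2
      rw [M5_one]
      convert this using 2)
    (S_det ζ hΦ h2)
  obtain ⟨g, hg⟩ := exists_of_matrix hF' (M5 ((1) + ζ + ζ^2) (ζ + ζ^2) ((1)) ((1)) ((1)))
    (by
      rw [M5_transpose, M5_map]
      simp only [hconj]
      have := G_unit ζ hΦ h2
      rw [M5_one]
      convert this using 2)
    (G_det ζ hΦ h2)
  have ht0 : mat (t0 hF) = M5 0 1 0 0 1 := by rw [mat_t0, M5_swap]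
  -- powers of σ
  have hσ2 : mat (σ ^ 2) = M5 (ζ^2) (0) (0) (0) (ζ) := by
    rw [pow_two, mat_mul, hσ]; exact S_sq ζ hΦ h2
  have hσ3 : mat (σ ^ 3) = M5 (ζ^3) (0) (0) (0) (ζ^4) := by
    rw [pow_succ, mat_mul, hσ2, hσ]; exact S_cube ζ hΦ h2
  have hσ4 : mat (σ ^ 4) = M5 (ζ^4) (0) (0) (0) (ζ^2) := by
    rw [pow_succ, mat_mul, hσ3, hσ]; exact S_four ζ hΦ h2
  have hσ5 : mat (σ ^ 5) = 1 := by
    rw [pow_succ, mat_mul, hσ4, hσ, M5_one]; exact S_five ζ hΦ h2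
  have hσ1 : mat (σ ^ 1) = M5 (ζ) (0) (0) (0) (ζ^3) := by rw [pow_one, hσ]
  -- the conjugates of g
  have hg1 : mat (gi σ g 1) = M5 ((1) + ζ + ζ^2) (ζ + ζ^2) (ζ^3) (ζ^2) ((1)) := by
    unfold gi
    apply mat_mul_inv_eq
    rw [mat_mul, hσ1, hg]; exact G1_conj ζ hΦ h2
  have hg2 : mat (gi σ g 2) = M5 ((1) + ζ + ζ^2) (ζ + ζ^2) (ζ) (ζ^4) ((1)) := by
    unfold gi
    apply mat_mul_inv_eq
    rw [mat_mul, hσ2, hg]; exact G2_conj ζ hΦ h2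
  have hg3 : mat (gi σ g 3) = M5 ((1) + ζ + ζ^2) (ζ + ζ^2) (ζ^4) (ζ) ((1)) := by
    unfold gi
    apply mat_mul_inv_eq
    rw [mat_mul, hσ3, hg]; exact G3_conj ζ hΦ h2
  have hg4 : mat (gi σ g 4) = M5 ((1) + ζ + ζ^2) (ζ + ζ^2) (ζ^2) (ζ^3) ((1)) := by
    unfold gi
    apply mat_mul_inv_eq
    rw [mat_mul, hσ4, hg]; exact G4_conj ζ hΦ h2
  -- the commutators
  have hcomm : ∀ x y : Cfsg.SU 3 F 4, x * y * x⁻¹ * y⁻¹ = (x * y) * (y * x)⁻¹ := by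
    intro x y; group
  have hc1 : mat (c1 σ g) = M5 ((1) + ζ^2 + ζ^3) (ζ^2 + ζ^3) (0) (0) ((1)) := by
    unfold c1
    rw [hcomm]
    apply mat_mul_inv_eq
    rw [mat_mul, mat_mul, hg1, hg]; exact C1_def ζ hΦ h2
  have hc2 : mat (c2 σ g) = M5 (ζ^2 + ζ^3) ((1) + ζ^2 + ζ^3) (0) (0) ((1)) := by
    unfold c2
    rw [hcomm]
    apply mat_mul_inv_eq
    rw [mat_mul, mat_mul, hg2, hg]; exact C2_def ζ hΦ h2
  have hc3 : mat (g * gi σ g 3 * g⁻¹ * (gi σ g 3)⁻¹) =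
      M5 (ζ^2 + ζ^3) ((1) + ζ^2 + ζ^3) (0) (0) ((1)) := by
    rw [hcomm]
    apply mat_mul_inv_eq
    rw [mat_mul, mat_mul, hg3, hg]; exact C3_def ζ hΦ h2
  refine ⟨σ, g, ?_, ?_, ?_, ?_, ?_, ?_⟩
  · apply mat_injective
    rw [mat_mul, mat_mul, hσ, ht0]; exact S_T0 ζ hΦ h2
  · apply mat_injective
    rw [mat_mul, mat_mul, hg, ht0]; exact G_T0 ζ hΦ h2
  · refine ⟨?_, ?_, ?_, ?_, ?_, ?_, ?_, ?_, ?_, ?_⟩
    · apply mat_injective; rw [hσ5, mat_one]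
    · apply mat_injective
      rw [mat_mul, mat_mul, hc1, hσ]; exact C1_S ζ hΦ h2
    · apply mat_injective
      rw [mat_mul, mat_mul, hc1, hg]; exact C1_G ζ hΦ h2
    · apply mat_injective
      rw [mat_mul, mat_mul, hc2, hσ]; exact C2_S ζ hΦ h2
    · apply mat_injective
      rw [mat_mul, mat_mul, hc2, hg]; exact C2_G ζ hΦ h2
    · apply mat_injective
      rw [mat_mul, hc1, mat_one, M5_one]; exact C1_sq ζ hΦ h2
    · apply mat_injective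
      rw [mat_mul, hc2, mat_one, M5_one]; exact C2_sq ζ hΦ h2
    · apply mat_injective
      rw [mat_mul, mat_mul, hc1, hc2, hg]; exact G_sq ζ hΦ h2
    · apply mat_injective
      rw [hc3, hc2]
    · apply mat_injective
      rw [mat_mul, mat_mul, mat_mul, hg4, hg, hg1, hg2, hg3]; exact G4_eq ζ hΦ h2
  · intro h
    have h1 := congrArg mat h
    rw [hc1, mat_one, M5_one] at h1
    have h3 := M5_inj_01 h1
    -- ζ^2 + ζ^3 = 0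
    have h4 : ζ ^ 2 * (ζ + 1) = 0 := by linear_combination h3
    have hζ0 : ζ ≠ 0 := by
      intro h0; rw [h0] at hζ5; norm_num at hζ5
    rcases mul_eq_zero.mp h4 with h5 | h5
    · exact hζ0 (pow_eq_zero_iff (by norm_num) |>.mp h5)
    · apply hζ1
      linear_combination h5 - h2
  · intro h
    have h1 := congrArg mat h
    rw [hc2, mat_one, M5_one] at h1
    have h3 := M5_inj_01 h1
    -- 1 + ζ^2 + ζ^3 = 0, so ζ + ζ^4 = 0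
    have hζ0 : ζ ≠ 0 := by
      intro h0; rw [h0] at hζ5; norm_num at hζ5
    have h4 : ζ * (ζ ^ 3 + 1) = 0 := by linear_combination hΦ - h3
    rcases mul_eq_zero.mp h4 with h5 | h5
    · exact hζ0 h5
    · -- ζ^3 = -1 = 1, so ζ = ζ^6 = 1
      apply hζ1
      have h6 : ζ ^ 3 = 1 := by linear_combination h5 - h2
      calc ζ = ζ ^ 6 * (ζ ^ 5)⁻¹ := by
            rw [hζ5, inv_one, mul_one]
            have : ζ ^ 6 = ζ ^ 5 * ζ := by ring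
            rw [this, hζ5, one_mul]
        _ = 1 := by
            have : ζ ^ 6 = (ζ ^ 3) ^ 2 := by ring
            rw [this, h6, hζ5]; simp
  · intro h
    have h1 := congrArg mat h
    rw [hc1, hc2] at h1
    have h3 := M5_inj_00 h1
    have : (1 : F) = 0 := by linear_combination h3
    exact one_ne_zero this

end Main

end Cfsg.Agent.Lib.Helper22.S1903
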