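import Mathlib
import Cfsg.Prelude.Def_GeometricClasses
import Cfsg.Agent.Lib.Helper7.AschDefs
import Cfsg.Agent.Lib.Helper12.AschG1
import Cfsg.Agent.Lib.Helper10.S5630Struct
import Cfsg.Agent.Lib.Helper22.AschC7Defs

/-!
# S5630 I7, piece BLK (`exists_algHom_span`): the span of `L` is a full matrix algebra  (helper22, from helper10's STRUCT)
-/

set_option autoImplicit false

namespace Cfsg.Agent.Lib.Helper22.S5630I7BLK

open Matrix Cfsg.Geo Cfsg.Agent.Lib.Helper7.Asch

variable {F : Type*} [Field F] {n : ℕ}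

theorem adjoin_toSubmodule (L : Subgroup (GL (Fin n) F)) :
    (Algebra.adjoin F (matrixSet L)).toSubmodule = Submodule.span F (matrixSet L) := by
  rw [Algebra.adjoin_eq_span, ← Cfsg.Agent.Lib.Helper12.AschG1.coe_matrixSubmonoid, Submonoid.closure_eq]

/-- **BLK** the linear span of `L` is a full matrix algebra `M_m(F)` -/
theorem exists_algHom_span [Fintype F] (hn : 0 < n) (N L : Subgroup (GL (Fin n) F)) (hN : AbsIrr N) (hLN : L ≤ N)
    (hfac : ∀ g ∈ N, ∃ x ∈ L, ∃ c ∈ N, g = x * c ∧ ∀ y ∈ L, c * y = y * c) :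
    ∃ (m : ℕ) (φ : Matrix (Fin m) (Fin m) F →ₐ[F] Matrix (Fin n) (Fin n) F),
      (∀ a, φ a ∈ Submodule.span F (matrixSet L)) ∧
      (∀ x ∈ L, ∃ a, φ a = ((x : GL (Fin n) F) : Matrix (Fin n) (Fin n) F)) := by
  obtain ⟨C, hC⟩ : ∃ C : Set (Matrix (Fin n) (Fin n) F), C =
      {M | ∃ c ∈ N, (∀ y ∈ L, c * y = y * c) ∧ M = ((c : GL (Fin n) F) : Matrix (Fin n) (Fin n) F)} := ⟨_, rfl⟩
  have hcomm : ∀ a ∈ Algebra.adjoin F (matrixSet L), ∀ b ∈ Algebra.adjoin F C, a * b = b * a := by
    intro a ha b hb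
    have h1 : Algebra.adjoin F (matrixSet L) ≤ Subalgebra.centralizer F (Algebra.adjoin F C : Set (Matrix (Fin n) (Fin n) F)) := by
      apply Algebra.adjoin_le
      intro l hl
      rw [SetLike.mem_coe, Subalgebra.mem_centralizer_iff]
      intro b' hb'
      have h2 : Algebra.adjoin F C ≤ Subalgebra.centralizer F ({l} : Set (Matrix (Fin n) (Fin n) F)) := by
        apply Algebra.adjoin_le
        intro c' hc'
        rw [SetLike.mem_coe, Subalgebra.mem_centralizer_iff]
        intro l' hl'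
        rw [Set.mem_singleton_iff] at hl'
        subst hl'
        rw [hC] at hc'
        obtain ⟨c, _, hcL, rfl⟩ := hc'
        obtain ⟨y, hy, rfl⟩ := hl
        have := hcL y hy
        rw [← Units.val_mul, ← Units.val_mul, this]
      have := h2 hb'
      rw [Subalgebra.mem_centralizer_iff] at this
      exact (this l rfl).symm
    have := h1 ha
    rw [Subalgebra.mem_centralizer_iff] at this
    exact (this b hb).symm
  have hgen : Algebra.adjoin F (matrixSet L) ⊔ Algebra.adjoin F C = ⊤ := by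
    have hsub : matrixSet N ⊆ ((Algebra.adjoin F (matrixSet L) ⊔ Algebra.adjoin F C :
        Subalgebra F (Matrix (Fin n) (Fin n) F)) : Set (Matrix (Fin n) (Fin n) F)) := by
      rintro _ ⟨g, hg, rfl⟩
      obtain ⟨x, hx, c, hc, rfl, hcL⟩ := hfac g hg
      rw [SetLike.mem_coe]
      show ((x * c : GL (Fin n) F) : Matrix (Fin n) (Fin n) F) ∈ _
      rw [Units.val_mul]
      apply Subalgebra.mul_mem
      · exact (le_sup_left : Algebra.adjoin F (matrixSet L) ≤ _) (Algebra.subset_adjoin ⟨x, hx, rfl⟩)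
      · refine (le_sup_right : Algebra.adjoin F C ≤ _) (Algebra.subset_adjoin ?_)
        rw [hC]
        exact ⟨c, hc, hcL, rfl⟩
    have hspan : Submodule.span F (matrixSet N) ≤
        (Algebra.adjoin F (matrixSet L) ⊔ Algebra.adjoin F C : Subalgebra F (Matrix (Fin n) (Fin n) F)).toSubmodule :=
      Submodule.span_le.mpr hsub
    rw [Cfsg.Agent.Lib.Helper12.AschG1.span_matrixSet_eq_top N hN] at hspan
    rw [eq_top_iff]
    intro M _
    exact hspan (Submodule.mem_top : M ∈ (⊤ : Submodule F (Matrix (Fin n) (Fin n) F)))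
  obtain ⟨m, φ, _, hrange⟩ := Cfsg.Agent.Lib.Helper10.S5630Struct.exists_matrix_algHom
    (Algebra.adjoin F (matrixSet L)) (Algebra.adjoin F C) hcomm hgen
  refine ⟨m, φ, ?_, ?_⟩
  · intro a
    have h1 : φ a ∈ φ.range := ⟨a, rfl⟩
    rw [hrange] at h1
    rw [← adjoin_toSubmodule]
    exact h1
  · intro x hx
    have h1 : ((x : GL (Fin n) F) : Matrix (Fin n) (Fin n) F) ∈ Algebra.adjoin F (matrixSet L) :=
      Algebra.subset_adjoin ⟨x, hx, rfl⟩
    rw [← hrange] at h1
    exact h1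

end Cfsg.Agent.Lib.Helper22.S5630I7BLK
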