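import Mathlib
import Cfsg.Prelude.Def_GeometricClasses
import Cfsg.Agent.Lib.Helper7.AschDefs
import Cfsg.Agent.Lib.Helper7.AschWrap
import Cfsg.Agent.Lib.Helper7.AschCore
import Cfsg.Agent.Lib.Helper22.AschC7Defs
import Cfsg.Agent.Lib.Helper22.S5630I7BLK
import Cfsg.Agent.Lib.Helper22.S5630I7A
import Cfsg.Agent.Lib.Helper7.S5630I7D
import Cfsg.Agent.Lib.Helper10.S5630I7Tens
import Cfsg.Agent.Lib.Helper21.S5630I7C
import Cfsg.Agent.Lib.Helper8.S5630I7E
import Cfsg.Agent.Lib.Helper8.S5630I7E2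

/-!
# S5630, block I7 (`c7_case`): the pieces, ALL REAL now (wired to the landed pieces of helper7, helper8, helper10, helper21, helper22)

Paper proofs: `notes/S5630I7_helper22.md`.  The assembly `AschC7Top.lean` (real, from these stubs) is on main.
Write your piece in `Cfsg/Agent/Lib/HelperN/S5630I7<PIECE>.lean`, own namespace, EXACT signature, importing only Mathlib,
the Prelude, `Lib/Helper7/Asch{Defs,Wrap,Core}`, `Lib/Helper12/AschG1`, `Lib/Helper22/AschC7Defs`, this file (stubs) and landed pieces.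
-/

set_option autoImplicit false

namespace Cfsg.Agent.Lib.Helper22.AschC7

open Matrix Cfsg.Geo Cfsg.Agent.Lib.Helper7.Asch
open scoped Kronecker

variable {F : Type*} [Field F] {n m t : ℕ}

/-! ## A. the tensor-power algebra `M_X(F)`, `X = Fin t → Fin m` -/

/-- **P1a** -/
theorem pt_mul (as bs : Fin t → Matrix (Fin m) (Fin m) F) : pt as * pt bs = pt (fun i => as i * bs i) :=
  Cfsg.Agent.Lib.Helper22.S5630I7A.pt_mul as bs

/-- **P1b** -/
theorem pt_one : pt (fun _ : Fin t => (1 : Matrix (Fin m) (Fin m) F)) = 1 :=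
  Cfsg.Agent.Lib.Helper22.S5630I7A.pt_one

/-- **P1c** -/
theorem pt_update_smul (as : Fin t → Matrix (Fin m) (Fin m) F) (i : Fin t) (c : F) (a : Matrix (Fin m) (Fin m) F) :
    pt (Function.update as i (c • a)) = c • pt (Function.update as i a) :=
  Cfsg.Agent.Lib.Helper22.S5630I7A.pt_update_smul as i c a

/-- **P1d** -/
theorem pt_update_add (as : Fin t → Matrix (Fin m) (Fin m) F) (i : Fin t) (a b : Matrix (Fin m) (Fin m) F) :
    pt (Function.update as i (a + b)) = pt (Function.update as i a) + pt (Function.update as i b) :=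
  Cfsg.Agent.Lib.Helper22.S5630I7A.pt_update_add as i a b

/-- **P1e** -/
theorem pt_transpose (as : Fin t → Matrix (Fin m) (Fin m) F) : (pt as)ᵀ = pt (fun i => (as i)ᵀ) :=
  Cfsg.Agent.Lib.Helper22.S5630I7A.pt_transpose as

/-- **P1f** matrix units are pure tensors of matrix units -/
theorem pt_single (x y : Fin t → Fin m) :
    pt (fun i => Matrix.single (x i) (y i) (1 : F)) = Matrix.single x y 1 :=
  Cfsg.Agent.Lib.Helper22.S5630I7A.pt_single x y

/-- **P2a** -/
theorem pos_apply (i : Fin t) (a : Matrix (Fin m) (Fin m) F) (x y : Fin t → Fin m) :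
    pos i a x y = if (∀ j, j ≠ i → x j = y j) then a (x i) (y i) else 0 :=
  Cfsg.Agent.Lib.Helper22.S5630I7A.pos_apply i a x y

/-- **P2b** `pos i` is an algebra homomorphism -/
theorem exists_posAlgHom (i : Fin t) :
    ∃ ψ : Matrix (Fin m) (Fin m) F →ₐ[F] Matrix (Fin t → Fin m) (Fin t → Fin m) F, ∀ a, ψ a = pos i a :=
  Cfsg.Agent.Lib.Helper22.S5630I7A.exists_posAlgHom i

/-- **P2c** -/
theorem pos_injective (i : Fin t) : Function.Injective (pos (F := F) (m := m) i) :=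
  Cfsg.Agent.Lib.Helper22.S5630I7A.pos_injective i

/-- **P2d** -/
theorem pt_mul_pos (as : Fin t → Matrix (Fin m) (Fin m) F) (i : Fin t) (a : Matrix (Fin m) (Fin m) F) :
    pt as * pos i a = pt (Function.update as i (as i * a)) :=
  Cfsg.Agent.Lib.Helper22.S5630I7A.pt_mul_pos as i a

/-- **P2e** -/
theorem pos_mul_pt (as : Fin t → Matrix (Fin m) (Fin m) F) (i : Fin t) (a : Matrix (Fin m) (Fin m) F) :
    pos i a * pt as = pt (Function.update as i (a * as i)) :=
  Cfsg.Agent.Lib.Helper22.S5630I7A.pos_mul_pt as i a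

/-- **P3a** the position algebras generate the matrix algebra -/
theorem adjoin_pos_eq_top :
    Algebra.adjoin F (⋃ i : Fin t, Set.range (pos (F := F) (m := m) i)) = ⊤ :=
  Cfsg.Agent.Lib.Helper22.S5630I7A.adjoin_pos_eq_top

/-- **P3b** a matrix commuting with all position matrices is scalar -/
theorem scalar_of_commute_pos (Z : Matrix (Fin t → Fin m) (Fin t → Fin m) F)
    (hZ : ∀ (i : Fin t) (a : Matrix (Fin m) (Fin m) F), Z * pos i a = pos i a * Z) :
    ∃ c : F, Z = c • (1 : Matrix (Fin t → Fin m) (Fin t → Fin m) F) :=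
  Cfsg.Agent.Lib.Helper22.S5630I7A.scalar_of_commute_pos Z hZ

/-! ## B. commuting matrix subalgebras give a tensor decomposition (TENS) -/

/-- **TENS** (helper10; replaces the withdrawn K1-K4) `t` pairwise commuting copies of `M_m(F)` generating `M_n(F)` are,
after one reindexing and one change of basis, the `t` position algebras -/
theorem exists_tens (hn : 0 < n) (m t : ℕ)
    (φ : Fin t → (Matrix (Fin m) (Fin m) F →ₐ[F] Matrix (Fin n) (Fin n) F))
    (hc : ∀ i j, i ≠ j → ∀ a b, φ i a * φ j b = φ j b * φ i a)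
    (hgen : Algebra.adjoin F (⋃ i, Set.range (φ i)) = ⊤) :
    ∃ (e : Fin n ≃ (Fin t → Fin m)) (P : GL (Fin n) F), ∀ i a, φ i a =
      (P : Matrix (Fin n) (Fin n) F) * Matrix.reindex e.symm e.symm (pos i a) *
        ((P⁻¹ : GL (Fin n) F) : Matrix (Fin n) (Fin n) F) :=
  Cfsg.Agent.Lib.Helper10.S5630I7Tens.exists_tens hn m t φ hc hgen

/-! ## C. the normaliser of the family of position algebras is the tensor-wreath group (NORM) -/

/-- **N1** pure tensors of invertible matrices -/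
theorem exists_ptGL (gs : Fin t → GL (Fin m) F) :
    ∃ g : GL (Fin t → Fin m) F,
      (g : Matrix (Fin t → Fin m) (Fin t → Fin m) F) = pt (fun i => ((gs i : GL (Fin m) F) : Matrix (Fin m) (Fin m) F)) ∧
      ((g⁻¹ : GL (Fin t → Fin m) F) : Matrix (Fin t → Fin m) (Fin t → Fin m) F) =
        pt (fun i => (((gs i)⁻¹ : GL (Fin m) F) : Matrix (Fin m) (Fin m) F)) :=
  Cfsg.Agent.Lib.Helper21.S5630I7C.exists_ptGL gs

/-- **N2** factor permutations permute the position algebras -/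
theorem exists_factorPerm (σ : Equiv.Perm (Fin t)) :
    ∃ π : GL (Fin t → Fin m) F, IsFactorPermutation m t π ∧
      ∀ (i : Fin t) (a : Matrix (Fin m) (Fin m) F),
        (π : Matrix (Fin t → Fin m) (Fin t → Fin m) F) * pos i a *
          ((π⁻¹ : GL (Fin t → Fin m) F) : Matrix (Fin t → Fin m) (Fin t → Fin m) F) = pos (σ i) a :=
  Cfsg.Agent.Lib.Helper21.S5630I7C.exists_factorPerm σ

/-- **N3** an invertible matrix normalising every position algebra is a pure tensor -/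
theorem isPureTensor_of_normalizes (ht : 0 < t) (g : GL (Fin t → Fin m) F)
    (hg : ∀ (i : Fin t) (a : Matrix (Fin m) (Fin m) F), ∃ b : Matrix (Fin m) (Fin m) F,
      (g : Matrix (Fin t → Fin m) (Fin t → Fin m) F) * pos i a *
        ((g⁻¹ : GL (Fin t → Fin m) F) : Matrix (Fin t → Fin m) (Fin t → Fin m) F) = pos i b) :
    IsPureTensor m t g :=
  Cfsg.Agent.Lib.Helper21.S5630I7C.isPureTensor_of_normalizes ht g hg

/-- **N4** (NORM) an invertible matrix permuting the position algebras lies in the standard tensor-wreath group -/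
theorem mem_tensorWreathStandard (ht : 0 < t) (g : GL (Fin t → Fin m) F) (σ : Equiv.Perm (Fin t))
    (hg : ∀ (i : Fin t) (a : Matrix (Fin m) (Fin m) F), ∃ b : Matrix (Fin m) (Fin m) F,
      (g : Matrix (Fin t → Fin m) (Fin t → Fin m) F) * pos i a *
        ((g⁻¹ : GL (Fin t → Fin m) F) : Matrix (Fin t → Fin m) (Fin t → Fin m) F) = pos (σ i) b) :
    g ∈ tensorWreathStandard m t F :=
  Cfsg.Agent.Lib.Helper21.S5630I7C.mem_tensorWreathStandard ht g σ hg

/-! ## D. the group theory: conjugates of `L`, their product `N`, the algebra of `L` -/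

/-- **G1** enumeration of the `H`-conjugates of `L`; distinct conjugates commute; `H` permutes them -/
theorem exists_conj_enum [Fintype F] (H L : Subgroup (GL (Fin n) F)) (hLH : L ≤ H)
    (hconj : ∀ h ∈ H, (∀ x ∈ L, h * x * h⁻¹ ∈ L) ∨
      (∀ x ∈ L, ∀ y ∈ L, (h * x * h⁻¹) * y = y * (h * x * h⁻¹)))
    (hnn : ¬ NormBy H L) :
    ∃ (t : ℕ) (hs : Fin t → GL (Fin n) F), 2 ≤ t ∧ (∀ i, hs i ∈ H) ∧ (∃ i₀, cj (hs i₀) L = L) ∧
      (∀ i j, i ≠ j → ∀ x ∈ cj (hs i) L, ∀ y ∈ cj (hs j) L, x * y = y * x) ∧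
      (∀ h ∈ H, ∃ σ : Equiv.Perm (Fin t), ∀ i, cj h (cj (hs i) L) = cj (hs (σ i)) L) :=
  Cfsg.Agent.Lib.Helper7.S5630I7D.exists_conj_enum H L hLH hconj hnn

/-- **G2** the product of the conjugates is absolutely irreducible -/
theorem absIrr_iSup_cj [Fintype F] (H L : Subgroup (GL (Fin n) F)) (hQP : QP H) (hLH : L ≤ H)
    (hLs : ¬ L ≤ scalars (Fin n) F) (hs : Fin t → GL (Fin n) F) (hsH : ∀ i, hs i ∈ H)
    (hi₀ : ∃ i₀, cj (hs i₀) L = L)
    (hperm : ∀ h ∈ H, ∃ σ : Equiv.Perm (Fin t), ∀ i, cj h (cj (hs i) L) = cj (hs (σ i)) L) :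
    AbsIrr (⨆ i, cj (hs i) L) :=
  Cfsg.Agent.Lib.Helper7.S5630I7D.absIrr_iSup_cj H L hQP hLH hLs hs hsH hi₀ hperm

/-- **G3** `N = L · C_N(L)` -/
theorem exists_factor (L : Subgroup (GL (Fin n) F)) (hs : Fin t → GL (Fin n) F) (i₀ : Fin t)
    (hi₀ : cj (hs i₀) L = L)
    (hcomm : ∀ i j, i ≠ j → ∀ x ∈ cj (hs i) L, ∀ y ∈ cj (hs j) L, x * y = y * x) :
    ∀ g ∈ (⨆ i, cj (hs i) L), ∃ x ∈ L, ∃ c ∈ (⨆ i, cj (hs i) L), g = x * c ∧ ∀ y ∈ L, c * y = y * c :=
  Cfsg.Agent.Lib.Helper7.S5630I7D.exists_factor L hs i₀ hi₀ hcomm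

/-- **BLK** the linear span of `L` is a full matrix algebra `M_m(F)`  (REAL: helper22 from helper10's STRUCT) -/
theorem exists_algHom_span [Fintype F] (hn : 0 < n) (N L : Subgroup (GL (Fin n) F)) (hN : AbsIrr N) (hLN : L ≤ N)
    (hfac : ∀ g ∈ N, ∃ x ∈ L, ∃ c ∈ N, g = x * c ∧ ∀ y ∈ L, c * y = y * c) :
    ∃ (m : ℕ) (φ : Matrix (Fin m) (Fin m) F →ₐ[F] Matrix (Fin n) (Fin n) F),
      (∀ a, φ a ∈ Submodule.span F (matrixSet L)) ∧
      (∀ x ∈ L, ∃ a, φ a = ((x : GL (Fin n) F) : Matrix (Fin n) (Fin n) F)) :=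
  Cfsg.Agent.Lib.Helper22.S5630I7BLK.exists_algHom_span hn N L hN hLN hfac

/-- **G4a** conjugation moves the algebra of one conjugate onto the algebra of another -/
theorem conj_range_perm (L : Subgroup (GL (Fin n) F)) (φ : Matrix (Fin m) (Fin m) F →ₐ[F] Matrix (Fin n) (Fin n) F)
    (h1 : ∀ a, φ a ∈ Submodule.span F (matrixSet L))
    (h2 : ∀ x ∈ L, ∃ a, φ a = ((x : GL (Fin n) F) : Matrix (Fin n) (Fin n) F))
    (h a b : GL (Fin n) F) (hab : cj h (cj a L) = cj b L) (A : Matrix (Fin m) (Fin m) F) :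
    ∃ B : Matrix (Fin m) (Fin m) F, conjAlg h (conjAlg a (φ A)) = conjAlg b (φ B) :=
  Cfsg.Agent.Lib.Helper7.S5630I7D.conj_range_perm L φ h1 h2 h a b hab A

/-- **G4b** commuting conjugates have commuting algebras -/
theorem commute_ranges (L : Subgroup (GL (Fin n) F)) (φ : Matrix (Fin m) (Fin m) F →ₐ[F] Matrix (Fin n) (Fin n) F)
    (h1 : ∀ a, φ a ∈ Submodule.span F (matrixSet L)) (a b : GL (Fin n) F)
    (hab : ∀ x ∈ cj a L, ∀ y ∈ cj b L, x * y = y * x) (A B : Matrix (Fin m) (Fin m) F) :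
    conjAlg a (φ A) * conjAlg b (φ B) = conjAlg b (φ B) * conjAlg a (φ A) :=
  Cfsg.Agent.Lib.Helper7.S5630I7D.commute_ranges L φ h1 a b hab A B

/-- **G4c** the algebras of the conjugates generate the matrix algebra -/
theorem adjoin_ranges_eq_top (L : Subgroup (GL (Fin n) F)) (φ : Matrix (Fin m) (Fin m) F →ₐ[F] Matrix (Fin n) (Fin n) F)
    (h2 : ∀ x ∈ L, ∃ a, φ a = ((x : GL (Fin n) F) : Matrix (Fin n) (Fin n) F))
    (hs : Fin t → GL (Fin n) F) (hN : AbsIrr (⨆ i, cj (hs i) L)) :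
    Algebra.adjoin F (⋃ i, Set.range ((conjAlg (hs i)).comp φ)) = ⊤ :=
  Cfsg.Agent.Lib.Helper7.S5630I7D.adjoin_ranges_eq_top L φ h2 hs hN

/-! ## E. factors of dimension two: an invariant form (class 8) -/

/-- the Gram matrix of the determinant form on `F²` -/
def J2 : Matrix (Fin 2) (Fin 2) F := !![0, 1; -1, 0]

/-- **F1** pure tensors scale the tensor power of the determinant form -/
theorem gram_pureTensor (gs : Fin t → GL (Fin 2) F) :
    (pt (fun i => ((gs i : GL (Fin 2) F) : Matrix (Fin 2) (Fin 2) F)))ᵀ * pt (fun _ : Fin t => (J2 : Matrix (Fin 2) (Fin 2) F)) *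
        pt (fun i => ((gs i : GL (Fin 2) F) : Matrix (Fin 2) (Fin 2) F)) =
      (∏ i, ((gs i : GL (Fin 2) F) : Matrix (Fin 2) (Fin 2) F).det) • pt (fun _ : Fin t => (J2 : Matrix (Fin 2) (Fin 2) F)) := by
  apply Cfsg.Agent.Lib.Helper8.S5630I7E.gram_pureTensor <;> assumption

/-- **F2** factor permutations fix it -/
theorem gram_factorPerm (π : GL (Fin t → Fin 2) F) (h : IsFactorPermutation 2 t π) :
    (π : Matrix (Fin t → Fin 2) (Fin t → Fin 2) F)ᵀ * pt (fun _ : Fin t => (J2 : Matrix (Fin 2) (Fin 2) F)) *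
        (π : Matrix (Fin t → Fin 2) (Fin t → Fin 2) F) = pt (fun _ : Fin t => (J2 : Matrix (Fin 2) (Fin 2) F)) := by
  apply Cfsg.Agent.Lib.Helper8.S5630I7E.gram_factorPerm <;> assumption

/-- **F3** so does, up to scalars, the whole standard tensor-wreath group -/
theorem gram_std (g : GL (Fin t → Fin 2) F) (hg : g ∈ tensorWreathStandard 2 t F) :
    ∃ c : Fˣ, (g : Matrix (Fin t → Fin 2) (Fin t → Fin 2) F)ᵀ * pt (fun _ : Fin t => (J2 : Matrix (Fin 2) (Fin 2) F)) *
        (g : Matrix (Fin t → Fin 2) (Fin t → Fin 2) F) = (c : F) • pt (fun _ : Fin t => (J2 : Matrix (Fin 2) (Fin 2) F)) := by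
  apply Cfsg.Agent.Lib.Helper8.S5630I7E.gram_std <;> assumption

/-- **F4** symmetry type, diagonal and invertibility of the Gram matrix -/
theorem gram_props (ht : 0 < t) :
    (pt (fun _ : Fin t => (J2 : Matrix (Fin 2) (Fin 2) F)))ᵀ = (-1 : F) ^ t • pt (fun _ : Fin t => (J2 : Matrix (Fin 2) (Fin 2) F)) ∧
    (∀ x, pt (fun _ : Fin t => (J2 : Matrix (Fin 2) (Fin 2) F)) x x = 0) ∧
    pt (fun _ : Fin t => (J2 : Matrix (Fin 2) (Fin 2) F)) * pt (fun _ : Fin t => -(J2 : Matrix (Fin 2) (Fin 2) F)) = 1 := by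
  apply Cfsg.Agent.Lib.Helper8.S5630I7E.gram_props <;> assumption

/-- **F5c** a skew matrix with zero diagonal is alternating (also in characteristic 2) -/
theorem alt_of_skew_diag {κ : Type} [Fintype κ] [DecidableEq κ] (G : Matrix κ κ F) (hskew : Gᵀ = -G)
    (hdiag : ∀ i, G i i = 0) (v : κ → F) : v ⬝ᵥ (G *ᵥ v) = 0 := by
  apply Cfsg.Agent.Lib.Helper8.S5630I7E.alt_of_skew_diag <;> assumption

/-- **F5a** an invertible alternating Gram matrix preserved up to scalars puts `H` in class 8 (symplectic) -/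
theorem inClass_of_gram_alt [Fintype F] (H : Subgroup (GL (Fin n) F)) (G : Matrix (Fin n) (Fin n) F)
    (hG : IsUnit G) (hskew : Gᵀ = -G) (halt : ∀ v : Fin n → F, v ⬝ᵥ (G *ᵥ v) = 0) (he : Even n) (h4 : 4 ≤ n)
    (hH : ∀ h ∈ H, ∃ c : Fˣ, (h : Matrix (Fin n) (Fin n) F)ᵀ * G * (h : Matrix (Fin n) (Fin n) F) = (c : F) • G) :
    InClass H := by
  apply Cfsg.Agent.Lib.Helper8.S5630I7E.inClass_of_gram_alt <;> assumption

/-- **F5b** an invertible symmetric Gram matrix preserved up to scalars, `q` odd, puts `H` in class 8 (orthogonal) -/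
theorem inClass_of_gram_symm [Fintype F] (H : Subgroup (GL (Fin n) F)) (G : Matrix (Fin n) (Fin n) F)
    (hG : IsUnit G) (hsymm : Gᵀ = G) (ho : Odd (Fintype.card F)) (h3 : 3 ≤ n)
    (hH : ∀ h ∈ H, ∃ c : Fˣ, (h : Matrix (Fin n) (Fin n) F)ᵀ * G * (h : Matrix (Fin n) (Fin n) F) = (c : F) • G) :
    InClass H := by
  apply Cfsg.Agent.Lib.Helper8.S5630I7E.inClass_of_gram_symm <;> assumption

/-- **F6** a subgroup of a tensor-wreath group with factors of dimension two lies in a member of class 8 -/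
theorem inClass_of_le_tensorWreath_two [Fintype F] (ht : 2 ≤ t) (H : Subgroup (GL (Fin n) F))
    (e : Fin n ≃ (Fin t → Fin 2)) (P : GL (Fin n) F) (hH : H ≤ tensorWreathSubgroup 2 t e P) : InClass H := by
  apply Cfsg.Agent.Lib.Helper8.S5630I7E.inClass_of_le_tensorWreath_two <;> assumption

end Cfsg.Agent.Lib.Helper22.AschC7
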