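import Mathlib
import Cfsg.Prelude.Def_GeometricClasses
import Cfsg.Prelude.Def_LieClassical
import Cfsg.Agent.Lib.Helper18.FormField

/-!
# S5802 hB, self-contained sub-lemmas (helper22, for helper12 / helper9)

* `conj_eq_pow`  (L-SEMI): conjugation by a normaliser element of a field subalgebra is a power of the Frobenius.
* `det_eq_norm_pow` : `det k = N_{K/F}(k) ^ (|ι| / d)` for `k` in a field subalgebra `K` of degree `d`.
* `pow_eq_one_of_det` (L-DET): `δ ∈ K` cubic in `M_6(F_4)`, `det δ = 1` gives `δ ^ 21 = 1`.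
-/

set_option autoImplicit false
set_option linter.style.haveILetI false
set_option linter.unusedSectionVars false

namespace Cfsg.Agent.Lib.Helper22.S5802HB

open Matrix Module Cfsg Cfsg.Geo Cfsg.Agent.Lib.Helper18.AschC3

section semi
variable {F : Type*} [Field F] [Fintype F] {ι : Type} [Fintype ι] [DecidableEq ι] [Nonempty ι]

/-- **L-SEMI** conjugation by an element of the normaliser of a field subalgebra `K` is a power of the Frobenius
`k ↦ k ^ |F|` of `K` over `F`. -/
theorem conj_eq_pow {d : ℕ} (K : Subalgebra F (Matrix ι ι F)) (hK : IsFieldSubalgebra d K)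
    {g : GL ι F} (hg : g ∈ subalgebraNormalizer K) :
    ∃ j : ℕ, ∀ k ∈ K, (g : Matrix ι ι F) * k * ((g⁻¹ : GL ι F) : Matrix ι ι F) = k ^ (Fintype.card F ^ j) := by
  letI := fieldOf K hK
  have hmem : ∀ k : ↥K, (g : Matrix ι ι F) * k * ((g⁻¹ : GL ι F) : Matrix ι ι F) ∈ K := fun k => (hg k).1 k.2
  let ρ : ↥K →ₐ[F] ↥K :=
    { toFun := fun k => ⟨_, hmem k⟩
      map_one' := Subtype.ext (by
        change (g : Matrix ι ι F) * 1 * ((g⁻¹ : GL ι F) : Matrix ι ι F) = 1
        rw [mul_one, ← Units.val_mul, mul_inv_cancel, Units.val_one])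
      map_mul' := fun a b => Subtype.ext (by
        change (g : Matrix ι ι F) * (a * b : Matrix ι ι F) * ((g⁻¹ : GL ι F) : Matrix ι ι F) =
          ((g : Matrix ι ι F) * a * ((g⁻¹ : GL ι F) : Matrix ι ι F)) *
            ((g : Matrix ι ι F) * b * ((g⁻¹ : GL ι F) : Matrix ι ι F))
        have h1 : ((g⁻¹ : GL ι F) : Matrix ι ι F) * (g : Matrix ι ι F) = 1 := by
          rw [← Units.val_mul, inv_mul_cancel, Units.val_one]
        calc (g : Matrix ι ι F) * (a * b : Matrix ι ι F) * ((g⁻¹ : GL ι F) : Matrix ι ι F)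
            = (g : Matrix ι ι F) * a * (1 : Matrix ι ι F) * b * ((g⁻¹ : GL ι F) : Matrix ι ι F) := by
              simp only [mul_one, mul_assoc]
          _ = _ := by rw [← h1]; simp only [mul_assoc])
      map_zero' := Subtype.ext (by
        change (g : Matrix ι ι F) * 0 * ((g⁻¹ : GL ι F) : Matrix ι ι F) = 0
        rw [mul_zero, zero_mul])
      map_add' := fun a b => Subtype.ext (by
        change (g : Matrix ι ι F) * (a + b : Matrix ι ι F) * ((g⁻¹ : GL ι F) : Matrix ι ι F) =
          ((g : Matrix ι ι F) * a * ((g⁻¹ : GL ι F) : Matrix ι ι F)) +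
            ((g : Matrix ι ι F) * b * ((g⁻¹ : GL ι F) : Matrix ι ι F))
        rw [mul_add, add_mul])
      commutes' := fun c => Subtype.ext (by
        change (g : Matrix ι ι F) * (algebraMap F (Matrix ι ι F) c) * ((g⁻¹ : GL ι F) : Matrix ι ι F) =
          algebraMap F (Matrix ι ι F) c
        rw [Algebra.algebraMap_eq_smul_one, mul_smul_comm, smul_mul_assoc, mul_one, ← Units.val_mul,
          mul_inv_cancel, Units.val_one]) }
  have hρx : ∀ k : ↥K, ((ρ k : ↥K) : Matrix ι ι F) =
      (g : Matrix ι ι F) * k * ((g⁻¹ : GL ι F) : Matrix ι ι F) := fun k => rfl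
  set φ := FiniteField.frobeniusAlgEquivOfAlgebraic F ↥K with hφ
  let ρ' : ↥K ≃ₐ[F] ↥K := AlgEquiv.ofBijective ρ (Algebra.IsAlgebraic.algHom_bijective ρ)
  have hρ'x : ∀ x : ↥K, ρ' x = ρ x := fun x => rfl
  obtain ⟨j, hj⟩ := (FiniteField.bijective_frobeniusAlgEquivOfAlgebraic_pow F ↥K).2 ρ'
  have hj' : φ ^ j.1 = ρ' := hj
  refine ⟨j.1, fun k hk => ?_⟩
  have h1 : ρ' ⟨k, hk⟩ = (φ ^ j.1) ⟨k, hk⟩ := by rw [hj']
  rw [hρ'x, AlgEquiv.coe_pow, hφ, FiniteField.coe_frobeniusAlgEquivOfAlgebraic_iterate] at h1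
  have h2 := congrArg Subtype.val h1
  rw [hρx] at h2
  rw [h2]
  rfl

end semi

section det
variable {F : Type*} [Field F] [Fintype F] {ι : Type} [Fintype ι] [DecidableEq ι] [Nonempty ι]

/-- determinant over `F` of an element of a field subalgebra = norm to the power of the `K`-dimension -/
theorem det_eq_norm_pow {d : ℕ} (K : Subalgebra F (Matrix ι ι F)) (hK : IsFieldSubalgebra d K) (k : ↥K) :
    (letI := fieldOf K hK; (k : Matrix ι ι F).det = (Algebra.norm F k) ^ (Fintype.card ι / d)) := by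
  letI := fieldOf K hK
  have hsm : ∀ (k : ↥K) (v : ι → F), k • v = (k : Matrix ι ι F) *ᵥ v := fun k v => rfl
  haveI : IsScalarTower F ↥K (ι → F) := ⟨fun c k v => by
    rw [hsm, hsm, Subalgebra.coe_smul, Matrix.smul_mulVec]⟩
  have hd : finrank F ↥K = d := hK.finrank_eq
  have hdpos : 0 < d := by rw [← hd]; exact Module.finrank_pos
  have h6 : finrank F ↥K * finrank ↥K (ι → F) = finrank F (ι → F) := Module.finrank_mul_finrank F ↥K (ι → F)
  rw [Module.finrank_fintype_fun_eq_card, hd] at h6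
  have h2 : finrank ↥K (ι → F) = Fintype.card ι / d := by
    rw [← h6, Nat.mul_div_cancel_left _ hdpos]
  haveI : Module.Free ↥K (ι → F) := Module.Free.of_divisionRing ↥K (ι → F)
  let f : (ι → F) →ₗ[↥K] (ι → F) := k • LinearMap.id
  have hf : LinearMap.det f = k ^ (Fintype.card ι / d) := by
    rw [LinearMap.det_smul, LinearMap.det_id, mul_one, h2]
  have hr : f.restrictScalars F = Matrix.toLin' (k : Matrix ι ι F) := by
    apply LinearMap.ext
    intro v
    rfl
  have := LinearMap.det_restrictScalars (R := F) (S := ↥K) (A := ι → F) (f := f)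
  rw [hr, LinearMap.det_toLin', hf, map_pow] at this
  exact this

/-- **L-DET** an element of determinant one of a cubic field subalgebra of `M_6(F_4)` has order dividing `21` -/
theorem pow_eq_one_of_det (hF : Fintype.card F = 2 ^ 2) (K : Subalgebra F (Matrix (Fin 6) (Fin 6) F))
    (hK : IsFieldSubalgebra 3 K) {δ : Matrix (Fin 6) (Fin 6) F} (hδ : δ ∈ K) (hdet : δ.det = 1) : δ ^ 21 = 1 := by
  letI := fieldOf K hK
  have h1 := det_eq_norm_pow K hK ⟨δ, hδ⟩
  simp only [Fintype.card_fin] at h1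
  change δ.det = _ at h1
  rw [hdet] at h1
  have h2F : (2 : F) = 0 := by
    haveI : CharP F 2 := by
      have : Fintype.card F = 2 ^ 2 := hF
      obtain ⟨p, hp⟩ := CharP.exists F
      haveI := hp
      haveI : Fact p.Prime := ⟨CharP.char_is_prime F p⟩
      obtain ⟨⟨n, hn⟩, hn2⟩ := FiniteField.card F p
      rw [hF] at hn2
      have : p = 2 := by
        have h1 : p ∣ 2 ^ 2 := by rw [hn2.2]; exact dvd_pow_self p (PNat.ne_zero _)
        exact (Nat.prime_dvd_prime_iff_eq hn2.1 Nat.prime_two).1 (hn2.1.dvd_of_dvd_pow h1)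
      subst this
      exact hp
    exact CharP.ofNat_eq_zero F 2
  have hn1 : Algebra.norm F (⟨δ, hδ⟩ : ↥K) = 1 := by
    have : (Algebra.norm F (⟨δ, hδ⟩ : ↥K) - 1) ^ 2 = 0 := by
      have h3 : (6 / 3 : ℕ) = 2 := by norm_num
      rw [h3] at h1
      linear_combination (-1 : F) * h1 + (1 - Algebra.norm F (⟨δ, hδ⟩ : ↥K)) * h2F
    have := (pow_eq_zero_iff (two_ne_zero)).1 this
    exact sub_eq_zero.1 this
  have hcK : Nat.card ↥K = 64 := by
    rw [Module.natCard_eq_pow_finrank (K := F) (V := ↥K), hK.finrank_eq, Nat.card_eq_fintype_card, hF]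
    norm_num
  have h4 := FiniteField.algebraMap_norm_eq_pow (K := F) (K' := ↥K) (x := ⟨δ, hδ⟩)
  rw [hn1, map_one, hcK, Nat.card_eq_fintype_card, hF] at h4
  norm_num at h4
  have := congrArg Subtype.val h4
  exact this.symm

end det

end Cfsg.Agent.Lib.Helper22.S5802HB
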