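import Mathlib
import Cfsg.Agent.Lib.Helper22.PElt
import Cfsg.Agent.Lib.Helper22.PiElt
import Cfsg.Agent.Lib.Helper22.Jordan

/-!
# Groups with two conjugacy class sizes (Itô)
-/

set_option autoImplicit false

namespace Cfsg.Agent.Lib.Helper22.TwoClass

open Cfsg.Agent.Lib.Helper22

variable {G : Type*} [Group G]

/-- hypothesis: all class sizes are `1` or `n` -/
def TwoCS (G : Type*) [Group G] (n : ℕ) : Prop :=
  ∀ x : G, (Subgroup.centralizer ({x} : Set G)).index = 1 ∨
    (Subgroup.centralizer ({x} : Set G)).index = n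

theorem index_eq_of_not_mem_center {n : ℕ} (h : TwoCS G n) {x : G}
    (hx : x ∉ Subgroup.center G) : (Subgroup.centralizer ({x} : Set G)).index = n := by
  rcases h x with h1 | h1
  · exfalso
    apply hx
    have h2 := Subgroup.index_eq_one.mp h1
    rw [Subgroup.mem_center_iff]
    intro g
    have hg : g ∈ Subgroup.centralizer ({x} : Set G) := by rw [h2]; trivial
    exact Subgroup.mem_centralizer_singleton_iff.mp hg
  · exact h1

/-- common order of the centralizers of non-central elements -/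
theorem card_centralizer_mul [Finite G] {n : ℕ} (h : TwoCS G n) {x : G}
    (hx : x ∉ Subgroup.center G) :
    Nat.card (Subgroup.centralizer ({x} : Set G)) * n = Nat.card G := by
  have h1 := Subgroup.card_mul_index (Subgroup.centralizer ({x} : Set G))
  rwa [index_eq_of_not_mem_center h hx] at h1

theorem n_pos_of_not_mem_center [Finite G] {n : ℕ} (h : TwoCS G n) {x : G}
    (hx : x ∉ Subgroup.center G) : 0 < n := by
  rcases Nat.eq_zero_or_pos n with h0 | h0
  · have h1 := card_centralizer_mul h hx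
    rw [h0, mul_zero] at h1
    exact absurd h1.symm Nat.card_pos.ne'
  · exact h0

theorem card_centralizer_eq [Finite G] {n : ℕ} (h : TwoCS G n) {x y : G}
    (hx : x ∉ Subgroup.center G) (hy : y ∉ Subgroup.center G) :
    Nat.card (Subgroup.centralizer ({x} : Set G)) = Nat.card (Subgroup.centralizer ({y} : Set G)) := by
  have h1 := card_centralizer_mul h hx
  have h2 := card_centralizer_mul h hy
  exact Nat.eq_of_mul_eq_mul_right (n_pos_of_not_mem_center h hx) (h1.trans h2.symm)

theorem centralizer_eq_of_le [Finite G] {n : ℕ} (h : TwoCS G n) {x y : G}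
    (hx : x ∉ Subgroup.center G) (hy : y ∉ Subgroup.center G)
    (hle : Subgroup.centralizer ({x} : Set G) ≤ Subgroup.centralizer ({y} : Set G)) :
    Subgroup.centralizer ({x} : Set G) = Subgroup.centralizer ({y} : Set G) :=
  Subgroup.eq_of_le_of_card_ge hle (card_centralizer_eq h hx hy).ge

theorem centralizer_le_of_mem_zpowers {x y : G} (hy : y ∈ Subgroup.zpowers x) :
    Subgroup.centralizer ({x} : Set G) ≤ Subgroup.centralizer ({y} : Set G) := by
  intro g hg
  rw [Subgroup.mem_centralizer_singleton_iff] at hg ⊢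
  have h1 : Commute g x := hg
  exact (commute_of_mem_zpowers_right hy h1).eq

theorem centralizer_le_of_coprime [Finite G] {n : ℕ} (h : TwoCS G n) {x y : G}
    (hx : x ∉ Subgroup.center G) (hxy : Commute x y)
    (hcop : (orderOf x).Coprime (orderOf y)) :
    Subgroup.centralizer ({x} : Set G) ≤ Subgroup.centralizer ({y} : Set G) := by
  have h1 : x ∈ Subgroup.zpowers (x * y) := mem_zpowers_mul_of_coprime hxy hcop
  have h2 : y ∈ Subgroup.zpowers (x * y) := by
    rw [hxy.eq]
    exact mem_zpowers_mul_of_coprime hxy.symm hcop.symm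
  have hxyc : x * y ∉ Subgroup.center G := by
    intro hc
    apply hx
    obtain ⟨i, hi⟩ := Subgroup.mem_zpowers_iff.mp h1
    rw [← hi]
    exact Subgroup.zpow_mem _ hc i
  have e : Subgroup.centralizer ({x * y} : Set G) = Subgroup.centralizer ({x} : Set G) :=
    centralizer_eq_of_le h hxyc hx (centralizer_le_of_mem_zpowers h1)
  rw [← e]
  exact centralizer_le_of_mem_zpowers h2

/-- a non-central element has a non-central primary part -/
theorem exists_primary_not_mem_center [Finite G] : ∀ (k : ℕ) (x : G), orderOf x = k →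
    x ∉ Subgroup.center G → ∃ (r : ℕ) (t : G), r.Prime ∧ t ∈ Subgroup.zpowers x ∧
      (∃ j : ℕ, orderOf t = r ^ j) ∧ t ∉ Subgroup.center G := by
  intro k
  induction k using Nat.strong_induction_on with
  | _ k ih =>
    intro x hk hx
    have hx1 : x ≠ 1 := fun h => hx (h ▸ Subgroup.one_mem _)
    have ho1 : orderOf x ≠ 1 := fun h => hx1 (orderOf_eq_one_iff.mp h)
    set r := (orderOf x).minFac with hr
    have hrp : r.Prime := Nat.minFac_prime ho1
    have hrd : r ∣ orderOf x := Nat.minFac_dvd _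
    have : Fact r.Prime := ⟨hrp⟩
    obtain ⟨t, u, ht, hu, hxtu, htr, hur⟩ := exists_p_decomp r x
    by_cases htc : t ∈ Subgroup.center G
    · have huc : u ∉ Subgroup.center G := by
        intro huc
        apply hx
        rw [hxtu]
        exact Subgroup.mul_mem _ htc huc
      have hud : orderOf u ∣ orderOf x := orderOf_dvd_of_mem_zpowers hu
      have hult : orderOf u < k := by
        rw [← hk]
        apply lt_of_le_of_ne (Nat.le_of_dvd (orderOf_pos x) hud)
        intro heq
        rw [heq] at hur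
        exact (Nat.Prime.coprime_iff_not_dvd hrp).mp hur.symm hrd
      obtain ⟨r', t', hr', ht', htr', htc'⟩ := ih _ hult u rfl huc
      exact ⟨r', t', hr', (Subgroup.zpowers_le.mpr hu) ht', htr', htc'⟩
    · exact ⟨r, t, hrp, ht, htr, htc⟩

/-- a prime dividing `n` has non-central elements of that prime power order -/
theorem exists_pElt_not_mem_center [Finite G] {n : ℕ}
    (hex : ∃ x : G, (Subgroup.centralizer ({x} : Set G)).index = n) {q : ℕ} [Fact q.Prime]
    (hq : q ∣ n) : ∃ x : G, x ∉ Subgroup.center G ∧ ∃ k : ℕ, orderOf x = q ^ k := by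
  by_contra hcon
  push Not at hcon
  obtain ⟨Q⟩ : Nonempty (Sylow q G) := inferInstance
  have hQZ : (Q : Subgroup G) ≤ Subgroup.center G := by
    intro x hx
    by_contra hxc
    obtain ⟨k, hk⟩ := isPElt_of_mem_sylow Q x hx
    exact hcon x hxc k hk
  obtain ⟨x₀, hx₀⟩ := hex
  have hle : (Q : Subgroup G) ≤ Subgroup.centralizer ({x₀} : Set G) :=
    hQZ.trans (Subgroup.center_le_centralizer _)
  have h1 : (Subgroup.centralizer ({x₀} : Set G)).index ∣ (Q : Subgroup G).index :=
    Subgroup.index_dvd_of_le hle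
  rw [hx₀] at h1
  exact Q.not_dvd_index (hq.trans h1)

/-- B1: the centralizer of a non-central element contains non-central `s`-elements for every prime
`s` dividing `n` -/
theorem exists_sElt_in_centralizer [Finite G] {n : ℕ} (h : TwoCS G n)
    (hex : ∃ x : G, (Subgroup.centralizer ({x} : Set G)).index = n) {s : ℕ} [hsp : Fact s.Prime]
    (hs : s ∣ n) {x : G} (hx : x ∉ Subgroup.center G) :
    ∃ y ∈ Subgroup.centralizer ({x} : Set G), y ∉ Subgroup.center G ∧ ∃ k : ℕ, orderOf y = s ^ k := by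
  by_contra hcon
  push Not at hcon
  set C := Subgroup.centralizer ({x} : Set G) with hC
  obtain ⟨Sx⟩ : Nonempty (Sylow s ↥C) := inferInstance
  have hSZ : (Sx : Subgroup ↥C).map C.subtype ≤ Subgroup.center G := by
    rintro y ⟨⟨y', hy'C⟩, hy'S, rfl⟩
    by_contra hyc
    have hp : IsPGroup s ((Sx : Subgroup ↥C).map C.subtype) := Sx.2.map C.subtype
    obtain ⟨k, hk⟩ := isPElt_of_mem_isPGroup hsp.out _ hp y' ⟨⟨y', hy'C⟩, hy'S, rfl⟩
    exact hcon y' hy'C hyc k hk
  have hcardS : Nat.card ((Sx : Subgroup ↥C).map C.subtype) = s ^ (Nat.card C).factorization s := by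
    rw [Subgroup.card_map_of_injective C.subtype_injective]
    exact Sx.card_eq_multiplicity
  have h1 : s ^ (Nat.card C).factorization s ∣ Nat.card (Subgroup.center G) :=
    hcardS ▸ Subgroup.card_dvd_of_le hSZ
  obtain ⟨y₀, hy₀c, k, hk⟩ := exists_pElt_not_mem_center hex hs
  have hm : Nat.card (Subgroup.centralizer ({y₀} : Set G)) = Nat.card C :=
    card_centralizer_eq h hy₀c hx
  have hle : Subgroup.center G ⊔ Subgroup.zpowers y₀ ≤ Subgroup.centralizer ({y₀} : Set G) := by
    apply sup_le (Subgroup.center_le_centralizer _)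
    rw [Subgroup.zpowers_le]
    exact Subgroup.mem_centralizer_singleton_iff.mpr rfl
  have h2 := card_mul_relIndex (Subgroup.center G) (Subgroup.center G ⊔ Subgroup.zpowers y₀) le_sup_left
  rw [Subgroup.relIndex_sup_left] at h2
  have h3 : (Subgroup.center G).relIndex (Subgroup.zpowers y₀) ∣ s ^ k := by
    have := Subgroup.relIndex_dvd_card (Subgroup.center G) (Subgroup.zpowers y₀)
    rwa [Nat.card_zpowers, hk] at this
  have h4 : (Subgroup.center G).relIndex (Subgroup.zpowers y₀) ≠ 1 := by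
    intro h'
    have := Subgroup.relIndex_eq_one.mp h'
    exact hy₀c (this (Subgroup.mem_zpowers y₀))
  have h5 : s ∣ (Subgroup.center G).relIndex (Subgroup.zpowers y₀) := by
    obtain ⟨i, -, hi⟩ := (Nat.dvd_prime_pow hsp.out).mp h3
    rw [hi] at h4 ⊢
    have hi0 : i ≠ 0 := by rintro rfl; exact h4 (pow_zero s)
    exact dvd_pow_self s hi0
  have h6 : Nat.card (Subgroup.center G) * s ∣ Nat.card C := by
    rw [← hm]
    refine dvd_trans ?_ (Subgroup.card_dvd_of_le hle)
    rw [← h2]
    exact Nat.mul_dvd_mul_left _ h5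
  have h7 : s ^ ((Nat.card C).factorization s + 1) ∣ Nat.card C := by
    rw [pow_succ]
    exact dvd_trans (Nat.mul_dvd_mul_right h1 s) h6
  exact Nat.pow_succ_factorization_not_dvd Nat.card_pos.ne' hsp.out h7

theorem comm_aux [Finite G] {n : ℕ} (h : TwoCS G n)
    (hex : ∃ x : G, (Subgroup.centralizer ({x} : Set G)).index = n) {r t' : ℕ} [hr : Fact r.Prime]
    [ht' : Fact t'.Prime] (hne : r ≠ t') (ht'n : t' ∣ n) {t : G} (htc : t ∉ Subgroup.center G)
    (j : ℕ) (hj : orderOf t = r ^ j) :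
    ∀ a ∈ Subgroup.centralizer ({t} : Set G), ∀ b ∈ Subgroup.centralizer ({t} : Set G),
      a * b = b * a := by
  obtain ⟨y, hyC, hyc, k, hk⟩ := exists_sElt_in_centralizer h hex ht'n htc
  have hty : Commute t y := (Subgroup.mem_centralizer_singleton_iff.mp hyC).symm
  have hcop : (orderOf t).Coprime (orderOf y) := by
    rw [hj, hk]
    exact Nat.Coprime.pow j k ((Nat.coprime_primes hr.out ht'.out).mpr hne)
  have e : Subgroup.centralizer ({t} : Set G) = Subgroup.centralizer ({y} : Set G) :=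
    centralizer_eq_of_le h htc hyc (centralizer_le_of_coprime h htc hty hcop)
  have key : ∀ a ∈ Subgroup.centralizer ({t} : Set G),
      Subgroup.centralizer ({t} : Set G) ≤ Subgroup.centralizer ({a} : Set G) := by
    intro a ha
    obtain ⟨u, v, hu, hv, hauv, ⟨i, hi⟩, hvr⟩ := exists_p_decomp r a
    have hle : Subgroup.zpowers a ≤ Subgroup.centralizer ({t} : Set G) := Subgroup.zpowers_le.mpr ha
    have huC := hle hu
    have hvC := hle hv
    -- `v` is an `r'`-element commuting with the `r`-element `t`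
    have h1 : Subgroup.centralizer ({t} : Set G) ≤ Subgroup.centralizer ({v} : Set G) := by
      apply centralizer_le_of_coprime h htc
      · exact (Subgroup.mem_centralizer_singleton_iff.mp hvC).symm
      · rw [hj]; exact Nat.Coprime.pow_left j hvr.symm
    -- `u` is an `r`-element commuting with the `t'`-element `y`
    have h2 : Subgroup.centralizer ({t} : Set G) ≤ Subgroup.centralizer ({u} : Set G) := by
      rw [e]
      apply centralizer_le_of_coprime h hyc
      · have : u ∈ Subgroup.centralizer ({y} : Set G) := e ▸ huC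
        exact (Subgroup.mem_centralizer_singleton_iff.mp this).symm
      · rw [hk, hi]
        exact Nat.Coprime.pow k i ((Nat.coprime_primes ht'.out hr.out).mpr hne.symm)
    intro b hb
    have hb1 := Subgroup.mem_centralizer_singleton_iff.mp (h1 hb)
    have hb2 := Subgroup.mem_centralizer_singleton_iff.mp (h2 hb)
    rw [Subgroup.mem_centralizer_singleton_iff, hauv]
    have c1 : Commute b u := hb2
    have c2 : Commute b v := hb1
    exact (c1.mul_right c2).eq
  intro a ha b hb
  exact (Subgroup.mem_centralizer_singleton_iff.mp (key a ha hb)).symm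

/-- B2: with two distinct primes dividing `n`, all centralizers of non-central elements are
abelian -/
theorem centralizer_comm [Finite G] {n : ℕ} (h : TwoCS G n)
    (hex : ∃ x : G, (Subgroup.centralizer ({x} : Set G)).index = n) {q s : ℕ} [hq : Fact q.Prime]
    [hs : Fact s.Prime] (hqs : q ≠ s) (hqn : q ∣ n) (hsn : s ∣ n) {x : G}
    (hx : x ∉ Subgroup.center G) :
    ∀ a ∈ Subgroup.centralizer ({x} : Set G), ∀ b ∈ Subgroup.centralizer ({x} : Set G),
      a * b = b * a := by
  obtain ⟨r, t, hr, ht, ⟨j, hj⟩, htc⟩ := exists_primary_not_mem_center _ x rfl hx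
  have e : Subgroup.centralizer ({x} : Set G) = Subgroup.centralizer ({t} : Set G) :=
    centralizer_eq_of_le h hx htc (centralizer_le_of_mem_zpowers ht)
  rw [e]
  have : Fact r.Prime := ⟨hr⟩
  by_cases hrq : r = q
  · exact comm_aux h hex (hrq ▸ hqs) hsn htc j hj
  · exact comm_aux h hex hrq hqn htc j hj

/-- if all point stabilizers equal `K₁`, then `|K : K₁|` divides the size of the set -/
theorem index_dvd_card_of_stabilizer_eq {K Y : Type*} [Group K] [MulAction K Y] [Finite Y]
    (K₁ : Subgroup K) (h : ∀ y : Y, MulAction.stabilizer K y = K₁) : K₁.index ∣ Nat.card Y := by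
  classical
  have := Fintype.ofFinite (MulAction.orbitRel.Quotient K Y)
  rw [Nat.card_congr (MulAction.selfEquivSigmaOrbits' K Y), Nat.card_sigma]
  apply Finset.dvd_sum
  intro ω _
  induction ω using Quotient.inductionOn with
  | h y =>
    have h1 : MulAction.orbitRel.Quotient.orbit (Quotient.mk _ y : MulAction.orbitRel.Quotient K Y) =
        MulAction.orbit K y := MulAction.orbitRel.Quotient.orbit_mk y
    rw [h1, Nat.card_coe_set_eq, ← MulAction.index_stabilizer, h y]

/-- F1: in the abelian-centralizer situation, centralizers of non-central elements of `C(x)`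
coincide with `C(x)` -/
theorem centralizer_eq_of_mem [Finite G] {n : ℕ} (h : TwoCS G n)
    (hcomm : ∀ x : G, x ∉ Subgroup.center G → ∀ a ∈ Subgroup.centralizer ({x} : Set G),
      ∀ b ∈ Subgroup.centralizer ({x} : Set G), a * b = b * a)
    {x u : G} (hx : x ∉ Subgroup.center G) (hu : u ∈ Subgroup.centralizer ({x} : Set G))
    (huc : u ∉ Subgroup.center G) :
    Subgroup.centralizer ({u} : Set G) = Subgroup.centralizer ({x} : Set G) := by
  symm
  apply centralizer_eq_of_le h hx huc
  intro a ha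
  exact Subgroup.mem_centralizer_singleton_iff.mpr (hcomm x hx a ha u hu)

/-- existence of a non-central element of `Z₂(Q)` -/
theorem exists_z2_elt [Finite G] {n : ℕ} (h : TwoCS G n) {q : ℕ} [hq : Fact q.Prime]
    (hqn : q ∣ n) (Q : Sylow q G) (x₀ : G) (hx₀Q : x₀ ∈ (Q : Subgroup G))
    (hx₀c : x₀ ∉ Subgroup.center G) :
    ∃ x ∈ (Q : Subgroup G), x ∉ Subgroup.center G ∧
      ∀ g ∈ (Q : Subgroup G), ∃ ζ ∈ Subgroup.center G, g * x * g⁻¹ = x * ζ := by
  have hZQ : ∀ u ∈ (Q : Subgroup G), (∀ g ∈ (Q : Subgroup G), g * u = u * g) →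
      u ∈ Subgroup.center G := by
    intro u _ hcu
    by_contra huc
    have hle : (Q : Subgroup G) ≤ Subgroup.centralizer ({u} : Set G) :=
      fun g hg => Subgroup.mem_centralizer_singleton_iff.mpr (hcu g hg)
    have h1 := Subgroup.index_dvd_of_le hle
    rw [index_eq_of_not_mem_center h huc] at h1
    exact Q.not_dvd_index (hqn.trans h1)
  have hQnc : ¬ IsMulCommutative ↥(Q : Subgroup G) := by
    intro hc'
    apply hx₀c
    apply hZQ x₀ hx₀Q
    intro g hg
    exact congrArg Subtype.val (hc'.is_comm.comm (⟨g, hg⟩ : ↥(Q : Subgroup G)) ⟨x₀, hx₀Q⟩)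
  have hne_top : Subgroup.center ↥(Q : Subgroup G) ≠ ⊤ :=
    fun htop => hQnc (Subgroup.center_eq_top_iff.mp htop)
  have hnt : Nontrivial (↥(Q : Subgroup G) ⧸ Subgroup.center ↥(Q : Subgroup G)) := by
    rw [← Finite.one_lt_card_iff_nontrivial, ← Subgroup.index_eq_card]
    have h0 : (Subgroup.center ↥(Q : Subgroup G)).index ≠ 0 := Subgroup.index_ne_zero_of_finite
    have h1 : (Subgroup.center ↥(Q : Subgroup G)).index ≠ 1 :=
      fun h' => hne_top (Subgroup.index_eq_one.mp h')
    omega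
  have hpq : IsPGroup q (↥(Q : Subgroup G) ⧸ Subgroup.center ↥(Q : Subgroup G)) :=
    IsPGroup.to_quotient Q.2 _
  have hcn := hpq.center_nontrivial
  obtain ⟨⟨xb, hxb⟩, hne⟩ := exists_ne (1 : Subgroup.center
    (↥(Q : Subgroup G) ⧸ Subgroup.center ↥(Q : Subgroup G)))
  obtain ⟨x, rfl⟩ := QuotientGroup.mk_surjective xb
  have hxZQ : x ∉ Subgroup.center ↥(Q : Subgroup G) := by
    intro hx
    apply hne
    apply Subtype.ext
    exact (QuotientGroup.eq_one_iff x).mpr hx
  have hxc : (x : G) ∉ Subgroup.center G := by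
    intro hx
    apply hxZQ
    rw [Subgroup.mem_center_iff]
    intro g
    apply Subtype.ext
    exact Subgroup.mem_center_iff.mp hx (g : G)
  refine ⟨x, x.2, hxc, ?_⟩
  intro g hg
  have h1 : (QuotientGroup.mk (⟨g, hg⟩ : ↥(Q : Subgroup G)) :
      ↥(Q : Subgroup G) ⧸ Subgroup.center ↥(Q : Subgroup G)) * QuotientGroup.mk x =
      QuotientGroup.mk x * QuotientGroup.mk ⟨g, hg⟩ := Subgroup.mem_center_iff.mp hxb _
  rw [← QuotientGroup.mk_mul, ← QuotientGroup.mk_mul] at h1
  have h2 : (x * ⟨g, hg⟩)⁻¹ * (⟨g, hg⟩ * x) ∈ Subgroup.center ↥(Q : Subgroup G) :=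
    QuotientGroup.eq.mp h1.symm
  have h3 : ((x : G) * g)⁻¹ * (g * (x : G)) ∈ Subgroup.center G := by
    apply hZQ _ ((Q : Subgroup G).mul_mem ((Q : Subgroup G).inv_mem
      ((Q : Subgroup G).mul_mem x.2 hg)) ((Q : Subgroup G).mul_mem hg x.2))
    intro g' hg'
    have := Subgroup.mem_center_iff.mp h2 ⟨g', hg'⟩
    exact congrArg Subtype.val this
  refine ⟨((x : G) * g)⁻¹ * (g * (x : G)), h3, ?_⟩
  have h4 := Subgroup.mem_center_iff.mp h3 g⁻¹
  calc g * (x : G) * g⁻¹ = (x : G) * g * (((x : G) * g)⁻¹ * (g * (x : G))) * g⁻¹ := by group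
    _ = (x : G) * g * (g⁻¹ * (((x : G) * g)⁻¹ * (g * (x : G)))) := by rw [h4]; group
    _ = (x : G) * (((x : G) * g)⁻¹ * (g * (x : G))) := by group

/-- `q ^ v_q(n)` divides `|Q : Q ∩ C(x)|` -/
theorem pow_dvd_relIndex [Finite G] {n : ℕ} (h : TwoCS G n) {q : ℕ} [hq : Fact q.Prime]
    (Q : Sylow q G) {x : G} (hx : x ∉ Subgroup.center G) :
    q ^ n.factorization q ∣ (Subgroup.centralizer ({x} : Set G)).relIndex (Q : Subgroup G) := by
  set C := Subgroup.centralizer ({x} : Set G) with hC
  have hn : n ≠ 0 := (n_pos_of_not_mem_center h hx).ne'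
  have h1 := card_mul_relIndex (C ⊓ (Q : Subgroup G)) (Q : Subgroup G) inf_le_right
  rw [Subgroup.inf_relIndex_right] at h1
  have hp : IsPGroup q ↥(C ⊓ (Q : Subgroup G)) := Q.2.to_le inf_le_right
  obtain ⟨e, he⟩ := IsPGroup.iff_card.mp hp
  have h2 : q ^ e ∣ Nat.card C := he ▸ Subgroup.card_dvd_of_le inf_le_left
  have he' : e ≤ (Nat.card C).factorization q :=
    (Nat.Prime.pow_dvd_iff_le_factorization hq.out Nat.card_pos.ne').mp h2
  have h3 : (Nat.card G).factorization q = (Nat.card C).factorization q + n.factorization q := by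
    rw [← card_centralizer_mul h hx, Nat.factorization_mul Nat.card_pos.ne' hn]
    rfl
  rw [he, Q.card_eq_multiplicity, h3] at h1
  have h4 : q ^ ((Nat.card C).factorization q + n.factorization q) =
      q ^ e * (q ^ ((Nat.card C).factorization q - e) * q ^ n.factorization q) := by
    rw [← pow_add, ← pow_add]
    congr 1
    omega
  rw [h4] at h1
  have h5 := Nat.eq_of_mul_eq_mul_left (pow_pos hq.out.pos e) h1
  rw [h5]
  exact Dvd.intro_left _ rfl

theorem orderOf_conj_eq (g a : G) : orderOf (g * a * g⁻¹) = orderOf a := by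
  have hs : SemiconjBy g a (g * a * g⁻¹) := by rw [SemiconjBy]; group
  exact (hs.orderOf_eq g).symm

/-- the key inequality between the `q`-part of `n` and the `s`-part of `c = |C : Z|` -/
theorem pair_lt [Finite G] {n : ℕ} (h : TwoCS G n)
    (hex : ∃ x : G, (Subgroup.centralizer ({x} : Set G)).index = n)
    (hcomm : ∀ x : G, x ∉ Subgroup.center G → ∀ a ∈ Subgroup.centralizer ({x} : Set G),
      ∀ b ∈ Subgroup.centralizer ({x} : Set G), a * b = b * a)
    {q s : ℕ} [hq : Fact q.Prime] [hs : Fact s.Prime] (hqs : q ≠ s) (hqn : q ∣ n) (hsn : s ∣ n)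
    (c : ℕ) (hc : ∀ x : G, x ∉ Subgroup.center G →
      (Subgroup.center G).relIndex (Subgroup.centralizer ({x} : Set G)) = c) :
    q ^ n.factorization q < s ^ c.factorization s := by
  classical
  obtain ⟨x₀, hx₀c, k₀, hk₀⟩ := exists_pElt_not_mem_center hex hqn
  obtain ⟨Q, hx₀Q⟩ := exists_sylow_mem x₀ ⟨k₀, hk₀⟩
  obtain ⟨x, hxQ, hxc, hconj⟩ := exists_z2_elt h hqn Q x₀ hx₀Q hx₀c
  set C := Subgroup.centralizer ({x} : Set G) with hC
  have hnorm : ∀ g ∈ (Q : Subgroup G), ∀ u ∈ C, g * u * g⁻¹ ∈ C := by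
    intro g hg u hu
    obtain ⟨ζ, hζ, hgx⟩ := hconj g⁻¹ ((Q : Subgroup G).inv_mem hg)
    rw [inv_inv] at hgx
    have hux : u * x = x * u := Subgroup.mem_centralizer_singleton_iff.mp hu
    have hζu : u * ζ = ζ * u := Subgroup.mem_center_iff.mp hζ u
    rw [hC, Subgroup.mem_centralizer_singleton_iff]
    calc g * u * g⁻¹ * x = g * u * (g⁻¹ * x * g) * g⁻¹ := by group
      _ = g * u * (x * ζ) * g⁻¹ := by rw [hgx]
      _ = g * (u * x) * ζ * g⁻¹ := by group
      _ = g * (x * u) * ζ * g⁻¹ := by rw [hux]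
      _ = g * x * (u * ζ) * g⁻¹ := by group
      _ = g * x * (ζ * u) * g⁻¹ := by rw [hζu]
      _ = g * (x * ζ) * u * g⁻¹ := by group
      _ = g * (g⁻¹ * x * g) * u * g⁻¹ := by rw [hgx]
      _ = x * (g * u * g⁻¹) := by group
  let S₀ : Subgroup G :=
    { carrier := {u | u ∈ C ∧ ∃ k : ℕ, orderOf u = s ^ k}
      mul_mem' := by
        rintro u v ⟨hu, k, hk⟩ ⟨hv, l, hl⟩
        refine ⟨C.mul_mem hu hv, ?_⟩
        have hcm : Commute u v := hcomm x hxc u hu v hv
        have h1 : orderOf (u * v) ∣ s ^ (k + l) := by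
          rw [pow_add, ← hk, ← hl]; exact hcm.orderOf_mul_dvd_mul_orderOf
        obtain ⟨i, -, hi⟩ := (Nat.dvd_prime_pow hs.out).mp h1
        exact ⟨i, hi⟩
      one_mem' := ⟨C.one_mem, 0, by simp⟩
      inv_mem' := by
        rintro u ⟨hu, k, hk⟩
        exact ⟨C.inv_mem hu, k, by rw [orderOf_inv, hk]⟩ }
  have hS₀mem : ∀ u : G, u ∈ S₀ ↔ u ∈ C ∧ ∃ k : ℕ, orderOf u = s ^ k := fun u => Iff.rfl
  have hS₀C : S₀ ≤ C := fun u hu => hu.1
  have hS₀p : IsPGroup s S₀ := by
    rintro ⟨u, hu, k, hk⟩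
    refine ⟨k, ?_⟩
    apply Subtype.ext
    show u ^ s ^ k = 1
    rw [← hk, pow_orderOf_eq_one]
  let act : MulAction ↥(Q : Subgroup G) {u : G // u ∈ S₀ ∧ u ∉ Subgroup.center G} :=
    { smul := fun g u => ⟨(g : G) * u.1 * (g : G)⁻¹,
        ⟨hnorm g g.2 u.1 u.2.1.1, by
          obtain ⟨k, hk⟩ := u.2.1.2
          exact ⟨k, by rw [orderOf_conj_eq, hk]⟩⟩, by
          intro hcen
          apply u.2.2
          have h1 := (inferInstance : (Subgroup.center G).Normal).conj_mem _ hcen (g : G)⁻¹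
          have h2 : (g : G)⁻¹ * ((g : G) * u.1 * (g : G)⁻¹) * ((g : G)⁻¹)⁻¹ = u.1 := by group
          rwa [h2] at h1⟩
      one_smul := by
        intro u
        apply Subtype.ext
        show ((1 : ↥(Q : Subgroup G)) : G) * u.1 * ((1 : ↥(Q : Subgroup G)) : G)⁻¹ = u.1
        rw [Subgroup.coe_one]; group
      mul_smul := by
        intro g g' u
        apply Subtype.ext
        show ((g * g' : ↥(Q : Subgroup G)) : G) * u.1 * ((g * g' : ↥(Q : Subgroup G)) : G)⁻¹ =
          (g : G) * ((g' : G) * u.1 * (g' : G)⁻¹) * (g : G)⁻¹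
        rw [Subgroup.coe_mul]; group }
  have hsmul : ∀ (g : ↥(Q : Subgroup G)) (u : {u : G // u ∈ S₀ ∧ u ∉ Subgroup.center G}),
      ((g • u : {u : G // u ∈ S₀ ∧ u ∉ Subgroup.center G}) : G) = (g : G) * u.1 * (g : G)⁻¹ :=
    fun g u => rfl
  have hstab : ∀ u : {u : G // u ∈ S₀ ∧ u ∉ Subgroup.center G},
      MulAction.stabilizer ↥(Q : Subgroup G) u = C.subgroupOf (Q : Subgroup G) := by
    intro u
    ext g
    rw [MulAction.mem_stabilizer_iff, Subgroup.mem_subgroupOf]
    have hCu : Subgroup.centralizer ({u.1} : Set G) = C :=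
      centralizer_eq_of_mem h hcomm hxc (hS₀C u.2.1) u.2.2
    constructor
    · intro hg
      have h1 : (g : G) * u.1 * (g : G)⁻¹ = u.1 := by rw [← hsmul, hg]
      rw [← hCu, Subgroup.mem_centralizer_singleton_iff]
      calc (g : G) * u.1 = ((g : G) * u.1 * (g : G)⁻¹) * g := by group
        _ = u.1 * g := by rw [h1]
    · intro hg
      rw [← hCu, Subgroup.mem_centralizer_singleton_iff] at hg
      apply Subtype.ext
      rw [hsmul, hg]; group
  have hdvd : C.relIndex (Q : Subgroup G) ∣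
      Nat.card {u : G // u ∈ S₀ ∧ u ∉ Subgroup.center G} :=
    index_dvd_card_of_stabilizer_eq (C.subgroupOf (Q : Subgroup G)) hstab
  have hYcard : Nat.card {u : G // u ∈ S₀ ∧ u ∉ Subgroup.center G} =
      Nat.card S₀ - Nat.card ↥(S₀ ⊓ Subgroup.center G) := by
    have e : {u : G // u ∈ S₀ ∧ u ∉ Subgroup.center G} ≃
        ↥((S₀ : Set G) \ ((S₀ ⊓ Subgroup.center G : Subgroup G) : Set G)) :=
      Equiv.subtypeEquivRight (fun u => by
        simp only [Set.mem_sdiff, SetLike.mem_coe, Subgroup.mem_inf]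
        tauto)
    rw [Nat.card_congr e, Nat.card_coe_set_eq, Set.ncard_sdiff (by intro u hu; exact hu.1),
      ← Nat.card_coe_set_eq, ← Nat.card_coe_set_eq]
    rfl
  obtain ⟨a, ha⟩ := IsPGroup.iff_card.mp hS₀p
  have hS₁p : IsPGroup s ↥(S₀ ⊓ Subgroup.center G) := hS₀p.to_le inf_le_left
  obtain ⟨b, hb⟩ := IsPGroup.iff_card.mp hS₁p
  have hs2 : 2 ≤ s := hs.out.two_le
  have hba : b < a := by
    obtain ⟨y, hyC, hyc, k, hk⟩ := exists_sElt_in_centralizer h hex hsn hxc
    have hyS : y ∈ S₀ := ⟨hyC, k, hk⟩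
    have hle : Nat.card ↥(S₀ ⊓ Subgroup.center G) ≤ Nat.card S₀ :=
      Nat.le_of_dvd Nat.card_pos (Subgroup.card_dvd_of_le inf_le_left)
    have hne : Nat.card ↥(S₀ ⊓ Subgroup.center G) ≠ Nat.card S₀ := by
      intro heq
      have : S₀ ⊓ Subgroup.center G = S₀ := Subgroup.eq_of_le_of_card_ge inf_le_left heq.ge
      have hy : y ∈ S₀ ⊓ Subgroup.center G := by rw [this]; exact hyS
      exact hyc hy.2
    have hlt : s ^ b < s ^ a := by rw [← ha, ← hb]; omega
    exact (Nat.pow_lt_pow_iff_right hs.out.one_lt).mp hlt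
  -- `s ^ (a - b)` divides `c`
  have hρ := card_mul_relIndex (S₀ ⊓ Subgroup.center G) S₀ inf_le_left
  rw [hb, ha] at hρ
  have hρ' : (S₀ ⊓ Subgroup.center G).relIndex S₀ = s ^ (a - b) := by
    have h1 : s ^ a = s ^ b * s ^ (a - b) := by rw [← pow_add]; congr 1; omega
    rw [h1] at hρ
    exact Nat.eq_of_mul_eq_mul_left (pow_pos hs.out.pos b) hρ
  have hρc : s ^ (a - b) ∣ c := by
    rw [← hρ', inf_comm, Subgroup.inf_relIndex_right, ← Subgroup.relIndex_sup_left,
      ← hc x hxc, ← Subgroup.relIndex_mul_relIndex (Subgroup.center G)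
        (Subgroup.center G ⊔ S₀) C le_sup_left
        (sup_le (Subgroup.center_le_centralizer _) hS₀C)]
    exact Dvd.intro _ rfl
  have hc0 : c ≠ 0 := by
    intro h0
    have h1 := card_mul_relIndex (Subgroup.center G) C (Subgroup.center_le_centralizer _)
    rw [hc x hxc, h0, mul_zero] at h1
    exact Nat.card_pos.ne' h1.symm
  have hab : a - b ≤ c.factorization s :=
    (Nat.Prime.pow_dvd_iff_le_factorization hs.out hc0).mp hρc
  -- divisibility
  have h1 : q ^ n.factorization q ∣ s ^ a - s ^ b := by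
    rw [← ha, ← hb, ← hYcard]
    exact dvd_trans (pow_dvd_relIndex h Q hxc) hdvd
  have h2 : s ^ a - s ^ b = s ^ b * (s ^ (a - b) - 1) := by
    rw [Nat.mul_sub, mul_one, ← pow_add]
    congr 2
    omega
  rw [h2] at h1
  have hcop : (q ^ n.factorization q).Coprime (s ^ b) :=
    Nat.Coprime.pow _ _ ((Nat.coprime_primes hq.out hs.out).mpr hqs)
  have h3 : q ^ n.factorization q ∣ s ^ (a - b) - 1 := hcop.dvd_of_dvd_mul_left h1
  have h4 : 2 ≤ s ^ (a - b) := by
    calc 2 ≤ s := hs2
      _ = s ^ 1 := (pow_one s).symm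
      _ ≤ s ^ (a - b) := Nat.pow_le_pow_right hs.out.pos (by omega)
  have h5 : q ^ n.factorization q ≤ s ^ (a - b) - 1 := Nat.le_of_dvd (by omega) h3
  calc q ^ n.factorization q ≤ s ^ (a - b) - 1 := h5
    _ < s ^ (a - b) := by omega
    _ ≤ s ^ c.factorization s := Nat.pow_le_pow_right hs.out.pos hab

/-- `c ≤ n`: two distinct abelian centralizers meet in the centre -/
theorem c_le_n [Finite G] {n : ℕ} (h : TwoCS G n) (hn : 1 < n)
    (hcomm : ∀ x : G, x ∉ Subgroup.center G → ∀ a ∈ Subgroup.centralizer ({x} : Set G),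
      ∀ b ∈ Subgroup.centralizer ({x} : Set G), a * b = b * a)
    {x : G} (hx : x ∉ Subgroup.center G) :
    (Subgroup.center G).relIndex (Subgroup.centralizer ({x} : Set G)) ≤ n := by
  set C := Subgroup.centralizer ({x} : Set G) with hC
  have hCtop : C ≠ ⊤ := by
    intro htop
    have h1 := index_eq_of_not_mem_center h hx
    rw [← hC, htop, Subgroup.index_top] at h1
    omega
  obtain ⟨g, hg⟩ : ∃ g : G, g ∉ C := by
    by_contra hcon
    push Not at hcon
    exact hCtop (eq_top_iff.mpr fun g _ => hcon g)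
  have hgc : g ∉ Subgroup.center G := fun hgc => hg (Subgroup.center_le_centralizer _ hgc)
  have hinf : Subgroup.centralizer ({g} : Set G) ⊓ C = Subgroup.center G := by
    apply le_antisymm
    · intro u hu
      by_contra huc
      have e1 := centralizer_eq_of_mem h hcomm hgc hu.1 huc
      have e2 := centralizer_eq_of_mem h hcomm hx hu.2 huc
      apply hg
      rw [hC, ← e2, e1]
      exact Subgroup.mem_centralizer_singleton_iff.mpr rfl
    · exact le_inf (Subgroup.center_le_centralizer _) (Subgroup.center_le_centralizer _)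
  have h1 := Subgroup.index_inf_le (H := Subgroup.centralizer ({g} : Set G)) (K := C)
  rw [hinf, index_eq_of_not_mem_center h hgc, hC, index_eq_of_not_mem_center h hx] at h1
  have h2 := Subgroup.relIndex_mul_index (Subgroup.center_le_centralizer ({x} : Set G))
  rw [index_eq_of_not_mem_center h hx] at h2
  rw [← h2] at h1
  exact Nat.le_of_mul_le_mul_right h1 (by omega)

/-- the arithmetic contradiction -/
theorem arith_false {n c : ℕ} (hn : n ≠ 0) (hc : c ≠ 0) (hcn : c ≤ n)
    (hpair : ∀ q s : ℕ, q.Prime → s.Prime → q ≠ s → q ∣ n → s ∣ n →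
      q ^ n.factorization q < s ^ c.factorization s)
    (q s : ℕ) (hq : q.Prime) (hs : s.Prime) (hqs : q ≠ s) (hqn : q ∣ n) (hsn : s ∣ n) : False := by
  classical
  set B := n.primeFactors with hB
  have hqB : q ∈ B := Nat.mem_primeFactors.mpr ⟨hq, hqn, hn⟩
  have hsB : s ∈ B := Nat.mem_primeFactors.mpr ⟨hs, hsn, hn⟩
  obtain ⟨s₁, hs₁B, hmin⟩ := Finset.exists_min_image B (fun t => t ^ c.factorization t) ⟨q, hqB⟩
  obtain ⟨s₂, hs₂B, hs₂ne⟩ : ∃ s₂ ∈ B, s₂ ≠ s₁ := by
    by_cases h1 : q = s₁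
    · exact ⟨s, hsB, fun h2 => hqs (h1.trans h2.symm)⟩
    · exact ⟨q, hqB, h1⟩
  have hprime : ∀ t ∈ B, t.Prime := fun t ht => (Nat.mem_primeFactors.mp ht).1
  have hdvd : ∀ t ∈ B, t ∣ n := fun t ht => (Nat.mem_primeFactors.mp ht).2.1
  have hlt : ∀ t ∈ B, t ^ n.factorization t <
      (Equiv.swap s₁ s₂ t) ^ c.factorization (Equiv.swap s₁ s₂ t) := by
    intro t ht
    by_cases h1 : t = s₁
    · rw [h1, Equiv.swap_apply_left]
      exact hpair s₁ s₂ (hprime _ hs₁B) (hprime _ hs₂B) hs₂ne.symm (hdvd _ hs₁B) (hdvd _ hs₂B)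
    · by_cases h2 : t = s₂
      · rw [h2, Equiv.swap_apply_right]
        exact hpair s₂ s₁ (hprime _ hs₂B) (hprime _ hs₁B) hs₂ne (hdvd _ hs₂B) (hdvd _ hs₁B)
      · rw [Equiv.swap_apply_of_ne_of_ne h1 h2]
        exact lt_of_lt_of_le
          (hpair t s₁ (hprime _ ht) (hprime _ hs₁B) h1 (hdvd _ ht) (hdvd _ hs₁B)) (hmin t ht)
  have hsub : B ⊆ c.primeFactors := by
    intro t ht
    have h1 := hlt t ht
    -- choose another prime
    obtain ⟨t', ht'B, ht'ne⟩ : ∃ t' ∈ B, t' ≠ t := by
      by_cases h2 : q = t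
      · exact ⟨s, hsB, fun h3 => hqs (h2.trans h3.symm)⟩
      · exact ⟨q, hqB, h2⟩
    have h2 := hpair t' t (hprime _ ht'B) (hprime _ ht) ht'ne (hdvd _ ht'B) (hdvd _ ht)
    have h3 : c.factorization t ≠ 0 := by
      intro h0
      rw [h0, pow_zero] at h2
      have := Nat.one_le_pow (n.factorization t') t' (hprime _ ht'B).pos
      omega
    exact Nat.mem_primeFactors.mpr ⟨hprime _ ht, Nat.dvd_of_factorization_pos h3, hc⟩
  have h1 : ∏ t ∈ B, t ^ n.factorization t <
      ∏ t ∈ B, (Equiv.swap s₁ s₂ t) ^ c.factorization (Equiv.swap s₁ s₂ t) :=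
    Finset.prod_lt_prod_of_nonempty (fun t ht => pow_pos (hprime t ht).pos _) hlt ⟨q, hqB⟩
  have h2 : ∏ t ∈ B, (Equiv.swap s₁ s₂ t) ^ c.factorization (Equiv.swap s₁ s₂ t) =
      ∏ t ∈ B, t ^ c.factorization t := by
    apply Equiv.Perm.prod_comp (Equiv.swap s₁ s₂) B (fun t => t ^ c.factorization t)
    intro a ha
    by_cases h3 : a = s₁
    · rw [h3]; exact hs₁B
    · by_cases h4 : a = s₂
      · rw [h4]; exact hs₂B
      · exfalso
        exact ha (Equiv.swap_apply_of_ne_of_ne h3 h4)
  have h3 : ∏ t ∈ B, t ^ c.factorization t ≤ ∏ t ∈ c.primeFactors, t ^ c.factorization t :=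
    Finset.prod_le_prod_of_subset_of_one_le' hsub
      (fun t ht _ => Nat.one_le_pow _ _ (Nat.prime_of_mem_primeFactors ht).pos)
  rw [← Nat.prod_primeFactors_pow_factorization hc] at h3
  rw [h2, ← Nat.prod_primeFactors_pow_factorization hn] at h1
  omega

/-- **Itô**: with two class sizes `1` and `n`, `n` has at most one prime divisor -/
theorem prime_dvd_unique [Finite G] {n : ℕ} (h : TwoCS G n) (hn : 1 < n)
    (hex : ∃ x : G, (Subgroup.centralizer ({x} : Set G)).index = n) {q s : ℕ}
    (hq : q.Prime) (hs : s.Prime) (hqn : q ∣ n) (hsn : s ∣ n) : q = s := by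
  by_contra hqs
  have : Fact q.Prime := ⟨hq⟩
  have : Fact s.Prime := ⟨hs⟩
  have hcomm : ∀ x : G, x ∉ Subgroup.center G → ∀ a ∈ Subgroup.centralizer ({x} : Set G),
      ∀ b ∈ Subgroup.centralizer ({x} : Set G), a * b = b * a :=
    fun x hx => centralizer_comm h hex hqs hqn hsn hx
  obtain ⟨x₁, hx₁⟩ : ∃ x₁ : G, x₁ ∉ Subgroup.center G := by
    obtain ⟨x₁, hx₁⟩ := hex
    refine ⟨x₁, fun hc => ?_⟩
    have : Subgroup.centralizer ({x₁} : Set G) = ⊤ := by
      rw [eq_top_iff]
      intro g _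
      exact Subgroup.mem_centralizer_singleton_iff.mpr (Subgroup.mem_center_iff.mp hc g)
    rw [this, Subgroup.index_top] at hx₁
    omega
  set c := (Subgroup.center G).relIndex (Subgroup.centralizer ({x₁} : Set G)) with hc
  have hcall : ∀ x : G, x ∉ Subgroup.center G →
      (Subgroup.center G).relIndex (Subgroup.centralizer ({x} : Set G)) = c := by
    intro x hx
    have h1 := card_mul_relIndex (Subgroup.center G) (Subgroup.centralizer ({x} : Set G))
      (Subgroup.center_le_centralizer _)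
    have h2 := card_mul_relIndex (Subgroup.center G) (Subgroup.centralizer ({x₁} : Set G))
      (Subgroup.center_le_centralizer _)
    rw [card_centralizer_eq h hx hx₁, ← h2] at h1
    exact Nat.eq_of_mul_eq_mul_left Nat.card_pos h1
  have hc0 : c ≠ 0 := by
    intro h0
    have h1 := card_mul_relIndex (Subgroup.center G) (Subgroup.centralizer ({x₁} : Set G))
      (Subgroup.center_le_centralizer _)
    rw [← hc, h0, mul_zero] at h1
    exact Nat.card_pos.ne' h1.symm
  have hcn : c ≤ n := c_le_n h hn hcomm hx₁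
  refine arith_false (by omega) hc0 hcn ?_ q s hq hs hqs hqn hsn
  intro q' s' hq' hs' hne hq'n hs'n
  have : Fact q'.Prime := ⟨hq'⟩
  have : Fact s'.Prime := ⟨hs'⟩
  exact pair_lt h hex hcomm hne hq'n hs'n c hcall

end Cfsg.Agent.Lib.Helper22.TwoClass
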