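import Mathlib
import Cfsg.Prelude.Def_GeometricClasses
import Cfsg.Agent.Lib.Helper12.S5662I8Q
import Cfsg.Agent.Lib.Helper13.TensorF3

/-!
# Quadratic forms in characteristic 2 vanish on pure tensors (helper22)

`Q` a quadratic form on `F^n` (`F` finite of characteristic 2) whose polar form is, through `e` and `P`, a
multiple of the tensor product of two alternating bilinear forms; `H` an irreducible group of isometries
of `Q` inside the stabiliser of the tensor decomposition. Then `Q` vanishes on all pure tensors.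
-/

set_option autoImplicit false
set_option linter.unusedSectionVars false
set_option linter.unusedVariables false

namespace Cfsg.Agent.Lib.Helper22.OEQTensor

open scoped Matrix Kronecker
open Cfsg Cfsg.Geo Cfsg.Agent.Lib.Helper13.TNM

section semilinear
variable {κ : Type} [Fintype κ] [DecidableEq κ] {F : Type*} [Field F]

/-- additive + square-homogeneous -/
structure IsSqAdd (g : (κ → F) → F) : Prop where
  add : ∀ u v, g (u + v) = g u + g v
  smul : ∀ (c : F) v, g (c • v) = c ^ 2 * g v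

theorem IsSqAdd.zero {g : (κ → F) → F} (hg : IsSqAdd g) : g 0 = 0 := by
  have := hg.smul 0 0
  rw [zero_smul] at this
  rw [this]; ring

theorem IsSqAdd.sum {g : (κ → F) → F} (hg : IsSqAdd g) {α : Type} (s : Finset α) (w : α → κ → F) :
    g (∑ i ∈ s, w i) = ∑ i ∈ s, g (w i) := by
  classical
  induction s using Finset.induction_on with
  | empty => simp [hg.zero]
  | insert a s ha ih => rw [Finset.sum_insert ha, Finset.sum_insert ha, hg.add, ih]

theorem IsSqAdd.expand {g : (κ → F) → F} (hg : IsSqAdd g) (x : κ → F) :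
    g x = ∑ a, x a ^ 2 * g (Pi.single a 1) := by
  have hx : x = ∑ a, x a • (Pi.single a 1 : κ → F) := by
    funext k
    simp [Finset.sum_apply, Pi.single_apply]
  conv_lhs => rw [hx]
  rw [hg.sum]
  apply Finset.sum_congr rfl
  intro a _
  rw [hg.smul]

theorem IsSqAdd.ext {g g' : (κ → F) → F} (hg : IsSqAdd g) (hg' : IsSqAdd g')
    (h : ∀ a, g (Pi.single a 1) = g' (Pi.single a 1)) (x : κ → F) : g x = g' x := by
  rw [hg.expand, hg'.expand]
  apply Finset.sum_congr rfl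
  intro a _
  rw [h]

end semilinear

section pure
variable {F : Type*} [Field F]

/-- pure tensors in coordinates -/
def pt {n₁ n₂ : ℕ} (x₁ : Fin n₁ → F) (x₂ : Fin n₂ → F) : Fin n₁ × Fin n₂ → F := fun a => x₁ a.1 * x₂ a.2

theorem pt_add_left {n₁ n₂ : ℕ} (x y : Fin n₁ → F) (z : Fin n₂ → F) : pt (x + y) z = pt x z + pt y z := by
  funext a; simp [pt]; ring

theorem pt_smul_left {n₁ n₂ : ℕ} (c : F) (x : Fin n₁ → F) (z : Fin n₂ → F) : pt (c • x) z = c • pt x z := by
  funext a; simp [pt]; ring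

theorem pt_add_right {n₁ n₂ : ℕ} (x : Fin n₁ → F) (y z : Fin n₂ → F) : pt x (y + z) = pt x y + pt x z := by
  funext a; simp [pt]; ring

theorem pt_smul_right {n₁ n₂ : ℕ} (c : F) (x : Fin n₁ → F) (z : Fin n₂ → F) : pt x (c • z) = c • pt x z := by
  funext a; simp [pt]; ring

theorem pt_single {n₁ n₂ : ℕ} (a : Fin n₁) (b : Fin n₂) :
    pt (Pi.single a (1 : F)) (Pi.single b 1) = Pi.single (a, b) 1 := by
  funext p
  obtain ⟨i, j⟩ := p
  simp only [pt, Pi.single_apply, Prod.mk.injEq]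
  by_cases h1 : i = a <;> by_cases h2 : j = b <;> simp [h1, h2]

theorem kron_mulVec_pt {n₁ n₂ : ℕ} (A : Matrix (Fin n₁) (Fin n₁) F) (B : Matrix (Fin n₂) (Fin n₂) F)
    (x : Fin n₁ → F) (y : Fin n₂ → F) :
    (A ⊗ₖ B) *ᵥ pt x y = pt (A *ᵥ x) (B *ᵥ y) := by
  funext p
  obtain ⟨i, j⟩ := p
  simp only [pt, Matrix.mulVec, dotProduct, Matrix.kroneckerMap_apply, Fintype.sum_prod_type]
  rw [Finset.sum_mul_sum]
  apply Finset.sum_congr rfl
  intro i' _
  apply Finset.sum_congr rfl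
  intro j' _
  ring

theorem fog_pt {n₁ n₂ : ℕ} (G₁ : Matrix (Fin n₁) (Fin n₁) F) (G₂ : Matrix (Fin n₂) (Fin n₂) F)
    (x₁ y₁ : Fin n₁ → F) (x₂ y₂ : Fin n₂ → F) :
    formOfGram id (G₁ ⊗ₖ G₂) (pt x₁ x₂) (pt y₁ y₂) = formOfGram id G₁ x₁ y₁ * formOfGram id G₂ x₂ y₂ := by
  unfold formOfGram
  simp only [pt, Fintype.sum_prod_type, Matrix.kroneckerMap_apply, id]
  rw [Finset.sum_mul_sum]
  apply Finset.sum_congr rfl
  intro a _
  apply Finset.sum_congr rfl
  intro b _
  rw [Finset.sum_mul_sum]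
  apply Finset.sum_congr rfl
  intro a' _
  apply Finset.sum_congr rfl
  intro b' _
  ring

end pure


section main
variable {F : Type*} [Field F] {n : ℕ}

theorem quad_add (Q : (Fin n → F) → F) (u v : Fin n → F) :
    Q (u + v) = Q u + Q v + QuadraticMap.polar Q u v := by
  unfold QuadraticMap.polar; ring

section generic
variable {κ : Type} [Fintype κ] [DecidableEq κ] (e : Fin n ≃ κ) (P : GL (Fin n) F)

/-- coordinates with respect to `e`, `P` -/
def coords (v : Fin n → F) : κ → F :=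
  (((P⁻¹ : GL (Fin n) F) : Matrix (Fin n) (Fin n) F) *ᵥ v) ∘ e.symm

theorem TT_coords (v : Fin n → F) : TT e P (coords e P v) = v := by
  unfold TT coords
  have : ((((P⁻¹ : GL (Fin n) F) : Matrix (Fin n) (Fin n) F) *ᵥ v) ∘ e.symm) ∘ e
      = ((P⁻¹ : GL (Fin n) F) : Matrix (Fin n) (Fin n) F) *ᵥ v := by
    funext i; simp
  rw [this, Matrix.mulVec_mulVec, ← Units.val_mul, mul_inv_cancel, Units.val_one, Matrix.one_mulVec]

theorem coords_TT (x : κ → F) : coords e P (TT e P x) = x := by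
  apply TT_injective e P
  rw [TT_coords]

theorem coords_add (u v : Fin n → F) : coords e P (u + v) = coords e P u + coords e P v := by
  apply TT_injective e P
  rw [TT_add, TT_coords, TT_coords, TT_coords]

theorem coords_smul (c : F) (v : Fin n → F) : coords e P (c • v) = c • coords e P v := by
  apply TT_injective e P
  rw [TT_smul, TT_coords, TT_coords]

/-- the additive square-homogeneous map agreeing with `Q` on the basis of pure tensors -/
def Dt (Q : (Fin n → F) → F) (v : Fin n → F) : F :=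
  ∑ p, (coords e P v p) ^ 2 * Q (TT e P (Pi.single p 1))

theorem Dt_isSqAdd (h2 : (2 : F) = 0) (Q : (Fin n → F) → F) : IsSqAdd (Dt e P Q) where
  add := by
    intro u v
    unfold Dt
    rw [← Finset.sum_add_distrib]
    apply Finset.sum_congr rfl
    intro p _
    rw [coords_add, Pi.add_apply]
    have : (coords e P u p + coords e P v p) ^ 2 = coords e P u p ^ 2 + coords e P v p ^ 2
        + 2 * (coords e P u p * coords e P v p) := by ring
    rw [this, h2]; ring
  smul := by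
    intro c v
    unfold Dt
    rw [Finset.mul_sum]
    apply Finset.sum_congr rfl
    intro p _
    rw [coords_smul, Pi.smul_apply, smul_eq_mul]; ring

theorem Dt_TT (Q : (Fin n → F) → F) (x : κ → F) :
    Dt e P Q (TT e P x) = ∑ p, (x p) ^ 2 * Q (TT e P (Pi.single p 1)) := by
  unfold Dt
  rw [coords_TT]

theorem Dt_comp_isSqAdd (h2 : (2 : F) = 0) (Q : (Fin n → F) → F) (A : Matrix (Fin n) (Fin n) F) :
    IsSqAdd (fun x : κ → F => Dt e P Q (A *ᵥ TT e P x)) := by
  have hD := Dt_isSqAdd e P h2 Q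
  constructor
  · intro u w
    show Dt e P Q (A *ᵥ TT e P (u + w)) = _
    rw [TT_add, Matrix.mulVec_add, hD.add]
  · intro k w
    show Dt e P Q (A *ᵥ TT e P (k • w)) = _
    rw [TT_smul, Matrix.mulVec_smul, hD.smul]

theorem Dt_TT_isSqAdd (h2 : (2 : F) = 0) (Q : (Fin n → F) → F) :
    IsSqAdd (fun x : κ → F => Dt e P Q (TT e P x)) := by
  have hD := Dt_isSqAdd e P h2 Q
  constructor
  · intro u w
    show Dt e P Q (TT e P (u + w)) = _
    rw [TT_add, hD.add]
  · intro k w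
    show Dt e P Q (TT e P (k • w)) = _
    rw [TT_smul, hD.smul]

/-- invariance of `Dt` under a matrix that fixes `Q` and maps each basis vector `TT (single p)` to a vector on which
`Dt` and `Q` agree, when `Dt = Q` on the basis vectors themselves -/
theorem Dt_invariant_of (h2 : (2 : F) = 0) (Q : (Fin n → F) → F) (A : Matrix (Fin n) (Fin n) F)
    (hQ : ∀ v, Q (A *ᵥ v) = Q v)
    (hbase : ∀ p : κ, Dt e P Q (A *ᵥ TT e P (Pi.single p 1)) = Q (A *ᵥ TT e P (Pi.single p 1)))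
    (v : Fin n → F) : Dt e P Q (A *ᵥ v) = Dt e P Q v := by
  have key := (Dt_comp_isSqAdd e P h2 Q A).ext (Dt_TT_isSqAdd e P h2 Q) (by
    intro p
    show Dt e P Q (A *ᵥ TT e P (Pi.single p 1)) = Dt e P Q (TT e P (Pi.single p 1))
    rw [hbase, hQ, Dt_TT, Finset.sum_eq_single p]
    · simp
    · intro b _ hb
      rw [Pi.single_eq_of_ne hb]; ring
    · intro h; exact absurd (Finset.mem_univ p) h) (coords e P v)
  beta_reduce at key
  rw [TT_coords] at key
  exact key

end generic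

variable {n₁ n₂ : ℕ} {e : Fin n ≃ Fin n₁ × Fin n₂} {P : GL (Fin n) F}

/-- `Q` expanded on a pure tensor -/
theorem quad_pt (Q : (Fin n → F) → F) (hsm : ∀ (c : F) (v : Fin n → F), Q (c • v) = c ^ 2 * Q v)
    (G₁ : Matrix (Fin n₁) (Fin n₁) F) (G₂ : Matrix (Fin n₂) (Fin n₂) F) (c : F)
    (hG₁ : ∀ x, formOfGram id G₁ x x = 0) (hG₂ : ∀ x, formOfGram id G₂ x x = 0)
    (hpol : ∀ x y, QuadraticMap.polar Q (TT e P x) (TT e P y) = c * formOfGram id (G₁ ⊗ₖ G₂) x y)
    (x₁ : Fin n₁ → F) (x₂ : Fin n₂ → F) :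
    Q (TT e P (pt x₁ x₂)) = ∑ a, ∑ b, (x₁ a) ^ 2 * ((x₂ b) ^ 2 * Q (TT e P (Pi.single (a, b) 1))) := by
  have hg₁ : ∀ z : Fin n₂ → F, IsSqAdd (fun x : Fin n₁ → F => Q (TT e P (pt x z))) := by
    intro z
    constructor
    · intro u v
      show Q (TT e P (pt (u + v) z)) = _
      rw [pt_add_left, TT_add, quad_add Q, hpol, fog_pt, hG₂, mul_zero, mul_zero, add_zero]
    · intro k v
      show Q (TT e P (pt (k • v) z)) = _
      rw [pt_smul_left, TT_smul, hsm]
  have hg₂ : ∀ z : Fin n₁ → F, IsSqAdd (fun x : Fin n₂ → F => Q (TT e P (pt z x))) := by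
    intro z
    constructor
    · intro u v
      show Q (TT e P (pt z (u + v))) = _
      rw [pt_add_right, TT_add, quad_add Q, hpol, fog_pt, hG₁, zero_mul, mul_zero, add_zero]
    · intro k v
      show Q (TT e P (pt z (k • v))) = _
      rw [pt_smul_right, TT_smul, hsm]
  have h1 := (hg₁ x₂).expand x₁
  beta_reduce at h1
  rw [h1]
  apply Finset.sum_congr rfl
  intro a _
  have h2 := (hg₂ (Pi.single a 1)).expand x₂
  beta_reduce at h2
  rw [h2, Finset.mul_sum]
  apply Finset.sum_congr rfl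
  intro b _
  rw [pt_single]

theorem Dt_pt (Q : (Fin n → F) → F) (hsm : ∀ (c : F) (v : Fin n → F), Q (c • v) = c ^ 2 * Q v)
    (G₁ : Matrix (Fin n₁) (Fin n₁) F) (G₂ : Matrix (Fin n₂) (Fin n₂) F) (c : F)
    (hG₁ : ∀ x, formOfGram id G₁ x x = 0) (hG₂ : ∀ x, formOfGram id G₂ x x = 0)
    (hpol : ∀ x y, QuadraticMap.polar Q (TT e P x) (TT e P y) = c * formOfGram id (G₁ ⊗ₖ G₂) x y)
    (x₁ : Fin n₁ → F) (x₂ : Fin n₂ → F) :
    Dt e P Q (TT e P (pt x₁ x₂)) = Q (TT e P (pt x₁ x₂)) := by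
  rw [Dt_TT, quad_pt Q hsm G₁ G₂ c hG₁ hG₂ hpol, Fintype.sum_prod_type]
  apply Finset.sum_congr rfl
  intro a _
  apply Finset.sum_congr rfl
  intro b _
  simp only [pt]
  ring

/-- invariance of `Dt` under Kronecker-type isometries of `Q` -/
theorem Dt_invariant (h2 : (2 : F) = 0) (Q : (Fin n → F) → F)
    (hsm : ∀ (c : F) (v : Fin n → F), Q (c • v) = c ^ 2 * Q v)
    (G₁ : Matrix (Fin n₁) (Fin n₁) F) (G₂ : Matrix (Fin n₂) (Fin n₂) F) (c : F)
    (hG₁ : ∀ x, formOfGram id G₁ x x = 0) (hG₂ : ∀ x, formOfGram id G₂ x x = 0)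
    (hpol : ∀ x y, QuadraticMap.polar Q (TT e P x) (TT e P y) = c * formOfGram id (G₁ ⊗ₖ G₂) x y)
    (M : GL (Fin n₁ × Fin n₂) F) (hM : M ∈ kroneckerSubgroup n₁ n₂ F)
    (hQ : ∀ v, Q (((psi e P M : GL (Fin n) F) : Matrix (Fin n) (Fin n) F) *ᵥ v) = Q v) (v : Fin n → F) :
    Dt e P Q (((psi e P M : GL (Fin n) F) : Matrix (Fin n) (Fin n) F) *ᵥ v) = Dt e P Q v := by
  obtain ⟨A, B, hAB⟩ := hM
  apply Dt_invariant_of e P h2 Q _ hQ
  rintro ⟨a, b⟩
  rw [← pt_single, psi_mulVec, hAB, kron_mulVec_pt, Dt_pt Q hsm G₁ G₂ c hG₁ hG₂ hpol]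

end main


section final
variable {F : Type*} [Field F] {n : ℕ}

/-- **Q-refinement of the tensor exit (characteristic 2).** If the polar form of `Q` is, through `e`, `P`, a
multiple of the tensor product of two bilinear forms vanishing on the diagonal, and an irreducible group `H` of
isometries of `Q` lies in the stabiliser of the tensor decomposition, then `Q` vanishes on all pure tensors. -/
theorem quad_pure_eq_zero [Finite F] (h2 : (2 : F) = 0) (hn : 2 ≤ n)
    (Q : (Fin n → F) → F) (hsm : ∀ (c : F) (v : Fin n → F), Q (c • v) = c ^ 2 * Q v)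
    {n₁ n₂ : ℕ} (e : Fin n ≃ Fin n₁ × Fin n₂) (P : GL (Fin n) F)
    (f₁ : (Fin n₁ → F) → (Fin n₁ → F) → F) (f₂ : (Fin n₂ → F) → (Fin n₂ → F) → F)
    (hb₁ : IsBilinearForm f₁) (ha₁ : ∀ v, f₁ v v = 0) (hb₂ : IsBilinearForm f₂) (ha₂ : ∀ v, f₂ v v = 0)
    (hT : IsTensorFormStructure id (QuadraticMap.polar Q) f₁ f₂ e P)
    (H : Subgroup (GL (Fin n) F)) (hirr : ActsIrreducibly (matrixSet H))
    (hHQ : FixesQuadForm (matrixSet H) Q) (hHT : H ≤ tensorProductSubgroup n₁ n₂ e P)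
    (x₁ : Fin n₁ → F) (x₂ : Fin n₂ → F) :
    Q ((P : Matrix (Fin n) (Fin n) F) *ᵥ ((fun a : Fin n₁ × Fin n₂ => x₁ a.1 * x₂ a.2) ∘ e)) = 0 := by
  obtain ⟨c, hc, hpol⟩ := hT
  have hG₁ : ∀ x, formOfGram id (gramMatrix f₁) x x = 0 := fun x => by
    rw [← bilin_eq_formOfGram hb₁, ha₁]
  have hG₂ : ∀ x, formOfGram id (gramMatrix f₂) x x = 0 := fun x => by
    rw [← bilin_eq_formOfGram hb₂, ha₂]
  have hpol' : ∀ x y, QuadraticMap.polar Q (TT e P x) (TT e P y)
      = c * formOfGram id (gramMatrix f₁ ⊗ₖ gramMatrix f₂) x y := hpol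
  have hD := Dt_isSqAdd e P h2 Q
  have hzero : ∀ v, Dt e P Q v = 0 := by
    intro v
    refine Cfsg.Agent.Lib.Helper12.S5662I8Q.eq_zero_of_additive_sq h2 hn (matrixSet H) hirr (Dt e P Q)
      hD.add hD.smul ?_ v
    rintro s ⟨g, hg, rfl⟩ w hw
    have hgT := hHT hg
    rw [tps_eq] at hgT
    obtain ⟨M, hM, rfl⟩ := hgT
    rw [Dt_invariant h2 Q hsm _ _ c hG₁ hG₂ hpol' M hM (fun v => hHQ _ ⟨_, hg, rfl⟩ v), hw]
  have := Dt_pt Q hsm _ _ c hG₁ hG₂ hpol' x₁ x₂
  rw [hzero] at this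
  exact this.symm

/-- the same with the frozen predicates -/
theorem quad_pure_eq_zero' [Fintype F] (h2 : ¬ Odd (Fintype.card F)) (hn : 2 ≤ n)
    (Q : (Fin n → F) → F) (hQ : IsNondegenerateQuadraticForm Q)
    {n₁ n₂ : ℕ} (e : Fin n ≃ Fin n₁ × Fin n₂) (P : GL (Fin n) F)
    (f₁ : (Fin n₁ → F) → (Fin n₁ → F) → F) (f₂ : (Fin n₂ → F) → (Fin n₂ → F) → F)
    (hf₁ : IsSymplecticForm f₁) (hf₂ : IsSymplecticForm f₂)
    (hT : IsTensorFormStructure id (QuadraticMap.polar Q) f₁ f₂ e P)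
    (H : Subgroup (GL (Fin n) F)) (hirr : ActsIrreducibly (matrixSet H))
    (hHQ : FixesQuadForm (matrixSet H) Q) (hHT : H ≤ tensorProductSubgroup n₁ n₂ e P)
    (x₁ : Fin n₁ → F) (x₂ : Fin n₂ → F) :
    Q ((P : Matrix (Fin n) (Fin n) F) *ᵥ ((fun a : Fin n₁ × Fin n₂ => x₁ a.1 * x₂ a.2) ∘ e)) = 0 := by
  have h2' : (2 : F) = 0 := by
    rw [Nat.not_odd_iff_even] at h2
    obtain ⟨p, hp⟩ := CharP.exists F
    have hpi : CharP F p := hp
    have hpp : p.Prime := by
      have hpi2 : CharP F p := hp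
      exact (CharP.char_is_prime_or_zero F p).resolve_right (CharP.char_ne_zero_of_finite F p)
    have hdvd : p ∣ Fintype.card F := by
      obtain ⟨k, hk⟩ := FiniteField.card F p
      rw [hk.2]
      exact dvd_pow_self _ (PNat.ne_zero k)
    have h2card : 2 ∣ Fintype.card F := even_iff_two_dvd.mp h2
    have hp2 : p = 2 := by
      obtain ⟨k, hk⟩ := FiniteField.card F p
      rw [hk.2] at h2card
      have := (Nat.Prime.dvd_of_dvd_pow Nat.prime_two h2card)
      exact ((Nat.prime_dvd_prime_iff_eq Nat.prime_two hpp).mp this).symm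
    subst hp2
    have := CharP.cast_eq_zero F 2
    exact_mod_cast this
  exact quad_pure_eq_zero h2' hn Q hQ.smul e P f₁ f₂ hf₁.bilinear hf₁.alternating hf₂.bilinear hf₂.alternating
    hT H hirr hHQ hHT x₁ x₂

end final

end Cfsg.Agent.Lib.Helper22.OEQTensor
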