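import Mathlib
import Cfsg.Prelude.Def_GeometricClasses
import Cfsg.Agent.Lib.Helper13.OrthMax
import Cfsg.Agent.Lib.Helper29.S5814PFLD
import Cfsg.Agent.Lib.Helper26.SUCorPU7
import Cfsg.Agent.Lib.Helper22.OEQTensor

/-!
# Even orthogonal rows, properness pieces P-TEN33 and P-TEN2 (helper22, for helper1)

`Ω(Q)` (`5 ≤ n`, any `q`) lies in no tensor product subgroup with factors of dimensions `≥ 3`, nor `2 × m`, `m ≥ 3`:
the long root elements `x ↦ x + B(w,x) u - B(u,x) w` of helper29's `exists_root` have `rank (g - 1) = 2`.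
-/

set_option autoImplicit false
set_option linter.unusedSectionVars false
set_option linter.unusedVariables false

namespace Cfsg.Agent.Lib.Helper22.OECorPTEN

open Matrix Cfsg Cfsg.Geo Module QuadraticMap
open scoped Kronecker
open Cfsg.Agent.Lib.Helper13 (toQF toQF_nondegenerate)
open Cfsg.Agent.Lib.Helper13.TNM
open Cfsg.Agent.Lib.Helper22.OEQTensor

section kron
variable {F : Type*} [Field F] {n₁ n₂ : ℕ}

/-- `w ↦ u ⊗ w` -/
def ptR (u : Fin n₁ → F) : (Fin n₂ → F) →ₗ[F] (Fin n₁ × Fin n₂ → F) where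
  toFun w := pt u w
  map_add' := pt_add_right u
  map_smul' c w := by rw [pt_smul_right]; rfl

/-- `v ↦ v ⊗ z` -/
def ptL (z : Fin n₂ → F) : (Fin n₁ → F) →ₗ[F] (Fin n₁ × Fin n₂ → F) where
  toFun v := pt v z
  map_add' x y := pt_add_left x y z
  map_smul' c v := by rw [pt_smul_left]; rfl

theorem ptR_apply (u : Fin n₁ → F) (w : Fin n₂ → F) : ptR u w = pt u w := rfl
theorem ptL_apply (z : Fin n₂ → F) (v : Fin n₁ → F) : ptL z v = pt v z := rfl

theorem pt_eq_zero_right (u : Fin n₁ → F) (hu : u ≠ 0) (w : Fin n₂ → F) (h : pt u w = 0) : w = 0 := by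
  obtain ⟨i, hi⟩ := Function.ne_iff.mp hu
  funext j
  have := congrFun h (i, j)
  simp only [pt, Pi.zero_apply, mul_eq_zero] at this
  rcases this with h0 | h0
  · exact absurd h0 hi
  · exact h0

theorem pt_eq_zero_left (z : Fin n₂ → F) (hz : z ≠ 0) (v : Fin n₁ → F) (h : pt v z = 0) : v = 0 := by
  obtain ⟨j, hj⟩ := Function.ne_iff.mp hz
  funext i
  have := congrFun h (i, j)
  simp only [pt, Pi.zero_apply, mul_eq_zero] at this
  rcases this with h0 | h0
  · exact h0
  · exact absurd h0 hj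

/-- an injective linear map from `F^k` into a subspace of dimension `≤ 2` forces `k ≤ 2` -/
theorem le_two_of_injective {k : ℕ} {V : Type*} [AddCommGroup V] [Module F V] (S : Submodule F V)
    [Module.Finite F S] (hS : finrank F S ≤ 2) (φ : (Fin k → F) →ₗ[F] V) (hφ : Function.Injective φ)
    (hmem : ∀ w, φ w ∈ S) : k ≤ 2 := by
  have hinj : Function.Injective (φ.codRestrict S hmem) := by
    intro a b hab
    apply hφ
    have := congrArg Subtype.val hab
    simpa using this
  have := LinearMap.finrank_le_finrank_of_injective hinj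
  rw [Module.finrank_fintype_fun_eq_card, Fintype.card_fin] at this
  omega

/-- **the left factor is scalar** when the range of `A ⊗ B - 1` has dimension `≤ 2` and `3 ≤ n₂` -/
theorem left_scalar_of_range (h1 : 1 ≤ n₁) (h2 : 3 ≤ n₂) (A : Matrix (Fin n₁) (Fin n₁) F)
    (B : Matrix (Fin n₂) (Fin n₂) F) (S : Submodule F (Fin n₁ × Fin n₂ → F)) [Module.Finite F S]
    (hS : finrank F S ≤ 2) (hrange : ∀ x, (A ⊗ₖ B) *ᵥ x - x ∈ S) : ∃ α : F, ∀ v, A *ᵥ v = α • v := by
  apply Cfsg.Agent.Lib.Helper26.SUCorPU7.scalar_of_eigen h1 A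
  intro v hv
  by_contra hne
  push Not at hne
  -- `w ↦ Av ⊗ Bw - v ⊗ w` is injective into `S`
  let φ : (Fin n₂ → F) →ₗ[F] (Fin n₁ × Fin n₂ → F) := (ptR (A *ᵥ v)).comp (Matrix.toLin' B) - ptR v
  have hφ : ∀ w, φ w = pt (A *ᵥ v) (B *ᵥ w) - pt v w := by
    intro w
    simp [φ, ptR_apply, Matrix.toLin'_apply]
  have hmem : ∀ w, φ w ∈ S := by
    intro w
    rw [hφ, ← kron_mulVec_pt]
    exact hrange _
  have hinj : Function.Injective φ := by
    rw [← LinearMap.ker_eq_bot, LinearMap.ker_eq_bot']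
    intro w hw
    rw [hφ, sub_eq_zero] at hw
    by_contra hw0
    obtain ⟨j, hj⟩ := Function.ne_iff.mp hw0
    apply hne ((B *ᵥ w) j / w j)⁻¹
    have hv' : v = ((B *ᵥ w) j / w j) • (A *ᵥ v) := by
      funext i
      have := congrFun hw (i, j)
      simp only [pt] at this
      rw [Pi.smul_apply, smul_eq_mul]
      simp only [Pi.zero_apply] at hj
      field_simp
      linear_combination -this
    have hc : (B *ᵥ w) j / w j ≠ 0 := by
      intro h0
      rw [h0, zero_smul] at hv'
      exact hv hv'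
    exact ((inv_smul_eq_iff₀ hc).mpr hv').symm
  have := le_two_of_injective S hS φ hinj hmem
  omega

/-- **the right factor is scalar** when the range of `A ⊗ B - 1` has dimension `≤ 2` and `3 ≤ n₁` -/
theorem right_scalar_of_range (h1 : 3 ≤ n₁) (h2 : 1 ≤ n₂) (A : Matrix (Fin n₁) (Fin n₁) F)
    (B : Matrix (Fin n₂) (Fin n₂) F) (S : Submodule F (Fin n₁ × Fin n₂ → F)) [Module.Finite F S]
    (hS : finrank F S ≤ 2) (hrange : ∀ x, (A ⊗ₖ B) *ᵥ x - x ∈ S) : ∃ β : F, ∀ w, B *ᵥ w = β • w := by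
  apply Cfsg.Agent.Lib.Helper26.SUCorPU7.scalar_of_eigen h2 B
  intro w hw
  by_contra hne
  push Not at hne
  let φ : (Fin n₁ → F) →ₗ[F] (Fin n₁ × Fin n₂ → F) := (ptL (B *ᵥ w)).comp (Matrix.toLin' A) - ptL w
  have hφ : ∀ v, φ v = pt (A *ᵥ v) (B *ᵥ w) - pt v w := by
    intro v
    simp [φ, ptL_apply, Matrix.toLin'_apply]
  have hmem : ∀ v, φ v ∈ S := by
    intro v
    rw [hφ, ← kron_mulVec_pt]
    exact hrange _
  have hinj : Function.Injective φ := by
    rw [← LinearMap.ker_eq_bot, LinearMap.ker_eq_bot']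
    intro v hv
    rw [hφ, sub_eq_zero] at hv
    by_contra hv0
    obtain ⟨i, hi⟩ := Function.ne_iff.mp hv0
    apply hne ((A *ᵥ v) i / v i)⁻¹
    have hw' : w = ((A *ᵥ v) i / v i) • (B *ᵥ w) := by
      funext j
      have := congrFun hv (i, j)
      simp only [pt] at this
      rw [Pi.smul_apply, smul_eq_mul]
      simp only [Pi.zero_apply] at hi
      field_simp
      linear_combination -this
    have hc : (A *ᵥ v) i / v i ≠ 0 := by
      intro h0
      rw [h0, zero_smul] at hw'
      exact hw hw'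
    exact ((inv_smul_eq_iff₀ hc).mpr hw').symm
  have := le_two_of_injective S hS φ hinj hmem
  omega

end kron


section kron2
variable {F : Type*} [Field F] {n₁ n₂ : ℕ}

theorem eq_smul_one_of_mulVec {k : ℕ} (A : Matrix (Fin k) (Fin k) F) (α : F) (h : ∀ v, A *ᵥ v = α • v) :
    A = α • (1 : Matrix (Fin k) (Fin k) F) := by
  ext i j
  have := congrFun (h (Pi.single j 1)) i
  rw [Matrix.mulVec_single_one] at this
  rw [Matrix.smul_apply, Matrix.one_apply, smul_eq_mul]
  rw [Pi.smul_apply, smul_eq_mul, Pi.single_apply] at this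
  simpa [eq_comm] using this

/-- with a scalar left factor and `n₁ = 2`: the whole `≤ 2`-dimensional space `S ⊇ range (A ⊗ B - 1)` consists of
pure tensors `v ⊗ z` with ONE `z`, as soon as `A ⊗ B ≠ 1` -/
theorem exists_common_factor (A : Matrix (Fin 2) (Fin 2) F) (B : Matrix (Fin n₂) (Fin n₂) F) (α : F)
    (hA : ∀ v, A *ᵥ v = α • v) (S : Submodule F (Fin 2 × Fin n₂ → F)) [Module.Finite F S]
    (hS : finrank F S ≤ 2) (hrange : ∀ x, (A ⊗ₖ B) *ᵥ x - x ∈ S)
    (x₀ : Fin 2 × Fin n₂ → F) (hx₀ : (A ⊗ₖ B) *ᵥ x₀ - x₀ ≠ 0) :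
    ∃ z : Fin n₂ → F, z ≠ 0 ∧ ∀ s ∈ S, ∃ v : Fin 2 → F, s = pt v z := by
  have hAm := eq_smul_one_of_mulVec A α hA
  obtain ⟨z', hz'⟩ : ∃ z' : Fin n₂ → F, α • (B *ᵥ z') - z' ≠ 0 := by
    by_contra hcon
    push Not at hcon
    have hB : α • B = 1 := by
      have := eq_smul_one_of_mulVec (α • B) 1 (fun v => by
        rw [Matrix.smul_mulVec, one_smul]
        exact sub_eq_zero.mp (hcon v))
      rw [this, one_smul]
    apply hx₀
    have hM : A ⊗ₖ B = 1 := by
      rw [hAm, Matrix.smul_kronecker, ← Matrix.kronecker_smul, hB, Matrix.one_kronecker_one]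
    rw [hM, Matrix.one_mulVec, sub_self]
  refine ⟨α • (B *ᵥ z') - z', hz', ?_⟩
  set z := α • (B *ᵥ z') - z' with hz
  have hmem : ∀ v, ptL z v ∈ S := by
    intro v
    have h1 : ptL z v = (A ⊗ₖ B) *ᵥ pt v z' - pt v z' := by
      rw [kron_mulVec_pt, hA, ptL_apply, hz, pt_smul_left, ← pt_smul_right]
      funext p
      simp only [pt, Pi.sub_apply, Pi.smul_apply, smul_eq_mul]
      ring
    rw [h1]
    exact hrange _
  have hinj : Function.Injective (ptL (n₁ := 2) z) := by
    rw [← LinearMap.ker_eq_bot, LinearMap.ker_eq_bot']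
    intro v hv
    exact pt_eq_zero_left z hz' v hv
  have hle : LinearMap.range (ptL (n₁ := 2) z) ≤ S := by
    rintro _ ⟨v, rfl⟩
    exact hmem v
  have hfr : finrank F (LinearMap.range (ptL (n₁ := 2) z)) = 2 := by
    rw [LinearMap.finrank_range_of_inj hinj, Module.finrank_fintype_fun_eq_card, Fintype.card_fin]
  have heq : LinearMap.range (ptL (n₁ := 2) z) = S :=
    Submodule.eq_of_le_of_finrank_le hle (by rw [hfr]; exact hS)
  intro s hs
  rw [← heq] at hs
  obtain ⟨v, rfl⟩ := hs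
  exact ⟨v, rfl⟩

end kron2

section main
variable {F : Type*} [Field F] [Fintype F] {n : ℕ}

theorem TT_neg' {κ : Type} [Fintype κ] [DecidableEq κ] (e : Fin n ≃ κ) (P : GL (Fin n) F) (x : κ → F) :
    TT e P (-x) = - TT e P x := by
  rw [← neg_one_smul F x, TT_smul, neg_one_smul]

theorem TT_sub' {κ : Type} [Fintype κ] [DecidableEq κ] (e : Fin n ≃ κ) (P : GL (Fin n) F) (x y : κ → F) :
    TT e P (x - y) = TT e P x - TT e P y := by
  rw [sub_eq_add_neg, TT_add, TT_neg', sub_eq_add_neg]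

theorem polar_comm' (Q : (Fin n → F) → F) (x y : Fin n → F) : polar Q x y = polar Q y x := by
  unfold QuadraticMap.polar
  rw [add_comm x y]; ring

/-- a root element of `Ω` inside a tensor product subgroup, in Kronecker coordinates -/
theorem root_in_tps {Q : (Fin n → F) → F} (hQ : IsNondegenerateQuadraticForm Q) (h5 : 5 ≤ n)
    {n₁ n₂ : ℕ} (e : Fin n ≃ Fin n₁ × Fin n₂) (P : GL (Fin n) F)
    (hle : omegaGL Q ≤ tensorProductSubgroup n₁ n₂ e P)
    (u w : Fin n → F) (hu : Q u = 0) (hw : Q w = 0) (huw : polar Q u w = 0) :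
    ∃ (A : Matrix (Fin n₁) (Fin n₁) F) (B : Matrix (Fin n₂) (Fin n₂) F),
      ∀ x' : Fin n₁ × Fin n₂ → F, (A ⊗ₖ B) *ᵥ x' - x' =
        polar Q w (TT e P x') • coords e P u - polar Q u (TT e P x') • coords e P w := by
  obtain ⟨g, hgΩ, hg⟩ := Cfsg.Agent.Lib.Helper29.S5814.exists_root (toQF Q hQ) (toQF_nondegenerate Q hQ)
    (by rw [Fintype.card_fin]; exact h5) u w hu hw huw
  have hgT : g ∈ tensorProductSubgroup n₁ n₂ e P := hle hgΩ
  rw [tps_eq] at hgT
  obtain ⟨M, ⟨A, B, hAB⟩, rfl⟩ := hgT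
  refine ⟨A, B, fun x' => ?_⟩
  have h1 := hg (TT e P x')
  rw [psi_mulVec, hAB] at h1
  have h2 := congrArg (coords e P) h1
  rw [coords_TT] at h2
  have h3 : coords e P (TT e P x' + polar (⇑(toQF Q hQ)) w (TT e P x') • u
      - polar (⇑(toQF Q hQ)) u (TT e P x') • w)
      = x' + polar Q w (TT e P x') • coords e P u - polar Q u (TT e P x') • coords e P w := by
    rw [sub_eq_add_neg, coords_add, coords_add, coords_TT, ← neg_smul, coords_smul, coords_smul, neg_smul,
      ← sub_eq_add_neg]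
    rfl
  rw [h3] at h2
  rw [h2]
  abel

/-- the span of two vectors has dimension at most two -/
theorem finrank_span_pair_le {V : Type*} [AddCommGroup V] [Module F V] (a b : V) :
    finrank F (Submodule.span F (Set.range ![a, b])) ≤ 2 := by
  have := finrank_range_le_card (R := F) ![a, b]
  rw [Fintype.card_fin] at this
  exact this

theorem mem_span_pair' {V : Type*} [AddCommGroup V] [Module F V] (a b : V) (c d : F) :
    c • a - d • b ∈ Submodule.span F (Set.range ![a, b]) := by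
  have ha : a ∈ Submodule.span F (Set.range ![a, b]) := Submodule.subset_span ⟨0, rfl⟩
  have hb : b ∈ Submodule.span F (Set.range ![a, b]) := Submodule.subset_span ⟨1, rfl⟩
  exact Submodule.sub_mem _ (Submodule.smul_mem _ _ ha) (Submodule.smul_mem _ _ hb)

/-- **P-TEN33** -/
theorem not_omega_le_tensor33 {Q : (Fin n → F) → F} (hQ : IsNondegenerateQuadraticForm Q) (h5 : 5 ≤ n)
    (n₁ n₂ : ℕ) (h1 : 3 ≤ n₁) (h2 : 3 ≤ n₂) (e : Fin n ≃ Fin n₁ × Fin n₂) (P : GL (Fin n) F) :
    ¬ omegaGL Q ≤ tensorProductSubgroup n₁ n₂ e P := by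
  intro hle
  obtain ⟨u, u', w, hu, hu', huu', hw0, hw, huw, hu'w⟩ :=
    Cfsg.Agent.Lib.Helper29.S5814.exists_sing_pair (toQF Q hQ) (toQF_nondegenerate Q hQ)
      (by rw [Fintype.card_fin]; exact h5)
  have hu : Q u = 0 := hu
  have hw : Q w = 0 := hw
  have huu' : polar Q u u' = 1 := huu'
  have huw : polar Q u w = 0 := huw
  have hu'w : polar Q u' w = 0 := hu'w
  obtain ⟨A, B, hAB⟩ := root_in_tps hQ h5 e P hle u w hu hw huw
  set a := coords e P u with ha
  set b := coords e P w with hb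
  have hS := finrank_span_pair_le (F := F) a b
  have hrange : ∀ x, (A ⊗ₖ B) *ᵥ x - x ∈ Submodule.span F (Set.range ![a, b]) := by
    intro x
    rw [hAB]
    exact mem_span_pair' a b _ _
  obtain ⟨α, hα⟩ := left_scalar_of_range (by omega) h2 A B _ hS hrange
  obtain ⟨β, hβ⟩ := right_scalar_of_range h1 (by omega) A B _ hS hrange
  have hM : A ⊗ₖ B = (α * β) • (1 : Matrix (Fin n₁ × Fin n₂) (Fin n₁ × Fin n₂) F) := by
    rw [eq_smul_one_of_mulVec A α hα, eq_smul_one_of_mulVec B β hβ, Matrix.smul_kronecker, Matrix.kronecker_smul,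
      Matrix.one_kronecker_one, smul_smul]
  have h3 := hAB (coords e P u')
  rw [TT_coords, polar_comm' Q w u', hu'w, huu', zero_smul, zero_sub, one_smul, hM, Matrix.smul_mulVec,
    Matrix.one_mulVec] at h3
  -- `(αβ - 1) u' = - w`
  have h4 := congrArg (TT e P) h3
  rw [TT_sub', TT_smul, TT_coords, TT_neg', hb, TT_coords] at h4
  have h5' : polar Q u ((α * β) • u' - u') = polar Q u (-w) := by rw [h4]
  have hbil := hQ.polar_bilinear
  have hneg : polar Q u (-w) = 0 := by
    have := hbil.smul_right (-1) u w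
    rw [neg_one_smul] at this
    rw [this, huw, mul_zero]
  have hsub : polar Q u ((α * β) • u' - u') = (α * β) * 1 - 1 := by
    have h6 : (α * β) • u' - u' = (α * β) • u' + (-1 : F) • u' := by rw [neg_one_smul, sub_eq_add_neg]
    rw [h6, hbil.add_right, hbil.smul_right, hbil.smul_right, huu']
    ring
  rw [hneg, hsub] at h5'
  have hαβ : α * β = 1 := by linear_combination h5'
  rw [hαβ, one_smul, sub_self] at h4
  exact hw0 (neg_eq_zero.mp h4.symm)

/-- `TT` as a linear map -/
def TTlin {κ : Type} [Fintype κ] [DecidableEq κ] (e : Fin n ≃ κ) (P : GL (Fin n) F) :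
    (κ → F) →ₗ[F] (Fin n → F) :=
  (Matrix.toLin' (P : Matrix (Fin n) (Fin n) F)).comp (LinearMap.funLeft F F e)

theorem TTlin_apply {κ : Type} [Fintype κ] [DecidableEq κ] (e : Fin n ≃ κ) (P : GL (Fin n) F) (x : κ → F) :
    TTlin e P x = TT e P x := rfl

theorem polar_self_of_sing {Q : (Fin n → F) → F} (hQ : IsNondegenerateQuadraticForm Q) (u : Fin n → F)
    (hu : Q u = 0) : polar Q u u = 0 := by
  unfold QuadraticMap.polar
  have : u + u = (2 : F) • u := (two_smul F u).symm
  rw [this, hQ.smul, hu]; ring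

theorem coords_ne_zero {κ : Type} [Fintype κ] [DecidableEq κ] (e : Fin n ≃ κ) (P : GL (Fin n) F) (w : Fin n → F)
    (hw : w ≠ 0) : coords e P w ≠ 0 := by
  intro h
  apply hw
  have := TT_coords e P w
  rw [h] at this
  rw [← this]
  have h0 := TT_smul e P (0 : F) (0 : κ → F)
  rw [zero_smul, zero_smul] at h0
  exact h0

/-- **P-TEN2** -/
theorem not_omega_le_tensor2 {Q : (Fin n → F) → F} (hQ : IsNondegenerateQuadraticForm Q) (h5 : 5 ≤ n)
    (m : ℕ) (hm : 3 ≤ m) (e : Fin n ≃ Fin 2 × Fin m) (P : GL (Fin n) F) :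
    ¬ omegaGL Q ≤ tensorProductSubgroup 2 m e P := by
  intro hle
  obtain ⟨u, u', w, hu, hu', huu', hw0, hw, huw, hu'w⟩ :=
    Cfsg.Agent.Lib.Helper29.S5814.exists_sing_pair (toQF Q hQ) (toQF_nondegenerate Q hQ)
      (by rw [Fintype.card_fin]; exact h5)
  have hu : Q u = 0 := hu
  have hu' : Q u' = 0 := hu'
  have hw : Q w = 0 := hw
  have huu' : polar Q u u' = 1 := huu'
  have huw : polar Q u w = 0 := huw
  have hu'w : polar Q u' w = 0 := hu'w
  have hbil := hQ.polar_bilinear
  set a := coords e P u with ha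
  set b := coords e P w with hb
  set a' := coords e P u' with ha'
  have hb0 : b ≠ 0 := coords_ne_zero e P w hw0
  -- first root element
  obtain ⟨A, B, hAB⟩ := root_in_tps hQ h5 e P hle u w hu hw huw
  have hS := finrank_span_pair_le (F := F) a b
  have hrange : ∀ x, (A ⊗ₖ B) *ᵥ x - x ∈ Submodule.span F (Set.range ![a, b]) := by
    intro x
    rw [hAB]
    exact mem_span_pair' a b _ _
  obtain ⟨α, hα⟩ := left_scalar_of_range (by omega) hm A B _ hS hrange
  have hx₀ : (A ⊗ₖ B) *ᵥ a' - a' ≠ 0 := by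
    rw [hAB, ha', TT_coords, polar_comm' Q w u', hu'w, huu', zero_smul, zero_sub, one_smul]
    exact neg_ne_zero.mpr hb0
  obtain ⟨z, hz0, hz⟩ := exists_common_factor A B α hα _ hS hrange a' hx₀
  obtain ⟨v₁, hv₁⟩ := hz a (Submodule.subset_span ⟨0, rfl⟩)
  obtain ⟨v₂, hv₂⟩ := hz b (Submodule.subset_span ⟨1, rfl⟩)
  -- second root element
  obtain ⟨A', B', hAB'⟩ := root_in_tps hQ h5 e P hle u' w hu' hw hu'w
  have hS' := finrank_span_pair_le (F := F) a' b
  have hrange' : ∀ x, (A' ⊗ₖ B') *ᵥ x - x ∈ Submodule.span F (Set.range ![a', b]) := by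
    intro x
    rw [hAB']
    exact mem_span_pair' a' b _ _
  obtain ⟨α', hα'⟩ := left_scalar_of_range (by omega) hm A' B' _ hS' hrange'
  have hx₀' : (A' ⊗ₖ B') *ᵥ a - a ≠ 0 := by
    rw [hAB', ha, TT_coords, polar_comm' Q w u, huw, polar_comm' Q u' u, huu', zero_smul, zero_sub, one_smul]
    exact neg_ne_zero.mpr hb0
  obtain ⟨z', hz'0, hz'⟩ := exists_common_factor A' B' α' hα' _ hS' hrange' a hx₀'
  obtain ⟨v₃, hv₃⟩ := hz' a' (Submodule.subset_span ⟨0, rfl⟩)
  obtain ⟨v₄, hv₄⟩ := hz' b (Submodule.subset_span ⟨1, rfl⟩)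
  -- `z'` is a multiple of `z`
  have hv₄0 : v₄ ≠ 0 := by
    intro h0
    apply hb0
    rw [hv₄, h0]
    funext p
    simp [pt]
  obtain ⟨i, hi⟩ := Function.ne_iff.mp hv₄0
  simp only [Pi.zero_apply] at hi
  have hzz' : z' = (v₂ i / v₄ i) • z := by
    funext j
    have h1 := congrFun hv₂ (i, j)
    have h2 := congrFun hv₄ (i, j)
    rw [h1] at h2
    simp only [pt] at h2
    rw [Pi.smul_apply, smul_eq_mul]
    field_simp
    linear_combination -h2
  have hv₃' : a' = pt ((v₂ i / v₄ i) • v₃) z := by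
    rw [hv₃, hzz', pt_smul_right, pt_smul_left]
  -- linear independence
  have hLI : LinearIndependent F ![u, w, u'] := by
    rw [Fintype.linearIndependent_iff]
    intro g hg
    rw [Fin.sum_univ_three] at hg
    simp only [Matrix.cons_val_zero, Matrix.cons_val_one, Matrix.cons_val_two, Matrix.head_cons,
      Matrix.tail_cons] at hg
    have hexp : ∀ x, polar Q x (g 0 • u + g 1 • w + g 2 • u') =
        g 0 * polar Q x u + g 1 * polar Q x w + g 2 * polar Q x u' := by
      intro x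
      rw [hbil.add_right, hbil.add_right, hbil.smul_right, hbil.smul_right, hbil.smul_right]
    have hzero : ∀ x, polar Q x (0 : Fin n → F) = 0 := by
      intro x
      have := hbil.smul_right 0 x 0
      simpa using this
    have h2 : g 2 = 0 := by
      have := hexp u
      rw [hg, hzero, polar_self_of_sing hQ u hu, huw, huu'] at this
      linear_combination -this
    have h0 : g 0 = 0 := by
      have := hexp u'
      rw [hg, hzero, polar_self_of_sing hQ u' hu', hu'w, polar_comm' Q u' u, huu'] at this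
      linear_combination -this
    have h1 : g 1 = 0 := by
      rw [h0, h2, zero_smul, zero_smul, zero_add, add_zero] at hg
      rcases smul_eq_zero.mp hg with h | h
      · exact h
      · exact absurd h hw0
    intro j
    fin_cases j
    · exact h0
    · exact h1
    · exact h2
  have hcomp : ![u, w, u'] = (TTlin e P) ∘ ((ptL (n₁ := 2) z) ∘ ![v₁, v₂, (v₂ i / v₄ i) • v₃]) := by
    funext j
    fin_cases j
    · show u = TT e P (pt v₁ z)
      rw [← hv₁, ha, TT_coords]
    · show w = TT e P (pt v₂ z)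
      rw [← hv₂, hb, TT_coords]
    · show u' = TT e P (pt ((v₂ i / v₄ i) • v₃) z)
      rw [← hv₃', ha', TT_coords]
  rw [hcomp] at hLI
  have hLI2 := (LinearIndependent.of_comp (TTlin e P) hLI)
  have hLI3 := LinearIndependent.of_comp (ptL (n₁ := 2) z) hLI2
  have := hLI3.fintype_card_le_finrank
  rw [Module.finrank_fintype_fun_eq_card, Fintype.card_fin, Fintype.card_fin] at this
  omega

end main

end Cfsg.Agent.Lib.Helper22.OECorPTEN
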