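import Mathlib
import Cfsg.Prelude.Def_Solvable
import Cfsg.Agent.Lib.Helper9.SpGenB

/-!
# `O_p` of a symplectic group is trivial when `p` does not divide `|F|^(2m) - 1` (helper22)

The symplectic group `Matrix.symplecticGroup (Fin m) F` is transitive on the nonzero vectors (by
transvections), so a normal `p`-subgroup, which fixes some nonzero vector when `p ∤ |V| - 1`, fixes all of
them and is trivial. In particular `O_2(Sp_6(2)) = 1`.
-/

set_option autoImplicit false

namespace Cfsg.Agent.Lib.Helper22.SpPCore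

open Matrix Cfsg.Agent.Lib.Helper6 Cfsg.Agent.Lib.Helper9.SpGen

/-- a normal `p`-subgroup of a group acting faithfully and transitively on a finite set of size prime to `p`
is trivial -/
theorem normal_pgroup_eq_bot {G X : Type*} [Group G] [MulAction G X] [Finite X] (p : ℕ) [Fact p.Prime]
    (htrans : ∀ x y : X, ∃ g : G, g • x = y) (hcard : ¬ p ∣ Nat.card X)
    (hfaith : ∀ g : G, (∀ x : X, g • x = x) → g = 1) (N : Subgroup G) (hn : N.Normal)
    (hN : IsPGroup p N) : N = ⊥ := by
  classical
  have : Fintype X := Fintype.ofFinite X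
  have h1 := hN.card_modEq_card_fixedPoints X
  have hne : (MulAction.fixedPoints N X).Nonempty := by
    by_contra hempty
    rw [Set.not_nonempty_iff_eq_empty] at hempty
    have : Nat.card (MulAction.fixedPoints N X) = 0 := by
      rw [hempty]; simp
    rw [this] at h1
    exact hcard ((Nat.modEq_zero_iff_dvd).mp h1)
  obtain ⟨x0, hx0⟩ := hne
  rw [Subgroup.eq_bot_iff_forall]
  intro n hnN
  apply hfaith
  intro y
  obtain ⟨g, rfl⟩ := htrans x0 y
  have hc : g⁻¹ * n * g ∈ N := by
    have := hn.conj_mem n hnN g⁻¹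
    simpa using this
  have h2 : (g⁻¹ * n * g) • x0 = x0 := hx0 ⟨_, hc⟩
  calc n • g • x0 = g • ((g⁻¹ * n * g) • x0) := by
        simp only [← mul_smul]; congr 1; group
    _ = g • x0 := by rw [h2]

/-- the `p`-core of a group acting faithfully and transitively on a finite set of size prime to `p` is trivial -/
theorem pCore_eq_bot_of_transitive {G X : Type*} [Group G] [MulAction G X] [Finite X] (p : ℕ) [Fact p.Prime]
    (htrans : ∀ x y : X, ∃ g : G, g • x = y) (hcard : ¬ p ∣ Nat.card X)
    (hfaith : ∀ g : G, (∀ x : X, g • x = x) → g = 1) : Cfsg.pCore p G = ⊥ := by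
  unfold Cfsg.pCore
  rw [eq_bot_iff]
  apply sSup_le
  rintro N ⟨hn, hN⟩
  rw [normal_pgroup_eq_bot p htrans hcard hfaith N hn hN]

section symp
variable {m : ℕ} {F : Type*} [Field F]

local notation "ff" => Cfsg.sympForm m F
local notation "VV" => (Fin m ⊕ Fin m → F)
local notation "GG" => Matrix.symplecticGroup (Fin m) F

/-- nondegeneracy of the symplectic form -/
theorem exists_form_ne_zero {u : VV} (h0 : u ≠ 0) : ∃ z : VV, ff u z ≠ 0 := by
  obtain ⟨c, hc⟩ : ∃ c, u c ≠ 0 := by
    by_contra hcon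
    push Not at hcon
    exact h0 (funext hcon)
  rcases c with i | i
  · refine ⟨f i, ?_⟩
    rw [form_f_right]
    exact neg_ne_zero.mpr hc
  · refine ⟨e i, ?_⟩
    rw [form_e_right]
    exact hc

/-- one transvection moves `u` to `v` when `ff u v ≠ 0` -/
theorem exists_act_eq_of_form_ne_zero {u v : VV} (h : ff u v ≠ 0) : ∃ g : GG, act g u = v := by
  refine ⟨T (v - u) (ff u v)⁻¹, ?_⟩
  rw [act_T, sympForm_sub_right, sympForm_self, sub_zero, inv_mul_cancel₀ h, one_smul]
  abel

/-- the symplectic group is transitive on the nonzero vectors -/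
theorem exists_act_eq {u v : VV} (hu : u ≠ 0) (hv : v ≠ 0) : ∃ g : GG, act g u = v := by
  by_cases h : ff u v ≠ 0
  · exact exists_act_eq_of_form_ne_zero h
  · obtain ⟨w1, hw1⟩ := exists_form_ne_zero hu
    obtain ⟨w2, hw2⟩ := exists_form_ne_zero hv
    have key : ∃ w : VV, ff u w ≠ 0 ∧ ff w v ≠ 0 := by
      by_cases h1 : ff v w1 ≠ 0
      · refine ⟨w1, hw1, ?_⟩
        rw [sympForm_swap]; exact neg_ne_zero.mpr h1
      · by_cases h2 : ff u w2 ≠ 0
        · refine ⟨w2, h2, ?_⟩
          rw [sympForm_swap]; exact neg_ne_zero.mpr hw2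
        · push Not at h1 h2
          refine ⟨w1 + w2, ?_, ?_⟩
          · rw [sympForm_add_right, h2, add_zero]; exact hw1
          · rw [sympForm_swap, sympForm_add_right, h1, zero_add]; exact neg_ne_zero.mpr hw2
    obtain ⟨w, hw1', hw2'⟩ := key
    obtain ⟨g1, hg1⟩ := exists_act_eq_of_form_ne_zero (m := m) (F := F) hw1'
    obtain ⟨g2, hg2⟩ := exists_act_eq_of_form_ne_zero (m := m) (F := F) hw2'
    exact ⟨g2 * g1, by rw [act_mul, hg1, hg2]⟩

/-- the action on the nonzero vectors -/
instance nzAction : MulAction GG {v : VV // v ≠ 0} where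
  smul g v := ⟨act g v.1, fun h => v.2 (by
    have := congrArg (act g⁻¹) h
    rwa [act_inv_act, act_zero] at this)⟩
  one_smul v := Subtype.ext (act_one v.1)
  mul_smul g h v := Subtype.ext (act_mul g h v.1)

theorem nz_smul_val (g : GG) (v : {v : VV // v ≠ 0}) : (g • v).1 = act g v.1 := rfl

/-- `O_p` of the symplectic group is trivial when `p` does not divide the number of nonzero vectors -/
theorem pCore_symplectic_eq_bot [Finite F] (p : ℕ) [Fact p.Prime]
    (hp : ¬ p ∣ Nat.card {v : VV // v ≠ 0}) : Cfsg.pCore p GG = ⊥ := by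
  apply pCore_eq_bot_of_transitive (X := {v : VV // v ≠ 0}) p _ hp
  · intro g hg
    apply ext_act
    intro x
    by_cases hx : x = 0
    · rw [hx, act_zero, act_zero]
    · have := congrArg Subtype.val (hg ⟨x, hx⟩)
      rw [nz_smul_val] at this
      rw [this, act_one]
  · intro x y
    obtain ⟨g, hg⟩ := exists_act_eq (m := m) (F := F) x.2 y.2
    exact ⟨g, Subtype.ext hg⟩

end symp

/-- `O_2(Sp_6(2)) = 1` -/
theorem pCore_two_sp62 : Cfsg.pCore 2 (Matrix.symplecticGroup (Fin 3) (ZMod 2)) = ⊥ := by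
  have : Fact (Nat.Prime 2) := ⟨Nat.prime_two⟩
  apply pCore_symplectic_eq_bot (m := 3) (F := ZMod 2) 2
  have h : Nat.card {v : (Fin 3 ⊕ Fin 3 → ZMod 2) // v ≠ 0} = 63 := by
    rw [Nat.card_eq_fintype_card, Fintype.card_subtype_compl, Fintype.card_subtype_eq]
    simp [ZMod.card]
  rw [h]
  decide

end Cfsg.Agent.Lib.Helper22.SpPCore
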