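import Cfsg.Agent.Lib.Helper14.Co2CDefs
import Cfsg.Agent.Lib.Helper22.SpPCore

/-!
# S2136-[O]: `Sp₆(2)` has no nontrivial normal `2`-subgroup (helper22, for helper14)
-/

set_option autoImplicit false

namespace Cfsg.Agent.Lib.Helper14.Co2C

open Cfsg.Agent.Lib.Helper22.SpPCore Cfsg.Agent.Lib.Helper9.SpGen

/-- [O] `O₂(Sp₆(2)) = 1`: a normal `2`-subgroup of `Sp₆(2)` is trivial -/
theorem sp6_O2_trivial (N : Subgroup Sp6) (hN : N.Normal) (h2 : IsPGroup 2 ↥N) : N = ⊥ := by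
  have : Fact (Nat.Prime 2) := ⟨Nat.prime_two⟩
  have hcard : Nat.card {v : (Fin 3 ⊕ Fin 3 → ZMod 2) // v ≠ 0} = 63 := by
    rw [Nat.card_eq_fintype_card, Fintype.card_subtype_compl, Fintype.card_subtype_eq]
    simp [ZMod.card]
  refine normal_pgroup_eq_bot (G := Sp6) (X := {v : (Fin 3 ⊕ Fin 3 → ZMod 2) // v ≠ 0}) 2 ?_ ?_ ?_ N hN h2
  · intro x y
    obtain ⟨g, hg⟩ := exists_act_eq (m := 3) (F := ZMod 2) x.2 y.2
    exact ⟨g, Subtype.ext hg⟩
  · rw [hcard]; decide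
  · intro g hg
    apply ext_act
    intro x
    by_cases hx : x = 0
    · rw [hx, act_zero, act_zero]
    · have := congrArg Subtype.val (hg ⟨x, hx⟩)
      rw [nz_smul_val] at this
      rw [this, act_one]

end Cfsg.Agent.Lib.Helper14.Co2C
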