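import Mathlib
import Cfsg.Agent.Lib.Helper14.RU0

/-!
# S2281 farm-out B3 / B4 (helper22): conjugating a regular unipotent element into `T (e last) c * uh`

`conj_last_odd`, `conj_last_even`: exact signatures of `notes/S2281_farmout_sigs_B.lean.txt`.
-/

set_option autoImplicit false

namespace Cfsg.Agent.Lib.Helper22.RU

open Matrix Cfsg.Agent.Lib.Helper6 Cfsg.Agent.Lib.Helper9.SpGen Cfsg.Agent.Lib.Helper14
  Cfsg.Agent.Lib.Helper14.RU

section generic
variable {m : ℕ} {F : Type*} [Field F]

local notation "ff" => Cfsg.sympForm m F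
local notation "VV" => (Fin m ⊕ Fin m → F)
local notation "GG" => Matrix.symplecticGroup (Fin m) F

/-- odd characteristic: `u a = a`, `u b = b + a`, `a ⊥ b`, `2 μ + c = 0`: the Siegel element
`S a (μ b)` conjugates `u` to `T a c * u`. -/
theorem conj_generic_odd (u : GG) (a b : VV) (hab : ff a b = 0) (hua : act u a = a)
    (hub : act u b = b + a) (μ c : F) (hμ : 2 * μ + c = 0) :
    S a (μ • b) * u * (S a (μ • b))⁻¹ = T a c * u := by
  have hba : ff b a = 0 := by rw [sympForm_swap, hab, neg_zero]
  have hab' : ff a (μ • b) = 0 := by rw [sympForm_smul_right, hab, mul_zero]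
  rw [mul_inv_eq_iff_eq_mul]
  apply ext_act
  intro x
  have h1 : ff (act u x) a = ff x a := by
    have := form_act u x a
    rwa [hua] at this
  have h2 : ff (act u x) b = ff x b - ff x a := by
    have := form_act u x b
    rw [hub, sympForm_add_right, h1] at this
    linear_combination this
  rw [act_mul, act_mul, act_mul, act_S hab', act_S hab', act_T]
  simp only [act_add, act_smul, hua, hub, sympForm_add_left, sympForm_smul_left,
    sympForm_smul_right, sympForm_self, h1, h2, hba]
  funext i
  simp only [Pi.add_apply, Pi.smul_apply, smul_eq_mul]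
  linear_combination (-(ff x a * a i)) * hμ

/-- characteristic 2: `u a = a`, `u b = b + a`, `u d = d + b`, `a, b, d` pairwise orthogonal:
`T b c * S a (c d)` conjugates `u` to `T a c * u`. -/
theorem conj_generic_even (h2 : (2 : F) = 0) (u : GG) (a b d : VV) (hab : ff a b = 0)
    (had : ff a d = 0) (hbd : ff b d = 0) (hua : act u a = a)
    (hub : act u b = b + a) (hud : act u d = d + b) (c : F) :
    (T b c * S a (c • d)) * u * (T b c * S a (c • d))⁻¹ = T a c * u := by
  have hba : ff b a = 0 := by rw [sympForm_swap, hab, neg_zero]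
  have hda : ff d a = 0 := by rw [sympForm_swap, had, neg_zero]
  have hdb : ff d b = 0 := by rw [sympForm_swap, hbd, neg_zero]
  have had' : ff a (c • d) = 0 := by rw [sympForm_smul_right, had, mul_zero]
  rw [mul_inv_eq_iff_eq_mul]
  apply ext_act
  intro x
  have h1 : ff (act u x) a = ff x a := by
    have := form_act u x a
    rwa [hua] at this
  have h3 : ff (act u x) b = ff x b - ff x a := by
    have := form_act u x b
    rw [hub, sympForm_add_right, h1] at this
    linear_combination this
  have h4 : ff (act u x) d = ff x d - ff x b + ff x a := by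
    have := form_act u x d
    rw [hud, sympForm_add_right, h3] at this
    linear_combination this
  rw [act_mul, act_mul, act_mul, act_mul, act_mul, act_S had', act_S had', act_T, act_T, act_T]
  simp only [act_add, act_smul, hua, hub, hud, sympForm_add_left, sympForm_smul_left,
    sympForm_smul_right, sympForm_self, h1, h3, h4, hab, hba, hda, hdb]
  funext i
  simp only [Pi.add_apply, Pi.smul_apply, smul_eq_mul]
  linear_combination (-(c * ff x b * a i + c * ff x a * b i)) * h2

end generic

section b3
variable {k : ℕ} {F : Type*} [Field F]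

local notation "ff" => Cfsg.sympForm (k + 2) F
local notation "VV" => (Fin (k + 2) ⊕ Fin (k + 2) → F)
local notation "GG" => Matrix.symplecticGroup (Fin (k + 2)) F

theorem form_e_e (i j : Fin (k + 2)) : ff (e i : VV) (e j : VV) = 0 := by
  rw [form_e_right, e_inr]

/-- **B3** -/
theorem conj_last_odd (h2 : (2 : F) ≠ 0) (s c : F) :
    ∃ g : GG, g * uh k s * g⁻¹ = T (e (Fin.last (k + 1)) : VV) c * uh k s := by
  refine ⟨S (e (Fin.last (k + 1)) : VV) ((-c / 2) • (e (Fin.last k).castSucc : VV)), ?_⟩
  apply conj_generic_odd (uh k s) (e (Fin.last (k + 1)) : VV) (e (Fin.last k).castSucc : VV)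
    (form_e_e _ _) (act_uh_e_last s)
  · rw [act_uh_e_castSucc, Fin.succ_last]
  · field_simp
    ring

end b3

section b4
variable {k : ℕ} {F : Type*} [Field F]

local notation "ff" => Cfsg.sympForm (k + 3) F
local notation "VV" => (Fin (k + 3) ⊕ Fin (k + 3) → F)
local notation "GG" => Matrix.symplecticGroup (Fin (k + 3)) F

/-- **B4** -/
theorem conj_last_even (h2 : (2 : F) = 0) (s c : F) :
    ∃ g : GG, g * uh (k + 1) s * g⁻¹ = T (e (Fin.last (k + 2)) : VV) c * uh (k + 1) s := by
  refine ⟨T (e (Fin.last (k + 1)).castSucc : VV) c *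
    S (e (Fin.last (k + 2)) : VV) (c • (e (Fin.last k).castSucc.castSucc : VV)), ?_⟩
  apply conj_generic_even h2 (uh (k + 1) s) (e (Fin.last (k + 2)) : VV)
    (e (Fin.last (k + 1)).castSucc : VV) (e (Fin.last k).castSucc.castSucc : VV)
    (form_e_e _ _) (form_e_e _ _) (form_e_e _ _) (act_uh_e_last s)
  · rw [act_uh_e_castSucc, Fin.succ_last]
  · rw [act_uh_e_castSucc]
    congr 2

end b4

end Cfsg.Agent.Lib.Helper22.RU
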