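import Mathlib
import Cfsg.Prelude.Def_ParabolicCharacters

/-! FO-F of helper14's S2314 farm-out: summing a permutation character over the `p`-elements. -/

set_option autoImplicit false

namespace Cfsg.Agent.Lib.Helper22.S2314

open Classical in
/-- the `p`-elements fixing the coset `xH` are in bijection with the `p`-elements of `H` -/
theorem card_fix_coset {Γ : Type*} [Group Γ] [Fintype Γ] (p : ℕ) (H : Subgroup Γ) (x : Γ) :
    ((Finset.univ : Finset Γ).filter (fun g => (∃ k : ℕ, orderOf g = p ^ k) ∧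
      g • (QuotientGroup.mk x : Γ ⧸ H) = QuotientGroup.mk x)).card =
    Nat.card {g : Γ // g ∈ H ∧ ∃ k : ℕ, orderOf g = p ^ k} := by
  rw [← Fintype.card_subtype, ← Nat.card_eq_fintype_card]
  apply Nat.card_congr
  have hfix : ∀ g : Γ, g • (QuotientGroup.mk x : Γ ⧸ H) = QuotientGroup.mk x ↔ x⁻¹ * g * x ∈ H := by
    intro g
    rw [MulAction.Quotient.smul_mk, QuotientGroup.eq, smul_eq_mul, mul_inv_rev]
    · constructor
      · intro h
        have : x⁻¹ * g * x = (x⁻¹ * g⁻¹ * x)⁻¹ := by group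
        rw [this]; exact H.inv_mem h
      · intro h
        have : x⁻¹ * g⁻¹ * x = (x⁻¹ * g * x)⁻¹ := by group
        rw [this]; exact H.inv_mem h
  refine ⟨fun g => ⟨x⁻¹ * g.1 * x, (hfix g.1).1 g.2.2, ?_⟩,
    fun h => ⟨x * h.1 * x⁻¹, ?_, ?_⟩, ?_, ?_⟩
  · obtain ⟨k, hk⟩ := g.2.1
    refine ⟨k, ?_⟩
    rw [← hk]
    have : x⁻¹ * g.1 * x = MulAut.conj x⁻¹ g.1 := by simp
    rw [this, MulEquiv.orderOf_eq]
  · obtain ⟨k, hk⟩ := h.2.2
    refine ⟨k, ?_⟩
    rw [← hk]
    have : x * h.1 * x⁻¹ = MulAut.conj x h.1 := by simp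
    rw [this, MulEquiv.orderOf_eq]
  · rw [hfix]
    have : x⁻¹ * (x * h.1 * x⁻¹) * x = h.1 := by group
    rw [this]; exact h.2.1
  · intro g
    apply Subtype.ext
    show x * (x⁻¹ * g.1 * x) * x⁻¹ = g.1
    group
  · intro h
    apply Subtype.ext
    show x⁻¹ * (x * h.1 * x⁻¹) * x = h.1
    group

open Classical in
/-- FO-F -/
theorem sum_fpc_pElements {Γ : Type*} [Group Γ] [Fintype Γ] (p : ℕ) (H : Subgroup Γ) :
    ∑ g ∈ (Finset.univ : Finset Γ).filter (fun g => ∃ k : ℕ, orderOf g = p ^ k),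
      Cfsg.fixedPointCharacter H g =
      (H.index : ℂ) * ((Nat.card {g : Γ // g ∈ H ∧ ∃ k : ℕ, orderOf g = p ^ k} : ℕ) : ℂ) := by
  have hnat : ∑ g ∈ (Finset.univ : Finset Γ).filter (fun g => ∃ k : ℕ, orderOf g = p ^ k),
      Nat.card (MulAction.fixedBy (Γ ⧸ H) g) =
      H.index * Nat.card {g : Γ // g ∈ H ∧ ∃ k : ℕ, orderOf g = p ^ k} := by
    have e1 : ∀ g : Γ, Nat.card (MulAction.fixedBy (Γ ⧸ H) g) =
        ∑ c : Γ ⧸ H, if g • c = c then 1 else 0 := by
      intro g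
      rw [Nat.card_eq_fintype_card, Finset.sum_boole]
      simp only [Nat.cast_id]
      rw [Fintype.card_subtype]
      congr 1
    rw [Finset.sum_congr rfl (fun g _ => e1 g), Finset.sum_comm]
    have e2 : ∀ c : Γ ⧸ H,
        ∑ g ∈ (Finset.univ : Finset Γ).filter (fun g => ∃ k : ℕ, orderOf g = p ^ k),
          (if g • c = c then 1 else 0) =
        Nat.card {g : Γ // g ∈ H ∧ ∃ k : ℕ, orderOf g = p ^ k} := by
      intro c
      induction c using QuotientGroup.induction_on with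
      | H x =>
        rw [Finset.sum_boole, Nat.cast_id, Finset.filter_filter]
        exact card_fix_coset p H x
    rw [Finset.sum_congr rfl (fun c _ => e2 c), Finset.sum_const, Finset.card_univ, smul_eq_mul,
      Subgroup.index_eq_card, Nat.card_eq_fintype_card (α := Γ ⧸ H)]
  unfold Cfsg.fixedPointCharacter
  rw [← Nat.cast_sum, hnat, Nat.cast_mul]

end Cfsg.Agent.Lib.Helper22.S2314
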