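import Mathlib

/-! FO-H of helper14's S2314 farm-out: Möbius inversion on the subset lattice with a multiplicative index. -/

set_option autoImplicit false

namespace Cfsg.Agent.Lib.Helper22.S2314

theorem sum_interval_neg_one_pow {ι : Type*} [DecidableEq ι] (L J : Finset ι) (hLJ : L ⊆ J) :
    ∑ K ∈ J.powerset.filter (fun K => L ⊆ K), (-1 : ℤ) ^ K.card =
      if L = J then (-1 : ℤ) ^ J.card else 0 := by
  have himg : J.powerset.filter (fun K => L ⊆ K) = (J \ L).powerset.image (fun M => L ∪ M) := by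
    ext K
    simp only [Finset.mem_filter, Finset.mem_powerset, Finset.mem_image]
    constructor
    · rintro ⟨hKJ, hLK⟩
      refine ⟨K \ L, Finset.sdiff_subset_sdiff hKJ (subset_refl L), ?_⟩
      exact Finset.union_sdiff_of_subset hLK
    · rintro ⟨M, hM, rfl⟩
      exact ⟨Finset.union_subset hLJ (hM.trans Finset.sdiff_subset), Finset.subset_union_left⟩
  have hdisj : ∀ M ∈ (J \ L).powerset, Disjoint L M := by
    intro M hM
    rw [Finset.mem_powerset] at hM
    exact Finset.disjoint_of_subset_right hM Finset.disjoint_sdiff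
  rw [himg, Finset.sum_image]
  · have h1 : ∀ M ∈ (J \ L).powerset, (-1 : ℤ) ^ (L ∪ M).card = (-1) ^ L.card * (-1) ^ M.card := by
      intro M hM
      rw [Finset.card_union_of_disjoint (hdisj M hM), pow_add]
    rw [Finset.sum_congr rfl h1, ← Finset.mul_sum, Finset.sum_powerset_neg_one_pow_card]
    by_cases h : L = J
    · subst h; simp
    · have h2 : J \ L ≠ ∅ := by
        intro h'
        rw [Finset.sdiff_eq_empty_iff_subset] at h'
        exact h (Finset.Subset.antisymm hLJ h')
      simp [h, h2]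
  · intro M hM M' hM' heq
    have e1 : (L ∪ M) \ L = M := by
      rw [Finset.union_sdiff_left]
      exact Finset.sdiff_eq_self_of_disjoint (hdisj M hM).symm
    have e2 : (L ∪ M') \ L = M' := by
      rw [Finset.union_sdiff_left]
      exact Finset.sdiff_eq_self_of_disjoint (hdisj M' hM').symm
    have heq' : L ∪ M = L ∪ M' := heq
    rw [← e1, ← e2, heq']

/-- FO-H -/
theorem moebius_solve {ι : Type*} [DecidableEq ι] (idx : Finset ι → Finset ι → ℤ) (a : Finset ι → ℤ)
    (c : ℤ) (h1 : ∀ J, idx J J = 1)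
    (h2 : ∀ J K L : Finset ι, L ⊆ K → K ⊆ J → idx J K * idx K L = idx J L)
    (h3 : ∀ J : Finset ι, ∑ K ∈ J.powerset, (-1 : ℤ) ^ K.card * idx J K * a K = c) :
    ∀ J : Finset ι, a J = c * ∑ K ∈ J.powerset, (-1 : ℤ) ^ K.card * idx J K := by
  -- d J
  obtain ⟨d, hd⟩ : ∃ d : Finset ι → ℤ, ∀ J, d J = ∑ K ∈ J.powerset, (-1 : ℤ) ^ K.card * idx J K :=
    ⟨_, fun _ => rfl⟩
  -- (*) : Σ_K (-1)^|K| idx J K d K = 1
  have hstar : ∀ J : Finset ι, ∑ K ∈ J.powerset, (-1 : ℤ) ^ K.card * idx J K * d K = 1 := by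
    intro J
    have e1 : ∑ K ∈ J.powerset, (-1 : ℤ) ^ K.card * idx J K * d K =
        ∑ K ∈ J.powerset, ∑ L ∈ K.powerset,
          (-1 : ℤ) ^ K.card * idx J K * ((-1 : ℤ) ^ L.card * idx K L) := by
      apply Finset.sum_congr rfl
      intro K _
      rw [hd K, Finset.mul_sum]
    rw [e1]
    rw [Finset.sum_comm' (s' := fun L => J.powerset.filter (fun K => L ⊆ K)) (t' := J.powerset)]
    swap
    · intro K L
      simp only [Finset.mem_powerset, Finset.mem_filter]
      constructor
      · rintro ⟨hK, hL⟩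
        exact ⟨⟨hK, hL⟩, hL.trans hK⟩
      · rintro ⟨⟨hK, hL⟩, _⟩
        exact ⟨hK, hL⟩
    have e2 : ∀ L ∈ J.powerset, ∑ K ∈ J.powerset.filter (fun K => L ⊆ K),
        (-1 : ℤ) ^ K.card * idx J K * ((-1 : ℤ) ^ L.card * idx K L) =
        if L = J then (1 : ℤ) else 0 := by
      intro L hL
      rw [Finset.mem_powerset] at hL
      have e3 : ∀ K ∈ J.powerset.filter (fun K => L ⊆ K),
          (-1 : ℤ) ^ K.card * idx J K * ((-1 : ℤ) ^ L.card * idx K L) =
          ((-1 : ℤ) ^ L.card * idx J L) * (-1 : ℤ) ^ K.card := by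
        intro K hK
        rw [Finset.mem_filter, Finset.mem_powerset] at hK
        rw [← h2 J K L hK.2 hK.1]
        ring
      rw [Finset.sum_congr rfl e3, ← Finset.mul_sum, sum_interval_neg_one_pow L J hL]
      by_cases h : L = J
      · subst h
        simp only [if_true]
        rw [h1, mul_one, ← pow_add, ← two_mul, pow_mul]
        simp
      · simp [h]
    rw [Finset.sum_congr rfl e2]
    simp
  -- uniqueness by strong induction
  intro J
  rw [← hd J]
  induction' hn : J.card using Nat.strong_induction_on with n ih generalizing J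
  have hA := h3 J
  have hB : ∑ K ∈ J.powerset, (-1 : ℤ) ^ K.card * idx J K * (c * d K) = c := by
    have : ∀ K ∈ J.powerset, (-1 : ℤ) ^ K.card * idx J K * (c * d K) =
        c * ((-1 : ℤ) ^ K.card * idx J K * d K) := by
      intro K _; ring
    rw [Finset.sum_congr rfl this, ← Finset.mul_sum, hstar J, mul_one]
  have hJmem : J ∈ J.powerset := Finset.mem_powerset.2 (subset_refl J)
  rw [← Finset.add_sum_erase _ _ hJmem] at hA hB
  have hrest : ∑ K ∈ J.powerset.erase J, (-1 : ℤ) ^ K.card * idx J K * a K =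
      ∑ K ∈ J.powerset.erase J, (-1 : ℤ) ^ K.card * idx J K * (c * d K) := by
    apply Finset.sum_congr rfl
    intro K hK
    rw [Finset.mem_erase, Finset.mem_powerset] at hK
    have hlt : K.card < J.card := Finset.card_lt_card (Finset.ssubset_iff_subset_ne.2 ⟨hK.2, hK.1⟩)
    rw [ih K.card (hn ▸ hlt) K rfl]
  rw [hrest] at hA
  have hmain : (-1 : ℤ) ^ J.card * idx J J * a J = (-1 : ℤ) ^ J.card * idx J J * (c * d J) := by
    linarith
  rw [h1, mul_one] at hmain
  have hunit : ((-1 : ℤ) ^ J.card) ≠ 0 := pow_ne_zero _ (by norm_num)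
  exact mul_left_cancel₀ hunit hmain

end Cfsg.Agent.Lib.Helper22.S2314
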