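import Mathlib
import Cfsg.Agent.Lib.Helper15.BlkA

/-!
# BlkMax FO-HOM: a pair of block homologies with inverse determinants lies in `SS`
-/

set_option autoImplicit false
set_option linter.unusedSectionVars false

namespace Cfsg.Agent.Lib.Helper22.Blk

open Matrix Cfsg Cfsg.Geo Cfsg.Agent.Lib.Helper13.TNM Cfsg.Agent.Lib.Helper15.MonoMax
open Cfsg.Agent.Lib.Helper15.BlkMax

section gen
variable {ι : Type} [Fintype ι] [DecidableEq ι] {F : Type*} [Field F]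

theorem mat_ext {A B : Matrix ι ι F} (h : ∀ x, A *ᵥ x = B *ᵥ x) : A = B := by
  apply Matrix.toLin'.injective
  apply LinearMap.ext
  intro x
  rw [Matrix.toLin'_apply, Matrix.toLin'_apply, h]

/-- the matrix `1 + α b θᵀ + β b' θ'ᵀ` -/
def homM (bk θk bl θl : ι → F) (α β : F) : Matrix ι ι F :=
  1 + α • vecMulVec bk θk + β • vecMulVec bl θl

theorem homM_mulVec (bk θk bl θl : ι → F) (α β : F) (x : ι → F) :
    homM bk θk bl θl α β *ᵥ x = x + (α * (θk ⬝ᵥ x)) • bk + (β * (θl ⬝ᵥ x)) • bl := by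
  unfold homM
  rw [add_mulVec, add_mulVec, one_mulVec, smul_mulVec, smul_mulVec, vecMulVec_mulVec,
    vecMulVec_mulVec]
  ext a
  simp only [Pi.add_apply, Pi.smul_apply, MulOpposite.smul_eq_mul_unop, MulOpposite.unop_op,
    smul_eq_mul]
  ring

theorem vecMul_homM (bk θk bl θl : ι → F) (α β : F) (χ : ι → F) :
    χ ᵥ* homM bk θk bl θl α β = χ + (α * (χ ⬝ᵥ bk)) • θk + (β * (χ ⬝ᵥ bl)) • θl := by
  unfold homM
  rw [vecMul_add, vecMul_add, vecMul_one, vecMul_smul, vecMul_smul, vecMul_vecMulVec,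
    vecMul_vecMulVec, smul_smul, smul_smul]

theorem homM_mul_homM (bk θk bl θl : ι → F) (h1 : θk ⬝ᵥ bk = 1) (h2 : θl ⬝ᵥ bl = 1)
    (h3 : θk ⬝ᵥ bl = 0) (h4 : θl ⬝ᵥ bk = 0) (α β α' β' : F) (hα : α + α' + α * α' = 0)
    (hβ : β + β' + β * β' = 0) :
    homM bk θk bl θl α β * homM bk θk bl θl α' β' = 1 := by
  apply mat_ext
  intro x
  rw [← mulVec_mulVec, one_mulVec, homM_mulVec, homM_mulVec]
  simp only [dotProduct_add, dotProduct_smul, smul_eq_mul, h1, h2, h3, h4, mul_zero, mul_one,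
    add_zero]
  ext a
  simp only [Pi.add_apply, Pi.smul_apply, smul_eq_mul]
  linear_combination ((θk ⬝ᵥ x) * bk a) * hα + ((θl ⬝ᵥ x) * bl a) * hβ

theorem homM_eq_tv_mul_tv (bk θk bl θl : ι → F) (h3 : θk ⬝ᵥ bl = 0) (α β : F) :
    homM bk θk bl θl α β = tv (α • bk) θk * tv (β • bl) θl := by
  apply mat_ext
  intro x
  rw [← mulVec_mulVec, tv_mulVec, tv_mulVec, homM_mulVec]
  simp only [dotProduct_add, dotProduct_smul, smul_eq_mul, h3, mul_zero, add_zero]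
  ext a
  simp only [Pi.add_apply, Pi.smul_apply, smul_eq_mul]
  ring

theorem det_tv_gen (a φ : ι → F) : (tv a φ).det = 1 + φ ⬝ᵥ a := by
  rw [tv, Matrix.vecMulVec_eq Unit, Matrix.det_one_add_replicateCol_mul_replicateRow]

theorem det_homM (bk θk bl θl : ι → F) (h1 : θk ⬝ᵥ bk = 1) (h2 : θl ⬝ᵥ bl = 1)
    (h3 : θk ⬝ᵥ bl = 0) (α β : F) :
    (homM bk θk bl θl α β).det = (1 + α) * (1 + β) := by
  rw [homM_eq_tv_mul_tv _ _ _ _ h3, Matrix.det_mul, det_tv_gen, det_tv_gen, dotProduct_smul,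
    dotProduct_smul, h1, h2, smul_eq_mul, smul_eq_mul, mul_one, mul_one]

theorem homM_apply (bk θk bl θl : ι → F) (α β : F) (a a' : ι) :
    homM bk θk bl θl α β a a' =
      (if a = a' then 1 else 0) + α * (bk a * θk a') + β * (bl a * θl a') := by
  simp [homM, Matrix.one_apply, vecMulVec_apply]

end gen

section blocks
variable {t m : ℕ} {F : Type*} [Field F]

theorem dot_of_onBlk_ne {k l : Fin t} (hkl : k ≠ l) {x y : Fin t × Fin m → F} (hx : OnBlk k x)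
    (hy : OnBlk l y) : x ⬝ᵥ y = 0 := by
  rw [dotProduct]
  apply Finset.sum_eq_zero
  intro a _
  by_cases h : a.1 = k
  · rw [hy a (by rw [h]; exact hkl), mul_zero]
  · rw [hx a h, zero_mul]

theorem homM_blockdiag {k l : Fin t} (bk θk bl θl : Fin t × Fin m → F)
    (hbk : OnBlk k bk) (hθk : OnBlk k θk) (hbl : OnBlk l bl) (hθl : OnBlk l θl) (α β : F)
    (a a' : Fin t × Fin m) (h : a.1 ≠ a'.1) : homM bk θk bl θl α β a a' = 0 := by
  rw [homM_apply]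
  have hne : a ≠ a' := fun e => h (by rw [e])
  have e1 : bk a * θk a' = 0 := by
    by_cases h1 : a.1 = k
    · rw [hθk a' (by rw [← h1]; exact Ne.symm h), mul_zero]
    · rw [hbk a h1, zero_mul]
  have e2 : bl a * θl a' = 0 := by
    by_cases h1 : a.1 = l
    · rw [hθl a' (by rw [← h1]; exact Ne.symm h), mul_zero]
    · rw [hbl a h1, zero_mul]
  rw [if_neg hne, e1, e2]
  ring

/-- **FO-HOM** -/
theorem exists_homPair_mem_SS (k l : Fin t) (hkl : k ≠ l) (bk θk bl θl : Fin t × Fin m → F)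
    (hbk : OnBlk k bk) (hθk : OnBlk k θk) (hbl : OnBlk l bl) (hθl : OnBlk l θl)
    (h1 : θk ⬝ᵥ bk = 1) (h2 : θl ⬝ᵥ bl = 1) (δ : F) (hδ : δ ≠ 0) :
    ∃ s : GL (Fin t × Fin m) F, s ∈ SS t m F ∧
      (∀ x, (s : Matrix (Fin t × Fin m) (Fin t × Fin m) F) *ᵥ x =
        x + ((δ - 1) * (θk ⬝ᵥ x)) • bk + ((δ⁻¹ - 1) * (θl ⬝ᵥ x)) • bl) ∧
      (∀ χ, χ ᵥ* ((s⁻¹ : GL (Fin t × Fin m) F) : Matrix (Fin t × Fin m) (Fin t × Fin m) F) =
        χ + ((δ⁻¹ - 1) * (χ ⬝ᵥ bk)) • θk + ((δ - 1) * (χ ⬝ᵥ bl)) • θl) := by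
  have h3 : θk ⬝ᵥ bl = 0 := dot_of_onBlk_ne hkl hθk hbl
  have h4 : θl ⬝ᵥ bk = 0 := dot_of_onBlk_ne (Ne.symm hkl) hθl hbk
  have e1 : (δ - 1) + (δ⁻¹ - 1) + (δ - 1) * (δ⁻¹ - 1) = 0 := by
    field_simp
    ring
  have e2 : (δ⁻¹ - 1) + (δ - 1) + (δ⁻¹ - 1) * (δ - 1) = 0 := by
    field_simp
    ring
  obtain ⟨s, hs⟩ : ∃ s : GL (Fin t × Fin m) F, s =
      ⟨homM bk θk bl θl (δ - 1) (δ⁻¹ - 1), homM bk θk bl θl (δ⁻¹ - 1) (δ - 1),
        homM_mul_homM _ _ _ _ h1 h2 h3 h4 _ _ _ _ e1 e2,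
        homM_mul_homM _ _ _ _ h1 h2 h3 h4 _ _ _ _ e2 e1⟩ := ⟨_, rfl⟩
  have hsv : (s : Matrix (Fin t × Fin m) (Fin t × Fin m) F) =
      homM bk θk bl θl (δ - 1) (δ⁻¹ - 1) := by rw [hs]
  have hsi : ((s⁻¹ : GL (Fin t × Fin m) F) : Matrix (Fin t × Fin m) (Fin t × Fin m) F) =
      homM bk θk bl θl (δ⁻¹ - 1) (δ - 1) := by rw [hs]; rfl
  refine ⟨s, ⟨?_, ?_⟩, ?_, ?_⟩
  · apply mem_decStab_of_blockMonomial Prod.fst s 1
    · intro a a' h
      rw [hsv]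
      exact homM_blockdiag _ _ _ _ hbk hθk hbl hθl _ _ a a' (by simpa using h)
    · intro a a' h
      rw [hsi]
      exact homM_blockdiag _ _ _ _ hbk hθk hbl hθl _ _ a a' h
  · change s ∈ specialLinear (Fin t × Fin m) F
    rw [mem_SL_iff, hsv, det_homM _ _ _ _ h1 h2 h3]
    have : (1 + (δ - 1)) * (1 + (δ⁻¹ - 1)) = δ * δ⁻¹ := by ring
    rw [this, mul_inv_cancel₀ hδ]
  · intro x
    rw [hsv, homM_mulVec]
  · intro χ
    rw [hsi, vecMul_homM]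

end blocks

end Cfsg.Agent.Lib.Helper22.Blk
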