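import Mathlib
import Cfsg.Agent.Lib.Helper22.BlkHom

/-!
# BlkMax FO-D: the degenerate case `ψ_k(c_k) = 0` (three blocks, a scalar `δ ≠ 0, 1`)
-/

set_option autoImplicit false
set_option linter.unusedSectionVars false
set_option linter.unusedVariables false

namespace Cfsg.Agent.Lib.Helper22.Blk

open Matrix Cfsg Cfsg.Geo Cfsg.Agent.Lib.Helper13.TNM Cfsg.Agent.Lib.Helper15.MonoMax
open Cfsg.Agent.Lib.Helper15.BlkMax

section gen
variable {ι : Type} [Fintype ι] [DecidableEq ι] {F : Type*} [Field F] {M : Subgroup (GL ι F)}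

theorem vecMul_tv (χ a φ : ι → F) : χ ᵥ* tv a φ = χ + (χ ⬝ᵥ a) • φ := by
  rw [tv, vecMul_add, vecMul_one, vecMul_vecMulVec]

theorem dot_conj (k : GL ι F) (ψ c : ι → F) :
    (ψ ᵥ* ((k⁻¹ : GL ι F) : Matrix ι ι F)) ⬝ᵥ ((k : Matrix ι ι F) *ᵥ c) = ψ ⬝ᵥ c := by
  rw [dotProduct_mulVec, vecMul_vecMul, ← Units.val_mul, inv_mul_cancel, Units.val_one,
    vecMul_one]

/-- conjugation: `k tv(c,ψ) k⁻¹ = tv(k c, ψ k⁻¹)` -/
theorem inTv_conj {c ψ : ι → F} (hT : InTv M c ψ) (hψc : ψ ⬝ᵥ c = 0) {k : GL ι F}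
    (hk : k ∈ M) :
    InTv M ((k : Matrix ι ι F) *ᵥ c) (ψ ᵥ* ((k⁻¹ : GL ι F) : Matrix ι ι F)) := by
  intro g hg
  have hTM : tvGL c ψ hψc ∈ M := (inTv_iff M c ψ hψc).mp hT
  have h1 : g = k * tvGL c ψ hψc * k⁻¹ := by
    apply Units.ext
    rw [hg, Units.val_mul, Units.val_mul, tvGL_val, ← conj_tv k c (ψ ᵥ* ((k⁻¹ : GL ι F) : Matrix ι ι F)),
      vecMul_vecMul, ← Units.val_mul, inv_mul_cancel, Units.val_one, vecMul_one]
  rw [h1]
  exact M.mul_mem (M.mul_mem hk hTM) (M.inv_mem hk)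

end gen

section blocks
variable {t m : ℕ} {F : Type*} [Field F]

theorem onBlk_single (k : Fin t) (x : Fin m) (r : F) :
    OnBlk k (Pi.single (k, x) r : Fin t × Fin m → F) := by
  intro a ha
  rw [Pi.single_apply, if_neg]
  rintro rfl
  exact ha rfl

theorem onBlk_add {k : Fin t} {x y : Fin t × Fin m → F} (hx : OnBlk k x) (hy : OnBlk k y) :
    OnBlk k (x + y) := by
  intro a ha
  rw [Pi.add_apply, hx a ha, hy a ha, add_zero]

theorem onBlk_sub {k : Fin t} {x y : Fin t × Fin m → F} (hx : OnBlk k x) (hy : OnBlk k y) :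
    OnBlk k (x - y) := by
  intro a ha
  rw [Pi.sub_apply, hx a ha, hy a ha, sub_zero]

theorem onBlk_neg {k : Fin t} {x : Fin t × Fin m → F} (hx : OnBlk k x) : OnBlk k (-x) := by
  intro a ha
  rw [Pi.neg_apply, hx a ha, neg_zero]

theorem onBlk_smul {k : Fin t} {x : Fin t × Fin m → F} (hx : OnBlk k x) (r : F) :
    OnBlk k (r • x) := by
  intro a ha
  rw [Pi.smul_apply, hx a ha, smul_zero]

/-- on a block of dimension `≥ 2` there is a "homology pair" `(b, θ)` with `θ(b) = 1`, `θ(c) = 0` -/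
theorem exists_pair_kill (hm : 2 ≤ m) (l : Fin t) (c : Fin t × Fin m → F) :
    ∃ bl θl : Fin t × Fin m → F, OnBlk l bl ∧ OnBlk l θl ∧ θl ⬝ᵥ bl = 1 ∧ θl ⬝ᵥ c = 0 := by
  obtain ⟨y₀, hy₀⟩ : ∃ y₀ : Fin m, y₀ = ⟨0, by omega⟩ := ⟨_, rfl⟩
  obtain ⟨y₁, hy₁⟩ : ∃ y₁ : Fin m, y₁ = ⟨1, by omega⟩ := ⟨_, rfl⟩
  have hy : y₁ ≠ y₀ := by
    rw [hy₀, hy₁]
    intro h
    simp [Fin.ext_iff] at h
  by_cases h0 : c (l, y₀) = 0
  · refine ⟨Pi.single (l, y₀) 1, Pi.single (l, y₀) 1, onBlk_single _ _ _, onBlk_single _ _ _,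
      ?_, ?_⟩
    · rw [single_dotProduct, Pi.single_eq_same, mul_one]
    · rw [single_dotProduct, h0, mul_zero]
  · refine ⟨Pi.single (l, y₁) 1,
      Pi.single (l, y₁) 1 - Pi.single (l, y₀) (c (l, y₁) / c (l, y₀)),
      onBlk_single _ _ _, onBlk_sub (onBlk_single _ _ _) (onBlk_single _ _ _), ?_, ?_⟩
    · rw [sub_dotProduct, single_dotProduct, single_dotProduct, Pi.single_eq_same,
        Pi.single_apply, if_neg, mul_zero, sub_zero, mul_one]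
      intro h
      exact hy (Prod.mk.inj h).2.symm
    · rw [sub_dotProduct, single_dotProduct, single_dotProduct, one_mul,
        div_mul_cancel₀ _ h0, sub_self]

/-- **FO-D** -/
theorem goal_of_caseD (hm : 2 ≤ m) (M : Subgroup (GL (Fin t × Fin m) F)) (hSM : SS t m F ≤ M)
    (c ψ : Fin t × Fin m → F) (hψc : ψ ⬝ᵥ c = 0) (hT : InTv M c ψ) (k j l : Fin t) (hkj : k ≠ j)
    (hkl : k ≠ l) (hjl : j ≠ l) (hck : ∃ x, c (k, x) ≠ 0) (hψk : ∃ x, ψ (k, x) ≠ 0)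
    (hρ : ∑ x, ψ (k, x) * c (k, x) = 0) (hψj : ∃ y, ψ (j, y) ≠ 0) (δ : F) (hδ0 : δ ≠ 0)
    (hδ1 : δ ≠ 1) : Goal M := by
  obtain ⟨x₀, hx₀⟩ := hψk
  obtain ⟨x₁, hx₁₀, hx₁⟩ : ∃ x₁, x₁ ≠ x₀ ∧ c (k, x₁) ≠ 0 := by
    by_contra hcon
    push Not at hcon
    have h0 : ψ (k, x₀) * c (k, x₀) = 0 := by
      rw [← hρ]
      symm
      apply Finset.sum_eq_single x₀
      · intro x _ hx
        rw [hcon x hx, mul_zero]
      · intro h
        exact absurd (Finset.mem_univ _) h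
    have hc0 : c (k, x₀) = 0 := (mul_eq_zero.mp h0).resolve_left hx₀
    obtain ⟨x, hx⟩ := hck
    by_cases hxx : x = x₀
    · exact hx (hxx ▸ hc0)
    · exact hx (hcon x hxx)
  have h1δ : 1 - δ ≠ 0 := sub_ne_zero.mpr (Ne.symm hδ1)
  obtain ⟨p, hp⟩ : ∃ p : F, p = ψ (k, x₀) := ⟨_, rfl⟩
  rw [← hp] at hx₀
  obtain ⟨γ, hγ⟩ : ∃ γ : F, γ = (1 - δ)⁻¹ := ⟨_, rfl⟩
  obtain ⟨μ, hμ⟩ : ∃ μ : F, μ = (γ - p * c (k, x₀)) / c (k, x₁) := ⟨_, rfl⟩
  obtain ⟨bk, hbkdef⟩ : ∃ bk : Fin t × Fin m → F, bk = Pi.single (k, x₀) p⁻¹ := ⟨_, rfl⟩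
  obtain ⟨θk, hθkdef⟩ : ∃ θk : Fin t × Fin m → F,
      θk = Pi.single (k, x₀) p + Pi.single (k, x₁) μ := ⟨_, rfl⟩
  have hne01 : ((k, x₀) : Fin t × Fin m) ≠ (k, x₁) := fun h => hx₁₀ (Prod.mk.inj h).2.symm
  have hbk : OnBlk k bk := by rw [hbkdef]; exact onBlk_single _ _ _
  have hθk : OnBlk k θk := by
    rw [hθkdef]; exact onBlk_add (onBlk_single _ _ _) (onBlk_single _ _ _)
  have h1 : θk ⬝ᵥ bk = 1 := by
    rw [hbkdef, hθkdef, dotProduct_single, Pi.add_apply, Pi.single_eq_same, Pi.single_apply,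
      if_neg hne01, add_zero, mul_inv_cancel₀ hx₀]
  have hψbk : ψ ⬝ᵥ bk = 1 := by
    rw [hbkdef, dotProduct_single, ← hp, mul_inv_cancel₀ hx₀]
  have hθkc : θk ⬝ᵥ c = γ := by
    rw [hθkdef, add_dotProduct, single_dotProduct, single_dotProduct, hμ,
      div_mul_cancel₀ _ hx₁]
    ring
  have hbk0 : bk ≠ 0 := by
    intro h
    have h2 := congrFun h (k, x₀)
    rw [hbkdef, Pi.single_eq_same, Pi.zero_apply] at h2
    exact inv_ne_zero hx₀ h2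
  obtain ⟨bl, θl, hbl, hθl, h2, hθlc⟩ := exists_pair_kill hm l c
  obtain ⟨s, hsS, hsv, hsi⟩ :=
    exists_homPair_mem_SS k l hkl bk θk bl θl hbk hθk hbl hθl h1 h2 δ hδ0
  have hsM : s ∈ M := hSM hsS
  have hT' := inTv_conj hT hψc hsM
  have hd' : (ψ ᵥ* ((s⁻¹ : GL (Fin t × Fin m) F) : Matrix (Fin t × Fin m) (Fin t × Fin m) F)) ⬝ᵥ
      ((s : Matrix (Fin t × Fin m) (Fin t × Fin m) F) *ᵥ c) = 0 := by rw [dot_conj, hψc]
  have hTM : tvGL c ψ hψc ∈ M := (inTv_iff M c ψ hψc).mp hT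
  have hT'' := inTv_conj hT' hd' hTM
  have hd'' := dot_conj (tvGL c ψ hψc)
    (ψ ᵥ* ((s⁻¹ : GL (Fin t × Fin m) F) : Matrix (Fin t × Fin m) (Fin t × Fin m) F))
    ((s : Matrix (Fin t × Fin m) (Fin t × Fin m) F) *ᵥ c)
  rw [hd'] at hd''
  have hδγ : (δ - 1) * γ = -1 := by
    rw [hγ]
    field_simp
    ring
  -- the centre
  have hcen : ((tvGL c ψ hψc : GL (Fin t × Fin m) F) : Matrix (Fin t × Fin m) (Fin t × Fin m) F) *ᵥ
      ((s : Matrix (Fin t × Fin m) (Fin t × Fin m) F) *ᵥ c) = -bk := by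
    rw [tvGL_val, tv_mulVec, hsv, hθkc, hθlc, hδγ, mul_zero, zero_smul, add_zero,
      dotProduct_add, dotProduct_smul, hψc, hψbk]
    ext a
    simp only [Pi.add_apply, Pi.smul_apply, Pi.neg_apply, smul_eq_mul]
    ring
  rw [hcen] at hT'' hd''
  -- the axis at `(j, y)`
  obtain ⟨y, hy⟩ := hψj
  have hinv : (((tvGL c ψ hψc)⁻¹ : GL (Fin t × Fin m) F) :
      Matrix (Fin t × Fin m) (Fin t × Fin m) F) = tv c (-ψ) := rfl
  have haxis : ((ψ ᵥ* ((s⁻¹ : GL (Fin t × Fin m) F) : Matrix (Fin t × Fin m) (Fin t × Fin m) F)) ᵥ*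
      (((tvGL c ψ hψc)⁻¹ : GL (Fin t × Fin m) F) : Matrix (Fin t × Fin m) (Fin t × Fin m) F)) (j, y) =
      (1 - δ⁻¹) * ψ (j, y) := by
    rw [hinv, vecMul_tv, hsi, hψbk]
    simp only [Pi.add_apply, Pi.smul_apply, Pi.neg_apply, add_dotProduct, smul_dotProduct, hψc,
      hθkc, hθlc, hθk (j, y) (Ne.symm hkj), hθl (j, y) hjl, smul_eq_mul, mul_zero, add_zero,
      zero_add, mul_one]
    rw [hγ]
    field_simp
    ring
  refine ⟨k, -bk, _, neg_ne_zero.mpr hbk0, onBlk_neg hbk, hd'', ?_, hT''⟩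
  intro hon
  have h0 := hon (j, y) (Ne.symm hkj)
  rw [haxis] at h0
  rcases mul_eq_zero.mp h0 with h3 | h3
  · apply hδ1
    have h4 : δ⁻¹ = 1 := (sub_eq_zero.mp h3).symm
    rwa [inv_eq_one] at h4
  · exact hy h3

end blocks

end Cfsg.Agent.Lib.Helper22.Blk
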