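import Mathlib
import Cfsg.Agent.Lib.Helper22.BlkCaseD
import Cfsg.Agent.Lib.Helper10.BlkComm

/-!
# BlkMax FO-C: case C (`c_k ≠ 0 ≠ ψ_k`, `c_l ≠ 0`, and `m ≥ 3` or `ψ_k(c_k) ≠ 0`)

`goal_of_caseC_aux` takes FO-S (`inTv_of_onBlk`) and FO-A (`goal_of_caseA`) as hypotheses.
-/

set_option autoImplicit false
set_option linter.unusedSectionVars false
set_option linter.unusedVariables false

namespace Cfsg.Agent.Lib.Helper22.Blk

open Matrix Cfsg Cfsg.Geo Cfsg.Agent.Lib.Helper13.TNM Cfsg.Agent.Lib.Helper15.MonoMax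
open Cfsg.Agent.Lib.Helper15.BlkMax

variable {t m : ℕ} {F : Type*} [Field F]

/-- the block-`k` part of a vector -/
def blkPart (k : Fin t) (c : Fin t × Fin m → F) : Fin t × Fin m → F :=
  fun a => if a.1 = k then c a else 0

theorem onBlk_blkPart (k : Fin t) (c : Fin t × Fin m → F) : OnBlk k (blkPart k c) := by
  intro a ha
  rw [blkPart, if_neg ha]

/-- the dot product with a vector on block `k` only sees the block-`k` part -/
theorem dot_blkPart {k : Fin t} {θ : Fin t × Fin m → F} (hθ : OnBlk k θ)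
    (c : Fin t × Fin m → F) : θ ⬝ᵥ blkPart k c = θ ⬝ᵥ c := by
  rw [dotProduct, dotProduct]
  apply Finset.sum_congr rfl
  intro a _
  by_cases h : a.1 = k
  · rw [blkPart, if_pos h]
  · rw [hθ a h, zero_mul, zero_mul]

theorem dot_blkPart' (k : Fin t) (ψ c : Fin t × Fin m → F) :
    ψ ⬝ᵥ blkPart k c = ∑ x, ψ (k, x) * c (k, x) := by
  rw [dotProduct, Fintype.sum_prod_type, Finset.sum_eq_single k]
  · apply Finset.sum_congr rfl
    intro x _
    rw [blkPart, if_pos rfl]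
  · intro i _ hi
    apply Finset.sum_eq_zero
    intro x _
    rw [blkPart, if_neg hi, mul_zero]
  · intro h
    exact absurd (Finset.mem_univ _) h

theorem exists_two_more (hm : 3 ≤ m) (x₀ : Fin m) :
    ∃ x₁ x₂ : Fin m, x₁ ≠ x₀ ∧ x₂ ≠ x₀ ∧ x₁ ≠ x₂ := by
  classical
  have hc : 1 < (Finset.univ \ ({x₀} : Finset (Fin m))).card := by
    rw [Finset.card_sdiff_of_subset (Finset.subset_univ _), Finset.card_univ, Fintype.card_fin,
      Finset.card_singleton]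
    omega
  obtain ⟨x₁, h1, x₂, h2, h12⟩ := Finset.one_lt_card.mp hc
  simp only [Finset.mem_sdiff, Finset.mem_univ, Finset.mem_singleton, true_and] at h1 h2
  exact ⟨x₁, x₂, h1, h2, h12⟩

/-- the pair `(b, θ)` of case C -/
theorem exists_pair_caseC (hm : 2 ≤ m) (c ψ : Fin t × Fin m → F) (k : Fin t)
    (hψk : ∃ x, ψ (k, x) ≠ 0) (hC : 3 ≤ m ∨ ∑ x, ψ (k, x) * c (k, x) ≠ 0) :
    ∃ b θ : Fin t × Fin m → F, OnBlk k b ∧ OnBlk k θ ∧ θ ⬝ᵥ b = 0 ∧ θ ⬝ᵥ c = 0 ∧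
      ψ ⬝ᵥ b ≠ 0 ∧ θ ≠ 0 := by
  by_cases h3 : 3 ≤ m
  · obtain ⟨x₀, hx₀⟩ := hψk
    obtain ⟨x₁, x₂, h10, h20, h12⟩ := exists_two_more h3 x₀
    have hne10 : ((k, x₁) : Fin t × Fin m) ≠ (k, x₀) := fun h => h10 (Prod.mk.inj h).2
    have hne20 : ((k, x₂) : Fin t × Fin m) ≠ (k, x₀) := fun h => h20 (Prod.mk.inj h).2
    have hne12 : ((k, x₁) : Fin t × Fin m) ≠ (k, x₂) := fun h => h12 (Prod.mk.inj h).2
    by_cases h0 : c (k, x₁) = 0
    · refine ⟨Pi.single (k, x₀) 1, Pi.single (k, x₁) 1, onBlk_single _ _ _, onBlk_single _ _ _,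
        ?_, ?_, ?_, ?_⟩
      · rw [single_dotProduct, Pi.single_apply, if_neg hne10, mul_zero]
      · rw [single_dotProduct, h0, mul_zero]
      · rw [dotProduct_single, mul_one]; exact hx₀
      · intro h
        have h2 := congrFun h (k, x₁)
        rw [Pi.single_eq_same, Pi.zero_apply] at h2
        exact one_ne_zero h2
    · refine ⟨Pi.single (k, x₀) 1,
        Pi.single (k, x₂) 1 - Pi.single (k, x₁) (c (k, x₂) / c (k, x₁)),
        onBlk_single _ _ _, onBlk_sub (onBlk_single _ _ _) (onBlk_single _ _ _), ?_, ?_, ?_, ?_⟩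
      · rw [sub_dotProduct, single_dotProduct, single_dotProduct, Pi.single_apply, if_neg hne20,
          Pi.single_apply, if_neg hne10, mul_zero, mul_zero, sub_zero]
      · rw [sub_dotProduct, single_dotProduct, single_dotProduct, one_mul,
          div_mul_cancel₀ _ h0, sub_self]
      · rw [dotProduct_single, mul_one]; exact hx₀
      · intro h
        have h2 := congrFun h (k, x₂)
        rw [Pi.sub_apply, Pi.single_eq_same, Pi.single_apply, if_neg (Ne.symm hne12), sub_zero,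
          Pi.zero_apply] at h2
        exact one_ne_zero h2
  · have hρ : ∑ x, ψ (k, x) * c (k, x) ≠ 0 := hC.resolve_left h3
    obtain ⟨bl, θ, hbl, hθ, h1, hθc⟩ := exists_pair_kill hm k c
    refine ⟨blkPart k c, θ, onBlk_blkPart k c, hθ, ?_, hθc, ?_, ?_⟩
    · rw [dot_blkPart hθ, hθc]
    · rw [dot_blkPart']; exact hρ
    · intro h
      rw [h, zero_dotProduct] at h1
      exact zero_ne_one h1

theorem goal_of_caseC_aux (M : Subgroup (GL (Fin t × Fin m) F))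
    (hS : ∀ (k : Fin t) (b θ : Fin t × Fin m → F), OnBlk k b → OnBlk k θ → θ ⬝ᵥ b = 0 →
      InTv M b θ)
    (hA : ∀ (c ψ : Fin t × Fin m → F), ψ ⬝ᵥ c = 0 → InTv M c ψ → ψ ≠ 0 → ∀ k : Fin t,
      (∀ x, ψ (k, x) = 0) → (∃ x, c (k, x) ≠ 0) → Goal M)
    (hm : 2 ≤ m) (c ψ : Fin t × Fin m → F) (hψc : ψ ⬝ᵥ c = 0) (hT : InTv M c ψ) (k l : Fin t)
    (hkl : k ≠ l) (hck : ∃ x, c (k, x) ≠ 0) (hcl : ∃ y, c (l, y) ≠ 0)
    (hψk : ∃ x, ψ (k, x) ≠ 0) (hC : 3 ≤ m ∨ ∑ x, ψ (k, x) * c (k, x) ≠ 0) : Goal M := by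
  obtain ⟨b, θ, hb, hθ, hθb, hθc, hψb, hθ0⟩ := exists_pair_caseC hm c ψ k hψk hC
  have hCB := Cfsg.Agent.Lib.Helper10.BlkComm.InTv.CB hT (hS k b θ hb hθ hθb) hψc hθb hθc
  apply hA c ((ψ ⬝ᵥ b) • θ) (by rw [smul_dotProduct, hθc, smul_zero]) hCB
    (smul_ne_zero hψb hθ0) l _ hcl
  intro x
  rw [Pi.smul_apply, hθ (l, x) (Ne.symm hkl), smul_zero]

end Cfsg.Agent.Lib.Helper22.Blk
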