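import Mathlib
import Cfsg.Agent.Lib.Helper22.BlkCaseC
import Cfsg.Agent.Lib.Helper10.BlkCaseA

/-!
# BlkMax FO-C: `goal_of_caseC` (exact skeleton signature)
-/

set_option autoImplicit false

namespace Cfsg.Agent.Lib.Helper22.Blk

open Matrix Cfsg Cfsg.Geo Cfsg.Agent.Lib.Helper13.TNM Cfsg.Agent.Lib.Helper15.MonoMax
open Cfsg.Agent.Lib.Helper15.BlkMax

variable {t m : ℕ} {F : Type*} [Field F]

/-- **FO-C** -/
theorem goal_of_caseC (hm : 2 ≤ m) (M : Subgroup (GL (Fin t × Fin m) F)) (hSM : SS t m F ≤ M)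
    (c ψ : Fin t × Fin m → F) (hψc : ψ ⬝ᵥ c = 0) (hT : InTv M c ψ) (k l : Fin t) (hkl : k ≠ l)
    (hck : ∃ x, c (k, x) ≠ 0) (hcl : ∃ y, c (l, y) ≠ 0) (hψk : ∃ x, ψ (k, x) ≠ 0)
    (hC : 3 ≤ m ∨ ∑ x, ψ (k, x) * c (k, x) ≠ 0) : Goal M :=
  goal_of_caseC_aux M
    (fun k b θ hb hθ h => Cfsg.Agent.Lib.Helper10.BlkCaseA.inTv_of_onBlk' hSM k b θ hb hθ h)
    (fun c ψ hψc hT hψ0 k hψk hck =>
      Cfsg.Agent.Lib.Helper10.BlkCaseA.goal_of_caseA hm M hSM c ψ hψc hT hψ0 k hψk hck)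
    hm c ψ hψc hT k l hkl hck hcl hψk hC

end Cfsg.Agent.Lib.Helper22.Blk
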