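import Mathlib
import Cfsg.Agent.Lib.Helper28.TensUDefs
import Cfsg.Agent.Lib.Helper1.GUS1

/-!
# S5670 FO-ORTHO (helper22): a non-degenerate hermitian form over `F_{q²}` has an orthonormal basis

Direct consequence of helper1's `GUS.exists_std` (the form is equivalent to the standard one).
-/

set_option autoImplicit false
set_option linter.unusedSectionVars false
set_option linter.unusedVariables false

namespace Cfsg.Agent.Lib.Helper22.S5670ORTHO

open Matrix Module
open Cfsg.Agent.Lib.Helper16.Tens Cfsg.Agent.Lib.Helper10.TensFund Cfsg.Agent.Lib.Helper28.TensU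
open scoped Kronecker

variable {F : Type*} [Field F] [Fintype F] {a b : ℕ} {q : ℕ}

/-- FO-ORTHO: a non-degenerate hermitian form over `F_{q²}` has an orthonormal basis -/
theorem exists_orthonormal {n : ℕ} (hF : Fintype.card F = q ^ 2) (f : (Fin n → F) → (Fin n → F) → F)
    (hf : Cfsg.Geo.IsUnitaryFormPow q f) :
    ∃ R : GL (Fin n) F, ∀ x y : Fin n → F,
      f ((R : Matrix (Fin n) (Fin n) F) *ᵥ x) ((R : Matrix (Fin n) (Fin n) F) *ᵥ y) = hs q x y := by
  obtain ⟨P, hP⟩ := Cfsg.Agent.Lib.Helper1.GUS.exists_std hF f hf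
  refine ⟨P⁻¹, fun x y => ?_⟩
  rw [← hP]
  have hinv : ∀ x : Fin n → F, (P : Matrix (Fin n) (Fin n) F) *ᵥ
      (((P⁻¹ : GL (Fin n) F) : Matrix (Fin n) (Fin n) F) *ᵥ x) = x := by
    intro x
    rw [Matrix.mulVec_mulVec, ← Units.val_mul, mul_inv_cancel, Units.val_one, Matrix.one_mulVec]
  rw [hinv, hinv]
  rfl

end Cfsg.Agent.Lib.Helper22.S5670ORTHO
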