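import Mathlib
import Cfsg.Agent.Lib.Helper28.TensUDefs
import Cfsg.Agent.Lib.Helper13.TensorHerm
import Cfsg.Agent.Lib.Helper8.S5637FOBRIDGE
import Cfsg.Agent.Lib.Helper6.Unitary
import Cfsg.Agent.Lib.Helper22.S5670FOORTHO

/-!
# S5670 FO-BRIDGE (helper22): the frozen statement from the core theorem

`R₁`, `R₂` orthonormalise `f₁`, `f₂` (FO-ORTHO), `T := R₁ ⊗ R₂ ∈ K`, `P' := P * reindex T`; then `psi e P'` maps
`K ↦ tensorProductSubgroup`, `UG (Fin n₁ × Fin n₂) ↦ GU n`, `SL ↦ SL`.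
-/

set_option autoImplicit false
set_option linter.unusedSectionVars false
set_option linter.unusedVariables false

namespace Cfsg.Agent.Lib.Helper22.S5670BRIDGE

open Matrix Module
open Cfsg.Agent.Lib.Helper16.Tens Cfsg.Agent.Lib.Helper10.TensFund Cfsg.Agent.Lib.Helper28.TensU
open scoped Kronecker

variable {F : Type*} [Field F] [Fintype F] {a b : ℕ} {q : ℕ}

open Cfsg.Agent.Lib.Helper6 in
/-- a unitary form is the form of its Gram matrix -/
theorem eq_formOfGram {n : ℕ} (hF : Fintype.card F = q ^ 2) (f : (Fin n → F) → (Fin n → F) → F)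
    (hf : Cfsg.Geo.IsUnitaryFormPow q f) (x y : Fin n → F) :
    f x y = Cfsg.Geo.formOfGram (conjQ hF) (Cfsg.Geo.gramMatrix f) x y := by
  have hleft : ∀ x y : Fin n → F, f x y = ∑ a, x a * f (Pi.single a 1) y := by
    intro x y
    let L : (Fin n → F) →ₗ[F] F :=
      { toFun := fun x => f x y
        map_add' := fun x x' => hf.add_left x x' y
        map_smul' := fun c x => by simp [hf.smul_left] }
    have hx : x = ∑ a, x a • (Pi.single a (1:F) : Fin n → F) := by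
      funext i
      simp [Finset.sum_apply, Pi.single_apply]
    have hL : L x = ∑ a, x a * L (Pi.single a 1) := by
      conv_lhs => rw [hx]
      rw [map_sum]
      simp only [map_smul, smul_eq_mul]
    exact hL
  rw [hleft x y]
  unfold Cfsg.Geo.formOfGram Cfsg.Geo.gramMatrix
  apply Finset.sum_congr rfl
  intro a _
  rw [hf.herm (Pi.single a 1) y, hleft y (Pi.single a 1)]
  have h1 : (∑ b, y b * f (Pi.single b 1) (Pi.single a 1)) ^ q =
      conjQ hF (∑ b, y b * f (Pi.single b 1) (Pi.single a 1)) := rfl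
  rw [h1, map_sum, Finset.mul_sum]
  apply Finset.sum_congr rfl
  intro b _
  rw [map_mul, conjQ_apply hF (f _ _), ← hf.herm]
  ring

/-- the form of the identity Gram matrix is the standard hermitian form -/
theorem fog_one {κ : Type} [Fintype κ] [DecidableEq κ] (σ : F → F) (hσ : ∀ x, σ x = x ^ q) (x y : κ → F) :
    Cfsg.Geo.formOfGram σ (1 : Matrix κ κ F) x y = hs q x y := by
  unfold Cfsg.Geo.formOfGram hs
  apply Finset.sum_congr rfl
  intro a _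
  rw [Finset.sum_eq_single a]
  · rw [Matrix.one_apply_eq, mul_one, hσ]
  · intro b _ hb
    rw [Matrix.one_apply_ne (Ne.symm hb), mul_zero, zero_mul]
  · intro h; exact absurd (Finset.mem_univ a) h

open Cfsg.Agent.Lib.Helper13.TNM Cfsg.Agent.Lib.Helper6 Cfsg.Geo in
/-- FO-BRIDGE: the frozen statement from the core theorem -/
theorem bridge (n q : ℕ) (hF : Fintype.card F = q ^ 2) (hn : 13 ≤ n) (n₁ n₂ : ℕ) (h1 : 2 ≤ n₁) (h12 : n₁ < n₂)
    (hex : ¬ (n₁ = 2 ∧ q = 2)) (e : Fin n ≃ Fin n₁ × Fin n₂) (P : Matrix.GeneralLinearGroup (Fin n) F)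
    (f₁ : (Fin n₁ → F) → (Fin n₁ → F) → F) (f₂ : (Fin n₂ → F) → (Fin n₂ → F) → F)
    (hf₁ : Cfsg.Geo.IsUnitaryFormPow q f₁) (hf₂ : Cfsg.Geo.IsUnitaryFormPow q f₂)
    (hT : Cfsg.Geo.IsTensorFormStructure (fun x : F => x ^ q) (Cfsg.hermForm n F q) f₁ f₂ e P)
    (hcore : Cfsg.Geo.IsMaximalIn
      (UG (Fin n₁ × Fin n₂) F q ⊓ Cfsg.Geo.specialLinear (Fin n₁ × Fin n₂) F)
      (Cfsg.Geo.kroneckerSubgroup n₁ n₂ F ⊓
        (UG (Fin n₁ × Fin n₂) F q ⊓ Cfsg.Geo.specialLinear (Fin n₁ × Fin n₂) F))) :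
    Cfsg.Geo.IsMaximalIn (Cfsg.GU n F q ⊓ Cfsg.Geo.specialLinear (Fin n) F)
      (Cfsg.Geo.tensorProductSubgroup n₁ n₂ e P ⊓ (Cfsg.GU n F q ⊓ Cfsg.Geo.specialLinear (Fin n) F)) := by
  classical
  obtain ⟨c, hc, hT⟩ := hT
  obtain ⟨σ, hσ⟩ : ∃ σ : F →+* F, σ = conjQ hF := ⟨_, rfl⟩
  have hσapp : ∀ x, σ x = x ^ q := by intro x; rw [hσ]; rfl
  have hσfun : (fun x : F => x ^ q) = ⇑σ := by funext x; exact (hσapp x).symm
  rw [hσfun] at hT
  obtain ⟨R₁, hR₁⟩ := Cfsg.Agent.Lib.Helper22.S5670ORTHO.exists_orthonormal hF f₁ hf₁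
  obtain ⟨R₂, hR₂⟩ := Cfsg.Agent.Lib.Helper22.S5670ORTHO.exists_orthonormal hF f₂ hf₂
  have hG : ∀ {m : ℕ} (f : (Fin m → F) → (Fin m → F) → F) (hf : IsUnitaryFormPow q f) (R : GL (Fin m) F)
      (hR : ∀ x y : Fin m → F, f ((R : Matrix (Fin m) (Fin m) F) *ᵥ x) ((R : Matrix (Fin m) (Fin m) F) *ᵥ y)
        = hs q x y),
      (R : Matrix (Fin m) (Fin m) F)ᵀ * gramMatrix f * (R : Matrix (Fin m) (Fin m) F).map σ = 1 := by
    intro m f hf R hR
    apply gram_ext (⇑σ) (map_zero σ) (map_one σ)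
    intro x y
    rw [← formOfGram_mulVec (⇑σ) (map_zero σ) (map_add σ) (map_mul σ), fog_one (⇑σ) hσapp, ← hR, hσ]
    exact (eq_formOfGram hF f hf _ _).symm
  obtain ⟨T, hTdef⟩ : ∃ T : GL (Fin n₁ × Fin n₂) F, T = kronGL R₁ R₂ := ⟨_, rfl⟩
  have hmat : (T : Matrix (Fin n₁ × Fin n₂) (Fin n₁ × Fin n₂) F)ᵀ * (gramMatrix f₁ ⊗ₖ gramMatrix f₂) *
      (T : Matrix (Fin n₁ × Fin n₂) (Fin n₁ × Fin n₂) F).map σ = 1 := by
    rw [hTdef, kronGL_val, kron_map, ← Matrix.kroneckerMap_transpose, ← Matrix.mul_kronecker_mul,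
      ← Matrix.mul_kronecker_mul, hG f₁ hf₁ R₁ hR₁, hG f₂ hf₂ R₂ hR₂, Matrix.one_kronecker_one]
  obtain ⟨P', hP'⟩ : ∃ P' : GL (Fin n) F, P' = P * glReindex e.symm T := ⟨_, rfl⟩
  have htps : tensorProductSubgroup n₁ n₂ e P' = tensorProductSubgroup n₁ n₂ e P := by
    rw [hP', tps_change _ _ _ _ _ (hTdef ▸ kronGL_mem R₁ R₂)]
  have hT' : ∀ x y : Fin n₁ × Fin n₂ → F, hermForm n F q (TT e P' x) (TT e P' y) = c * hs q x y := by
    intro x y
    rw [hP', TT_change, TT_change]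
    have h3 : hermForm n F q (TT e P ((T : Matrix _ _ F) *ᵥ x)) (TT e P ((T : Matrix _ _ F) *ᵥ y))
        = c * formOfGram σ (gramMatrix f₁ ⊗ₖ gramMatrix f₂) ((T : Matrix _ _ F) *ᵥ x)
          ((T : Matrix _ _ F) *ᵥ y) := hT _ _
    rw [h3, formOfGram_mulVec (⇑σ) (map_zero σ) (map_add σ) (map_mul σ), hmat, fog_one (⇑σ) hσapp]
  obtain ⟨φ, hφ⟩ : ∃ φ : GL (Fin n₁ × Fin n₂) F ≃* GL (Fin n) F,
      φ = (Cfsg.Geo.glReindex (F := F) e.symm).trans (MulAut.conj P') := ⟨_, rfl⟩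
  have hφpsi : ∀ M, φ M = psi e P' M := by
    intro M; rw [hφ]; rfl
  have hGU : ∀ M : GL (Fin n₁ × Fin n₂) F, φ M ∈ Cfsg.GU n F q ↔ M ∈ UG (Fin n₁ × Fin n₂) F q := by
    intro M
    rw [hφpsi]
    exact psi_mem_preserving_iff e P' hc hT' M
  have hSL : ∀ M : GL (Fin n₁ × Fin n₂) F, φ M ∈ specialLinear (Fin n) F ↔
      M ∈ specialLinear (Fin n₁ × Fin n₂) F := by
    intro M
    rw [hφpsi, psi_mem_specialLinear_iff, mem_SL_iff]
  have hmapI : (UG (Fin n₁ × Fin n₂) F q ⊓ specialLinear (Fin n₁ × Fin n₂) F).map φ.toMonoidHom =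
      Cfsg.GU n F q ⊓ specialLinear (Fin n) F := by
    ext y
    constructor
    · rintro ⟨x, hx, rfl⟩
      exact ⟨(hGU x).2 hx.1, (hSL x).2 hx.2⟩
    · intro hy
      refine ⟨φ.symm y, ⟨(hGU _).1 ?_, (hSL _).1 ?_⟩, φ.apply_symm_apply y⟩
      · rw [φ.apply_symm_apply]; exact hy.1
      · rw [φ.apply_symm_apply]; exact hy.2
  have hmapK : (kroneckerSubgroup n₁ n₂ F).map φ.toMonoidHom = tensorProductSubgroup n₁ n₂ e P := by
    rw [← htps, tps_eq]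
    ext y
    simp only [Subgroup.mem_map]
    constructor
    · rintro ⟨x, hx, rfl⟩
      exact ⟨x, hx, (hφpsi x).symm⟩
    · rintro ⟨x, hx, rfl⟩
      exact ⟨x, hx, hφpsi x⟩
  have h1 := Cfsg.Agent.Lib.Helper8.S5637FOBRIDGE.isMaximalIn_map φ _ _ hcore
  rw [hmapI, Subgroup.map_inf _ _ _ φ.injective, hmapI, hmapK] at h1
  exact h1

end Cfsg.Agent.Lib.Helper22.S5670BRIDGE
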