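import Mathlib
import Cfsg.Prelude.Def_GeometricClasses
import Cfsg.Agent.Lib.Helper7.AschDefs
import Cfsg.Agent.Lib.Helper7.AschWrap
import Cfsg.Agent.Lib.Helper22.AschC7Defs
import Cfsg.Agent.Lib.Helper22.AschC7Core

/-!
# S5630, block I7 (`c7_case`): the assembly (helper22).  REAL proofs from the pieces of `AschC7Core.lean` (stubs for now).
-/

set_option autoImplicit false

namespace Cfsg.Agent.Lib.Helper22.AschC7

open Matrix Cfsg.Geo Cfsg.Agent.Lib.Helper7.Asch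
open scoped commutatorElement

variable {F : Type*} [Field F] {n : ℕ}

/-- **T** commuting copies of `M_m(F)` generating `M_n(F)`: whoever permutes them lies in one tensor-wreath group -/
theorem tensor_recognition (hn : 0 < n) (m t : ℕ) (ht : 0 < t)
    (φ : Fin t → (Matrix (Fin m) (Fin m) F →ₐ[F] Matrix (Fin n) (Fin n) F))
    (hc : ∀ i j, i ≠ j → ∀ a b, φ i a * φ j b = φ j b * φ i a)
    (hgen : Algebra.adjoin F (⋃ i, Set.range (φ i)) = ⊤) :
    ∃ (e : Fin n ≃ (Fin t → Fin m)) (P : GL (Fin n) F), ∀ h : GL (Fin n) F,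
      (∃ σ : Equiv.Perm (Fin t), ∀ i a, ∃ b, conjAlg h (φ i a) = φ (σ i) b) →
        h ∈ tensorWreathSubgroup m t e P := by
  obtain ⟨e, P, hP'⟩ := exists_tens hn m t φ hc hgen
  have hPP : ((P⁻¹ : GL (Fin n) F) : Matrix (Fin n) (Fin n) F) * (P : Matrix (Fin n) (Fin n) F) = 1 := by
    rw [← Units.val_mul, inv_mul_cancel, Units.val_one]
  have hPP' : (P : Matrix (Fin n) (Fin n) F) * ((P⁻¹ : GL (Fin n) F) : Matrix (Fin n) (Fin n) F) = 1 := by
    rw [← Units.val_mul, mul_inv_cancel, Units.val_one]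
  obtain ⟨Φ, hP⟩ : ∃ Φ : Matrix (Fin t → Fin m) (Fin t → Fin m) F → Matrix (Fin n) (Fin n) F, ∀ A, Φ A =
      (P : Matrix (Fin n) (Fin n) F) * Matrix.reindex e.symm e.symm A * ((P⁻¹ : GL (Fin n) F) : Matrix (Fin n) (Fin n) F) :=
    ⟨_, fun _ => rfl⟩
  have hΦ : ∀ i a, Φ (pos i a) = φ i a := fun i a => by rw [hP, hP' i a]
  have hΦinj : Function.Injective Φ := by
    intro A B hAB
    rw [hP, hP] at hAB
    have h1 : Matrix.reindex e.symm e.symm A = Matrix.reindex e.symm e.symm B := by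
      have := congrArg (fun M => ((P⁻¹ : GL (Fin n) F) : Matrix (Fin n) (Fin n) F) * M * (P : Matrix (Fin n) (Fin n) F)) hAB
      beta_reduce at this
      rw [← mul_assoc, ← mul_assoc, hPP, one_mul, mul_assoc, hPP, mul_one] at this
      rw [← mul_assoc, ← mul_assoc, hPP, one_mul, mul_assoc, hPP, mul_one] at this
      exact this
    exact (Matrix.reindex e.symm e.symm).injective h1
  refine ⟨e, P, fun h hh => ?_⟩
  obtain ⟨σ, hσ⟩ := hh
  obtain ⟨g, hg⟩ : ∃ g : GL (Fin t → Fin m) F, g = (glReindex e.symm).symm (P⁻¹ * h * P) := ⟨_, rfl⟩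
  have hgr : glReindex e.symm g = P⁻¹ * h * P := by rw [hg, MulEquiv.apply_symm_apply]
  have hgh : h = P * (glReindex e.symm g) * P⁻¹ := by rw [hgr]; group
  have hcoe : ∀ k : GL (Fin t → Fin m) F, ((glReindex e.symm k : GL (Fin n) F) : Matrix (Fin n) (Fin n) F) =
      Matrix.reindex e.symm e.symm (k : Matrix (Fin t → Fin m) (Fin t → Fin m) F) := fun k => rfl
  have hre_mul : ∀ A B : Matrix (Fin t → Fin m) (Fin t → Fin m) F,
      Matrix.reindex e.symm e.symm (A * B) = Matrix.reindex e.symm e.symm A * Matrix.reindex e.symm e.symm B := by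
    intro A B
    exact map_mul (Matrix.reindexAlgEquiv F F e.symm) A B
  have key : ∀ A, Φ ((g : Matrix (Fin t → Fin m) (Fin t → Fin m) F) * A *
      ((g⁻¹ : GL (Fin t → Fin m) F) : Matrix (Fin t → Fin m) (Fin t → Fin m) F)) = conjAlg h (Φ A) := by
    intro A
    rw [hP, hP, conjAlg_apply, hre_mul, hre_mul, ← hcoe g, ← hcoe g⁻¹, map_inv]
    have e1 : (h : Matrix (Fin n) (Fin n) F) = (P : Matrix (Fin n) (Fin n) F) *
        ((glReindex e.symm g : GL (Fin n) F) : Matrix (Fin n) (Fin n) F) * ((P⁻¹ : GL (Fin n) F) : Matrix (Fin n) (Fin n) F) := by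
      conv_lhs => rw [hgh]
      rw [Units.val_mul, Units.val_mul]
    have e2 : ((h⁻¹ : GL (Fin n) F) : Matrix (Fin n) (Fin n) F) = (P : Matrix (Fin n) (Fin n) F) *
        (((glReindex e.symm g)⁻¹ : GL (Fin n) F) : Matrix (Fin n) (Fin n) F) * ((P⁻¹ : GL (Fin n) F) : Matrix (Fin n) (Fin n) F) := by
      conv_lhs => rw [hgh]
      rw [_root_.mul_inv_rev, _root_.mul_inv_rev, inv_inv, Units.val_mul, Units.val_mul, mul_assoc]
    rw [e1, e2]
    simp only [mul_assoc]
    rw [← mul_assoc ((P⁻¹ : GL (Fin n) F) : Matrix (Fin n) (Fin n) F) (P : Matrix (Fin n) (Fin n) F), hPP, one_mul]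
    rw [← mul_assoc ((P⁻¹ : GL (Fin n) F) : Matrix (Fin n) (Fin n) F) (P : Matrix (Fin n) (Fin n) F), hPP, one_mul]
  have hmem : g ∈ tensorWreathStandard m t F := by
    apply mem_tensorWreathStandard ht g σ
    intro i a
    obtain ⟨b, hb⟩ := hσ i a
    refine ⟨b, hΦinj ?_⟩
    rw [key, hΦ, hΦ, hb]
  rw [hgh]
  exact Subgroup.mem_map.mpr ⟨glReindex e.symm g, Subgroup.mem_map.mpr ⟨g, hmem, rfl⟩, rfl⟩

/-- the factors have dimension at least two -/
theorem two_le_of_algHom (hn : 0 < n) (L : Subgroup (GL (Fin n) F)) (hLs : ¬ L ≤ scalars (Fin n) F) (m : ℕ)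
    (φ : Matrix (Fin m) (Fin m) F →ₐ[F] Matrix (Fin n) (Fin n) F)
    (h2 : ∀ x ∈ L, ∃ a, φ a = ((x : GL (Fin n) F) : Matrix (Fin n) (Fin n) F)) : 2 ≤ m := by
  by_contra hm
  have hm' : m = 0 ∨ m = 1 := by omega
  rcases hm' with rfl | rfl
  · have h10 : (1 : Matrix (Fin 0) (Fin 0) F) = 0 := Subsingleton.elim _ _
    have := congrArg φ h10
    rw [map_one, map_zero] at this
    have hne : Nonempty (Fin n) := ⟨⟨0, hn⟩⟩
    exact one_ne_zero this
  · apply hLs
    intro x hx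
    obtain ⟨a, ha⟩ := h2 x hx
    have ha1 : a = (a 0 0) • (1 : Matrix (Fin 1) (Fin 1) F) := by
      ext i j
      fin_cases i
      fin_cases j
      simp
    have hx1 : ((x : GL (Fin n) F) : Matrix (Fin n) (Fin n) F) = (a 0 0) • (1 : Matrix (Fin n) (Fin n) F) := by
      rw [← ha, ha1, map_smul, map_one]
      simp
    have hc : a 0 0 ≠ 0 := by
      intro h0
      rw [h0, zero_smul] at hx1
      have hne : Nonempty (Fin n) := ⟨⟨0, hn⟩⟩
      have hdet := congrArg Matrix.det hx1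
      rw [Matrix.det_zero] at hdet
      have hu : IsUnit ((x : GL (Fin n) F) : Matrix (Fin n) (Fin n) F).det :=
        (Matrix.isUnit_iff_isUnit_det _).mp x.isUnit
      rw [hdet] at hu
      exact not_isUnit_zero hu
    rw [mem_scalars_iff]
    exact ⟨Units.mk0 _ hc, hx1⟩

/-- **I7** the tensor-induced case: class 7 (or 8 when the factors have dimension 2);
same statement as the stub `Cfsg.Agent.Lib.Helper7.Asch.c7_case` -/
theorem c7_case [Fintype F] (hn : 3 ≤ n) (H L : Subgroup (GL (Fin n) F)) (hH : AbsIrr H) (hQP : QP H)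
    (hLH : L ≤ H) (hLs : ¬ L ≤ scalars (Fin n) F) (hperf : ⁅L, L⁆ = L) (hqs : SimpleModScal L)
    (hconj : ∀ h ∈ H, (∀ x ∈ L, h * x * h⁻¹ ∈ L) ∨
      (∀ x ∈ L, ∀ y ∈ L, (h * x * h⁻¹) * y = y * (h * x * h⁻¹)))
    (hnn : ¬ NormBy H L) : InClass H := by
  obtain ⟨t, hs, ht, hsH, ⟨i₀, hi₀⟩, hcomm, hperm⟩ := exists_conj_enum H L hLH hconj hnn
  have hN : AbsIrr (⨆ i, cj (hs i) L) := absIrr_iSup_cj H L hQP hLH hLs hs hsH ⟨i₀, hi₀⟩ hperm
  have hLN : L ≤ ⨆ i, cj (hs i) L := by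
    have := le_iSup (fun i => cj (hs i) L) i₀
    rwa [hi₀] at this
  obtain ⟨m, φ, h1, h2⟩ := exists_algHom_span (by omega) _ L hN hLN (exists_factor L hs i₀ hi₀ hcomm)
  have hc : ∀ i j, i ≠ j → ∀ a b, ((conjAlg (hs i)).comp φ) a * ((conjAlg (hs j)).comp φ) b =
      ((conjAlg (hs j)).comp φ) b * ((conjAlg (hs i)).comp φ) a :=
    fun i j hij a b => commute_ranges L φ h1 (hs i) (hs j) (hcomm i j hij) a b
  have hgen := adjoin_ranges_eq_top L φ h2 hs hN
  obtain ⟨e, P, hP⟩ := tensor_recognition (by omega) m t (by omega) (fun i => (conjAlg (hs i)).comp φ) hc hgen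
  have hHle : H ≤ tensorWreathSubgroup m t e P := by
    intro h hh
    apply hP
    obtain ⟨σ, hσ⟩ := hperm h hh
    exact ⟨σ, fun i a => conj_range_perm L φ h1 h2 h (hs i) (hs (σ i)) (hσ i) a⟩
  have hm : 2 ≤ m := two_le_of_algHom (by omega) L hLs m φ h2
  rcases (by omega : m = 2 ∨ 3 ≤ m) with rfl | hm3
  · exact inClass_of_le_tensorWreath_two ht H e P hHle
  · exact InClass.of_tensorWreath H m t e P hm3 ht hHle

end Cfsg.Agent.Lib.Helper22.AschC7
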