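import Mathlib
import Cfsg.Prelude.Def_GeometricClasses
import Cfsg.Agent.Lib.Helper22.OEQTensor
import Cfsg.Agent.Lib.Helper26.SUCorPU7

/-!
# Quadratic forms in characteristic 2 vanish on pure tensors: tensor powers (helper22)

The `t`-fold analogue of `OEQTensor.quad_pure_eq_zero`, for the tensor-wreath exit (class 7) of the even orthogonal hub.
-/

set_option autoImplicit false
set_option linter.unusedSectionVars false
set_option linter.unusedVariables false

namespace Cfsg.Agent.Lib.Helper22.OEQTensorPow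

open scoped Matrix Kronecker
open Cfsg Cfsg.Geo Cfsg.Agent.Lib.Helper13.TNM Cfsg.Agent.Lib.Helper22.OEQTensor
open Cfsg.Agent.Lib.Helper26.SUCorPU7 (pv wm_pv pv_update slotLin slotLin_apply pv_single)
open Cfsg.H5.HubCor (wm wm_apply exists_wm_of_mem)

variable {F : Type*} [Field F] {n k t : ℕ}

/-- the tensor power form on pure tensors -/
theorem powform_pv (G : Matrix (Fin k) (Fin k) F) (x y : Fin t → Fin k → F) :
    ∑ a, ∑ b, pv x a * (∏ i, G (a i) (b i)) * pv y b = ∏ i, formOfGram id G (x i) (y i) := by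
  unfold formOfGram pv
  simp only [id]
  rw [Fintype.prod_sum]
  apply Finset.sum_congr rfl
  intro a _
  rw [Fintype.prod_sum]
  apply Finset.sum_congr rfl
  intro b _
  rw [← Finset.prod_mul_distrib, ← Finset.prod_mul_distrib]

theorem tws_eq (e : Fin n ≃ (Fin t → Fin k)) (P : GL (Fin n) F) :
    tensorWreathSubgroup k t e P = (tensorWreathStandard k t F).map (psi e P) := by
  unfold tensorWreathSubgroup psi
  rw [Subgroup.map_map]

variable {e : Fin n ≃ (Fin t → Fin k)} {P : GL (Fin n) F}

/-- the polar form vanishes on two pure tensors sharing a factor -/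
theorem polar_pv_eq_zero (Q : (Fin n → F) → F) (G : Matrix (Fin k) (Fin k) F) (c : F)
    (hG : ∀ v, formOfGram id G v v = 0)
    (hpol : ∀ x y : (Fin t → Fin k) → F, QuadraticMap.polar Q (TT e P x) (TT e P y)
      = c * ∑ a, ∑ b, x a * (∏ i, G (a i) (b i)) * y b)
    (x y : Fin t → Fin k → F) (j : Fin t) (hj : x j = y j) :
    QuadraticMap.polar Q (TT e P (pv x)) (TT e P (pv y)) = 0 := by
  rw [hpol, powform_pv, Finset.prod_eq_zero (Finset.mem_univ j) (by rw [hj, hG]), mul_zero]

/-- slot additivity -/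
theorem slot_isSqAdd (ht : 2 ≤ t) (Q : (Fin n → F) → F)
    (hsm : ∀ (c : F) (v : Fin n → F), Q (c • v) = c ^ 2 * Q v)
    (G : Matrix (Fin k) (Fin k) F) (c : F) (hG : ∀ v, formOfGram id G v v = 0)
    (hpol : ∀ x y : (Fin t → Fin k) → F, QuadraticMap.polar Q (TT e P x) (TT e P y)
      = c * ∑ a, ∑ b, x a * (∏ i, G (a i) (b i)) * y b)
    (x : Fin t → Fin k → F) (m : Fin t) :
    IsSqAdd (fun z : Fin k → F => Q (TT e P (pv (Function.update x m z)))) := by
  obtain ⟨j, hj⟩ : ∃ j : Fin t, j ≠ m := by
    by_cases h0 : m = ⟨0, by omega⟩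
    · exact ⟨⟨1, by omega⟩, by rw [h0]; intro h; simp [Fin.ext_iff] at h⟩
    · exact ⟨⟨0, by omega⟩, fun h => h0 h.symm⟩
  constructor
  · intro u v
    show Q (TT e P (pv (Function.update x m (u + v)))) = _
    rw [← slotLin_apply, map_add, slotLin_apply, slotLin_apply, TT_add, quad_add Q,
      polar_pv_eq_zero Q G c hG hpol _ _ j (by
        rw [Function.update_of_ne hj, Function.update_of_ne hj]), add_zero]
  · intro a v
    show Q (TT e P (pv (Function.update x m (a • v)))) = _
    rw [← slotLin_apply, map_smul, slotLin_apply, TT_smul, hsm]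

/-- `Dt = Q` on all pure tensors -/
theorem Dt_pv (h2 : (2 : F) = 0) (ht : 2 ≤ t) (Q : (Fin n → F) → F)
    (hsm : ∀ (c : F) (v : Fin n → F), Q (c • v) = c ^ 2 * Q v)
    (G : Matrix (Fin k) (Fin k) F) (c : F) (hG : ∀ v, formOfGram id G v v = 0)
    (hpol : ∀ x y : (Fin t → Fin k) → F, QuadraticMap.polar Q (TT e P x) (TT e P y)
      = c * ∑ a, ∑ b, x a * (∏ i, G (a i) (b i)) * y b)
    (x : Fin t → Fin k → F) : Dt e P Q (TT e P (pv x)) = Q (TT e P (pv x)) := by
  classical
  have key : ∀ s : Finset (Fin t), ∀ x : Fin t → Fin k → F,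
      (∀ i, i ∉ s → ∃ b, x i = Pi.single b 1) → Dt e P Q (TT e P (pv x)) = Q (TT e P (pv x)) := by
    intro s
    induction s using Finset.induction_on with
    | empty =>
      intro x hx
      have hx' : ∀ i, ∃ b, x i = Pi.single b 1 := fun i => hx i (Finset.notMem_empty i)
      choose y hy using hx'
      have : x = fun i => (Pi.single (y i) (1 : F) : Fin k → F) := funext hy
      rw [this, pv_single, Dt_TT, Finset.sum_eq_single y]
      · simp
      · intro b _ hb
        rw [Pi.single_eq_of_ne hb]; ring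
      · intro h; exact absurd (Finset.mem_univ y) h
    | insert m s hm ih =>
      intro x hx
      have h1 : IsSqAdd (fun z : Fin k → F => Dt e P Q (TT e P (pv (Function.update x m z)))) := by
        have hD := Dt_TT_isSqAdd e P h2 Q
        constructor
        · intro u v
          show Dt e P Q (TT e P (pv (Function.update x m (u + v)))) = _
          rw [← slotLin_apply, map_add, slotLin_apply, slotLin_apply]
          exact hD.add _ _
        · intro a v
          show Dt e P Q (TT e P (pv (Function.update x m (a • v)))) = _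
          rw [← slotLin_apply, map_smul, slotLin_apply]
          exact hD.smul _ _
      have h3 := h1.ext (slot_isSqAdd ht Q hsm G c hG hpol x m) (by
        intro b
        show Dt e P Q (TT e P (pv (Function.update x m (Pi.single b 1))))
          = Q (TT e P (pv (Function.update x m (Pi.single b 1))))
        apply ih
        intro i hi
        by_cases him : i = m
        · subst him
          exact ⟨b, by rw [Function.update_self]⟩
        · rw [Function.update_of_ne him]
          apply hx
          rw [Finset.mem_insert]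
          push Not
          exact ⟨him, hi⟩) (x m)
      beta_reduce at h3
      rw [Function.update_eq_self] at h3
      exact h3
  exact key Finset.univ x (fun i hi => absurd (Finset.mem_univ i) hi)

/-- **Q-refinement of the tensor-wreath exit (characteristic 2).** -/
theorem quad_pv_eq_zero [Finite F] (h2 : (2 : F) = 0) (hn : 2 ≤ n) (ht : 2 ≤ t)
    (Q : (Fin n → F) → F) (hsm : ∀ (c : F) (v : Fin n → F), Q (c • v) = c ^ 2 * Q v)
    (e : Fin n ≃ (Fin t → Fin k)) (P : GL (Fin n) F)
    (G : Matrix (Fin k) (Fin k) F) (c : F) (hG : ∀ v, formOfGram id G v v = 0)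
    (hpol : ∀ x y : (Fin t → Fin k) → F,
      QuadraticMap.polar Q ((P : Matrix (Fin n) (Fin n) F) *ᵥ (x ∘ e)) ((P : Matrix (Fin n) (Fin n) F) *ᵥ (y ∘ e))
        = c * ∑ a, ∑ b, x a * (∏ i, G (a i) (b i)) * y b)
    (H : Subgroup (GL (Fin n) F)) (hirr : ActsIrreducibly (matrixSet H))
    (hHQ : FixesQuadForm (matrixSet H) Q) (hHT : H ≤ tensorWreathSubgroup k t e P)
    (x : Fin t → Fin k → F) :
    Q ((P : Matrix (Fin n) (Fin n) F) *ᵥ ((fun a : Fin t → Fin k => ∏ i, x i (a i)) ∘ e)) = 0 := by
  have hpol' : ∀ x y : (Fin t → Fin k) → F, QuadraticMap.polar Q (TT e P x) (TT e P y)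
      = c * ∑ a, ∑ b, x a * (∏ i, G (a i) (b i)) * y b := hpol
  have hD := Dt_isSqAdd e P h2 Q
  have hzero : ∀ v, Dt e P Q v = 0 := by
    intro v
    refine Cfsg.Agent.Lib.Helper12.S5662I8Q.eq_zero_of_additive_sq h2 hn (matrixSet H) hirr (Dt e P Q)
      hD.add hD.smul ?_ v
    rintro s ⟨g, hg, rfl⟩ w hw
    have hgT := hHT hg
    rw [tws_eq] at hgT
    obtain ⟨M, hM, rfl⟩ := hgT
    obtain ⟨σ, gs, hMw⟩ := exists_wm_of_mem M hM
    rw [Dt_invariant_of e P h2 Q _ (fun v => hHQ _ ⟨_, hg, rfl⟩ v) _ w, hw]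
    intro p
    rw [← pv_single, psi_mulVec, hMw, wm_pv, Dt_pv h2 ht Q hsm G c hG hpol']
  have := Dt_pv h2 ht Q hsm G c hG hpol' x
  rw [hzero] at this
  exact this.symm

end Cfsg.Agent.Lib.Helper22.OEQTensorPow
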