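import Mathlib
import Cfsg.Prelude.Def_GeometricClasses
import Cfsg.Agent.Lib.Helper17.AschOTop
import Cfsg.Agent.Lib.Helper1.OEDefs
import Cfsg.Agent.Lib.Helper12.OE8
import Cfsg.Agent.Lib.Helper19.S5662C7STD
import Cfsg.Agent.Lib.Helper22.OEQTensorPow

/-!
# Even orthogonal hub, block OE7: the tensor-induced case (helper22)

`c7_caseOE`: the C7 case of the Aschbacher flow for `H ≤ isometryGroup F Q`, `Q` a non-degenerate quadratic function on
`Fin n → F`, ANY `q`: `H` lies in a tensor-wreath member (7o) / (7s) of helper1's `InOEClass`.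

* C7 data + Gram normalisation as in helper17's `formC7` (helper12's C7-G/I/E/F on my I7 machinery), keeping the group `Y`;
* `q` odd: `Bᵀ = B` gives (7o), `Bᵀ = -B` gives (7s) (`Q = polar/2` vanishes on pure tensors);
* `q` even: `B` is alternating (the diagonal `v ↦ B(v,v)` is additive, square-homogeneous, `Y`-invariant) and `Q` vanishes on
  the pure tensors by `OEQTensorPow.quad_pv_eq_zero`.
-/

set_option autoImplicit false
set_option linter.unusedVariables false
set_option linter.unusedSectionVars false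

namespace Cfsg.Agent.Lib.Helper22.OE7

open Matrix Cfsg Cfsg.Geo Cfsg.Agent.Lib.Helper7.Asch Cfsg.Agent.Lib.Helper1.OE
open scoped commutatorElement Kronecker

variable {F : Type*} [Field F] [Fintype F] {n : ℕ} {Q : (Fin n → F) → F}

theorem isSymmetricForm_polar (hQ : IsNondegenerateQuadraticForm Q) : IsSymmetricForm (QuadraticMap.polar Q) :=
  ⟨hQ.polar_bilinear, fun u v => by unfold QuadraticMap.polar; rw [add_comm u v]; ring, hQ.nondegenerate⟩

theorem two_eq_zero_of_not_odd (h2 : ¬ Odd (Fintype.card F)) : (2 : F) = 0 := by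
  rw [Nat.not_odd_iff_even] at h2
  obtain ⟨p, hp⟩ := CharP.exists F
  have hpi : CharP F p := hp
  have hpp : p.Prime := (CharP.char_is_prime_or_zero F p).resolve_right (CharP.char_ne_zero_of_finite F p)
  have h2card : 2 ∣ Fintype.card F := even_iff_two_dvd.mp h2
  have hp2 : p = 2 := by
    obtain ⟨k, hk⟩ := FiniteField.card F p
    rw [hk.2] at h2card
    have := (Nat.Prime.dvd_of_dvd_pow Nat.prime_two h2card)
    exact ((Nat.prime_dvd_prime_iff_eq Nat.prime_two hpp).mp this).symm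
  subst hp2
  have := CharP.cast_eq_zero F 2
  exact_mod_cast this

theorem two_ne_zero_of_odd (h : Odd (Fintype.card F)) : (2 : F) ≠ 0 := by
  intro h2
  have hchar : CharP F 2 := CharTwo.of_one_ne_zero_of_two_eq_zero one_ne_zero h2
  obtain ⟨k, hk⟩ := FiniteField.card F 2
  rw [hk.2] at h
  exact (Nat.not_odd_iff_even.2 ((Nat.even_pow.2 ⟨even_two, PNat.ne_zero k⟩))) h

/-- the C7 data together with the normalised Gram matrix, keeping the group `Y` -/
theorem c7_formdata (hQ : IsNondegenerateQuadraticForm Q) (hn : 3 ≤ n) (H L : Subgroup (GL (Fin n) F)) (hH : AbsIrr H)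
    (hHI : H ≤ isometryGroup F Q) (hQP : QP H)
    (hLH : L ≤ H) (hLs : ¬ L ≤ scalars (Fin n) F) (hperf : ⁅L, L⁆ = L) (hqs : SimpleModScal L)
    (hconj : ∀ h ∈ H, (∀ x ∈ L, h * x * h⁻¹ ∈ L) ∨
      (∀ x ∈ L, ∀ y ∈ L, (h * x * h⁻¹) * y = y * (h * x * h⁻¹)))
    (hnn : ¬ NormBy H L) :
    ∃ (m t : ℕ) (e : Fin n ≃ (Fin t → Fin m)) (P : GL (Fin n) F) (Y : Subgroup (GL (Fin m) F))
      (B : Matrix (Fin m) (Fin m) F) (c : F),
      2 ≤ m ∧ 2 ≤ t ∧ H ≤ tensorWreathSubgroup m t e P ∧ AbsIrr Y ∧ c ≠ 0 ∧ IsUnit B.det ∧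
      (∀ a ∈ Y, (a : Matrix (Fin m) (Fin m) F)ᵀ * B * (a : Matrix (Fin m) (Fin m) F) = B) ∧
      (Bᵀ = B ∨ Bᵀ = -B) ∧
      ∀ x y : (Fin t → Fin m) → F,
        QuadraticMap.polar Q ((P : Matrix (Fin n) (Fin n) F) *ᵥ (x ∘ e)) ((P : Matrix (Fin n) (Fin n) F) *ᵥ (y ∘ e)) =
          c * ∑ a, ∑ b, x a * (∏ i, B (a i) (b i)) * y b := by
  have hf := isSymmetricForm_polar hQ
  have hfix := Cfsg.Agent.Lib.Helper12.OE8.fixesForm_polar_of_le_isometryGroup H hHI
  obtain ⟨m, t, e, P, Y, hm, ht, hle, hYabs, hspan, hYperf, hYns, hpos⟩ :=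
    Cfsg.Agent.Lib.Helper17.S5662C7DATA.c7_data hn H L hH hQP hLH hLs hperf hqs hconj hnn
  obtain ⟨G, hGu, hT⟩ := Cfsg.Agent.Lib.Helper12.S5662C7A.exists_tfp hf.bilinear hf.nondegenerate e P
  have hinv : ∀ i : Fin t, ∀ a ∈ Y,
      (Cfsg.Agent.Lib.Helper22.AschC7.pos i (a : Matrix (Fin m) (Fin m) F))ᵀ * G *
        Cfsg.Agent.Lib.Helper22.AschC7.pos i (a : Matrix (Fin m) (Fin m) F) = G := by
    intro i a ha
    obtain ⟨g, hgH, hg⟩ := hpos i a ha
    exact Cfsg.Agent.Lib.Helper12.S5662C7A.pos_inv e P G hT _ g (fun u v => hfix _ ⟨g, hgH, rfl⟩ u v) hg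
  obtain ⟨B, c, hc, hBu, hBinv, hGB⟩ :=
    Cfsg.Agent.Lib.Helper17.AschO.exists_inv_form (by omega) (by omega) Y hYabs hspan G hGu hinv
  have hBsym := Cfsg.Agent.Lib.Helper12.S5662C7A.transpose_eq_or_neg Y hYabs B hBu hBinv
  refine ⟨m, t, e, P, Y, B, c, hm, ht, hle, hYabs, hc, hBu, hBinv, hBsym, fun x y => ?_⟩
  rw [hT x y, hGB, Cfsg.Agent.Lib.Helper17.AschO.formOfGram_smul]
  rfl

/-- in characteristic 2 a symmetric matrix invariant under an irreducible group is alternating -/
theorem fog_diag_eq_zero (h2 : (2 : F) = 0) {m : ℕ} (hm : 2 ≤ m) (Y : Subgroup (GL (Fin m) F)) (hY : AbsIrr Y)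
    (B : Matrix (Fin m) (Fin m) F) (hsym : Bᵀ = B)
    (hinv : ∀ a ∈ Y, (a : Matrix (Fin m) (Fin m) F)ᵀ * B * (a : Matrix (Fin m) (Fin m) F) = B)
    (v : Fin m → F) : formOfGram id B v v = 0 := by
  have hb := Cfsg.Agent.Lib.Helper19.S5662C7STD.isBilinearForm_formOfGram B
  have hsymm : ∀ u w, formOfGram id B u w = formOfGram id B w u := by
    intro u w
    rw [Cfsg.Agent.Lib.Helper19.S5662C7STD.formOfGram_id_eq_dot,
      Cfsg.Agent.Lib.Helper19.S5662C7STD.formOfGram_id_eq_dot, Matrix.dotProduct_mulVec, ← hsym,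
      Matrix.vecMul_transpose, hsym, dotProduct_comm]
  refine Cfsg.Agent.Lib.Helper12.S5662I8Q.eq_zero_of_additive_sq h2 hm (matrixSet Y) hY.1
    (fun v => formOfGram id B v v) ?_ ?_ ?_ v
  · intro u w
    show formOfGram id B (u + w) (u + w) = _
    rw [hb.add_left, hb.add_right, hb.add_right, hsymm w u]
    have : formOfGram id B u w + formOfGram id B u w = 2 * formOfGram id B u w := by ring
    linear_combination this + formOfGram id B u w * h2
  · intro a w
    show formOfGram id B (a • w) (a • w) = _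
    rw [hb.smul_left, hb.smul_right]; ring
  · rintro s ⟨a, ha, rfl⟩ w hw
    show formOfGram id B ((a : Matrix (Fin m) (Fin m) F) *ᵥ w) ((a : Matrix (Fin m) (Fin m) F) *ᵥ w) = 0
    rw [Cfsg.Agent.Lib.Helper12.S5662C7A.formOfGram_id_mulVec, hinv a ha]
    exact hw

/-- **OE7** the tensor-induced case of the even orthogonal hub (any `q`) -/
theorem c7_caseOE (hQ : IsNondegenerateQuadraticForm Q) (hn : 3 ≤ n) (H L : Subgroup (GL (Fin n) F)) (hH : AbsIrr H)
    (hHI : H ≤ isometryGroup F Q) (hQP : QP H)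
    (hLH : L ≤ H) (hLs : ¬ L ≤ scalars (Fin n) F) (hperf : ⁅L, L⁆ = L) (hqs : SimpleModScal L)
    (hconj : ∀ h ∈ H, (∀ x ∈ L, h * x * h⁻¹ ∈ L) ∨
      (∀ x ∈ L, ∀ y ∈ L, (h * x * h⁻¹) * y = y * (h * x * h⁻¹)))
    (hnn : ¬ NormBy H L) : InClassOE Q H := by
  obtain ⟨m, t, e, P, Y, B, c, hm, ht, hle, hYabs, hc, hBu, hBinv, hBsym, hform⟩ :=
    c7_formdata hQ hn H L hH hHI hQP hLH hLs hperf hqs hconj hnn
  have hBunit : IsUnit B := (Matrix.isUnit_iff_isUnit_det B).2 hBu
  by_cases hq : Odd (Fintype.card F)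
  · have h2 : (2 : F) ≠ 0 := two_ne_zero_of_odd hq
    rcases hBsym with hsym | hskew
    · obtain ⟨hf₁, hgram⟩ := Cfsg.Agent.Lib.Helper17.AschO.isSymmetricForm_formOfGram B hBunit hsym
      refine InClassOE.of_tensorWreathSymm H hHI m t e P (formOfGram id B) hq hm ht hf₁ ⟨c, hc, fun x y => ?_⟩ hle
      rw [hgram]
      simpa using hform x y
    · have hf₁ := Cfsg.Agent.Lib.Helper19.S5662C7STD.isSymplecticForm_formOfGram h2 B hBu hskew
      have hgram := Cfsg.Agent.Lib.Helper19.S5662C7STD.gramMatrix_formOfGram_id B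
      refine InClassOE.of_tensorWreathSymp H hHI m t e P (formOfGram id B) hm ht hf₁ ⟨c, hc, fun x y => ?_⟩ ?_ hle
      · rw [hgram]
        simpa using hform x y
      · intro x
        have hpol : QuadraticMap.polar Q ((P : Matrix (Fin n) (Fin n) F) *ᵥ (pureT x ∘ e))
            ((P : Matrix (Fin n) (Fin n) F) *ᵥ (pureT x ∘ e)) = 0 := by
          rw [hform]
          have := Cfsg.Agent.Lib.Helper22.OEQTensorPow.powform_pv B x x
          unfold Cfsg.Agent.Lib.Helper26.SUCorPU7.pv at this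
          unfold pureT
          rw [this, Finset.prod_eq_zero (Finset.mem_univ (⟨0, by omega⟩ : Fin t)) (hf₁.alternating _), mul_zero]
        have h2Q : QuadraticMap.polar Q ((P : Matrix (Fin n) (Fin n) F) *ᵥ (pureT x ∘ e))
            ((P : Matrix (Fin n) (Fin n) F) *ᵥ (pureT x ∘ e))
            = 2 * Q ((P : Matrix (Fin n) (Fin n) F) *ᵥ (pureT x ∘ e)) := by
          unfold QuadraticMap.polar
          have : ∀ v : Fin n → F, v + v = (2 : F) • v := fun v => (two_smul F v).symm
          rw [this, hQ.smul]; ring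
        rw [h2Q] at hpol
        rcases mul_eq_zero.mp hpol with h0 | h0
        · exact absurd h0 h2
        · exact h0
  · have h2 : (2 : F) = 0 := two_eq_zero_of_not_odd hq
    have hsym : Bᵀ = B := by
      rcases hBsym with h | h
      · exact h
      · rw [h]
        have : (-B) = B := by
          ext i j
          rw [Matrix.neg_apply]
          have : B i j + B i j = 0 := by
            have : B i j + B i j = 2 * B i j := by ring
            rw [this, h2, zero_mul]
          exact neg_eq_of_add_eq_zero_left this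
        exact this
    have hG : ∀ v, formOfGram id B v v = 0 := fog_diag_eq_zero h2 hm Y hYabs B hsym hBinv
    obtain ⟨hfs, hgram⟩ := Cfsg.Agent.Lib.Helper17.AschO.isSymmetricForm_formOfGram B hBunit hsym
    have hf₁ : IsSymplecticForm (formOfGram id B) := by
      refine ⟨hfs.bilinear, ?_, hG, hfs.nondegenerate⟩
      intro v w
      rw [hfs.symm v w]
      have : formOfGram id B w v + formOfGram id B w v = 0 := by
        have : formOfGram id B w v + formOfGram id B w v = 2 * formOfGram id B w v := by ring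
        rw [this, h2, zero_mul]
      exact (neg_eq_of_add_eq_zero_left this).symm
    refine InClassOE.of_tensorWreathSymp H hHI m t e P (formOfGram id B) hm ht hf₁ ⟨c, hc, fun x y => ?_⟩ ?_ hle
    · rw [hgram]
      simpa using hform x y
    · intro x
      exact Cfsg.Agent.Lib.Helper22.OEQTensorPow.quad_pv_eq_zero h2 (by omega) ht Q hQ.smul e P B c hG hform H hH.1
        (Cfsg.Agent.Lib.Helper12.OE8.fixesQuad_of_le_isometryGroup H hHI) hle x

end Cfsg.Agent.Lib.Helper22.OE7
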