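import Mathlib
import Cfsg.Prelude.Def_GeometricClasses
import Cfsg.Agent.Lib.Helper16.TensDefs

/-!
# S5637 FO-T3a : a radical element of `M` outside `N0` yields `1 + A ⊗ E_{j2,j0} ∈ M`, `A` non-scalar
-/

set_option autoImplicit false
set_option linter.unusedSimpArgs false
set_option linter.unusedVariables false

namespace Cfsg.Agent.Lib.Helper22.S5637T3a

open Matrix Module Cfsg.Agent.Lib.Helper16.Tens
open scoped Kronecker

variable {F : Type*} [Field F] {a b : ℕ}

theorem exists_block_of_radical (hb : 3 ≤ b) (M : Subgroup (GL (Fin a × Fin b) F)) (hM : Over M) (j0 : Fin b)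
    (z : GL (Fin a × Fin b) F) (hz : z ∈ M) (hzN : z ∉ Cfsg.Geo.kroneckerSubgroup a b F)
    (h1 : ∀ v, act z v - v ∈ hyp (Pi.single j0 (1 : F)))
    (h2 : ∀ v ∈ hyp (a := a) (Pi.single j0 (1 : F)), act z v = v) :
    ∃ (g : GL (Fin a × Fin b) F) (A : Matrix (Fin a) (Fin a) F) (j2 : Fin b), g ∈ M ∧
      (¬ ∃ c : F, A = c • (1 : Matrix (Fin a) (Fin a) F)) ∧ j2 ≠ j0 ∧
      (g : Matrix (Fin a × Fin b) (Fin a × Fin b) F) = 1 + A ⊗ₖ Matrix.single j2 j0 (1 : F) := by
  classical
  obtain ⟨Zm, hZm⟩ : ∃ Zm : Matrix (Fin a × Fin b) (Fin a × Fin b) F,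
      Zm = (z : Matrix (Fin a × Fin b) (Fin a × Fin b) F) - 1 := ⟨_, rfl⟩
  have hz_eq : (z : Matrix (Fin a × Fin b) (Fin a × Fin b) F) = 1 + Zm := by rw [hZm]; abel
  -- the contraction with `e_{j0}` is the `j0`-th column
  have hctr : ∀ (v : Fin a × Fin b → F) (i : Fin a), ctr (Pi.single j0 (1 : F)) v i = v (i, j0) := by
    intro v i
    rw [ctr_apply, Finset.sum_eq_single j0]
    · rw [Pi.single_eq_same, mul_one]
    · intro j _ hj
      rw [Pi.single_eq_of_ne hj, mul_zero]
    · intro h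
      exact absurd (Finset.mem_univ j0) h
  -- columns
  have hcol : ∀ p q : Fin a × Fin b, q.2 ≠ j0 → Zm p q = 0 := by
    intro p q hq
    have hmem : (Pi.single q (1 : F) : Fin a × Fin b → F) ∈ hyp (a := a) (Pi.single j0 (1 : F)) := by
      rw [mem_hyp_iff]
      funext i
      rw [hctr, Pi.zero_apply, Pi.single_apply, if_neg]
      intro h
      apply hq
      rw [← h]
    have h3 := congrFun (h2 _ hmem) p
    rw [act_apply, Matrix.mulVec_single_one] at h3
    rw [hZm, Matrix.sub_apply, Matrix.one_apply]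
    have h4 : (z : Matrix (Fin a × Fin b) (Fin a × Fin b) F) p q =
        (Pi.single q (1 : F) : Fin a × Fin b → F) p := h3
    rw [h4, Pi.single_apply]
    by_cases hpq : p = q
    · rw [if_pos hpq, sub_self]
    · rw [if_neg hpq, sub_self]
  -- rows
  have hrow : ∀ p q : Fin a × Fin b, p.2 = j0 → Zm p q = 0 := by
    intro p q hp
    have h3 := h1 (Pi.single q (1 : F))
    rw [mem_hyp_iff] at h3
    have h4 := congrFun h3 p.1
    rw [hctr, Pi.zero_apply, Pi.sub_apply, act_apply, Matrix.mulVec_single_one] at h4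
    have hpp : p = (p.1, j0) := by rw [← hp]
    rw [hZm, Matrix.sub_apply, Matrix.one_apply, hpp]
    have h5 : (z : Matrix (Fin a × Fin b) (Fin a × Fin b) F) (p.1, j0) q -
        (Pi.single q (1 : F) : Fin a × Fin b → F) (p.1, j0) = 0 := h4
    rw [Pi.single_apply] at h5
    exact h5
  -- the blocks
  obtain ⟨A, hA⟩ : ∃ A : Fin b → Matrix (Fin a) (Fin a) F,
      ∀ j i i', A j i i' = Zm (i, j) (i', j0) := ⟨fun j => Matrix.of fun i i' => Zm (i, j) (i', j0),
        fun j i i' => rfl⟩
  -- some block is not scalar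
  have hex : ∃ j1, j1 ≠ j0 ∧ ¬ ∃ c : F, A j1 = c • (1 : Matrix (Fin a) (Fin a) F) := by
    by_contra hcon
    push Not at hcon
    apply hzN
    choose! c hc using hcon
    obtain ⟨k0, hk0⟩ : ∃ k0 : Fin b → F, ∀ j, k0 j = if j = j0 then 0 else c j := ⟨_, fun j => rfl⟩
    have hk : (Pi.single j0 (1 : F) : Fin b → F) ⬝ᵥ k0 = 0 := by
      rw [single_dotProduct, hk0, if_pos rfl, mul_zero]
    have hzr : z = rootGL (a := a) k0 (Pi.single j0 (1 : F)) hk := by
      apply Units.ext
      rw [rootGL_val, hz_eq]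
      ext p q
      rw [Matrix.add_apply, rootM_apply, Matrix.one_apply]
      by_cases hq : q.2 = j0
      · by_cases hp : p.2 = j0
        · rw [hrow p q hp, hk0, if_pos hp, zero_mul, add_zero, add_zero]
          by_cases h12 : p.1 = q.1
          · have hpq : p = q := Prod.ext h12 (by rw [hp, hq])
            rw [if_pos hpq, if_pos h12, if_pos (by rw [hp, hq])]
          · have hpq : p ≠ q := fun h => h12 (by rw [h])
            rw [if_neg hpq, if_neg h12]
        · have hpq : p ≠ q := fun h => hp (by rw [h, hq])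
          have hp2 : p.2 ≠ q.2 := by rw [hq]; exact hp
          have hqq : q = (q.1, j0) := by rw [← hq]
          have hpp : p = (p.1, p.2) := rfl
          rw [if_neg hpq, zero_add, if_neg hp2, zero_add, hk0, if_neg hp, hq, Pi.single_eq_same,
            mul_one]
          have hZ : Zm p q = A p.2 p.1 q.1 := by
            rw [hA]
            conv_lhs => rw [hqq]
          rw [hZ, hc p.2 hp, Matrix.smul_apply, Matrix.one_apply, smul_eq_mul]
          by_cases h12 : p.1 = q.1
          · rw [if_pos h12, if_pos h12, mul_one]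
          · rw [if_neg h12, if_neg h12, mul_zero]
      · rw [hcol p q hq, add_zero, Pi.single_eq_of_ne hq, mul_zero, add_zero]
        by_cases hpq : p = q
        · rw [if_pos hpq, if_pos (by rw [hpq]), if_pos (by rw [hpq])]
        · rw [if_neg hpq]
          by_cases h12 : p.1 = q.1
          · rw [if_pos h12, if_neg]
            intro h22
            exact hpq (Prod.ext h12 h22)
          · rw [if_neg h12]
    rw [hzr]
    exact rootGL_mem_kron k0 _ hk
  obtain ⟨j1, hj1, hAns⟩ := hex
  obtain ⟨j2, hj2⟩ : ∃ j2 : Fin b, j2 ≠ j0 ∧ j2 ≠ j1 := by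
    have hcard : ({j0, j1} : Finset (Fin b)).card < (Finset.univ : Finset (Fin b)).card := by
      rw [Finset.card_univ, Fintype.card_fin]
      exact lt_of_le_of_lt (Finset.card_insert_le _ _) (by rw [Finset.card_singleton]; omega)
    obtain ⟨j2, -, hj2⟩ := Finset.exists_mem_notMem_of_card_lt_card hcard
    refine ⟨j2, ?_, ?_⟩
    · intro h
      apply hj2
      rw [h]
      exact Finset.mem_insert_self _ _
    · intro h
      apply hj2
      rw [h]
      exact Finset.mem_insert_of_mem (Finset.mem_singleton_self _)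
  obtain ⟨hj20, hj21⟩ := hj2
  have hy0 : (Pi.single j1 (1 : F) : Fin b → F) ⬝ᵥ (Pi.single j2 (1 : F) : Fin b → F) = 0 := by
    rw [single_dotProduct, Pi.single_eq_of_ne (Ne.symm hj21), mul_zero]
  obtain ⟨y, hy⟩ : ∃ y : GL (Fin a × Fin b) F,
      y = rootGL (a := a) (Pi.single j2 (1 : F)) (Pi.single j1 (1 : F)) hy0 := ⟨_, rfl⟩
  have hyM : y ∈ M := by rw [hy]; exact hM.root_mem _ _ hy0
  obtain ⟨Ym, hYm⟩ : ∃ Ym : Matrix (Fin a × Fin b) (Fin a × Fin b) F,
      Ym = (y : Matrix (Fin a × Fin b) (Fin a × Fin b) F) - 1 := ⟨_, rfl⟩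
  have hy_eq : (y : Matrix (Fin a × Fin b) (Fin a × Fin b) F) = 1 + Ym := by rw [hYm]; abel
  have hYe : ∀ p q : Fin a × Fin b,
      Ym p q = if p.1 = q.1 ∧ p.2 = j2 ∧ q.2 = j1 then 1 else 0 := by
    intro p q
    rw [hYm, hy, rootGL_val, Matrix.sub_apply, rootM_apply, Matrix.one_apply, Pi.single_apply,
      Pi.single_apply]
    by_cases h12 : p.1 = q.1
    · rw [if_pos h12]
      by_cases h22 : p.2 = q.2
      · have hpq : p = q := Prod.ext h12 h22
        rw [if_pos h22, if_pos hpq]
        by_cases hp2 : p.2 = j2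
        · have hq1 : q.2 ≠ j1 := by rw [← h22, hp2]; exact hj21
          rw [if_neg (fun h => hq1 h), mul_zero, add_zero, sub_self, if_neg]
          rintro ⟨-, -, h⟩
          exact hq1 h
        · rw [if_neg hp2, zero_mul, add_zero, sub_self, if_neg]
          rintro ⟨-, h, -⟩
          exact hp2 h
      · have hpq : p ≠ q := fun h => h22 (by rw [h])
        rw [if_neg h22, if_neg hpq, zero_add, sub_zero]
        by_cases hp2 : p.2 = j2
        · rw [if_pos hp2, one_mul]
          by_cases hq1 : q.2 = j1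
          · rw [if_pos hq1, if_pos ⟨h12, hp2, hq1⟩]
          · rw [if_neg hq1, if_neg]
            rintro ⟨-, -, h⟩
            exact hq1 h
        · rw [if_neg hp2, zero_mul, if_neg]
          rintro ⟨-, h, -⟩
          exact hp2 h
    · have hpq : p ≠ q := fun h => h12 (by rw [h])
      rw [if_neg h12, if_neg hpq, sub_zero, if_neg]
      rintro ⟨h, -, -⟩
      exact h12 h
  obtain ⟨K, hK⟩ : ∃ K : Matrix (Fin a × Fin b) (Fin a × Fin b) F,
      K = A j1 ⊗ₖ Matrix.single j2 j0 (1 : F) := ⟨_, rfl⟩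
  have hKe : ∀ p q : Fin a × Fin b,
      K p q = if p.2 = j2 ∧ q.2 = j0 then Zm (p.1, j1) (q.1, j0) else 0 := by
    intro p q
    rw [hK]
    obtain ⟨p1, p2⟩ := p
    obtain ⟨q1, q2⟩ := q
    rw [Matrix.kroneckerMap_apply, Matrix.single_apply, hA]
    by_cases h : j2 = p2 ∧ j0 = q2
    · rw [if_pos h, mul_one, if_pos ⟨h.1.symm, h.2.symm⟩]
    · rw [if_neg h, mul_zero, if_neg]
      rintro ⟨h1', h2'⟩
      exact h ⟨h1'.symm, h2'.symm⟩
  -- the four products
  have hZY : Zm * Ym = 0 := by
    ext p q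
    rw [Matrix.mul_apply, Matrix.zero_apply]
    apply Finset.sum_eq_zero
    intro s _
    by_cases hs : s.2 = j0
    · rw [hYe, if_neg, mul_zero]
      rintro ⟨-, h, -⟩
      exact hj20 (by rw [← h, hs])
    · rw [hcol p s hs, zero_mul]
  have hKZ : K * Zm = 0 := by
    ext p q
    rw [Matrix.mul_apply, Matrix.zero_apply]
    apply Finset.sum_eq_zero
    intro s _
    by_cases hs : s.2 = j0
    · rw [hrow s q hs, mul_zero]
    · rw [hKe, if_neg, zero_mul]
      rintro ⟨-, h⟩
      exact hs h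
  have hKY : K * Ym = 0 := by
    ext p q
    rw [Matrix.mul_apply, Matrix.zero_apply]
    apply Finset.sum_eq_zero
    intro s _
    by_cases hs : s.2 = j0
    · rw [hYe, if_neg, mul_zero]
      rintro ⟨-, h, -⟩
      exact hj20 (by rw [← h, hs])
    · rw [hKe, if_neg, zero_mul]
      rintro ⟨-, h⟩
      exact hs h
  have hYZ : Ym * Zm = K := by
    ext p q
    rw [Matrix.mul_apply, Finset.sum_eq_single (p.1, j1)]
    · rw [hYe, hKe]
      by_cases hp2 : p.2 = j2
      · rw [if_pos ⟨rfl, hp2, rfl⟩, one_mul]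
        by_cases hq : q.2 = j0
        · rw [if_pos ⟨hp2, hq⟩]
          have hqq : q = (q.1, j0) := by rw [← hq]
          conv_lhs => rw [hqq]
        · rw [if_neg (fun h => hq h.2), hcol _ q hq]
      · rw [if_neg (fun h => hp2 h.2.1), zero_mul, if_neg (fun h => hp2 h.1)]
    · intro s _ hs
      rw [hYe, if_neg, zero_mul]
      rintro ⟨h1', -, h3'⟩
      apply hs
      exact Prod.ext h1'.symm h3'
    · intro h
      exact absurd (Finset.mem_univ _) h
  have key : (1 + K) * ((z : Matrix (Fin a × Fin b) (Fin a × Fin b) F) *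
      (y : Matrix (Fin a × Fin b) (Fin a × Fin b) F)) =
      (y : Matrix (Fin a × Fin b) (Fin a × Fin b) F) *
        (z : Matrix (Fin a × Fin b) (Fin a × Fin b) F) := by
    rw [hz_eq, hy_eq]
    have e1 : (1 + Zm) * (1 + Ym) = 1 + Zm + Ym := by
      rw [add_mul, mul_add, mul_add, one_mul, mul_one, one_mul, hZY, add_zero]
      abel
    have e2 : (1 + Ym) * (1 + Zm) = 1 + Zm + Ym + K := by
      rw [add_mul, mul_add, mul_add, one_mul, mul_one, one_mul, hYZ]
      abel
    rw [e1, e2, add_mul, one_mul, mul_add, mul_add, mul_one, hKZ, hKY]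
    abel
  refine ⟨y * z * y⁻¹ * z⁻¹, A j1, j2, ?_, hAns, hj20, ?_⟩
  · exact M.mul_mem (M.mul_mem (M.mul_mem hyM hz) (M.inv_mem hyM)) (M.inv_mem hz)
  · rw [← hK, Units.val_mul, Units.val_mul, Units.val_mul, ← key, ← mul_assoc,
      Units.mul_inv_cancel_right, Units.mul_inv_cancel_right]

end Cfsg.Agent.Lib.Helper22.S5637T3a
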