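import Mathlib
import Cfsg.Agent.Lib.Helper17.ExtFDefs

/-!
# S5886 FO-P2 (the maximal-intersection argument), part a: preliminaries
-/

set_option autoImplicit false
set_option linter.unusedSimpArgs false

namespace Cfsg.Agent.Lib.Helper22.ExtFP2

open Matrix Module Cfsg.Agent.Lib.Helper17.ExtF

variable {F : Type*} [Field F] {L : Type*} [Field L] [Algebra F L] {n : ℕ}
  (ρ : L →ₐ[F] Matrix (Fin n) (Fin n) F) {r : ℕ}

lemma actL_injective (g : GL (Fin n) F) : Function.Injective (actL g) := act_injective g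

lemma actL_mul (g h : GL (Fin n) F) : actL (g * h) = actL g ∘ₗ actL h := by
  apply LinearMap.ext
  intro v
  simp only [actL_apply, LinearMap.comp_apply, act_mul]

lemma map_actL_mul (g h : GL (Fin n) F) (S : Submodule F (Fin n → F)) :
    S.map (actL (g * h)) = (S.map (actL h)).map (actL g) := by
  rw [actL_mul, Submodule.map_comp]

lemma finrank_map_actL (g : GL (Fin n) F) (S : Submodule F (Fin n → F)) :
    finrank F ↥(S.map (actL g)) = finrank F ↥S :=
  (Submodule.equivMapOfInjective (actL g) (actL_injective g) S).finrank_eq.symm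

lemma map_actL_inf (g : GL (Fin n) F) (S T : Submodule F (Fin n → F)) :
    (S ⊓ T).map (actL g) = S.map (actL g) ⊓ T.map (actL g) :=
  Submodule.map_inf (actL g) (actL_injective g)

lemma map_actL_inj (g : GL (Fin n) F) {S T : Submodule F (Fin n → F)}
    (h : S.map (actL g) = T.map (actL g)) : S = T :=
  Submodule.map_injective_of_injective (actL_injective g) h

lemma map_actL_inv_map (g : GL (Fin n) F) (S : Submodule F (Fin n → F)) :
    (S.map (actL g)).map (actL g⁻¹) = S := by
  rw [← map_actL_mul, inv_mul_cancel]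
  ext v
  simp [actL]

lemma orb_injective {v : Fin n → F} (hv : v ≠ 0) : Function.Injective (orb ρ v) := by
  rw [← LinearMap.ker_eq_bot, LinearMap.ker_eq_bot']
  intro a ha
  by_contra ha0
  apply hv
  have h1 : ρ (a⁻¹ * a) *ᵥ v = 0 := by
    rw [rho_mul_mulVec]
    have : ρ a *ᵥ v = 0 := ha
    rw [this, Matrix.mulVec_zero]
  rwa [inv_mul_cancel₀ ha0, rho_one_mulVec] at h1

/-- the `L`-transvections `x_a : v ↦ v + ρ (a ψ v) v₁` lie in `H` -/
lemma exists_xa (H : Subgroup (GL (Fin n) F)) (hE : HasElem ρ H) (ψ : (Fin n → F) →ₗ[F] L)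
    (hψ : Lin ρ ψ) (v₁ : Fin n → F) (hψv : ψ v₁ = 0) (a : L) :
    ∃ x ∈ H, ∀ v, act x v = v + ρ (a * ψ v) *ᵥ v₁ := by
  have key : ∀ c : L, ψ (ρ c *ᵥ v₁) = 0 := fun c => by rw [hψ c v₁, hψv, mul_zero]
  obtain ⟨x, hx, -⟩ := exists_gl
    (LinearMap.id + (orb ρ v₁) ∘ₗ (LinearMap.mulLeft F a) ∘ₗ ψ)
    (LinearMap.id - (orb ρ v₁) ∘ₗ (LinearMap.mulLeft F a) ∘ₗ ψ)
    (by
      intro v
      simp only [LinearMap.add_apply, LinearMap.sub_apply, LinearMap.id_apply,
        LinearMap.comp_apply, LinearMap.mulLeft_apply, orb_apply, map_sub, key, mul_zero,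
        sub_zero, map_zero, Matrix.zero_mulVec, add_zero]
      abel)
    (by
      intro v
      simp only [LinearMap.add_apply, LinearMap.sub_apply, LinearMap.id_apply,
        LinearMap.comp_apply, LinearMap.mulLeft_apply, orb_apply, map_add, key, mul_zero,
        add_zero, map_zero, Matrix.zero_mulVec, sub_zero]
      abel)
  refine ⟨x, ?_, ?_⟩
  · apply hE ((LinearMap.mulLeft F a) ∘ₗ ψ) v₁ (hψ.mulLeft a)
    · simp only [LinearMap.comp_apply, LinearMap.mulLeft_apply, hψv, mul_zero, add_zero, map_one]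
    · intro v
      rw [hx]
      rfl
  · intro v
    rw [hx]
    rfl

end Cfsg.Agent.Lib.Helper22.ExtFP2
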