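import Mathlib
import Cfsg.Agent.Lib.Helper22.S5886FOP2a

/-!
# S5886 FO-P2 (the maximal-intersection argument), part b: the argument, with the three inputs
(`finrank_pt`, E1 `exists_lin_sep`, CNT `finrank_eq_one_of_dichotomy`) as explicit hypotheses
-/

set_option autoImplicit false
set_option linter.unusedSimpArgs false
set_option linter.unusedVariables false

namespace Cfsg.Agent.Lib.Helper22.ExtFP2

open Matrix Module Cfsg.Agent.Lib.Helper17.ExtF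

variable {F : Type*} [Field F] {L : Type*} [Field L] [Algebra F L] {n : ℕ}
  (ρ : L →ₐ[F] Matrix (Fin n) (Fin n) F) {r : ℕ}

theorem exists_config_aux (hrk : finrank F L = r)
    (hfp : ∀ v : Fin n → F, v ≠ 0 → finrank F ↥(pt ρ v) = r)
    (hE1 : ∀ e u : Fin n → F, u ∉ pt ρ e →
      ∃ χ : (Fin n → F) →ₗ[F] L, Lin ρ χ ∧ χ e = 0 ∧ χ u = 1)
    (hCNT : ∀ Y D : Submodule F L, Y ≠ ⊥ → D ≠ ⊥ →
      finrank F Y + finrank F D = finrank F L →
      (∀ a : L, a ≠ 0 → Y.map (LinearMap.mulLeft F a) ⊓ D = ⊥ ∨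
        Y.map (LinearMap.mulLeft F a) ≤ D) → finrank F Y = 1)
    (H : Subgroup (GL (Fin n) F)) (hE : HasElem ρ H) (g : GL (Fin n) F) (hg : g ∈ H)
    (hm : Moves ρ g) : ∃ v₁ v₀ g₀, Config ρ H r v₁ v₀ g₀ := by
  classical
  -- candidates
  obtain ⟨Cand, hCand⟩ : ∃ Cand : ℕ → Prop, ∀ δ, Cand δ ↔
      ∃ (v₁ v₀ : Fin n → F) (g₀ : GL (Fin n) F), g₀ ∈ H ∧ v₁ ≠ 0 ∧ v₀ ≠ 0 ∧
        pt ρ v₁ ≠ (pt ρ v₀).map (actL g₀) ∧
        finrank F ↥(pt ρ v₁ ⊓ (pt ρ v₀).map (actL g₀)) = δ := ⟨_, fun _ => Iff.rfl⟩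
  have hbound : ∀ δ, Cand δ → δ ≤ n := by
    intro δ hδ
    obtain ⟨v₁, v₀, g₀, -, -, -, -, rfl⟩ := (hCand δ).mp hδ
    calc finrank F ↥(pt ρ v₁ ⊓ (pt ρ v₀).map (actL g₀)) ≤ finrank F (Fin n → F) :=
          Submodule.finrank_le _
      _ = n := by simp
  -- the initial candidate
  obtain ⟨v, hv0, hmv⟩ := hm
  have hgv0 : act g v ≠ 0 := fun h => hv0 ((act_eq_zero_iff g v).mp h)
  obtain ⟨δ₀, h1δ₀, hδ₀⟩ : ∃ δ, 1 ≤ δ ∧ Cand δ := by
    refine ⟨_, ?_, (hCand _).mpr ⟨act g v, v, g, hg, hgv0, hv0, Ne.symm hmv, rfl⟩⟩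
    have hmem : act g v ∈ pt ρ (act g v) ⊓ (pt ρ v).map (actL g) :=
      ⟨self_mem_pt ρ _, ⟨v, self_mem_pt ρ v, rfl⟩⟩
    by_contra hlt
    have h0 : finrank F ↥(pt ρ (act g v) ⊓ (pt ρ v).map (actL g)) = 0 := by omega
    rw [Submodule.finrank_eq_zero.mp h0] at hmem
    exact hgv0 ((Submodule.mem_bot F).mp hmem)
  -- a maximal candidate
  have hCδ : Cand (Nat.findGreatest Cand n) := Nat.findGreatest_spec (hbound δ₀ hδ₀) hδ₀
  have hmax : ∀ δ', Cand δ' → δ' ≤ Nat.findGreatest Cand n :=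
    fun δ' h => Nat.le_findGreatest (hbound δ' h) h
  obtain ⟨δ, hδdef⟩ : ∃ δ, δ = Nat.findGreatest Cand n := ⟨_, rfl⟩
  rw [← hδdef] at hCδ hmax
  have h1δ : 1 ≤ δ := le_trans h1δ₀ (hmax δ₀ hδ₀)
  obtain ⟨v₁, v₀, g₀, hg₀, hv₁, hv₀, hne, hfin⟩ := (hCand δ).mp hCδ
  refine ⟨v₁, v₀, g₀, hg₀, hv₁, hv₀, ?_⟩
  rw [hfin]
  obtain ⟨P₁, hP₁⟩ : ∃ P₁ : Submodule F (Fin n → F), P₁ = pt ρ v₁ := ⟨_, rfl⟩
  obtain ⟨P', hP'⟩ : ∃ P' : Submodule F (Fin n → F), P' = (pt ρ v₀).map (actL g₀) := ⟨_, rfl⟩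
  rw [← hP₁, ← hP'] at hne hfin
  have hfP₁ : finrank F ↥P₁ = r := by rw [hP₁]; exact hfp v₁ hv₁
  have hfP' : finrank F ↥P' = r := by rw [hP', finrank_map_actL]; exact hfp v₀ hv₀
  -- use of maximality
  have hmaxx : ∀ x ∈ H, P'.map (actL x) ≠ P' → finrank F ↥(P' ⊓ P'.map (actL x)) ≤ δ := by
    intro x hx hxne
    have hgg : g₀ * (g₀⁻¹ * x * g₀) = x * g₀ := by group
    have e : P' ⊓ P'.map (actL x) =
        (pt ρ v₀ ⊓ (pt ρ v₀).map (actL (g₀⁻¹ * x * g₀))).map (actL g₀) := by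
      rw [map_actL_inf, ← map_actL_mul, hgg, map_actL_mul, hP']
    rw [e, finrank_map_actL]
    apply hmax
    refine (hCand _).mpr ⟨v₀, v₀, g₀⁻¹ * x * g₀,
      H.mul_mem (H.mul_mem (H.inv_mem hg₀) hx) hg₀, hv₀, hv₀, ?_, rfl⟩
    intro heq
    apply hxne
    have h1 := congrArg (Submodule.map (actL g₀)) heq
    rw [← map_actL_mul, hgg, map_actL_mul, ← hP'] at h1
    exact h1.symm
  -- a vector of P' outside P₁ and the functional ψ
  have hnle : ¬ P' ≤ P₁ := by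
    intro hle
    exact hne (Submodule.eq_of_le_of_finrank_eq hle (by rw [hfP', hfP₁])).symm
  obtain ⟨u, huP', huP₁⟩ := SetLike.not_le_iff_exists.mp hnle
  rw [hP₁] at huP₁
  obtain ⟨ψ, hψ, hψv₁, hψu⟩ := hE1 v₁ u huP₁
  have hψP₁ : ∀ p ∈ P₁, ψ p = 0 := by
    intro p hp
    rw [hP₁] at hp
    obtain ⟨c, rfl⟩ := hp
    rw [orb_apply, hψ c v₁, hψv₁, mul_zero]
  obtain ⟨Y, hY⟩ : ∃ Y : Submodule F L, Y = P'.map ψ := ⟨_, rfl⟩
  obtain ⟨Dt, hDt⟩ : ∃ Dt : Submodule F L, Dt = P'.comap (orb ρ v₁) := ⟨_, rfl⟩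
  have hfDt : finrank F ↥Dt = δ := by
    have e : Dt.map (orb ρ v₁) = P₁ ⊓ P' := by
      rw [hDt, Submodule.map_comap_eq, hP₁]
      rfl
    rw [← hfin, ← e]
    exact (Submodule.equivMapOfInjective _ (orb_injective ρ hv₁) Dt).finrank_eq
  -- the key claim
  have claimA : ∀ a : L, ¬ (Y.map (LinearMap.mulLeft F a) ≤ Dt) →
      Y.map (LinearMap.mulLeft F a) ⊓ Dt = ⊥ ∧ P' ⊓ LinearMap.ker ψ = P₁ ⊓ P' := by
    intro a hna
    obtain ⟨x, hxH, hx⟩ := exists_xa ρ H hE ψ hψ v₁ hψv₁ a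
    have hxP₁ : ∀ p ∈ P₁, act x p = p := by
      intro p hp
      rw [hx, hψP₁ p hp, mul_zero, rho_zero_mulVec, add_zero]
    obtain ⟨c, hcY, hcD⟩ := SetLike.not_le_iff_exists.mp hna
    rw [hY] at hcY
    obtain ⟨y, ⟨u₁, hu₁, rfl⟩, rfl⟩ := hcY
    have hxne : P'.map (actL x) ≠ P' := by
      intro heq
      apply hcD
      have h1 : act x u₁ ∈ P' := by
        rw [← heq]
        exact ⟨u₁, hu₁, rfl⟩
      rw [hx] at h1
      have h2 := P'.sub_mem h1 hu₁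
      rw [add_sub_cancel_left] at h2
      rw [hDt]
      exact h2
    have hle := hmaxx x hxH hxne
    have hDle : P₁ ⊓ P' ≤ P' ⊓ P'.map (actL x) := by
      rintro p ⟨hp1, hp2⟩
      exact ⟨hp2, ⟨p, hp2, hxP₁ p hp1⟩⟩
    have hDeq : P₁ ⊓ P' = P' ⊓ P'.map (actL x) :=
      Submodule.eq_of_le_of_finrank_le hDle (by rw [hfin]; exact hle)
    constructor
    · rw [eq_bot_iff]
      rintro c ⟨hc1, hc2⟩
      rw [hY] at hc1
      obtain ⟨y, ⟨u₂, hu₂, rfl⟩, rfl⟩ := hc1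
      rw [hDt] at hc2
      have hc2' : ρ (a * ψ u₂) *ᵥ v₁ ∈ P' := hc2
      have h1 : act x u₂ ∈ P' := by
        rw [hx]
        exact P'.add_mem hu₂ hc2'
      have h2 : act x u₂ ∈ P'.map (actL x) := ⟨u₂, hu₂, rfl⟩
      have h3 : act x u₂ ∈ P₁ ⊓ P' := by
        rw [hDeq]
        exact ⟨h1, h2⟩
      have h4 := hψP₁ _ h3.1
      rw [hx, map_add, hψ, hψv₁, mul_zero, add_zero] at h4
      rw [Submodule.mem_bot, LinearMap.mulLeft_apply, h4, mul_zero]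
    · apply le_antisymm
      · rintro p ⟨hp1, hp2⟩
        have hp2' : ψ p = 0 := hp2
        have hfix : act x p = p := by
          rw [hx, hp2', mul_zero, rho_zero_mulVec, add_zero]
        rw [hDeq]
        exact ⟨hp1, ⟨p, hp1, hfix⟩⟩
      · rintro p ⟨hp1, hp2⟩
        exact ⟨hp2, hψP₁ p hp1⟩
  -- Y ≠ ⊥, Dt ≠ ⊥, Dt ≠ ⊤
  have h1Y : (1 : L) ∈ Y := by
    rw [hY]
    exact ⟨u, huP', hψu⟩
  have hYne : Y ≠ ⊥ := by
    intro h
    rw [h] at h1Y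
    exact one_ne_zero ((Submodule.mem_bot F).mp h1Y)
  have hDtne : Dt ≠ ⊥ := by
    intro h
    rw [h, finrank_bot] at hfDt
    omega
  have hDtt : ¬ (⊤ : Submodule F L) ≤ Dt := by
    intro htop
    apply hne
    apply Submodule.eq_of_le_of_finrank_eq _ (by rw [hfP', hfP₁])
    intro p hp
    rw [hP₁] at hp
    obtain ⟨c, rfl⟩ := hp
    have : c ∈ Dt := htop Submodule.mem_top
    rw [hDt] at this
    exact this
  obtain ⟨c, -, hcD⟩ := SetLike.not_le_iff_exists.mp hDtt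
  have hnc : ¬ (Y.map (LinearMap.mulLeft F c) ≤ Dt) := by
    intro hle
    apply hcD
    have : c * 1 ∈ Dt := hle ⟨1, h1Y, rfl⟩
    rwa [mul_one] at this
  have hkerD := (claimA c hnc).2
  -- finrank Y + δ = r
  have hfY : finrank F ↥Y + δ = r := by
    have hrn := LinearMap.finrank_range_add_finrank_ker (ψ.domRestrict P')
    rw [LinearMap.range_domRestrict, LinearMap.ker_domRestrict, hfP', ← hY] at hrn
    have e : ((LinearMap.ker ψ).comap P'.subtype).map P'.subtype = P' ⊓ LinearMap.ker ψ := by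
      rw [Submodule.map_comap_eq, Submodule.range_subtype]
    have h2 : finrank F ↥((LinearMap.ker ψ).comap P'.subtype) = δ := by
      rw [← hfin, ← hkerD, ← e]
      exact (Submodule.equivMapOfInjective _ P'.subtype_injective _).finrank_eq
    rw [h2] at hrn
    exact hrn
  have hone := hCNT Y Dt hYne hDtne (by rw [hfDt, hrk]; exact hfY)
    (fun a _ => by
      by_cases h : Y.map (LinearMap.mulLeft F a) ≤ Dt
      · exact Or.inr h
      · exact Or.inl (claimA a h).1)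
  omega

end Cfsg.Agent.Lib.Helper22.ExtFP2
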