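import Mathlib
import Cfsg.Agent.Lib.Helper22.S5886FOP2b
import Cfsg.Agent.Lib.Helper25.ExtFEa

/-!
# S5886 FO-P2, part c: `exists_config` with only FO-CNT as a hypothesis (FO-Ea from helper25)
-/

set_option autoImplicit false

namespace Cfsg.Agent.Lib.Helper22.ExtFP2

open Matrix Module Cfsg.Agent.Lib.Helper17.ExtF

variable {F : Type*} [Field F] [Fintype F] {L : Type*} [Field L] [Algebra F L] {n : ℕ}
  (ρ : L →ₐ[F] Matrix (Fin n) (Fin n) F) {r : ℕ}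

theorem exists_config_of_cnt (hr : r.Prime) (hrk : finrank F L = r)
    (hCNT : ∀ Y D : Submodule F L, Y ≠ ⊥ → D ≠ ⊥ →
      finrank F Y + finrank F D = finrank F L →
      (∀ a : L, a ≠ 0 → Y.map (LinearMap.mulLeft F a) ⊓ D = ⊥ ∨
        Y.map (LinearMap.mulLeft F a) ≤ D) → finrank F Y = 1)
    (H : Subgroup (GL (Fin n) F)) (hE : HasElem ρ H) (g : GL (Fin n) F) (hg : g ∈ H)
    (hm : Moves ρ g) : ∃ v₁ v₀ g₀, Config ρ H r v₁ v₀ g₀ :=
  exists_config_aux ρ hrk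
    (fun _ hv => Cfsg.Agent.Lib.Helper25.ExtFEa.finrank_pt ρ hrk hr.pos hv)
    (fun e u hu => Cfsg.Agent.Lib.Helper25.ExtFEa.exists_lin_sep ρ hrk hr.pos e u hu)
    hCNT H hE g hg hm

end Cfsg.Agent.Lib.Helper22.ExtFP2
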