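import Mathlib
import Cfsg.Agent.Lib.Helper22.S5886FOP2c
import Cfsg.Agent.H5.S5886FOCNT

/-!
# S5886 FO-P2: `exists_config` (exact skeleton signature)
-/

set_option autoImplicit false

namespace Cfsg.Agent.Lib.Helper22.ExtFP2

open Matrix Module Cfsg.Agent.Lib.Helper17.ExtF

variable {F : Type*} [Field F] [Fintype F] {L : Type*} [Field L] [Algebra F L] {n : ℕ}
  (ρ : L →ₐ[F] Matrix (Fin n) (Fin n) F) {r : ℕ}

/-- **FO-P2** -/
theorem exists_config (hr : r.Prime) (hrk : finrank F L = r) (hn : 2 * r ≤ n)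
    (H : Subgroup (GL (Fin n) F)) (hE : HasElem ρ H) (g : GL (Fin n) F) (hg : g ∈ H)
    (hm : Moves ρ g) : ∃ v₁ v₀ g₀, Config ρ H r v₁ v₀ g₀ :=
  exists_config_of_cnt ρ hr hrk
    (fun Y D hY hD hsum h =>
      Cfsg.H5.S5886.finrank_eq_one_of_dichotomy (by rw [hrk]; exact hr) Y D hY hD hsum h)
    H hE g hg hm

end Cfsg.Agent.Lib.Helper22.ExtFP2
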