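import Mathlib
import Cfsg.Agent.Lib.Helper17.FpfDefs
import Cfsg.Agent.Lib.Helper3.SzModelA

/-! FO-3 of helper17's S2863 farm-out: `TwoRootProp 2 Y` when `|Y| = 2` (dihedral case). -/

set_option autoImplicit false

namespace Cfsg.Agent.Lib.Helper22.S2863

open Cfsg.Agent.Lib.Helper17.Fpf Cfsg.Agent.Lib.Helper3.SzModel

/-- FO-3: `|Y| = 2`. -/
theorem FO3_card_two_twoRoot {X : Type*} [Group X] (Y : Subgroup X) (hY : Nat.card Y = 2)
    (hgen : Subgroup.normalClosure (Y : Set X) = ⊤)
    (hmax : ∀ P : Subgroup X, Y ≤ P → P ≠ ⊤ → P ≤ Subgroup.normalizer (Y : Set X))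
    (hne : Subgroup.normalizer (Y : Set X) ≠ ⊤) : TwoRootProp 2 Y := by
  classical
  -- the nontrivial element `t` of `Y`
  obtain ⟨⟨t, htY⟩, ht1', huniq⟩ := (Nat.card_eq_two_iff' (1 : Y)).1 hY
  have ht1 : t ≠ 1 := by
    intro h
    apply ht1'
    exact Subtype.ext h
  have hYmem : ∀ y ∈ Y, y = 1 ∨ y = t := by
    intro y hy
    by_cases h : y = 1
    · exact Or.inl h
    · right
      have := huniq ⟨y, hy⟩ (by intro h'; exact h (congrArg Subtype.val h'))
      exact congrArg Subtype.val this
  have ht2 : t ^ 2 = 1 := by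
    rcases hYmem (t ^ 2) (Y.pow_mem htY 2) with h | h
    · exact h
    · exfalso
      apply ht1
      have : t * t = t := by rw [← pow_two]; exact h
      exact mul_left_cancel (a := t) (by rw [this, mul_one])
  have htt : t * t = 1 := by rw [← pow_two]; exact ht2
  have hti : t⁻¹ = t := by
    rw [inv_eq_iff_mul_eq_one]; exact htt
  -- centralizer of `t` normalizes `Y`
  have hcentN : ∀ h : X, h * t * h⁻¹ = t → h ∈ Subgroup.normalizer (Y : Set X) := by
    intro h hh
    rw [Subgroup.mem_normalizer_iff]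
    intro z
    constructor
    · intro hz
      rcases hYmem z hz with h1 | h1
      · rw [h1]; simp [Y.one_mem]
      · rw [h1, hh]; exact htY
    · intro hz
      rcases hYmem _ hz with h1 | h1
      · have : z = 1 := by
          have : z = h⁻¹ * (h * z * h⁻¹) * h := by group
          rw [this, h1]; group
        rw [this]; exact Y.one_mem
      · have : z = t := by
          have h3 : z = h⁻¹ * (h * z * h⁻¹) * h := by group
          have h4 : h⁻¹ * t * h = t := by
            conv_lhs => rw [← hh]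
            group
          rw [h3, h1, h4]
        rw [this]; exact htY
  -- some conjugate of `t` does not commute with `t`
  have hex : ∃ g : X, ¬ Commute (g * t * g⁻¹) t := by
    by_contra hall
    push Not at hall
    apply hne
    rw [eq_top_iff, ← hgen]
    unfold Subgroup.normalClosure
    rw [Subgroup.closure_le]
    intro a ha
    obtain ⟨y, hy, hconj⟩ := Group.mem_conjugatesOfSet_iff.mp ha
    obtain ⟨g, hg⟩ := isConj_iff.mp hconj
    rw [SetLike.mem_coe]
    apply hcentN
    rcases hYmem y hy with h5 | h5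
    · rw [← hg, h5]; simp
    · rw [← hg, h5]
      have := (hall g).eq
      rw [this, mul_inv_cancel_right]
  obtain ⟨g, hg⟩ := hex
  obtain ⟨s, hsdef⟩ : ∃ s, s = g * t * g⁻¹ := ⟨_, rfl⟩
  rw [← hsdef] at hg
  have hs2 : s ^ 2 = 1 := by
    rw [hsdef, conj_pow, ht2]; group
  have hPtop : Subgroup.closure ({t, s} : Set X) = ⊤ := by
    by_contra hP
    have hYP : Y ≤ Subgroup.closure ({t, s} : Set X) := by
      intro y hy
      rcases hYmem y hy with h | h
      · rw [h]; exact Subgroup.one_mem _
      · rw [h]; exact Subgroup.subset_closure (Set.mem_insert _ _)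
    have hsN : s ∈ Subgroup.normalizer (Y : Set X) :=
      hmax _ hYP hP (Subgroup.subset_closure (Set.mem_insert_of_mem _ rfl))
    rw [Subgroup.mem_normalizer_iff] at hsN
    have h3 := (hsN t).1 htY
    apply hg
    rcases hYmem _ h3 with h4 | h4
    · exfalso
      apply ht1
      have : t = s⁻¹ * (s * t * s⁻¹) * s := by group
      rw [this, h4]; group
    · exact (mul_inv_eq_iff_eq_mul.mp h4)
  have hmem : ∀ x : X, ∃ k : ℤ, x = (t * s) ^ k ∨ x = (t * s) ^ k * t := by
    intro x
    apply mem_dihedral ht2 hs2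
    rw [hPtop]
    exact Subgroup.mem_top x
  have hsw := dihedral_swap ht2 hs2
  obtain ⟨r, hr⟩ : ∃ r, r = t * s := ⟨_, rfl⟩
  simp only [← hr] at hmem hsw
  -- now the main argument
  intro x hx
  have hxne : ∀ z : X, z ^ 2 = 1 → x ≠ z := by
    intro z hz hxz
    apply hx
    have hdvd : orderOf x ∣ 2 := by
      rw [hxz]; exact orderOf_dvd_of_pow_eq_one hz
    rcases (Nat.dvd_prime Nat.prime_two).1 hdvd with h | h
    · exact ⟨0, by rw [h, pow_zero]⟩
    · exact ⟨1, by rw [h, pow_one]⟩
  obtain ⟨k, hk | hk⟩ := hmem x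
  swap
  · exfalso
    apply hxne x _ rfl
    rw [hk, pow_two]
    calc r ^ k * t * (r ^ k * t) = r ^ k * (t * r ^ k) * t := by group
      _ = r ^ k * (r ^ (-k) * t) * t := by rw [hsw]
      _ = 1 := by
        rw [mul_assoc, mul_assoc, htt, mul_one, ← zpow_add, add_neg_cancel, zpow_zero]
  · -- `x = r ^ k = t * (t * r ^ k)`
    -- `t * r ^ k` is conjugate to `t`
    have hconj : ∃ g' : X, t * r ^ k = g' * t * g'⁻¹ := by
      rcases Int.emod_two_eq_zero_or_one k with hk2 | hk2
      · refine ⟨r ^ (-(k / 2)), ?_⟩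
        have hkk : k = (k / 2) + (k / 2) := by omega
        have h1 : r ^ (-(k / 2)) * t = t * r ^ (k / 2) := by
          rw [hsw (k / 2)]
        rw [h1, ← zpow_neg, neg_neg, mul_assoc, ← zpow_add, ← hkk]
      · refine ⟨r ^ (-(k / 2)) * g, ?_⟩
        have hkk : k = (k / 2) + (1 + (k / 2)) := by omega
        have h1 : r ^ (-(k / 2)) * t = t * r ^ (k / 2) := by
          rw [hsw (k / 2)]
        have h2 : g * t * g⁻¹ = t * r := by
          rw [hr, ← mul_assoc, htt, one_mul, hsdef]
        calc t * r ^ k = t * r ^ (k / 2) * r * r ^ (k / 2) := by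
              conv_lhs => rw [hkk, zpow_add, zpow_add, zpow_one]
              group
          _ = r ^ (-(k / 2)) * (t * r) * r ^ (k / 2) := by rw [← h1]; group
          _ = r ^ (-(k / 2)) * (g * t * g⁻¹) * r ^ (k / 2) := by rw [h2]
          _ = r ^ (-(k / 2)) * g * t * (r ^ (-(k / 2)) * g)⁻¹ := by
              rw [mul_inv_rev, ← zpow_neg, neg_neg]; group
    obtain ⟨g', hg'⟩ := hconj
    have hg'N : g' ∉ Subgroup.normalizer (Y : Set X) := by
      intro hN
      rw [Subgroup.mem_normalizer_iff] at hN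
      have h3 := (hN t).1 htY
      rcases hYmem _ h3 with h4 | h4
      · apply ht1
        have : t = g'⁻¹ * (g' * t * g'⁻¹) * g' := by group
        rw [this, h4]; group
      · apply hxne 1 (one_pow 2)
        rw [hk]
        have : r ^ k = t * (t * r ^ k) := by rw [← mul_assoc, htt, one_mul]
        rw [this, hg', h4, htt]
    refine ⟨1, 1, 1, g', t, t, Y.one_mem, Or.inl rfl, htY, ht1, htY, ht1, hg'N, ?_⟩
    rw [pow_one, mul_one, one_mul, inv_one, mul_one, ← hg', ← mul_assoc, htt, one_mul, hk]

end Cfsg.Agent.Lib.Helper22.S2863
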