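import Mathlib
import Cfsg.Agent.Lib.Helper18.MonDefs

/-!
# MonMax FO-GL, part a: rank-one calculus, the elements `h(a) = g d_j(a) g⁻¹`, and the support lemma (i)

`X ≤ GL_m(F)` contains all monomial matrices.  `NoTv X`: `X` contains no elementary transvection.
-/

set_option autoImplicit false

namespace Cfsg.Agent.Lib.Helper22.MonGL

open Matrix Cfsg.Agent.Lib.Helper18.Mon

variable {F : Type*} [Field F] {m : ℕ}

/-- rank-one perturbation of the identity -/
def T (v ψ : Fin m → F) : Matrix (Fin m) (Fin m) F := 1 + vecMulVec v ψ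

theorem T_apply (v ψ : Fin m → F) (r c : Fin m) :
    T v ψ r c = (if r = c then 1 else 0) + v r * ψ c := by
  simp [T, Matrix.one_apply, vecMulVec_apply]

theorem T_mul (v ψ v' ψ' : Fin m → F) :
    T v ψ * T v' ψ' =
      1 + vecMulVec v ψ + vecMulVec v' ψ' + (ψ ⬝ᵥ v') • vecMulVec v ψ' := by
  unfold T
  rw [Matrix.add_mul, Matrix.mul_add, Matrix.mul_add, Matrix.one_mul, Matrix.one_mul,
    Matrix.mul_one, vecMulVec_mul_vecMulVec, vecMulVec_smul]
  abel

theorem T_mul_apply (v ψ v' ψ' : Fin m → F) (r c : Fin m) :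
    (T v ψ * T v' ψ') r c =
      (if r = c then 1 else 0) + v r * ψ c + v' r * ψ' c + (ψ ⬝ᵥ v') * (v r * ψ' c) := by
  rw [T_mul]
  simp [Matrix.one_apply, vecMulVec_apply]

theorem diag_T_diag (d d' : Fin m → F) (hdd : ∀ r, d r * d' r = 1) (v ψ : Fin m → F) :
    diagonal d * T v ψ * diagonal d' = T (fun r => d r * v r) (fun c => ψ c * d' c) := by
  ext r c
  rw [Matrix.mul_diagonal, Matrix.diagonal_mul, T_apply, T_apply]
  by_cases h : r = c
  · subst h
    simp only [if_true]
    linear_combination (hdd r)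
  · simp only [if_neg h]
    ring

theorem diag_update (j : Fin m) (a : F) :
    (diagonal (Function.update (1 : Fin m → F) j a) : Matrix (Fin m) (Fin m) F) =
      1 + (a - 1) • vecMulVec (Pi.single j 1) (Pi.single j 1) := by
  ext r c
  simp only [Matrix.add_apply, Matrix.smul_apply, vecMulVec_apply, smul_eq_mul, Matrix.one_apply,
    Matrix.diagonal_apply, Pi.single_apply]
  by_cases hrc : r = c
  · subst hrc
    by_cases hrj : r = j
    · subst hrj; simp
    · simp [hrj]
  · by_cases hrj : r = j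
    · have : c ≠ j := fun h => hrc (hrj.trans h.symm)
      simp [hrc, this]
    · simp [hrc, hrj]

theorem conj_diag_update (A B : Matrix (Fin m) (Fin m) F) (hAB : A * B = 1) (j : Fin m) (a : F) :
    A * diagonal (Function.update (1 : Fin m → F) j a) * B =
      T (fun r => A r j) ((a - 1) • fun c => B j c) := by
  rw [diag_update, Matrix.mul_add, Matrix.add_mul, Matrix.mul_one, hAB, Matrix.mul_smul,
    Matrix.smul_mul, mul_vecMulVec, vecMulVec_mul, mulVec_single_one, single_one_vecMul, T,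
    vecMulVec_smul]
  rfl

theorem upd_ne (j : Fin m) (a : F) (ha : a ≠ 0) (i : Fin m) :
    Function.update (1 : Fin m → F) j a i ≠ 0 := by
  by_cases h : i = j
  · subst h; simpa using ha
  · rw [Function.update_of_ne h]; exact one_ne_zero

theorem upd_of_ne (j : Fin m) (a : F) {r : Fin m} (h : r ≠ j) :
    Function.update (1 : Fin m → F) j a r = 1 := by
  rw [Function.update_of_ne h]; rfl

theorem upd_mul_upd (j : Fin m) (a b : F) (hab : a * b = 1) (r : Fin m) :
    Function.update (1 : Fin m → F) j a r * Function.update (1 : Fin m → F) j b r = 1 := by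
  by_cases h : r = j
  · subst h; simpa using hab
  · rw [Function.update_of_ne h, Function.update_of_ne h]; simp

/-! ### membership of matrices in `X` -/

/-- the matrix `A` is (the matrix of) an element of `X` -/
def InX (X : Subgroup (GL (Fin m) F)) (A : Matrix (Fin m) (Fin m) F) : Prop :=
  ∃ g ∈ X, (g : Matrix (Fin m) (Fin m) F) = A

theorem InX.mul {X : Subgroup (GL (Fin m) F)} {A B : Matrix (Fin m) (Fin m) F} (hA : InX X A)
    (hB : InX X B) : InX X (A * B) := by
  obtain ⟨g, hg, rfl⟩ := hA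
  obtain ⟨h, hh, rfl⟩ := hB
  exact ⟨g * h, X.mul_mem hg hh, by rw [Units.val_mul]⟩

theorem InX.of_mul_eq_one {X : Subgroup (GL (Fin m) F)} {A B : Matrix (Fin m) (Fin m) F}
    (hA : InX X A) (h : A * B = 1) : InX X B := by
  obtain ⟨g, hg, rfl⟩ := hA
  exact ⟨g⁻¹, X.inv_mem hg, Units.inv_eq_of_mul_eq_one_right h⟩

theorem InX.of_mem {X : Subgroup (GL (Fin m) F)} {g : GL (Fin m) F} (hg : g ∈ X) :
    InX X (g : Matrix (Fin m) (Fin m) F) := ⟨g, hg, rfl⟩

theorem InX.diag {X : Subgroup (GL (Fin m) F)}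
    (hX : ∀ g : GL (Fin m) F, IsMono (g : Matrix (Fin m) (Fin m) F) → g ∈ X)
    (d : Fin m → F) (hd : ∀ i, d i ≠ 0) : InX X (diagonal d) :=
  ⟨dg d hd, hX _ (isMono_dg d hd), dg_val d hd⟩

/-- `X` contains no elementary transvection -/
def NoTv (X : Subgroup (GL (Fin m) F)) : Prop :=
  ∀ (j k : Fin m) (c : F) (t : GL (Fin m) F), j ≠ k → c ≠ 0 → t ∈ X →
    (t : Matrix (Fin m) (Fin m) F) ≠ 1 + Matrix.single j k c

theorem NoTv.not_inX {X : Subgroup (GL (Fin m) F)} (hno : NoTv X) (j k : Fin m) (c : F)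
    (hjk : j ≠ k) (hc : c ≠ 0) : ¬ InX X (1 + Matrix.single j k c) := by
  rintro ⟨t, ht, htv⟩
  exact hno j k c t hjk hc ht htv

/-! ### the elements `h(a)` -/

theorem val_inv_mul_val (g : GL (Fin m) F) :
    ((g⁻¹ : GL (Fin m) F) : Matrix (Fin m) (Fin m) F) * (g : Matrix (Fin m) (Fin m) F) = 1 := by
  rw [← Units.val_mul, inv_mul_cancel, Units.val_one]

theorem val_mul_val_inv (g : GL (Fin m) F) :
    (g : Matrix (Fin m) (Fin m) F) * ((g⁻¹ : GL (Fin m) F) : Matrix (Fin m) (Fin m) F) = 1 := by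
  rw [← Units.val_mul, mul_inv_cancel, Units.val_one]

theorem row_dot_col (g : GL (Fin m) F) (j : Fin m) :
    (fun c => ((g⁻¹ : GL (Fin m) F) : Matrix (Fin m) (Fin m) F) j c) ⬝ᵥ
      (fun r => (g : Matrix (Fin m) (Fin m) F) r j) = 1 := by
  have h := congrFun (congrFun (val_inv_mul_val g) j) j
  rw [Matrix.mul_apply, Matrix.one_apply_eq] at h
  exact h

/-- `g d_j(a) g⁻¹ = 1 + (a-1) v φᵀ ∈ X` for `g ∈ X`, `a b = 1` -/
theorem inX_h {X : Subgroup (GL (Fin m) F)}
    (hX : ∀ g : GL (Fin m) F, IsMono (g : Matrix (Fin m) (Fin m) F) → g ∈ X)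
    (g : GL (Fin m) F) (hg : g ∈ X) (j : Fin m) (a b : F) (hab : a * b = 1) :
    InX X (T (fun r => (g : Matrix (Fin m) (Fin m) F) r j)
      ((a - 1) • fun c => ((g⁻¹ : GL (Fin m) F) : Matrix (Fin m) (Fin m) F) j c)) := by
  have ha : a ≠ 0 := left_ne_zero_of_mul_eq_one hab
  have h1 := ((InX.of_mem hg).mul (InX.diag hX _ (upd_ne j a ha))).mul
    (InX.of_mem (X.inv_mem hg))
  rwa [conj_diag_update _ _ (val_mul_val_inv g)] at h1

/-- `h(a) h(b) = 1` if `a b = 1` -/
theorem T_flag_mul (v φ : Fin m → F) (hφv : φ ⬝ᵥ v = 1) (a b : F) (hab : a * b = 1) :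
    T v ((a - 1) • φ) * T v ((b - 1) • φ) = 1 := by
  ext r c
  rw [T_mul_apply, smul_dotProduct, hφv, Matrix.one_apply]
  simp only [Pi.smul_apply, smul_eq_mul]
  linear_combination (v r * φ c) * hab

/-! ### (i): supports -/

theorem supp_aux {X : Subgroup (GL (Fin m) F)}
    (hX : ∀ g : GL (Fin m) F, IsMono (g : Matrix (Fin m) (Fin m) F) → g ∈ X) (hno : NoTv X)
    (a b : F) (hab : a * b = 1) (ha1 : a ≠ 1) (g : GL (Fin m) F) (hg : g ∈ X) (i j : Fin m)
    (h0 : (g : Matrix (Fin m) (Fin m) F) i j = 0) :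
    ((g⁻¹ : GL (Fin m) F) : Matrix (Fin m) (Fin m) F) j i = 0 := by
  by_contra hφi
  obtain ⟨v, hv⟩ : ∃ v : Fin m → F, v = fun r => (g : Matrix (Fin m) (Fin m) F) r j := ⟨_, rfl⟩
  obtain ⟨φ, hφ⟩ : ∃ φ : Fin m → F,
      φ = fun c => ((g⁻¹ : GL (Fin m) F) : Matrix (Fin m) (Fin m) F) j c := ⟨_, rfl⟩
  have hφv : φ ⬝ᵥ v = 1 := by rw [hv, hφ]; exact row_dot_col g j
  have ha : a ≠ 0 := left_ne_zero_of_mul_eq_one hab
  have hb : b ≠ 0 := right_ne_zero_of_mul_eq_one hab
  have hba : b * a = 1 := by rw [mul_comm]; exact hab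
  have hb1 : b ≠ 1 := by
    rintro rfl
    exact ha1 (by simpa using hab)
  have hvi : v i = 0 := by rw [hv]; exact h0
  have hφi' : φ i ≠ 0 := by rw [hφ]; exact hφi
  have hA : ∀ a b : F, a * b = 1 → InX X (T v ((a - 1) • φ)) := by
    intro a b hab
    rw [hv, hφ]
    exact inX_h hX g hg j a b hab
  -- E := h(a) * (d_i(a) h(b) d_i(b))
  have hE : InX X (T v (Pi.single i ((a - 1) * (1 - b) * φ i))) := by
    have h1 := (hA a b hab).mul
      (((InX.diag hX _ (upd_ne i a ha)).mul (hA b a hba)).mul (InX.diag hX _ (upd_ne i b hb)))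
    rw [diag_T_diag _ _ (upd_mul_upd i a b hab)] at h1
    have hdv : (fun r => Function.update (1 : Fin m → F) i a r * v r) = v := by
      funext r
      by_cases h : r = i
      · subst h; rw [hvi, mul_zero]
      · rw [upd_of_ne _ _ h, one_mul]
    rw [hdv] at h1
    convert h1 using 1
    ext r c
    rw [T_apply, T_mul_apply, smul_dotProduct, hφv]
    simp only [Pi.smul_apply, smul_eq_mul, Pi.single_apply]
    by_cases hc : c = i
    · subst hc
      simp only [if_true, Function.update_self]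
      linear_combination (-(v r * φ c * b)) * hab
    · simp only [if_neg hc, upd_of_ne _ _ hc]
      linear_combination (-(v r * φ c)) * hab
  obtain ⟨c₀, hc₀⟩ : ∃ c₀ : F, c₀ = (a - 1) * (1 - b) * φ i := ⟨_, rfl⟩
  rw [← hc₀] at hE
  have hc₀0 : c₀ ≠ 0 := by
    rw [hc₀]
    exact mul_ne_zero (mul_ne_zero (sub_ne_zero.mpr ha1) (sub_ne_zero.mpr (Ne.symm hb1))) hφi'
  have hE' : InX X (T (-v) (Pi.single i c₀)) := by
    apply hE.of_mul_eq_one
    ext r c
    rw [T_mul_apply, single_dotProduct, Matrix.one_apply]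
    simp only [Pi.neg_apply, hvi]
    ring
  obtain ⟨l, hl⟩ : ∃ l, v l ≠ 0 := by
    by_contra hcon
    push Not at hcon
    have : φ ⬝ᵥ v = 0 := by simp [dotProduct, hcon]
    rw [hφv] at this
    exact one_ne_zero this
  have hli : l ≠ i := by
    rintro rfl
    exact hl hvi
  have hE2 : InX X (T (fun r => Function.update (1 : Fin m → F) l a r * v r) (Pi.single i c₀)) := by
    have h2 := ((InX.diag hX _ (upd_ne l a ha)).mul hE).mul (InX.diag hX _ (upd_ne l b hb))
    rw [diag_T_diag _ _ (upd_mul_upd l a b hab)] at h2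
    convert h2 using 2
    funext c
    by_cases hc : c = i
    · subst hc
      rw [upd_of_ne _ _ (Ne.symm hli), mul_one]
    · rw [Pi.single_apply, if_neg hc, zero_mul]
  have hfin := hE'.mul hE2
  have hval : T (-v) (Pi.single i c₀) *
      T (fun r => Function.update (1 : Fin m → F) l a r * v r) (Pi.single i c₀) =
      1 + Matrix.single l i ((a - 1) * v l * c₀) := by
    ext r c
    rw [T_mul_apply, single_dotProduct, upd_of_ne _ _ (Ne.symm hli), hvi,
      Matrix.add_apply, Matrix.one_apply, Matrix.single_apply]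
    simp only [Pi.neg_apply, Pi.single_apply]
    by_cases hr : r = l
    · subst hr
      by_cases hc : c = i
      · subst hc
        simp only [Function.update_self, if_true, and_self]
        ring
      · have h1 : ¬ (i = c) := fun h => hc h.symm
        simp only [if_neg hc, h1, and_false, if_false]
        ring
    · have h1 : ¬ (l = r) := fun h => hr h.symm
      simp only [upd_of_ne _ _ hr, h1, false_and, if_false]
      ring
  rw [hval] at hfin
  exact hno.not_inX l i _ hli (mul_ne_zero (mul_ne_zero (sub_ne_zero.mpr ha1) hl) hc₀0) hfin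

/-- **(i)** for every `g ∈ X`: `g i j = 0 ↔ g⁻¹ j i = 0` -/
theorem supp_iff {X : Subgroup (GL (Fin m) F)}
    (hX : ∀ g : GL (Fin m) F, IsMono (g : Matrix (Fin m) (Fin m) F) → g ∈ X) (hno : NoTv X)
    (a b : F) (hab : a * b = 1) (ha1 : a ≠ 1) (g : GL (Fin m) F) (hg : g ∈ X) (i j : Fin m) :
    (g : Matrix (Fin m) (Fin m) F) i j = 0 ↔
      ((g⁻¹ : GL (Fin m) F) : Matrix (Fin m) (Fin m) F) j i = 0 := by
  constructor
  · exact supp_aux hX hno a b hab ha1 g hg i j
  · intro h
    have := supp_aux hX hno a b hab ha1 g⁻¹ (X.inv_mem hg) j i h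
    rwa [inv_inv] at this

end Cfsg.Agent.Lib.Helper22.MonGL
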