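import Mathlib
import Cfsg.Agent.Lib.Helper22.MonGLa

/-!
# MonMax FO-GL, part b: the `z`-value criteria (ii), (iii) and the case `|F| ≥ 7`
-/

set_option autoImplicit false

namespace Cfsg.Agent.Lib.Helper22.MonGL

open Matrix Cfsg.Agent.Lib.Helper18.Mon

variable {F : Type*} [Field F] {m : ℕ}

/-- the standing hypotheses: `X` contains all monomial matrices, no elementary transvection, and the
field has an element `≠ 0, 1` -/
structure Hyp (X : Subgroup (GL (Fin m) F)) : Prop where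
  mono : ∀ g : GL (Fin m) F, IsMono (g : Matrix (Fin m) (Fin m) F) → g ∈ X
  noTv : NoTv X
  ex : ∃ a b : F, a * b = 1 ∧ a ≠ 1

theorem Hyp.supp {X : Subgroup (GL (Fin m) F)} (H : Hyp X) (g : GL (Fin m) F) (hg : g ∈ X)
    (i j : Fin m) :
    (g : Matrix (Fin m) (Fin m) F) i j = 0 ↔
      ((g⁻¹ : GL (Fin m) F) : Matrix (Fin m) (Fin m) F) j i = 0 := by
  obtain ⟨a, b, hab, ha1⟩ := H.ex
  exact supp_iff H.mono H.noTv a b hab ha1 g hg i j

/-- the element `h(a) = g d_j(a) g⁻¹` with its entries and the entries of its inverse -/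
theorem Hyp.exists_h {X : Subgroup (GL (Fin m) F)} (H : Hyp X) (g : GL (Fin m) F) (hg : g ∈ X)
    (j : Fin m) (a b : F) (hab : a * b = 1) :
    ∃ h ∈ X,
      (∀ r c, (h : Matrix (Fin m) (Fin m) F) r c = (if r = c then 1 else 0) +
        (g : Matrix (Fin m) (Fin m) F) r j *
          ((a - 1) * ((g⁻¹ : GL (Fin m) F) : Matrix (Fin m) (Fin m) F) j c)) ∧
      (∀ r c, ((h⁻¹ : GL (Fin m) F) : Matrix (Fin m) (Fin m) F) r c = (if r = c then 1 else 0) +
        (g : Matrix (Fin m) (Fin m) F) r j *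
          ((b - 1) * ((g⁻¹ : GL (Fin m) F) : Matrix (Fin m) (Fin m) F) j c)) := by
  obtain ⟨h, hh, hval⟩ := inX_h H.mono g hg j a b hab
  have hinv : ((h⁻¹ : GL (Fin m) F) : Matrix (Fin m) (Fin m) F) =
      T (fun r => (g : Matrix (Fin m) (Fin m) F) r j)
        ((b - 1) • fun c => ((g⁻¹ : GL (Fin m) F) : Matrix (Fin m) (Fin m) F) j c) := by
    apply Units.inv_eq_of_mul_eq_one_right
    rw [hval]
    exact T_flag_mul _ _ (row_dot_col g j) a b hab
  refine ⟨h, hh, ?_, ?_⟩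
  · intro r c
    rw [hval, T_apply]
    rfl
  · intro r c
    rw [hinv, T_apply]
    rfl

/-- **(ii)** `z = g i j * g⁻¹ j i ∈ {0, 1/2, 1}` -/
theorem Hyp.z_cases {X : Subgroup (GL (Fin m) F)} (H : Hyp X) (g : GL (Fin m) F) (hg : g ∈ X)
    (i j : Fin m) :
    (g : Matrix (Fin m) (Fin m) F) i j * ((g⁻¹ : GL (Fin m) F) : Matrix (Fin m) (Fin m) F) j i = 0 ∨
    2 * ((g : Matrix (Fin m) (Fin m) F) i j *
      ((g⁻¹ : GL (Fin m) F) : Matrix (Fin m) (Fin m) F) j i) = 1 ∨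
    (g : Matrix (Fin m) (Fin m) F) i j * ((g⁻¹ : GL (Fin m) F) : Matrix (Fin m) (Fin m) F) j i = 1 := by
  obtain ⟨z, hz⟩ : ∃ z : F, z = (g : Matrix (Fin m) (Fin m) F) i j *
      ((g⁻¹ : GL (Fin m) F) : Matrix (Fin m) (Fin m) F) j i := ⟨_, rfl⟩
  rw [← hz]
  by_contra hcon
  push Not at hcon
  obtain ⟨hz0, hz2, hz1⟩ := hcon
  have hz1' : z - 1 ≠ 0 := sub_ne_zero.mpr hz1
  have hab : (1 - z⁻¹) * (1 + (z - 1)⁻¹) = 1 := by
    field_simp
    ring
  obtain ⟨h, hh, hval, hinv⟩ := H.exists_h g hg j _ _ hab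
  have h1 : (h : Matrix (Fin m) (Fin m) F) i i = 0 := by
    rw [hval, if_pos rfl]
    have : (g : Matrix (Fin m) (Fin m) F) i j * ((1 - z⁻¹ - 1) *
        ((g⁻¹ : GL (Fin m) F) : Matrix (Fin m) (Fin m) F) j i) = (1 - z⁻¹ - 1) * z := by
      rw [hz]; ring
    rw [this]
    field_simp
    ring
  have h2 := (H.supp h hh i i).mp h1
  rw [hinv, if_pos rfl] at h2
  have : (g : Matrix (Fin m) (Fin m) F) i j * ((1 + (z - 1)⁻¹ - 1) *
      ((g⁻¹ : GL (Fin m) F) : Matrix (Fin m) (Fin m) F) j i) = (1 + (z - 1)⁻¹ - 1) * z := by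
    rw [hz]; ring
  rw [this] at h2
  apply hz2
  field_simp at h2
  linear_combination h2

/-- **(iii)** the `z`-values of `h(a)` off the diagonal -/
theorem Hyp.z_pair {X : Subgroup (GL (Fin m) F)} (H : Hyp X) (g : GL (Fin m) F) (hg : g ∈ X)
    (j i l : Fin m) (hil : i ≠ l) (a b : F) (hab : a * b = 1) (z' : F)
    (hz' : z' = (a - 1) * (b - 1) *
      ((g : Matrix (Fin m) (Fin m) F) i j * ((g⁻¹ : GL (Fin m) F) : Matrix (Fin m) (Fin m) F) j i) *
      ((g : Matrix (Fin m) (Fin m) F) l j * ((g⁻¹ : GL (Fin m) F) : Matrix (Fin m) (Fin m) F) j l)) :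
    z' = 0 ∨ 2 * z' = 1 ∨ z' = 1 := by
  obtain ⟨h, hh, hval, hinv⟩ := H.exists_h g hg j a b hab
  have key := H.z_cases h hh l i
  have e : (h : Matrix (Fin m) (Fin m) F) l i *
      ((h⁻¹ : GL (Fin m) F) : Matrix (Fin m) (Fin m) F) i l = z' := by
    rw [hval, hinv, if_neg (Ne.symm hil), if_neg hil, hz']
    ring
  rwa [e] at key

/-! ### root counting: the case `|F| ≥ 7` -/

open Polynomial in
theorem exists_bad_param [Fintype F] (hq : 7 ≤ Fintype.card F) (w : F) (hw : w ≠ 0) :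
    ∃ a b : F, a * b = 1 ∧ ¬ ((a - 1) * (b - 1) * w = 0 ∨ 2 * ((a - 1) * (b - 1) * w) = 1 ∨
      (a - 1) * (b - 1) * w = 1) := by
  classical
  by_contra hcon
  push Not at hcon
  obtain ⟨p, hp⟩ : ∃ p : F[X],
      p = (C (2 * w) * (X - C 1) ^ 2 + X) * (C w * (X - C 1) ^ 2 + X) := ⟨_, rfl⟩
  have hp0 : p ≠ 0 := by
    intro h
    have h1 := congrArg (Polynomial.eval 1) h
    rw [hp] at h1
    simp at h1
  have hdeg : p.natDegree ≤ 4 := by
    rw [hp]
    compute_degree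
  have hroot : ∀ a : F, a ≠ 0 → a ≠ 1 → p.IsRoot a := by
    intro a ha0 ha1
    have hab : a * a⁻¹ = 1 := mul_inv_cancel₀ ha0
    have hmul : a * (a⁻¹ - 1) = 1 - a := by rw [mul_sub, hab, mul_one]
    rw [Polynomial.IsRoot.def, hp]
    simp only [eval_mul, eval_add, eval_C, eval_pow, eval_sub, eval_X]
    rcases hcon a a⁻¹ hab with h | h | h
    · exfalso
      have h1 : a - 1 ≠ 0 := sub_ne_zero.mpr ha1
      have h2 : a⁻¹ - 1 ≠ 0 := by
        intro h3
        apply ha1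
        have h4 := sub_eq_zero.mp h3
        rwa [inv_eq_one] at h4
      exact mul_ne_zero (mul_ne_zero h1 h2) hw h
    · have : 2 * w * (a - 1) ^ 2 + a = 0 := by
        linear_combination (-a) * h + (2 * w * (a - 1)) * hmul
      rw [this, zero_mul]
    · have : w * (a - 1) ^ 2 + a = 0 := by
        linear_combination (-a) * h + (w * (a - 1)) * hmul
      rw [this, mul_zero]
  have hS : ((Finset.univ.erase (0 : F)).erase 1).val ⊆ p.roots := by
    intro a ha
    rw [Finset.mem_val, Finset.mem_erase, Finset.mem_erase] at ha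
    exact (Polynomial.mem_roots hp0).mpr (hroot a ha.2.1 ha.1)
  have hcard := Polynomial.card_le_degree_of_subset_roots hS
  have h01 : (1 : F) ∈ Finset.univ.erase (0 : F) :=
    Finset.mem_erase.mpr ⟨one_ne_zero, Finset.mem_univ _⟩
  rw [Finset.card_erase_of_mem h01, Finset.card_erase_of_mem (Finset.mem_univ _),
    Finset.card_univ] at hcard
  omega

/-- for `|F| ≥ 7` every element of `X` is monomial -/
theorem Hyp.mono_of_big [Fintype F] (hq : 7 ≤ Fintype.card F) (hm : 0 < m)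
    {X : Subgroup (GL (Fin m) F)} (H : Hyp X) (g : GL (Fin m) F) (hg : g ∈ X) :
    IsMono (g : Matrix (Fin m) (Fin m) F) := by
  apply isMono_of_colSparse
  intro c
  by_cases hz : ∀ r, (g : Matrix (Fin m) (Fin m) F) r c = 0
  · exact ⟨⟨0, hm⟩, fun l _ => hz l⟩
  · push Not at hz
    obtain ⟨i, hi⟩ := hz
    refine ⟨i, fun l hl => ?_⟩
    by_contra hlc
    have hφi : ((g⁻¹ : GL (Fin m) F) : Matrix (Fin m) (Fin m) F) c i ≠ 0 :=
      fun h => hi ((H.supp g hg i c).mpr h)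
    have hφl : ((g⁻¹ : GL (Fin m) F) : Matrix (Fin m) (Fin m) F) c l ≠ 0 :=
      fun h => hlc ((H.supp g hg l c).mpr h)
    obtain ⟨a, b, hab, hbad⟩ := exists_bad_param hq
      (((g : Matrix (Fin m) (Fin m) F) i c * ((g⁻¹ : GL (Fin m) F) : Matrix (Fin m) (Fin m) F) c i) *
        ((g : Matrix (Fin m) (Fin m) F) l c * ((g⁻¹ : GL (Fin m) F) : Matrix (Fin m) (Fin m) F) c l))
      (mul_ne_zero (mul_ne_zero hi hφi) (mul_ne_zero hlc hφl))
    exact hbad (H.z_pair g hg c i l (Ne.symm hl) a b hab _ (by ring))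

end Cfsg.Agent.Lib.Helper22.MonGL
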