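import Mathlib
import Cfsg.Agent.Lib.Helper22.MonGLb

/-!
# MonMax FO-GL, part c: the case `|F| = 5` and the final statement
-/

set_option autoImplicit false

namespace Cfsg.Agent.Lib.Helper22.MonGL

open Matrix Cfsg.Agent.Lib.Helper18.Mon

variable {F : Type*} [Field F] {m : ℕ}

theorem two_ne_zero_of_five (h5 : (5 : F) = 0) : (2 : F) ≠ 0 := by
  intro h
  exact one_ne_zero (by linear_combination h5 - 2 * h : (1 : F) = 0)

theorem three_ne_zero_of_five (h5 : (5 : F) = 0) : (3 : F) ≠ 0 := by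
  intro h
  exact one_ne_zero (by linear_combination 2 * h - h5 : (1 : F) = 0)

theorem four_ne_zero_of_five (h5 : (5 : F) = 0) : (4 : F) ≠ 0 := by
  intro h
  exact one_ne_zero (by linear_combination h5 - h : (1 : F) = 0)

/-- in characteristic `5`: two nonzero entries in a column have `z`-values `1/2 = 3` -/
theorem Hyp.z_half {X : Subgroup (GL (Fin m) F)} (H : Hyp X) (h5 : (5 : F) = 0)
    (g : GL (Fin m) F) (hg : g ∈ X) (j i l : Fin m) (hil : i ≠ l)
    (hi : (g : Matrix (Fin m) (Fin m) F) i j ≠ 0) (hl : (g : Matrix (Fin m) (Fin m) F) l j ≠ 0) :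
    (g : Matrix (Fin m) (Fin m) F) i j * ((g⁻¹ : GL (Fin m) F) : Matrix (Fin m) (Fin m) F) j i = 3 ∧
    (g : Matrix (Fin m) (Fin m) F) l j * ((g⁻¹ : GL (Fin m) F) : Matrix (Fin m) (Fin m) F) j l = 3 := by
  have hφi : ((g⁻¹ : GL (Fin m) F) : Matrix (Fin m) (Fin m) F) j i ≠ 0 :=
    fun h => hi ((H.supp g hg i j).mpr h)
  have hφl : ((g⁻¹ : GL (Fin m) F) : Matrix (Fin m) (Fin m) F) j l ≠ 0 :=
    fun h => hl ((H.supp g hg l j).mpr h)
  obtain ⟨zi, hzi⟩ : ∃ zi : F, zi = (g : Matrix (Fin m) (Fin m) F) i j *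
      ((g⁻¹ : GL (Fin m) F) : Matrix (Fin m) (Fin m) F) j i := ⟨_, rfl⟩
  obtain ⟨zl, hzl⟩ : ∃ zl : F, zl = (g : Matrix (Fin m) (Fin m) F) l j *
      ((g⁻¹ : GL (Fin m) F) : Matrix (Fin m) (Fin m) F) j l := ⟨_, rfl⟩
  have hzi0 : zi ≠ 0 := by rw [hzi]; exact mul_ne_zero hi hφi
  have hzl0 : zl ≠ 0 := by rw [hzl]; exact mul_ne_zero hl hφl
  have ci : zi = 3 ∨ zi = 1 := by
    have := H.z_cases g hg i j
    rw [← hzi] at this
    rcases this with h | h | h
    · exact absurd h hzi0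
    · left; linear_combination 3 * h - zi * h5
    · right; exact h
  have cl : zl = 3 ∨ zl = 1 := by
    have := H.z_cases g hg l j
    rw [← hzl] at this
    rcases this with h | h | h
    · exact absurd h hzl0
    · left; linear_combination 3 * h - zl * h5
    · right; exact h
  have hw0 : zi * zl ≠ 0 := mul_ne_zero hzi0 hzl0
  -- the two constraints
  have c1 := H.z_pair g hg j i l hil 2 3 (by linear_combination h5) (2 * (zi * zl))
    (by rw [hzi, hzl]; ring)
  have c2 := H.z_pair g hg j i l hil 4 4 (by linear_combination 3 * h5) (9 * (zi * zl))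
    (by rw [hzi, hzl]; ring)
  have hw : zi * zl = 4 := by
    have e1 : zi * zl = 4 ∨ zi * zl = 3 := by
      rcases c1 with h | h | h
      · exact absurd h (mul_ne_zero (two_ne_zero_of_five h5) hw0)
      · left; linear_combination 4 * h - 3 * (zi * zl) * h5
      · right; linear_combination 3 * h - (zi * zl) * h5
    have e2 : zi * zl = 2 ∨ zi * zl = 4 := by
      rcases c2 with h | h | h
      · exfalso
        have : 4 * (zi * zl) = 0 := by linear_combination h - (zi * zl) * h5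
        exact mul_ne_zero (four_ne_zero_of_five h5) hw0 this
      · left; linear_combination 2 * h - 7 * (zi * zl) * h5
      · right; linear_combination 4 * h - 7 * (zi * zl) * h5
    rcases e1 with e1 | e1
    · exact e1
    · rcases e2 with e2 | e2
      · exfalso
        exact one_ne_zero (by linear_combination e2 - e1 : (1 : F) = 0)
      · exact e2
  rw [← hzi, ← hzl]
  rcases ci with ci | ci <;> rcases cl with cl | cl
  · exact ⟨ci, cl⟩
  · exfalso
    rw [ci, cl] at hw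
    exact one_ne_zero (by linear_combination (-1 : F) * hw : (1 : F) = 0)
  · exfalso
    rw [ci, cl] at hw
    exact one_ne_zero (by linear_combination (-1 : F) * hw : (1 : F) = 0)
  · exfalso
    rw [ci, cl] at hw
    exact one_ne_zero (by linear_combination (-2 : F) * hw - h5 : (1 : F) = 0)

/-- in characteristic `5`: no column of an element of `X` has three nonzero entries -/
theorem Hyp.three_false {X : Subgroup (GL (Fin m) F)} (H : Hyp X) (h5 : (5 : F) = 0)
    (g : GL (Fin m) F) (hg : g ∈ X) (j i l k : Fin m) (hil : i ≠ l) (hik : i ≠ k) (hlk : l ≠ k)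
    (hi : (g : Matrix (Fin m) (Fin m) F) i j ≠ 0) (hl : (g : Matrix (Fin m) (Fin m) F) l j ≠ 0)
    (hk : (g : Matrix (Fin m) (Fin m) F) k j ≠ 0) : False := by
  have hφi : ((g⁻¹ : GL (Fin m) F) : Matrix (Fin m) (Fin m) F) j i ≠ 0 :=
    fun h => hi ((H.supp g hg i j).mpr h)
  obtain ⟨hzi, hzl⟩ := H.z_half h5 g hg j i l hil hi hl
  obtain ⟨h, hh, hval, hinv⟩ := H.exists_h g hg j (-1) (-1) (by ring)
  have h2 : ((-1 : F) - 1) ≠ 0 := by
    intro h0
    exact two_ne_zero_of_five h5 (by linear_combination (-1 : F) * h0)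
  have hli : (h : Matrix (Fin m) (Fin m) F) l i ≠ 0 := by
    rw [hval, if_neg (Ne.symm hil), zero_add]
    exact mul_ne_zero hl (mul_ne_zero h2 hφi)
  have hki : (h : Matrix (Fin m) (Fin m) F) k i ≠ 0 := by
    rw [hval, if_neg (Ne.symm hik), zero_add]
    exact mul_ne_zero hk (mul_ne_zero h2 hφi)
  obtain ⟨e1, -⟩ := H.z_half h5 h hh i l k hlk hli hki
  rw [hval, hinv, if_neg (Ne.symm hil), if_neg hil] at e1
  have e2 : (4 : F) * ((g : Matrix (Fin m) (Fin m) F) i j *
      ((g⁻¹ : GL (Fin m) F) : Matrix (Fin m) (Fin m) F) j i) *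
      ((g : Matrix (Fin m) (Fin m) F) l j *
      ((g⁻¹ : GL (Fin m) F) : Matrix (Fin m) (Fin m) F) j l) = 3 := by
    linear_combination e1
  rw [hzi, mul_assoc, hzl] at e2
  exact one_ne_zero (by linear_combination (2 : F) * e2 - 13 * h5 : (1 : F) = 0)

theorem exists_third (hm : 3 ≤ m) (i j : Fin m) : ∃ k : Fin m, k ≠ i ∧ k ≠ j := by
  classical
  have hc : 0 < (Finset.univ \ ({i, j} : Finset (Fin m))).card := by
    have h1 : (Finset.univ \ ({i, j} : Finset (Fin m))).card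
        = m - ({i, j} : Finset (Fin m)).card := by
      rw [Finset.card_sdiff_of_subset (Finset.subset_univ _), Finset.card_univ, Fintype.card_fin]
    have h2 : ({i, j} : Finset (Fin m)).card ≤ 2 := Finset.card_le_two
    omega
  obtain ⟨k, hk⟩ := Finset.card_pos.mp hc
  simp only [Finset.mem_sdiff, Finset.mem_univ, Finset.mem_insert, Finset.mem_singleton,
    true_and, not_or] at hk
  exact ⟨k, hk.1, hk.2⟩

/-- for `|F| = 5` every element of `X` is monomial -/
theorem Hyp.mono_of_five (h5 : (5 : F) = 0) (hm : 3 ≤ m)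
    {X : Subgroup (GL (Fin m) F)} (H : Hyp X) (g : GL (Fin m) F) (hg : g ∈ X) :
    IsMono (g : Matrix (Fin m) (Fin m) F) := by
  apply isMono_of_colSparse
  intro j
  by_cases hz : ∀ r, (g : Matrix (Fin m) (Fin m) F) r j = 0
  · exact ⟨⟨0, by omega⟩, fun l _ => hz l⟩
  push Not at hz
  obtain ⟨i1, hi1⟩ := hz
  refine ⟨i1, fun i2 hne => ?_⟩
  by_contra hi2
  have h12 : i1 ≠ i2 := Ne.symm hne
  obtain ⟨i3, h31, h32⟩ := exists_third hm i1 i2
  -- the column is supported on {i1, i2}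
  have hsupp : ∀ r, r ≠ i1 → r ≠ i2 → (g : Matrix (Fin m) (Fin m) F) r j = 0 := by
    intro r hr1 hr2
    by_contra hr
    exact H.three_false h5 g hg j i1 i2 r h12 (Ne.symm hr1) (Ne.symm hr2) hi1 hi2 hr
  have hv3 : (g : Matrix (Fin m) (Fin m) F) i3 j = 0 := hsupp i3 h31 h32
  obtain ⟨hz1, hz2⟩ := H.z_half h5 g hg j i1 i2 h12 hi1 hi2
  have hφ1 : ((g⁻¹ : GL (Fin m) F) : Matrix (Fin m) (Fin m) F) j i1 ≠ 0 :=
    fun h => hi1 ((H.supp g hg i1 j).mpr h)
  -- the permuted element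
  obtain ⟨g', hg'def⟩ : ∃ g' : GL (Fin m) F, g' = pm (Equiv.swap i1 i3) * g := ⟨_, rfl⟩
  have hg' : g' ∈ X := by
    rw [hg'def]
    exact X.mul_mem (H.mono _ (isMono_pm _)) hg
  have hg'val : ∀ r, (g' : Matrix (Fin m) (Fin m) F) r j =
      (g : Matrix (Fin m) (Fin m) F) (Equiv.swap i1 i3 r) j := by
    intro r
    rw [hg'def, Units.val_mul, pm_val, pmM_mul_apply, Equiv.swap_inv]
  have hv'1 : (g' : Matrix (Fin m) (Fin m) F) i1 j = 0 := by
    rw [hg'val, Equiv.swap_apply_left]; exact hv3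
  have hv'3 : (g' : Matrix (Fin m) (Fin m) F) i3 j ≠ 0 := by
    rw [hg'val, Equiv.swap_apply_right]; exact hi1
  have hv'2e : (g' : Matrix (Fin m) (Fin m) F) i2 j = (g : Matrix (Fin m) (Fin m) F) i2 j := by
    rw [hg'val, Equiv.swap_apply_of_ne_of_ne (Ne.symm h12) (Ne.symm h32)]
  have hv'2 : (g' : Matrix (Fin m) (Fin m) F) i2 j ≠ 0 := by rw [hv'2e]; exact hi2
  have hφ'1 : ((g'⁻¹ : GL (Fin m) F) : Matrix (Fin m) (Fin m) F) j i1 = 0 :=
    (H.supp g' hg' i1 j).mp hv'1
  have hφ'2 : ((g'⁻¹ : GL (Fin m) F) : Matrix (Fin m) (Fin m) F) j i2 ≠ 0 :=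
    fun h => hv'2 ((H.supp g' hg' i2 j).mpr h)
  obtain ⟨hz'2, -⟩ := H.z_half h5 g' hg' j i2 i3 (Ne.symm h32) hv'2 hv'3
  -- the product
  have h23 : (2 : F) * 3 = 1 := by linear_combination h5
  have hM := (inX_h H.mono g' hg' j 2 3 h23).mul (inX_h H.mono g hg j 2 3 h23)
  obtain ⟨M, hMX, hMval⟩ := hM
  have hdot : (((2 : F) - 1) • fun c => ((g'⁻¹ : GL (Fin m) F) : Matrix (Fin m) (Fin m) F) j c) ⬝ᵥ
      (fun r => (g : Matrix (Fin m) (Fin m) F) r j) =
      ((g'⁻¹ : GL (Fin m) F) : Matrix (Fin m) (Fin m) F) j i2 *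
        (g : Matrix (Fin m) (Fin m) F) i2 j := by
    rw [smul_dotProduct, dotProduct, Finset.sum_eq_single i2]
    · simp only [smul_eq_mul]; ring
    · intro r _ hr
      by_cases hr1 : r = i1
      · rw [hr1, hφ'1, zero_mul]
      · rw [hsupp r hr1 hr, mul_zero]
    · intro h; exact absurd (Finset.mem_univ _) h
  have hMe : ∀ r, (M : Matrix (Fin m) (Fin m) F) r i1 = (if r = i1 then 1 else 0) +
      (g' : Matrix (Fin m) (Fin m) F) r j *
        (((2 : F) - 1) * ((g'⁻¹ : GL (Fin m) F) : Matrix (Fin m) (Fin m) F) j i1) +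
      (g : Matrix (Fin m) (Fin m) F) r j *
        (((2 : F) - 1) * ((g⁻¹ : GL (Fin m) F) : Matrix (Fin m) (Fin m) F) j i1) +
      (((g'⁻¹ : GL (Fin m) F) : Matrix (Fin m) (Fin m) F) j i2 *
        (g : Matrix (Fin m) (Fin m) F) i2 j) *
      ((g' : Matrix (Fin m) (Fin m) F) r j *
        (((2 : F) - 1) * ((g⁻¹ : GL (Fin m) F) : Matrix (Fin m) (Fin m) F) j i1)) := by
    intro r
    rw [hMval, T_mul_apply, hdot]
    rfl
  have hM1 : (M : Matrix (Fin m) (Fin m) F) i1 i1 ≠ 0 := by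
    rw [hMe, if_pos rfl, hv'1, hφ'1]
    have : (1 : F) + 0 * ((2 - 1) * 0) + (g : Matrix (Fin m) (Fin m) F) i1 j *
        ((2 - 1) * ((g⁻¹ : GL (Fin m) F) : Matrix (Fin m) (Fin m) F) j i1) +
        ((g'⁻¹ : GL (Fin m) F) : Matrix (Fin m) (Fin m) F) j i2 *
          (g : Matrix (Fin m) (Fin m) F) i2 j *
        (0 * ((2 - 1) * ((g⁻¹ : GL (Fin m) F) : Matrix (Fin m) (Fin m) F) j i1)) = 4 := by
      linear_combination hz1
    rw [this]
    exact four_ne_zero_of_five h5
  have hM2 : (M : Matrix (Fin m) (Fin m) F) i2 i1 ≠ 0 := by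
    rw [hMe, if_neg (Ne.symm h12), hφ'1]
    have : (0 : F) + (g' : Matrix (Fin m) (Fin m) F) i2 j * ((2 - 1) * 0) +
        (g : Matrix (Fin m) (Fin m) F) i2 j *
        ((2 - 1) * ((g⁻¹ : GL (Fin m) F) : Matrix (Fin m) (Fin m) F) j i1) +
        ((g'⁻¹ : GL (Fin m) F) : Matrix (Fin m) (Fin m) F) j i2 *
          (g : Matrix (Fin m) (Fin m) F) i2 j *
        ((g' : Matrix (Fin m) (Fin m) F) i2 j *
          ((2 - 1) * ((g⁻¹ : GL (Fin m) F) : Matrix (Fin m) (Fin m) F) j i1)) =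
        4 * ((g : Matrix (Fin m) (Fin m) F) i2 j *
          ((g⁻¹ : GL (Fin m) F) : Matrix (Fin m) (Fin m) F) j i1) := by
      linear_combination ((g : Matrix (Fin m) (Fin m) F) i2 j *
          ((g⁻¹ : GL (Fin m) F) : Matrix (Fin m) (Fin m) F) j i1) * hz'2
    rw [this]
    exact mul_ne_zero (four_ne_zero_of_five h5) (mul_ne_zero hi2 hφ1)
  have hM3 : (M : Matrix (Fin m) (Fin m) F) i3 i1 ≠ 0 := by
    rw [hMe, if_neg h31, hφ'1, hv3]
    have : (0 : F) + (g' : Matrix (Fin m) (Fin m) F) i3 j * ((2 - 1) * 0) +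
        0 * ((2 - 1) * ((g⁻¹ : GL (Fin m) F) : Matrix (Fin m) (Fin m) F) j i1) +
        ((g'⁻¹ : GL (Fin m) F) : Matrix (Fin m) (Fin m) F) j i2 *
          (g : Matrix (Fin m) (Fin m) F) i2 j *
        ((g' : Matrix (Fin m) (Fin m) F) i3 j *
          ((2 - 1) * ((g⁻¹ : GL (Fin m) F) : Matrix (Fin m) (Fin m) F) j i1)) =
        ((g'⁻¹ : GL (Fin m) F) : Matrix (Fin m) (Fin m) F) j i2 *
          (g : Matrix (Fin m) (Fin m) F) i2 j *
        ((g' : Matrix (Fin m) (Fin m) F) i3 j *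
          ((g⁻¹ : GL (Fin m) F) : Matrix (Fin m) (Fin m) F) j i1) := by
      ring
    rw [this]
    exact mul_ne_zero (mul_ne_zero hφ'2 hi2) (mul_ne_zero hv'3 hφ1)
  exact H.three_false h5 M hMX i1 i1 i2 i3 h12 (Ne.symm h31) (Ne.symm h32) hM1 hM2 hM3

/-- **FO-GL** (Borevich): a subgroup of `GL_m(F)`, `|F| ≥ 5`, containing all monomial matrices and a
non-monomial one contains an elementary transvection -/
theorem exists_elem_tv [Fintype F] (hm : 4 ≤ m) (hq : 5 ≤ Fintype.card F)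
    (X : Subgroup (GL (Fin m) F))
    (hX : ∀ g : GL (Fin m) F, IsMono (g : Matrix (Fin m) (Fin m) F) → g ∈ X)
    (g : GL (Fin m) F) (hgX : g ∈ X) (hg : ¬ IsMono (g : Matrix (Fin m) (Fin m) F)) :
    ∃ (j k : Fin m) (c : F) (t : GL (Fin m) F), j ≠ k ∧ c ≠ 0 ∧ t ∈ X ∧
      (t : Matrix (Fin m) (Fin m) F) = 1 + Matrix.single j k c := by
  classical
  by_contra hcon
  have hno : NoTv X := by
    intro j k c t hjk hc ht htv
    exact hcon ⟨j, k, c, t, hjk, hc, ht, htv⟩
  have hex : ∃ a b : F, a * b = 1 ∧ a ≠ 1 := by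
    have : ∃ a : F, a ≠ 0 ∧ a ≠ 1 := by
      by_contra hne
      push Not at hne
      have hsub : (Finset.univ : Finset F) ⊆ {0, 1} := by
        intro a _
        by_cases ha : a = 0
        · simp [ha]
        · simp [hne a ha]
      have h1 := Finset.card_le_card hsub
      have h2 : ({0, 1} : Finset F).card ≤ 2 := Finset.card_le_two
      rw [Finset.card_univ] at h1
      omega
    obtain ⟨a, ha0, ha1⟩ := this
    exact ⟨a, a⁻¹, mul_inv_cancel₀ ha0, ha1⟩
  have H : Hyp X := ⟨hX, hno, hex⟩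
  apply hg
  by_cases h7 : 7 ≤ Fintype.card F
  · exact H.mono_of_big h7 (by omega) g hgX
  · have hcard : Fintype.card F = 5 ∨ Fintype.card F = 6 := by omega
    obtain ⟨p, hchar⟩ := CharP.exists F
    obtain ⟨n, hp, hpn⟩ := FiniteField.card F p
    have hp5 : p = 5 := by
      rcases hcard with h | h
      · rw [h] at hpn
        have h5 : 5 ∣ p ^ (n : ℕ) := by rw [← hpn]
        exact ((Nat.prime_dvd_prime_iff_eq (by norm_num) hp).mp
          (Nat.Prime.dvd_of_dvd_pow (by norm_num) h5)).symm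
      · exfalso
        rw [h] at hpn
        have h2 : 2 ∣ p ^ (n : ℕ) := by rw [← hpn]; norm_num
        have h3 : 3 ∣ p ^ (n : ℕ) := by rw [← hpn]; norm_num
        have e2 := (Nat.prime_dvd_prime_iff_eq Nat.prime_two hp).mp
          (Nat.prime_two.dvd_of_dvd_pow h2)
        have e3 := (Nat.prime_dvd_prime_iff_eq Nat.prime_three hp).mp
          (Nat.prime_three.dvd_of_dvd_pow h3)
        omega
    subst hp5
    have h5 : (5 : F) = 0 := by
      have := CharP.cast_eq_zero F 5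
      exact_mod_cast this
    exact H.mono_of_five h5 (by omega) g hgX

end Cfsg.Agent.Lib.Helper22.MonGL
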