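import Mathlib
import Cfsg.Agent.Lib.Helper22.PElt
import Cfsg.Agent.Lib.Helper23.SylowCount
import Cfsg.Agent.Lib.Helper1.Cores
import Cfsg.Agent.Lib.Helper2.BurnsidePQ

/-!
# `p`-regular elements with `p`-power class size (helper22 library)

`PStar p G`: every `p'`-element of `G` has centralizer of `p`-power index.
Inheritance by normal subgroups and quotients, lifting of `p'`-elements.
-/

set_option autoImplicit false

namespace Cfsg.Agent.Lib.Helper22

open Subgroup

universe u

variable {G : Type u} [Group G]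

/-- every `p'`-element has centralizer of `p`-power index -/
def PStar (p : ℕ) (G : Type*) [Group G] : Prop :=
  ∀ x : G, (orderOf x).Coprime p → ∃ k : ℕ, (centralizer ({x} : Set G)).index = p ^ k

/-- every `p'`-element of a quotient lifts to a `p'`-element. -/
theorem exists_pPrimeElt_lift [Finite G] (p : ℕ) [hp : Fact p.Prime] (N : Subgroup G) [N.Normal]
    (y : G ⧸ N) (hy : (orderOf y).Coprime p) :
    ∃ g : G, (orderOf g).Coprime p ∧ (QuotientGroup.mk g : G ⧸ N) = y := by
  obtain ⟨g, rfl⟩ := QuotientGroup.mk_surjective y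
  obtain ⟨t, u, ht, hu, hg, ⟨k, hk⟩, hup⟩ := exists_p_decomp p g
  refine ⟨u, hup, ?_⟩
  have h1 : orderOf (QuotientGroup.mk t : G ⧸ N) ∣ p ^ k := by
    rw [← hk]; exact orderOf_map_dvd (QuotientGroup.mk' N) t
  have h2 : orderOf (QuotientGroup.mk t : G ⧸ N) ∣ orderOf (QuotientGroup.mk g : G ⧸ N) := by
    apply orderOf_dvd_of_mem_zpowers
    obtain ⟨z, hz⟩ := Subgroup.mem_zpowers_iff.mp ht
    rw [Subgroup.mem_zpowers_iff]
    exact ⟨z, by rw [← hz]; simp⟩
  have h3 : orderOf (QuotientGroup.mk t : G ⧸ N) = 1 := by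
    have hc : (orderOf (QuotientGroup.mk g : G ⧸ N)).Coprime (p ^ k) := Nat.Coprime.pow_right k hy
    exact Nat.eq_one_of_dvd_coprimes hc h2 h1
  have h4 : (QuotientGroup.mk t : G ⧸ N) = 1 := orderOf_eq_one_iff.mp h3
  rw [hg, QuotientGroup.mk_mul, h4, one_mul]

theorem dvd_prime_pow_exists {p : ℕ} (hp : p.Prime) {d k : ℕ} (h : d ∣ p ^ k) : ∃ j : ℕ, d = p ^ j := by
  obtain ⟨j, _, hj⟩ := (Nat.dvd_prime_pow hp).mp h
  exact ⟨j, hj⟩

theorem PStar.subgroup [Finite G] {p : ℕ} (hp : p.Prime) (h : PStar p G) (N : Subgroup G) [N.Normal] :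
    PStar p N := by
  intro x hx
  have hx' : (orderOf (x : G)).Coprime p := by rwa [Subgroup.orderOf_coe]
  obtain ⟨k, hk⟩ := h x hx'
  have hc : centralizer ({x} : Set N) = (centralizer ({(x : G)} : Set G)).subgroupOf N := by
    ext y
    simp only [mem_centralizer_singleton_iff, mem_subgroupOf, Subtype.ext_iff, Subgroup.coe_mul]
  have hdvd : (centralizer ({x} : Set N)).index ∣ p ^ k := by
    rw [hc, ← hk]
    change (centralizer ({(x : G)} : Set G)).relIndex N ∣ _
    have hn : centralizer ({(x : G)} : Set G) ≤ normalizer (N : Set G) := by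
      rw [Subgroup.normalizer_eq_top]; exact le_top
    rw [← Cfsg.Agent.Lib.Helper23.relIndex_sup_of_le_normalizer' hn]
    exact Subgroup.relIndex_dvd_index_of_le le_sup_right
  exact dvd_prime_pow_exists hp hdvd

theorem PStar.quotient [Finite G] {p : ℕ} (hp : p.Prime) (h : PStar p G) (N : Subgroup G) [N.Normal] :
    PStar p (G ⧸ N) := by
  have : Fact p.Prime := ⟨hp⟩
  intro y hy
  obtain ⟨g, hg, rfl⟩ := exists_pPrimeElt_lift p N y hy
  obtain ⟨k, hk⟩ := h g hg
  have hle : (centralizer ({g} : Set G)).map (QuotientGroup.mk' N) ≤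
      centralizer ({(QuotientGroup.mk g : G ⧸ N)} : Set (G ⧸ N)) := by
    rintro _ ⟨c, hc, rfl⟩
    have hc' : c ∈ centralizer ({g} : Set G) := hc
    rw [mem_centralizer_singleton_iff] at hc' ⊢
    simp only [QuotientGroup.mk'_apply, ← QuotientGroup.mk_mul, hc']
  have hdvd : (centralizer ({(QuotientGroup.mk g : G ⧸ N)} : Set (G ⧸ N))).index ∣ p ^ k := by
    rw [← hk]
    exact (Subgroup.index_dvd_of_le hle).trans
      (Subgroup.index_map_dvd _ (QuotientGroup.mk'_surjective N))
  exact dvd_prime_pow_exists hp hdvd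


theorem closure_normal_of_conj_mem (S : Set G) (h : ∀ x ∈ S, ∀ g : G, g * x * g⁻¹ ∈ S) :
    (closure S).Normal := by
  constructor
  intro n hn g
  have h1 : (closure S).map (MulAut.conj g).toMonoidHom ≤ closure S := by
    rw [MonoidHom.map_closure, closure_le]
    rintro _ ⟨x, hx, rfl⟩
    exact subset_closure (h x hx g)
  exact h1 ⟨n, hn, by simp [MulAut.conj_apply]⟩

/-- the subgroup of `G` generated by the `p'`-elements of `N`. -/
def pPrimeGen (p : ℕ) (N : Subgroup G) : Subgroup G :=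
  closure {x : G | x ∈ N ∧ (orderOf x).Coprime p}

theorem pPrimeGen_le (p : ℕ) (N : Subgroup G) : pPrimeGen p N ≤ N := by
  rw [pPrimeGen, closure_le]
  intro x hx
  exact hx.1

theorem pPrimeGen_normal (p : ℕ) (N : Subgroup G) [hN : N.Normal] : (pPrimeGen p N).Normal := by
  apply closure_normal_of_conj_mem
  rintro x ⟨hx1, hx2⟩ g
  refine ⟨hN.conj_mem x hx1 g, ?_⟩
  have : orderOf (g * x * g⁻¹) = orderOf x := by
    have := (MulAut.conj g).orderOf_eq x
    simpa [MulAut.conj_apply] using this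
  show (orderOf (g * x * g⁻¹)).Coprime p
  rwa [this]

theorem pPrimeGen_top_of_subtype (p : ℕ) (N : Subgroup G) :
    pPrimeGen p (⊤ : Subgroup (pPrimeGen p N)) = ⊤ := by
  have key : closure (((↑) : closure {x : G | x ∈ N ∧ (orderOf x).Coprime p} → G) ⁻¹'
      {x : G | x ∈ N ∧ (orderOf x).Coprime p}) = ⊤ := closure_closure_coe_preimage
  rw [eq_top_iff]
  refine le_trans (le_of_eq key.symm) ?_
  apply Subgroup.closure_mono
  intro x hx
  refine ⟨mem_top _, ?_⟩
  have h2 : (orderOf (x : G)).Coprime p := hx.2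
  rwa [Subgroup.orderOf_coe] at h2

/-- if `N` has no nontrivial `p'`-elements it is a `p`-group -/
theorem isPGroup_of_pPrimeGen_eq_bot [Finite G] (p : ℕ) [hp : Fact p.Prime] (N : Subgroup G)
    (h : pPrimeGen p N = ⊥) : IsPGroup p N := by
  intro x
  obtain ⟨t, u, ht, hu, hg, ⟨k, hk⟩, hup⟩ := exists_p_decomp p (x : G)
  have huN : u ∈ N := by
    obtain ⟨z, hz⟩ := Subgroup.mem_zpowers_iff.mp hu
    rw [← hz]; exact N.zpow_mem x.2 z
  have hu1 : u ∈ pPrimeGen p N := subset_closure ⟨huN, hup⟩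
  rw [h, mem_bot] at hu1
  refine ⟨k, ?_⟩
  apply Subtype.ext
  rw [Subgroup.coe_pow, hg, hu1, mul_one, ← hk, pow_orderOf_eq_one]
  rfl

theorem pCore_subgroup_eq_bot {p : ℕ} (N : Subgroup G) [N.Normal] (h : Cfsg.pCore p G = ⊥) :
    Cfsg.pCore p N = ⊥ := by
  have hc : (Cfsg.pCore p N).Characteristic := Cfsg.Agent.Lib.Helper1.pCore_characteristic p
  have hn : ((Cfsg.pCore p N).map N.subtype).Normal := inferInstance
  have hp : IsPGroup p ((Cfsg.pCore p N).map N.subtype) :=
    (Cfsg.Agent.Lib.Helper1.pCore_isPGroup p).map _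
  have hle := Cfsg.Agent.Lib.Helper1.le_pCore hn hp
  rw [h, le_bot_iff] at hle
  exact (Subgroup.map_eq_bot_iff_of_injective _ N.subtype_injective).mp hle

theorem not_dvd_card_of_isNilpotent [Finite G] {p : ℕ} [Fact p.Prime] [Group.IsNilpotent G]
    (h : Cfsg.pCore p G = ⊥) : ¬ p ∣ Nat.card G := by
  intro hdvd
  obtain ⟨P⟩ : Nonempty (Sylow p G) := inferInstance
  have hPn : (P : Subgroup G).Normal := inferInstance
  have hle := Cfsg.Agent.Lib.Helper1.le_pCore hPn P.2
  rw [h, le_bot_iff] at hle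
  exact P.ne_bot_of_dvd_card hdvd hle


/-- under `PStar`, normal `p'`-subgroups are centralized by `p'`-elements. -/
theorem PStar.le_centralizer [Finite G] {p : ℕ} (_hp : p.Prime) (h : PStar p G) (M : Subgroup G)
    [M.Normal] (hM : (Nat.card M).Coprime p) (y : G) (hy : (orderOf y).Coprime p) :
    M ≤ centralizer {y} := by
  obtain ⟨k, hk⟩ := h y hy
  have hn : centralizer ({y} : Set G) ≤ normalizer (M : Set G) := by
    rw [normalizer_eq_top]; exact le_top
  have h1 : (centralizer ({y} : Set G)).relIndex M ∣ p ^ k := by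
    rw [← hk, ← Cfsg.Agent.Lib.Helper23.relIndex_sup_of_le_normalizer' hn]
    exact relIndex_dvd_index_of_le le_sup_right
  have h2 : (centralizer ({y} : Set G)).relIndex M ∣ Nat.card M := Subgroup.index_dvd_card _
  have h3 : (centralizer ({y} : Set G)).relIndex M = 1 :=
    Nat.eq_one_of_dvd_coprimes (Nat.Coprime.pow_right k hM) h2 h1
  exact Subgroup.relIndex_eq_one.mp h3

theorem PStar.le_center [Finite G] {p : ℕ} (hp : p.Prime) (h : PStar p G)
    (hgen : pPrimeGen p (⊤ : Subgroup G) = ⊤) (M : Subgroup G)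
    [M.Normal] (hM : (Nat.card M).Coprime p) : M ≤ center G := by
  intro m hm
  have h1 : (⊤ : Subgroup G) ≤ centralizer {m} := by
    rw [← hgen, pPrimeGen, closure_le]
    intro y hy
    have h2 := mem_centralizer_singleton_iff.mp (h.le_centralizer hp M hM y hy.2 hm)
    show y ∈ centralizer {m}
    rw [mem_centralizer_singleton_iff]
    exact h2.symm
  rw [mem_center_iff]
  intro g
  have h2 : g ∈ centralizer {m} := h1 (mem_top g)
  rw [mem_centralizer_singleton_iff] at h2
  exact h2

theorem pPrimeGen_top_quotient {p : ℕ} (N : Subgroup G) [N.Normal]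
    (h : pPrimeGen p (⊤ : Subgroup G) = ⊤) : pPrimeGen p (⊤ : Subgroup (G ⧸ N)) = ⊤ := by
  have h2 : (pPrimeGen p (⊤ : Subgroup G)).map (QuotientGroup.mk' N) ≤
      pPrimeGen p (⊤ : Subgroup (G ⧸ N)) := by
    unfold pPrimeGen
    rw [MonoidHom.map_closure]
    apply Subgroup.closure_mono
    rintro _ ⟨x, ⟨-, hx⟩, rfl⟩
    exact ⟨mem_top _, Nat.Coprime.coprime_dvd_left (orderOf_map_dvd _ x) hx⟩
  rw [h, Subgroup.map_top_of_surjective _ (QuotientGroup.mk'_surjective N)] at h2
  exact eq_top_iff.mpr h2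

theorem pCore_quotient_center_eq_bot [Finite G] {p : ℕ} [hp : Fact p.Prime]
    (hcore : Cfsg.pCore p G = ⊥) : Cfsg.pCore p (G ⧸ center G) = ⊥ := by
  set Q := Cfsg.pCore p (G ⧸ center G) with hQ
  have hQn : Q.Normal := Cfsg.Agent.Lib.Helper1.pCore_normal p
  have hQp : IsPGroup p Q := Cfsg.Agent.Lib.Helper1.pCore_isPGroup p
  set T := Q.comap (QuotientGroup.mk' (center G)) with hT
  have hTn : T.Normal := hQn.comap _
  let f : ↥T →* ↥Q := ((QuotientGroup.mk' (center G)).comp T.subtype).codRestrict Q (fun x => x.2)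
  have hker : f.ker ≤ center ↥T := by
    intro x hx
    rw [MonoidHom.mem_ker] at hx
    have h1 : (QuotientGroup.mk' (center G)) (x : G) = 1 := congrArg Subtype.val hx
    rw [QuotientGroup.mk'_apply, QuotientGroup.eq_one_iff] at h1
    rw [mem_center_iff]
    intro g
    apply Subtype.ext
    exact mem_center_iff.mp h1 g
  have hQnil : Group.IsNilpotent ↥Q := hQp.isNilpotent
  have hnil : Group.IsNilpotent ↥T := Subgroup.isNilpotent_of_ker_le_center f hker
  have hcoreT : Cfsg.pCore p T = ⊥ := pCore_subgroup_eq_bot T hcore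
  have hndvd : ¬ p ∣ Nat.card T := not_dvd_card_of_isNilpotent hcoreT
  have hsurj : Function.Surjective f := by
    rintro ⟨q, hq⟩
    obtain ⟨g, rfl⟩ := QuotientGroup.mk_surjective q
    exact ⟨⟨g, hq⟩, rfl⟩
  have hdvd : Nat.card Q ∣ Nat.card T := Subgroup.card_dvd_of_surjective f hsurj
  obtain ⟨j, hj⟩ := IsPGroup.iff_card.mp hQp
  rcases Nat.eq_zero_or_pos j with h0 | h0
  · rw [h0, pow_zero] at hj
    exact Subgroup.card_eq_one.mp hj
  · exfalso
    apply hndvd
    refine dvd_trans ?_ hdvd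
    rw [hj]
    exact dvd_pow_self p h0.ne'

/-- Key claim: `PStar`, generated by `p'`-elements, trivial `p`-core ⇒ `p'`-group. -/
theorem PStar.coprime_card_aux (p : ℕ) [hp : Fact p.Prime] :
    ∀ (n : ℕ) (G : Type u) [Group G] [Finite G], Nat.card G = n → PStar p G →
      pPrimeGen p (⊤ : Subgroup G) = ⊤ → Cfsg.pCore p G = ⊥ → (Nat.card G).Coprime p := by
  intro n
  induction n using Nat.strong_induction_on with
  | _ n ih =>
  intro G _ _ hn hstar hgen hcore
  by_cases hnorm : ∃ N : Subgroup G, N.Normal ∧ N ≠ ⊥ ∧ N ≠ ⊤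
  · obtain ⟨N, hNn, hNbot, hNtop⟩ := hnorm
    have hN1n : (pPrimeGen p N).Normal := pPrimeGen_normal p N
    have hcardN : Nat.card N < n := by
      rw [← hn]
      apply lt_of_le_of_ne (Subgroup.card_le_card_group N)
      intro h
      exact hNtop ((Subgroup.card_eq_iff_eq_top N).mp h)
    have hcardN1 : Nat.card (pPrimeGen p N) < n :=
      lt_of_le_of_lt (Subgroup.card_le_of_le (pPrimeGen_le p N)) hcardN
    have hcop1 : (Nat.card (pPrimeGen p N)).Coprime p :=
      ih _ hcardN1 (pPrimeGen p N) rfl (hstar.subgroup hp.out _) (pPrimeGen_top_of_subtype p N)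
        (pCore_subgroup_eq_bot _ hcore)
    by_cases hN1 : pPrimeGen p N = ⊥
    · exfalso
      have h1 : IsPGroup p N := isPGroup_of_pPrimeGen_eq_bot p N hN1
      have h2 := Cfsg.Agent.Lib.Helper1.le_pCore hNn h1
      rw [hcore, le_bot_iff] at h2
      exact hNbot h2
    · have hcen : pPrimeGen p N ≤ center G := hstar.le_center hp.out hgen _ hcop1
      have hZbot : center G ≠ ⊥ := by
        intro h
        rw [h, le_bot_iff] at hcen
        exact hN1 hcen
      have hcoreZ : Cfsg.pCore p (center G) = ⊥ := pCore_subgroup_eq_bot _ hcore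
      have hZnil : Group.IsNilpotent (center G) := by
        refine ⟨⟨1, ?_⟩⟩
        rw [Subgroup.upperCentralSeries_one, eq_top_iff]
        intro x _
        rw [mem_center_iff]
        intro g
        apply Subtype.ext
        exact mem_center_iff.mp x.2 g
      have hZcop : (Nat.card (center G)).Coprime p :=
        ((Nat.Prime.coprime_iff_not_dvd hp.out).mpr (not_dvd_card_of_isNilpotent hcoreZ)).symm
      have hcardQ : Nat.card (G ⧸ center G) < n := by
        rw [← hn, Subgroup.card_eq_card_quotient_mul_card_subgroup (center G)]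
        have h1 : 1 < Nat.card (center G) := by
          rw [Subgroup.one_lt_card_iff_ne_bot]; exact hZbot
        have h2 : 0 < Nat.card (G ⧸ center G) := Nat.card_pos
        nlinarith
      have hQcop : (Nat.card (G ⧸ center G)).Coprime p :=
        ih _ hcardQ (G ⧸ center G) rfl (hstar.quotient hp.out _) (pPrimeGen_top_quotient _ hgen)
          (pCore_quotient_center_eq_bot hcore)
      rw [Subgroup.card_eq_card_quotient_mul_card_subgroup (center G)]
      exact Nat.Coprime.mul_left hQcop hZcop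
  · push Not at hnorm
    rcases subsingleton_or_nontrivial G with hs | hnt
    · rw [Nat.card_unique]; exact Nat.coprime_one_left p
    · have hsimple : IsSimpleGroup G := ⟨fun H hH => by
        by_cases h : H = ⊥
        · exact Or.inl h
        · exact Or.inr (hnorm H hH h)⟩
      have hex : ∃ x : G, x ≠ 1 ∧ (orderOf x).Coprime p := by
        by_contra hcon
        push Not at hcon
        have : pPrimeGen p (⊤ : Subgroup G) = ⊥ := by
          rw [pPrimeGen, closure_eq_bot_iff]
          intro x hx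
          by_contra hx1
          exact hcon x hx1 hx.2
        rw [this] at hgen
        exact bot_ne_top hgen
      obtain ⟨x, hx1, hxp⟩ := hex
      obtain ⟨k, hk⟩ := hstar x hxp
      have hprime : (Nat.card G).Prime := by
        classical
        have : Fintype G := Fintype.ofFinite G
        exact Cfsg.Agent.Lib.Helper2.prime_card_of_prime_pow_class p k hp.out x hx1 hk
      by_cases hpe : Nat.card G = p
      · exfalso
        have h1 : IsPGroup p G := IsPGroup.of_card (n := 1) (by rw [hpe, pow_one])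
        have h2 : IsPGroup p (⊤ : Subgroup G) := h1.to_subgroup _
        have h3 := Cfsg.Agent.Lib.Helper1.le_pCore (inferInstance : (⊤ : Subgroup G).Normal) h2
        rw [hcore] at h3
        exact bot_ne_top (le_bot_iff.mp h3).symm
      · exact (Nat.coprime_primes hprime hp.out).mpr hpe


theorem isPGroup_quotient_pPrimeGen [Finite G] (p : ℕ) [hp : Fact p.Prime]
    [(pPrimeGen p (⊤ : Subgroup G)).Normal] : IsPGroup p (G ⧸ pPrimeGen p (⊤ : Subgroup G)) := by
  intro y
  obtain ⟨g, rfl⟩ := QuotientGroup.mk_surjective y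
  obtain ⟨t, u, ht, hu, hg, ⟨k, hk⟩, hup⟩ := exists_p_decomp p g
  have hu1 : u ∈ pPrimeGen p (⊤ : Subgroup G) := subset_closure ⟨mem_top u, hup⟩
  refine ⟨k, ?_⟩
  have h1 : (QuotientGroup.mk g : G ⧸ pPrimeGen p (⊤ : Subgroup G)) = QuotientGroup.mk t := by
    rw [hg, QuotientGroup.mk_mul, (QuotientGroup.eq_one_iff u).mpr hu1, mul_one]
  rw [h1, ← QuotientGroup.mk_pow, ← hk, pow_orderOf_eq_one]
  rfl

/-- **Main theorem (⇒)**: if every `p'`-element has `p`-power class size, there is an abelian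
`p`-complement. -/
theorem PStar.exists_abelian_complement (p : ℕ) [hp : Fact p.Prime] :
    ∀ (n : ℕ) (G : Type u) [Group G] [Finite G], Nat.card G = n → PStar p G →
      ∃ H : Subgroup G, (∀ a ∈ H, ∀ b ∈ H, a * b = b * a) ∧ ¬ p ∣ Nat.card H ∧
        ∃ k : ℕ, H.index = p ^ k := by
  intro n
  induction n using Nat.strong_induction_on with
  | _ n ih =>
  intro G _ _ hn hstar
  have hLn : (pPrimeGen p (⊤ : Subgroup G)).Normal := pPrimeGen_normal p ⊤
  by_cases hL : pPrimeGen p (⊤ : Subgroup G) = ⊤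
  · by_cases hR : Cfsg.pCore p G = ⊥
    · have hcop := PStar.coprime_card_aux p n G hn hstar hL hR
      refine ⟨⊤, ?_, ?_, 0, by simp⟩
      · intro a _ b _
        have ha : (orderOf a).Coprime p := Nat.Coprime.coprime_dvd_left (orderOf_dvd_natCard a) hcop
        obtain ⟨k, hk⟩ := hstar a ha
        have h1 : (centralizer ({a} : Set G)).index ∣ Nat.card G := Subgroup.index_dvd_card _
        have h2 : (centralizer ({a} : Set G)).index = 1 :=
          Nat.eq_one_of_dvd_coprimes (Nat.Coprime.pow_right k hcop) h1 (by rw [hk])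
        have h3 : b ∈ centralizer ({a} : Set G) := by
          rw [Subgroup.index_eq_one.mp h2]; trivial
        exact (mem_centralizer_singleton_iff.mp h3).symm
      · rw [Subgroup.card_top]
        exact (Nat.Prime.coprime_iff_not_dvd hp.out).mp hcop.symm
    · have hRn : (Cfsg.pCore p G).Normal := Cfsg.Agent.Lib.Helper1.pCore_normal p
      have hRp : IsPGroup p (Cfsg.pCore p G) := Cfsg.Agent.Lib.Helper1.pCore_isPGroup p
      have hcardQ : Nat.card (G ⧸ Cfsg.pCore p G) < n := by
        rw [← hn, Subgroup.card_eq_card_quotient_mul_card_subgroup (Cfsg.pCore p G)]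
        have h1 : 1 < Nat.card (Cfsg.pCore p G) := by
          rw [Subgroup.one_lt_card_iff_ne_bot]; exact hR
        have h2 : 0 < Nat.card (G ⧸ Cfsg.pCore p G) := Nat.card_pos
        nlinarith
      obtain ⟨Hb, hHab, hHp, k1, hk1⟩ :=
        ih _ hcardQ (G ⧸ Cfsg.pCore p G) rfl (hstar.quotient hp.out _)
      set R := Cfsg.pCore p G with hRdef
      set K := Hb.comap (QuotientGroup.mk' R) with hKdef
      have hRK : R ≤ K := by
        intro x hx
        show (QuotientGroup.mk' R) x ∈ Hb
        rw [QuotientGroup.mk'_apply, (QuotientGroup.eq_one_iff x).mpr hx]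
        exact Hb.one_mem
      let ψ : ↥K →* ↥Hb := ((QuotientGroup.mk' R).comp K.subtype).codRestrict Hb (fun x => x.2)
      have hψs : Function.Surjective ψ := by
        rintro ⟨q, hq⟩
        obtain ⟨g, rfl⟩ := QuotientGroup.mk_surjective q
        exact ⟨⟨g, hq⟩, rfl⟩
      have hker : ψ.ker = R.subgroupOf K := by
        ext x
        rw [MonoidHom.mem_ker, mem_subgroupOf, Subtype.ext_iff]
        show (QuotientGroup.mk' R) (x : G) = 1 ↔ _
        rw [QuotientGroup.mk'_apply, QuotientGroup.eq_one_iff]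
      have hcardRK : Nat.card (R.subgroupOf K) = Nat.card R :=
        Nat.card_congr (Subgroup.subgroupOfEquivOfLe hRK).toEquiv
      have hidx : (R.subgroupOf K).index = Nat.card Hb := by
        rw [← hker, Subgroup.index_ker, MonoidHom.range_eq_top.mpr hψs, Subgroup.card_top]
      obtain ⟨j, hj⟩ := IsPGroup.iff_card.mp hRp
      have hcop : Nat.Coprime (Nat.card (R.subgroupOf K)) (R.subgroupOf K).index := by
        rw [hcardRK, hidx, hj]
        exact Nat.Coprime.pow_left j ((Nat.Prime.coprime_iff_not_dvd hp.out).mpr hHp)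
      obtain ⟨H0, hH0⟩ := Subgroup.exists_right_complement'_of_coprime hcop
      refine ⟨H0.map K.subtype, ?_, ?_, ?_⟩
      · rintro _ ⟨a, ha, rfl⟩ _ ⟨b, hb, rfl⟩
        have hc1 : a * b * (b * a)⁻¹ ∈ H0 :=
          H0.mul_mem (H0.mul_mem ha hb) (H0.inv_mem (H0.mul_mem hb ha))
        have hc2 : a * b * (b * a)⁻¹ ∈ R.subgroupOf K := by
          rw [← hker, MonoidHom.mem_ker, map_mul, map_inv, map_mul, map_mul]
          have : ψ a * ψ b = ψ b * ψ a := Subtype.ext (hHab _ (ψ a).2 _ (ψ b).2)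
          rw [this, mul_inv_cancel]
        have hc : a * b * (b * a)⁻¹ = 1 := by
          have hd := hH0.disjoint
          rw [Subgroup.disjoint_def] at hd
          exact hd hc2 hc1
        have hab : a * b = b * a := mul_inv_eq_one.mp hc
        exact congrArg Subtype.val hab
      · rw [Subgroup.card_subtype, ← hH0.symm.index_eq_card, hidx]
        exact hHp
      · refine ⟨j + k1, ?_⟩
        rw [Subgroup.index_map_subtype, hH0.index_eq_card, hcardRK, hj, hKdef,
          Subgroup.index_comap_of_surjective _ (QuotientGroup.mk'_surjective R), hk1, pow_add]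
  · have hcardL : Nat.card (pPrimeGen p (⊤ : Subgroup G)) < n := by
      rw [← hn]
      apply lt_of_le_of_ne (Subgroup.card_le_card_group _)
      intro h
      exact hL ((Subgroup.card_eq_iff_eq_top _).mp h)
    obtain ⟨H', hab, hHp, k1, hk1⟩ :=
      ih _ hcardL (pPrimeGen p (⊤ : Subgroup G)) rfl (hstar.subgroup hp.out _)
    obtain ⟨j, hj⟩ := IsPGroup.iff_card.mp (isPGroup_quotient_pPrimeGen (G := G) p)
    refine ⟨H'.map (pPrimeGen p (⊤ : Subgroup G)).subtype, ?_, ?_, j + k1, ?_⟩
    · rintro _ ⟨a, ha, rfl⟩ _ ⟨b, hb, rfl⟩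
      exact congrArg Subtype.val (hab a ha b hb)
    · rw [Subgroup.card_subtype]; exact hHp
    · rw [Subgroup.index_map_subtype, hk1, Subgroup.index_eq_card, hj, pow_add, mul_comm]


theorem exists_conj_mem_of_pgroup_not_dvd_index {p : ℕ} [Fact p.Prime] [Finite G]
    (M K : Subgroup G) (hM : IsPGroup p M) (hK : ¬ p ∣ K.index) :
    ∃ g : G, ∀ m ∈ M, g⁻¹ * m * g ∈ K := by
  obtain ⟨a, ha⟩ := hM.nonempty_fixed_point_of_prime_not_dvd_card (G ⧸ K) (by
    rwa [← Subgroup.index_eq_card])
  induction a using QuotientGroup.induction_on with | _ g => ?_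
  refine ⟨g, fun m hm => ?_⟩
  have h1 := ha ⟨m, hm⟩
  have h2 : ((m * g : G) : G ⧸ K) = (g : G ⧸ K) := h1
  rw [QuotientGroup.eq] at h2
  have h3 := K.inv_mem h2
  have h4 : ((m * g)⁻¹ * g)⁻¹ = g⁻¹ * m * g := by group
  rwa [h4] at h3

/-- **Wielandt for abelian Hall `p'`-subgroups**: if `H` is an abelian `p`-complement, every
`p'`-element is conjugate into `H`. -/
theorem exists_conj_mem_of_abelian_complement (p : ℕ) [hp : Fact p.Prime] :
    ∀ (n : ℕ) (G : Type u) [Group G] [Finite G], Nat.card G = n → ∀ H : Subgroup G,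
      (∀ a ∈ H, ∀ b ∈ H, a * b = b * a) → ¬ p ∣ Nat.card H → (∃ k : ℕ, H.index = p ^ k) →
      ∀ x : G, (orderOf x).Coprime p → ∃ g : G, g⁻¹ * x * g ∈ H := by
  intro n
  induction n using Nat.strong_induction_on with
  | _ n ih =>
  intro G _ _ hn H hab hHp hidx x hx
  obtain ⟨k, hk⟩ := hidx
  by_cases hx1 : x = 1
  · exact ⟨1, by rw [hx1]; simp⟩
  have hox : orderOf x ≠ 1 := fun h => hx1 (orderOf_eq_one_iff.mp h)
  obtain ⟨r, hr, hrx⟩ := Nat.exists_prime_and_dvd hox
  have hrp : r ≠ p := by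
    rintro rfl
    exact hr.one_lt.ne' (Nat.eq_one_of_dvd_coprimes hx hrx dvd_rfl)
  have : Fact r.Prime := ⟨hr⟩
  obtain ⟨y, z, hy, hz, hxyz, ⟨j, hj⟩, hzr⟩ := exists_p_decomp r x
  have hy1 : y ≠ 1 := by
    intro h
    rw [h, one_mul] at hxyz
    rw [hxyz] at hrx
    exact hr.one_lt.ne' (Nat.eq_one_of_dvd_coprimes hzr hrx dvd_rfl)
  have hrH : ¬ r ∣ H.index := by
    rw [hk]
    intro h
    exact hrp ((Nat.prime_dvd_prime_iff_eq hr hp.out).mp (hr.dvd_of_dvd_pow h))
  have hyP : IsPGroup r (zpowers y) := IsPGroup.of_card (n := j) (by rw [Nat.card_zpowers, hj])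
  obtain ⟨g, hg⟩ := exists_conj_mem_of_pgroup_not_dvd_index
    (zpowers y) H hyP hrH
  have hy'H : g⁻¹ * y * g ∈ H := hg y (mem_zpowers y)
  -- x' commutes with y'
  have hcomm : (g⁻¹ * x * g) * (g⁻¹ * y * g) = (g⁻¹ * y * g) * (g⁻¹ * x * g) := by
    obtain ⟨m, hm⟩ := Subgroup.mem_zpowers_iff.mp hy
    have h1 : x * y = y * x := by
      rw [← hm]
      exact ((Commute.refl x).zpow_right m).eq
    calc (g⁻¹ * x * g) * (g⁻¹ * y * g) = g⁻¹ * (x * y) * g := by group
      _ = g⁻¹ * (y * x) * g := by rw [h1]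
      _ = (g⁻¹ * y * g) * (g⁻¹ * x * g) := by group
  have hox' : (orderOf (g⁻¹ * x * g)).Coprime p := by
    have : orderOf (g⁻¹ * x * g) = orderOf x := by
      have := (MulAut.conj g⁻¹).orderOf_eq x
      simpa [MulAut.conj_apply] using this
    rwa [this]
  have hy'1 : g⁻¹ * y * g ≠ 1 := by
    intro h
    apply hy1
    have : y = g * (g⁻¹ * y * g) * g⁻¹ := by group
    rw [this, h]; group
  set x' := g⁻¹ * x * g with hx'
  set y' := g⁻¹ * y * g with hy'
  have hHC : H ≤ centralizer ({y'} : Set G) := by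
    intro h hh
    rw [mem_centralizer_singleton_iff]
    exact hab h hh y' hy'H
  have hx'C : x' ∈ centralizer ({y'} : Set G) := by
    rw [mem_centralizer_singleton_iff]
    exact hcomm
  suffices hsuff : ∃ g2 : G, g2⁻¹ * x' * g2 ∈ H by
    obtain ⟨g2, hg2⟩ := hsuff
    refine ⟨g * g2, ?_⟩
    have : (g * g2)⁻¹ * x * (g * g2) = g2⁻¹ * x' * g2 := by rw [hx']; group
    rw [this]; exact hg2
  by_cases hC : centralizer ({y'} : Set G) = ⊤
  · -- y' central
    have hycen : ∀ w ∈ zpowers y', ∀ c : G, c * w * c⁻¹ = w := by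
      intro w hw c
      obtain ⟨m, rfl⟩ := Subgroup.mem_zpowers_iff.mp hw
      have hc : c ∈ centralizer ({y'} : Set G) := by rw [hC]; trivial
      rw [mem_centralizer_singleton_iff] at hc
      have h2 : c * y' ^ m = y' ^ m * c := ((Commute.zpow_right hc m)).eq
      rw [h2, mul_inv_cancel_right]
    have hYn : (zpowers y').Normal := ⟨fun w hw c => by rw [hycen w hw c]; exact hw⟩
    have hYH : zpowers y' ≤ H := by
      rw [zpowers_le]; exact hy'H
    have hcardQ : Nat.card (G ⧸ zpowers y') < n := by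
      rw [← hn, Subgroup.card_eq_card_quotient_mul_card_subgroup (zpowers y')]
      have h1 : 1 < Nat.card (zpowers y') := by
        rw [Subgroup.one_lt_card_iff_ne_bot]
        intro h
        rw [zpowers_eq_bot] at h
        exact hy'1 h
      have h2 : 0 < Nat.card (G ⧸ zpowers y') := Nat.card_pos
      nlinarith
    have hHb1 : ∀ a ∈ H.map (QuotientGroup.mk' (zpowers y')), ∀ b ∈ H.map (QuotientGroup.mk' (zpowers y')),
        a * b = b * a := by
      rintro _ ⟨a, ha, rfl⟩ _ ⟨b, hb, rfl⟩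
      rw [← map_mul, ← map_mul, hab a ha b hb]
    have hHb2 : ¬ p ∣ Nat.card (H.map (QuotientGroup.mk' (zpowers y'))) :=
      fun h => hHp (h.trans (Subgroup.card_map_dvd _ _))
    have hHb3 : ∃ k' : ℕ, (H.map (QuotientGroup.mk' (zpowers y'))).index = p ^ k' := by
      apply dvd_prime_pow_exists hp.out (k := k)
      rw [← hk]
      exact Subgroup.index_map_dvd _ (QuotientGroup.mk'_surjective _)
    have hxb : (orderOf (QuotientGroup.mk' (zpowers y') x')).Coprime p :=
      Nat.Coprime.coprime_dvd_left (orderOf_map_dvd _ x') hox'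
    obtain ⟨gb, hgb⟩ := ih _ hcardQ (G ⧸ zpowers y') rfl _ hHb1 hHb2 hHb3 _ hxb
    obtain ⟨g2, rfl⟩ := QuotientGroup.mk_surjective gb
    refine ⟨g2, ?_⟩
    obtain ⟨h, hh, hh2⟩ := hgb
    have h3 : (QuotientGroup.mk' (zpowers y')) h = (QuotientGroup.mk' (zpowers y')) (g2⁻¹ * x' * g2) := by
      rw [hh2]; simp
    rw [QuotientGroup.mk'_apply, QuotientGroup.mk'_apply, QuotientGroup.eq] at h3
    have h4 := H.mul_mem hh (hYH h3)
    rwa [mul_inv_cancel_left] at h4
  · have hcardC : Nat.card (centralizer ({y'} : Set G)) < n := by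
      rw [← hn]
      apply lt_of_le_of_ne (Subgroup.card_le_card_group _)
      intro h
      exact hC ((Subgroup.card_eq_iff_eq_top _).mp h)
    set C := centralizer ({y'} : Set G) with hCdef
    have hH1 : ∀ a ∈ H.subgroupOf C, ∀ b ∈ H.subgroupOf C, a * b = b * a := by
      intro a ha b hb
      apply Subtype.ext
      exact hab a ha b hb
    have hH2 : ¬ p ∣ Nat.card (H.subgroupOf C) := by
      rw [Nat.card_congr (Subgroup.subgroupOfEquivOfLe hHC).toEquiv]
      exact hHp
    have hH3 : ∃ k' : ℕ, (H.subgroupOf C).index = p ^ k' := by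
      apply dvd_prime_pow_exists hp.out (k := k)
      rw [← hk]
      exact Subgroup.relIndex_dvd_index_of_le hHC
    have hxc : (orderOf (⟨x', hx'C⟩ : C)).Coprime p := by
      rw [Subgroup.orderOf_mk]; exact hox'
    obtain ⟨c, hc⟩ := ih _ hcardC C rfl _ hH1 hH2 hH3 _ hxc
    refine ⟨(c : G), ?_⟩
    have := (mem_subgroupOf).mp hc
    simpa using this

end Cfsg.Agent.Lib.Helper22
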