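import Mathlib

/-!
# S3701 FO-E3 (helper22, for helper19): the lattice lemma `lemma_Q` (pure integer arithmetic)

`Q = ∑_{O<O'} |O||O'| (m_O - m_O')²` over nine orbits of sizes `1,2,2,2,4,4,4,4,4`.
If `Q < 108` and `q₁ ≠ q₂` then `Q = 92` and everything equals `q₃` except one of `q₁, q₂`,
which is `q₃ ± 1`.
-/

set_option autoImplicit false

namespace Cfsg.Agent.Lib.Helper22.S3701

theorem aux_half (x a b : ℤ) : (a - b) ^ 2 ≤ 2 * ((x - a) ^ 2 + (x - b) ^ 2) := by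
  nlinarith [sq_nonneg (2 * x - a - b)]

theorem aux_pm (d : ℤ) (h2 : d ^ 2 ≤ 1) (h0 : d ≠ 0) : d = 1 ∨ d = -1 := by
  have h1 : -1 ≤ d := by nlinarith
  have h3 : d ≤ 1 := by nlinarith
  omega

theorem aux_one (x a b : ℤ) (hab : a - b = 1 ∨ a - b = -1) :
    1 ≤ (x - a) ^ 2 + (x - b) ^ 2 := by
  have h := aux_half x a b
  have hd : (a - b) ^ 2 = 1 := by rcases hab with h | h <;> rw [h] <;> norm_num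
  rw [hd] at h
  omega

theorem aux_eq (x a b : ℤ) (hab : a - b = 1 ∨ a - b = -1)
    (hs : (x - a) ^ 2 + (x - b) ^ 2 ≤ 4) : x = a ∨ x = b := by
  have h1 : -2 ≤ x - b := by nlinarith [sq_nonneg (x - a), sq_nonneg (x - b)]
  have h2 : x - b ≤ 2 := by nlinarith [sq_nonneg (x - a), sq_nonneg (x - b)]
  obtain ⟨u, hu⟩ : ∃ u : ℤ, u = x - b := ⟨_, rfl⟩
  rw [← hu] at h1 h2
  rcases hab with h | h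
  · have hxa : x - a = u - 1 := by omega
    rw [hxa, ← hu] at hs
    interval_cases u <;> omega
  · have hxa : x - a = u + 1 := by omega
    rw [hxa, ← hu] at hs
    interval_cases u <;> omega

theorem lemma_Q (m₀ p₁ p₂ p₃ q₁ q₂ q₃ r₁ r₂ : ℤ)
    (h : 27 * (m₀ ^ 2 + 2 * (p₁ ^ 2 + p₂ ^ 2 + p₃ ^ 2)
          + 4 * (q₁ ^ 2 + q₂ ^ 2 + q₃ ^ 2 + r₁ ^ 2 + r₂ ^ 2))
        - (m₀ + 2 * (p₁ + p₂ + p₃) + 4 * (q₁ + q₂ + q₃ + r₁ + r₂)) ^ 2 < 108)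
    (hq : q₁ ≠ q₂) :
    27 * (m₀ ^ 2 + 2 * (p₁ ^ 2 + p₂ ^ 2 + p₃ ^ 2)
          + 4 * (q₁ ^ 2 + q₂ ^ 2 + q₃ ^ 2 + r₁ ^ 2 + r₂ ^ 2))
        - (m₀ + 2 * (p₁ + p₂ + p₃) + 4 * (q₁ + q₂ + q₃ + r₁ + r₂)) ^ 2 = 92 ∧
    m₀ = q₃ ∧ p₁ = q₃ ∧ p₂ = q₃ ∧ p₃ = q₃ ∧ r₁ = q₃ ∧ r₂ = q₃ ∧
    ((q₂ = q₃ ∧ (q₁ = q₃ + 1 ∨ q₁ = q₃ - 1)) ∨ (q₁ = q₃ ∧ (q₂ = q₃ + 1 ∨ q₂ = q₃ - 1))) := by
  have key : 27 * (m₀ ^ 2 + 2 * (p₁ ^ 2 + p₂ ^ 2 + p₃ ^ 2)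
          + 4 * (q₁ ^ 2 + q₂ ^ 2 + q₃ ^ 2 + r₁ ^ 2 + r₂ ^ 2))
        - (m₀ + 2 * (p₁ + p₂ + p₃) + 4 * (q₁ + q₂ + q₃ + r₁ + r₂)) ^ 2
      = (4 * ((m₀ - q₁) ^ 2 + (m₀ - q₂) ^ 2) + 8 * ((p₁ - q₁) ^ 2 + (p₁ - q₂) ^ 2)
          + 8 * ((p₂ - q₁) ^ 2 + (p₂ - q₂) ^ 2) + 8 * ((p₃ - q₁) ^ 2 + (p₃ - q₂) ^ 2)
          + 16 * ((q₃ - q₁) ^ 2 + (q₃ - q₂) ^ 2) + 16 * ((r₁ - q₁) ^ 2 + (r₁ - q₂) ^ 2)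
          + 16 * ((r₂ - q₁) ^ 2 + (r₂ - q₂) ^ 2) + 16 * (q₁ - q₂) ^ 2)
        + (2 * (m₀ - p₁) ^ 2 + 2 * (m₀ - p₂) ^ 2 + 2 * (m₀ - p₃) ^ 2 + 4 * (m₀ - q₃) ^ 2
          + 4 * (m₀ - r₁) ^ 2 + 4 * (m₀ - r₂) ^ 2 + 4 * (p₁ - p₂) ^ 2 + 4 * (p₁ - p₃) ^ 2
          + 8 * (p₁ - q₃) ^ 2 + 8 * (p₁ - r₁) ^ 2 + 8 * (p₁ - r₂) ^ 2 + 4 * (p₂ - p₃) ^ 2
          + 8 * (p₂ - q₃) ^ 2 + 8 * (p₂ - r₁) ^ 2 + 8 * (p₂ - r₂) ^ 2 + 8 * (p₃ - q₃) ^ 2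
          + 8 * (p₃ - r₁) ^ 2 + 8 * (p₃ - r₂) ^ 2 + 16 * (q₃ - r₁) ^ 2 + 16 * (q₃ - r₂) ^ 2
          + 16 * (r₁ - r₂) ^ 2) := by ring
  have hrest : 0 ≤ 2 * (m₀ - p₁) ^ 2 + 2 * (m₀ - p₂) ^ 2 + 2 * (m₀ - p₃) ^ 2 + 4 * (m₀ - q₃) ^ 2
          + 4 * (m₀ - r₁) ^ 2 + 4 * (m₀ - r₂) ^ 2 + 4 * (p₁ - p₂) ^ 2 + 4 * (p₁ - p₃) ^ 2
          + 8 * (p₁ - q₃) ^ 2 + 8 * (p₁ - r₁) ^ 2 + 8 * (p₁ - r₂) ^ 2 + 4 * (p₂ - p₃) ^ 2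
          + 8 * (p₂ - q₃) ^ 2 + 8 * (p₂ - r₁) ^ 2 + 8 * (p₂ - r₂) ^ 2 + 8 * (p₃ - q₃) ^ 2
          + 8 * (p₃ - r₁) ^ 2 + 8 * (p₃ - r₂) ^ 2 + 16 * (q₃ - r₁) ^ 2 + 16 * (q₃ - r₂) ^ 2
          + 16 * (r₁ - r₂) ^ 2 := by positivity
  have hk := h
  rw [key] at hk
  -- step 1: (q₁ - q₂)² ≤ 1
  have hd2 : (q₁ - q₂) ^ 2 ≤ 1 := by
    have a1 := aux_half m₀ q₁ q₂
    have a2 := aux_half p₁ q₁ q₂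
    have a3 := aux_half p₂ q₁ q₂
    have a4 := aux_half p₃ q₁ q₂
    have a5 := aux_half q₃ q₁ q₂
    have a6 := aux_half r₁ q₁ q₂
    have a7 := aux_half r₂ q₁ q₂
    linarith
  have hd : q₁ - q₂ = 1 ∨ q₁ - q₂ = -1 := aux_pm _ hd2 (sub_ne_zero.mpr hq)
  have hdsq : (q₁ - q₂) ^ 2 = 1 := by rcases hd with h | h <;> rw [h] <;> norm_num
  rw [hdsq] at hk
  -- step 2: every other variable equals q₁ or q₂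
  have b1 := aux_one m₀ q₁ q₂ hd
  have b2 := aux_one p₁ q₁ q₂ hd
  have b3 := aux_one p₂ q₁ q₂ hd
  have b4 := aux_one p₃ q₁ q₂ hd
  have b5 := aux_one q₃ q₁ q₂ hd
  have b6 := aux_one r₁ q₁ q₂ hd
  have b7 := aux_one r₂ q₁ q₂ hd
  have c1 : m₀ = q₁ ∨ m₀ = q₂ := aux_eq m₀ q₁ q₂ hd (by linarith)
  have c2 : p₁ = q₁ ∨ p₁ = q₂ := aux_eq p₁ q₁ q₂ hd (by linarith)
  have c3 : p₂ = q₁ ∨ p₂ = q₂ := aux_eq p₂ q₁ q₂ hd (by linarith)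
  have c4 : p₃ = q₁ ∨ p₃ = q₂ := aux_eq p₃ q₁ q₂ hd (by linarith)
  have c5 : q₃ = q₁ ∨ q₃ = q₂ := aux_eq q₃ q₁ q₂ hd (by linarith)
  have c6 : r₁ = q₁ ∨ r₁ = q₂ := aux_eq r₁ q₁ q₂ hd (by linarith)
  have c7 : r₂ = q₁ ∨ r₂ = q₂ := aux_eq r₂ q₁ q₂ hd (by linarith)
  clear key hrest hk hd2 hdsq b1 b2 b3 b4 b5 b6 b7
  -- step 3: finite check
  rcases hd with hd | hd
  · obtain rfl : q₁ = q₂ + 1 := by omega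
    clear hd hq
    rcases c1 with rfl | rfl <;> rcases c2 with rfl | rfl <;> rcases c3 with rfl | rfl <;>
    rcases c4 with rfl | rfl <;> rcases c5 with rfl | rfl <;> rcases c6 with rfl | rfl <;>
    rcases c7 with rfl | rfl <;>
    first | (exfalso; linarith) | (refine ⟨by ring, ?_⟩; omega)
  · obtain rfl : q₁ = q₂ - 1 := by omega
    clear hd hq
    rcases c1 with rfl | rfl <;> rcases c2 with rfl | rfl <;> rcases c3 with rfl | rfl <;>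
    rcases c4 with rfl | rfl <;> rcases c5 with rfl | rfl <;> rcases c6 with rfl | rfl <;>
    rcases c7 with rfl | rfl <;>
    first | (exfalso; linarith) | (refine ⟨by ring, ?_⟩; omega)

end Cfsg.Agent.Lib.Helper22.S3701
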