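import Cfsg.Agent.Lib.Helper22.StCCBBTSL

set_option autoImplicit false
set_option maxRecDepth 100000

/-! Steinberg's Theorem 10, PART B, piece [BT], simply-laced types: row checks of the chain table in
small ranges (one `decide +kernel` per range keeps the kernel's memory small). -/

namespace Cfsg.Agent.Lib.Helper14.StCC.B.Helper22

open Cfsg.Lie Cfsg.Agent.Lib.Helper8.Chev

theorem slB_D4 : slB chevD4 = true := by decide +kernel
theorem cD4_0 : nilRangeB chevD4 0 24 = true := by decide +kernel
theorem slB_E6 : slB chevE6 = true := by decide +kernel
theorem cE6_0 : nilRangeB chevE6 0 18 = true := by decide +kernel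
theorem cE6_1 : nilRangeB chevE6 18 36 = true := by decide +kernel
theorem cE6_2 : nilRangeB chevE6 36 54 = true := by decide +kernel
theorem cE6_3 : nilRangeB chevE6 54 72 = true := by decide +kernel
theorem slB_E7 : slB chevE7 = true := by decide +kernel
theorem cE7_0 : nilRangeB chevE7 0 14 = true := by decide +kernel
theorem cE7_1 : nilRangeB chevE7 14 28 = true := by decide +kernel
theorem cE7_2 : nilRangeB chevE7 28 42 = true := by decide +kernel
theorem cE7_3 : nilRangeB chevE7 42 56 = true := by decide +kernel
theorem cE7_4 : nilRangeB chevE7 56 70 = true := by decide +kernel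
theorem cE7_5 : nilRangeB chevE7 70 84 = true := by decide +kernel
theorem cE7_6 : nilRangeB chevE7 84 98 = true := by decide +kernel
theorem cE7_7 : nilRangeB chevE7 98 112 = true := by decide +kernel
theorem cE7_8 : nilRangeB chevE7 112 126 = true := by decide +kernel

end Cfsg.Agent.Lib.Helper14.StCC.B.Helper22
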