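import Mathlib

/-!
# Polynomial sequences in a filtered group and a Hall–Petrescu type power formula

For a group `K` with a filtration `F : ℕ → Subgroup K` that is antitone and satisfies
`⁅F i, F j⁆ ≤ F (i + j)`, the sequences `f : ℕ → K` all of whose `s`-th differences take values in
`F (k + s)` are closed under products, inverses and commutators (Lazard–Leibman).  A Taylor expansion
then gives: if the lower central series of `K` vanishes at `p - 1` (class less than `p`), then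
`(a * b) ^ (p ^ n) = a ^ (p ^ n) * b ^ (p ^ n) * c` with `c` a product of `p ^ n`-th powers of
elements of the commutator subgroup.
-/

set_option autoImplicit false

namespace Cfsg.Agent.Lib.Helper22.HallPetrescu

open scoped commutatorElement

section ThreeSubgroups

variable {K : Type*} [Group K]

/-- Three subgroups lemma modulo a normal subgroup. -/
theorem three_subgroups_le (H₁ H₂ H₃ N : Subgroup K) [N.Normal]
    (h1 : ⁅⁅H₂, H₃⁆, H₁⁆ ≤ N) (h2 : ⁅⁅H₃, H₁⁆, H₂⁆ ≤ N) : ⁅⁅H₁, H₂⁆, H₃⁆ ≤ N := by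
  have key : ∀ A : Subgroup K, A ≤ N ↔ A.map (QuotientGroup.mk' N) = ⊥ := fun A => by
    rw [Subgroup.map_eq_bot_iff, QuotientGroup.ker_mk']
  rw [key, Subgroup.map_commutator, Subgroup.map_commutator] at h1 h2 ⊢
  exact Subgroup.commutator_commutator_eq_bot_of_rotate h1 h2

/-- The lower central series is strongly central: `[γ_{i+1}, γ_{j+1}] ≤ γ_{i+j+2}`. -/
theorem lcs_comm_le : ∀ (j i : ℕ),
    ⁅(⊤ : Subgroup K).lowerCentralSeries i, (⊤ : Subgroup K).lowerCentralSeries j⁆ ≤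
      (⊤ : Subgroup K).lowerCentralSeries (i + j + 1)
  | 0, i => by
    simp [Subgroup.lowerCentralSeries_succ]
  | j + 1, i => by
    have ih1 := lcs_comm_le j (i + 1)
    have ih2 := lcs_comm_le j i
    rw [Subgroup.lowerCentralSeries_succ, Subgroup.commutator_comm]
    have hN : ((⊤ : Subgroup K).lowerCentralSeries (i + (j + 1) + 1)).Normal := inferInstance
    refine three_subgroups_le _ _ _ _ ?_ ?_
    · -- ⁅⁅⊤, L i⁆, L j⁆
      rw [Subgroup.commutator_comm ⊤, ← Subgroup.lowerCentralSeries_succ]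
      refine ih1.trans (le_of_eq ?_)
      congr 1
      omega
    · -- ⁅⁅L i, L j⁆, ⊤⁆
      refine (Subgroup.commutator_mono ih2 le_rfl).trans ?_
      rw [← Subgroup.lowerCentralSeries_succ]
      exact le_of_eq (congrArg _ (by omega))

end ThreeSubgroups

section Sequences

variable {K : Type*} [Group K]

/-- The (left) difference of a sequence. -/
def Δ (f : ℕ → K) : ℕ → K := fun n => f (n + 1) * (f n)⁻¹

theorem Δ_apply (f : ℕ → K) (n : ℕ) : Δ f n = f (n + 1) * (f n)⁻¹ := rfl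

theorem comm_apply (f g : ℕ → K) (n : ℕ) : (⁅f, g⁆ : ℕ → K) n = ⁅f n, g n⁆ := by
  simp [commutatorElement_def]

theorem Δ_one : Δ (1 : ℕ → K) = 1 := by
  funext n; simp [Δ]

theorem Δ_mul (f g : ℕ → K) : Δ (f * g) = Δ f * ⁅f, Δ g⁆ * Δ g := by
  funext n
  simp only [Δ, Pi.mul_apply, Pi.inv_apply, commutatorElement_def]
  group

theorem Δ_inv (f : ℕ → K) : Δ f⁻¹ = ⁅f⁻¹, (Δ f)⁻¹⁆ * (Δ f)⁻¹ := by
  funext n
  simp only [Δ, Pi.mul_apply, Pi.inv_apply, commutatorElement_def]
  group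

theorem Δ_comm (f g : ℕ → K) :
    Δ ⁅f, g⁆ = (Δ f * ⁅f, Δ g⁆ * (Δ f)⁻¹) * (Δ f * ⁅Δ g, ⁅f, g⁆⁆ * (Δ f)⁻¹) * ⁅Δ f, ⁅f, g⁆⁆ *
      (⁅f, g⁆ * ⁅Δ f, Δ g * g⁆ * ⁅f, g⁆⁻¹) := by
  funext n
  simp only [Δ, Pi.mul_apply, Pi.inv_apply, commutatorElement_def]
  group

variable (F : ℕ → Subgroup K)

/-- `Pr F r k f`: the differences of `f` of order `s ≤ r` take values in `F (k + s)`. -/
def Pr : ℕ → ℕ → (ℕ → K) → Prop
  | 0, k, f => ∀ n, f n ∈ F k
  | r + 1, k, f => (∀ n, f n ∈ F k) ∧ Pr r (k + 1) (Δ f)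

variable {F}

theorem Pr_val : ∀ {r k : ℕ} {f : ℕ → K}, Pr F r k f → ∀ n, f n ∈ F k
  | 0, _, _, h => h
  | _ + 1, _, _, h => h.1

theorem Pr_succ_iff {r k : ℕ} {f : ℕ → K} :
    Pr F (r + 1) k f ↔ (∀ n, f n ∈ F k) ∧ Pr F r (k + 1) (Δ f) := Iff.rfl

theorem Pr_of_succ : ∀ {r k : ℕ} {f : ℕ → K}, Pr F (r + 1) k f → Pr F r k f
  | 0, _, _, h => h.1
  | r + 1, _, _, h => ⟨h.1, Pr_of_succ (r := r) h.2⟩

theorem Pr_one : ∀ (r k : ℕ), Pr F r k (1 : ℕ → K)
  | 0, k => fun _ => (F k).one_mem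
  | r + 1, k => ⟨fun _ => (F k).one_mem, by rw [Δ_one]; exact Pr_one r (k + 1)⟩

theorem Pr_mono (hanti : Antitone F) : ∀ {r k k' : ℕ} {f : ℕ → K}, k ≤ k' → Pr F r k' f → Pr F r k f
  | 0, _, _, _, hk, h => fun n => hanti hk (h n)
  | r + 1, _, _, _, hk, h =>
    ⟨fun n => hanti hk (h.1 n), Pr_mono hanti (r := r) (Nat.succ_le_succ hk) h.2⟩

/-- Lazard–Leibman: closure under product, inverse and commutator, at each order `r`. -/
theorem Pr_closed (hanti : Antitone F) (hcomm : ∀ i j, ⁅F i, F j⁆ ≤ F (i + j)) : ∀ r : ℕ,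
    (∀ (k : ℕ) (f g : ℕ → K), Pr F r k f → Pr F r k g → Pr F r k (f * g)) ∧
    (∀ (k : ℕ) (f : ℕ → K), Pr F r k f → Pr F r k f⁻¹) ∧
    (∀ (i j : ℕ) (f g : ℕ → K), Pr F r i f → Pr F r j g → Pr F r (i + j) ⁅f, g⁆) := by
  have hval_comm : ∀ (i j : ℕ) (f g : ℕ → K), (∀ n, f n ∈ F i) → (∀ n, g n ∈ F j) →
      ∀ n, (⁅f, g⁆ : ℕ → K) n ∈ F (i + j) := by
    intro i j f g hf hg n
    rw [comm_apply]
    exact hcomm i j (Subgroup.commutator_mem_commutator (hf n) (hg n))
  intro r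
  induction r with
  | zero =>
    refine ⟨fun k f g hf hg n => (F k).mul_mem (hf n) (hg n), fun k f hf n => (F k).inv_mem (hf n),
      fun i j f g hf hg => hval_comm i j f g hf hg⟩
  | succ r ih =>
    obtain ⟨hmul, hinv, hcm⟩ := ih
    have hconj : ∀ (l m : ℕ) (y x : ℕ → K), Pr F r l y → Pr F r m x → Pr F r m (y * x * y⁻¹) := by
      intro l m y x hy hx
      have e : y * x * y⁻¹ = ⁅y, x⁆ * x := by
        rw [commutatorElement_def]; group
      rw [e]
      exact hmul m _ _ (Pr_mono hanti (by omega) (hcm l m y x hy hx)) hx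
    refine ⟨?_, ?_, ?_⟩
    · intro k f g hf hg
      refine ⟨fun n => (F k).mul_mem (hf.1 n) (hg.1 n), ?_⟩
      rw [Δ_mul]
      refine hmul _ _ _ (hmul _ _ _ hf.2 ?_) hg.2
      exact Pr_mono hanti (by omega) (hcm k (k + 1) f (Δ g) (Pr_of_succ hf) hg.2)
    · intro k f hf
      refine ⟨fun n => (F k).inv_mem (hf.1 n), ?_⟩
      rw [Δ_inv]
      have h1 : Pr F r k f⁻¹ := hinv k f (Pr_of_succ hf)
      have h2 : Pr F r (k + 1) (Δ f)⁻¹ := hinv _ _ hf.2
      exact hmul _ _ _ (Pr_mono hanti (by omega) (hcm k (k + 1) _ _ h1 h2)) h2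
    · intro i j f g hf hg
      refine ⟨hval_comm i j f g hf.1 hg.1, ?_⟩
      rw [Δ_comm]
      have ha : Pr F r i f := Pr_of_succ hf
      have hb : Pr F r j g := Pr_of_succ hg
      have hd : Pr F r (i + 1) (Δ f) := hf.2
      have he : Pr F r (j + 1) (Δ g) := hg.2
      have hc : Pr F r (i + j) ⁅f, g⁆ := hcm i j f g ha hb
      have t1 : Pr F r (i + j + 1) ⁅f, Δ g⁆ :=
        Pr_mono hanti (by omega) (hcm i (j + 1) _ _ ha he)
      have t2 : Pr F r (i + j + 1) ⁅Δ g, ⁅f, g⁆⁆ :=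
        Pr_mono hanti (by omega) (hcm (j + 1) (i + j) _ _ he hc)
      have t3 : Pr F r (i + j + 1) ⁅Δ f, ⁅f, g⁆⁆ :=
        Pr_mono hanti (by omega) (hcm (i + 1) (i + j) _ _ hd hc)
      have heb : Pr F r j (Δ g * g) := hmul j _ _ (Pr_mono hanti (by omega) he) hb
      have t4 : Pr F r (i + j + 1) ⁅Δ f, Δ g * g⁆ :=
        Pr_mono hanti (by omega) (hcm (i + 1) j _ _ hd heb)
      exact hmul _ _ _ (hmul _ _ _ (hmul _ _ _ (hconj _ _ _ _ hd t1) (hconj _ _ _ _ hd t2)) t3)
        (hconj _ _ _ _ hc t4)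

variable (F)

/-- Polynomial sequences of level `k`: all differences of order `s` take values in `F (k + s)`. -/
def Poly (k : ℕ) (f : ℕ → K) : Prop := ∀ r, Pr F r k f

variable {F}

theorem Poly.mul (hanti : Antitone F) (hcomm : ∀ i j, ⁅F i, F j⁆ ≤ F (i + j)) {k : ℕ}
    {f g : ℕ → K} (hf : Poly F k f) (hg : Poly F k g) : Poly F k (f * g) :=
  fun r => (Pr_closed hanti hcomm r).1 k f g (hf r) (hg r)

theorem Poly.inv (hanti : Antitone F) (hcomm : ∀ i j, ⁅F i, F j⁆ ≤ F (i + j)) {k : ℕ}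
    {f : ℕ → K} (hf : Poly F k f) : Poly F k f⁻¹ :=
  fun r => (Pr_closed hanti hcomm r).2.1 k f (hf r)

/-- The binomial power sequence `n ↦ x ^ (n.choose i)`. -/
def epow (x : K) (i : ℕ) : ℕ → K := fun n => x ^ (n.choose i)

theorem epow_apply (x : K) (i n : ℕ) : epow x i n = x ^ (n.choose i) := rfl

theorem Δ_epow_zero (x : K) : Δ (epow x 0) = 1 := by
  funext n; simp [Δ, epow]

theorem Δ_epow_succ (x : K) (i : ℕ) : Δ (epow x (i + 1)) = epow x i := by
  funext n
  show x ^ ((n + 1).choose (i + 1)) * (x ^ (n.choose (i + 1)))⁻¹ = x ^ (n.choose i)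
  rw [Nat.choose_succ_succ', pow_add, mul_inv_cancel_right]

theorem Pr_epow (hanti : Antitone F) : ∀ (r k i : ℕ) (x : K), x ∈ F (k + i) → Pr F r k (epow x i)
  | 0, k, i, x, hx => fun n => (F k).pow_mem (hanti (Nat.le_add_right k i) hx) _
  | r + 1, k, 0, x, hx =>
    ⟨fun n => (F k).pow_mem (hanti (Nat.le_add_right k 0) hx) _, by
      rw [Δ_epow_zero]; exact Pr_one r (k + 1)⟩
  | r + 1, k, i + 1, x, hx =>
    ⟨fun n => (F k).pow_mem (hanti (Nat.le_add_right k (i + 1)) hx) _, by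
      rw [Δ_epow_succ]
      exact Pr_epow hanti r (k + 1) i x (by
        have e : k + 1 + i = k + (i + 1) := by omega
        rw [e]; exact hx)⟩

theorem Poly_epow (hanti : Antitone F) {k i : ℕ} {x : K} (hx : x ∈ F (k + i)) :
    Poly F k (epow x i) := fun r => Pr_epow hanti r k i x hx

/-- If a polynomial sequence is trivial at `0, …, i - 1`, then its value at `i` lies in `F (k + i)`. -/
theorem Pr_vanish : ∀ (i k : ℕ) (f : ℕ → K), Pr F i k f → (∀ m < i, f m = 1) → f i ∈ F (k + i)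
  | 0, k, f, h, _ => h 0
  | i + 1, k, f, h, h0 => by
    have h1 := Pr_vanish i (k + 1) (Δ f) h.2 (fun m hm => by
      rw [Δ_apply, h0 m (by omega), h0 (m + 1) (by omega)]; simp)
    rw [Δ_apply, h0 i (by omega)] at h1
    have e : k + 1 + i = k + (i + 1) := by omega
    rw [e] at h1
    simpa using h1

variable (F)

/-- The subgroup generated by binomial powers `x ^ (m.choose i)`, `i ≥ 2`, `x ∈ F i`. -/
def T (m : ℕ) : Subgroup K :=
  Subgroup.closure {y | ∃ i, 2 ≤ i ∧ ∃ x ∈ F i, y = x ^ (m.choose i)}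

variable {F}

/-- Taylor expansion: a polynomial sequence trivial at `0` and `1` takes values in `T F m`. -/
theorem taylor (hanti : Antitone F) (hcomm : ∀ i j, ⁅F i, F j⁆ ≤ F (i + j)) (c : ℕ)
    (hbot : F (c + 1) = ⊥) : ∀ (d j : ℕ), j + d = c + 1 → 2 ≤ j → ∀ g : ℕ → K, Poly F 0 g →
    (∀ n < j, g n = 1) → ∀ m, g m ∈ T F m
  | 0, j, hj, _, g, hg, h0 => by
    have hall : ∀ m, g m = 1 := by
      intro m
      induction m using Nat.strong_induction_on with
      | _ m ih =>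
        by_cases hm : m < j
        · exact h0 m hm
        · have h1 := Pr_vanish m 0 g (hg m) ih
          have h2 : F (0 + m) ≤ F (c + 1) := hanti (by omega)
          have h3 := h2 h1
          rw [hbot] at h3
          exact Subgroup.mem_bot.1 h3
    intro m
    rw [hall m]
    exact Subgroup.one_mem _
  | d + 1, j, hj, hj2, g, hg, h0 => by
    have hx : g j ∈ F (0 + j) := Pr_vanish j 0 g (hg j) h0
    set x := g j with hxdef
    have hg' : Poly F 0 (g * (epow x j)⁻¹) :=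
      Poly.mul hanti hcomm hg (Poly.inv hanti hcomm (Poly_epow hanti hx))
    have h0' : ∀ n < j + 1, (g * (epow x j)⁻¹) n = 1 := by
      intro n hn
      rw [Pi.mul_apply, Pi.inv_apply, epow_apply]
      by_cases hnj : n < j
      · rw [h0 n hnj, Nat.choose_eq_zero_of_lt hnj]; simp
      · have : n = j := by omega
        subst this
        rw [Nat.choose_self, pow_one, hxdef]; simp
    intro m
    have h1 := taylor hanti hcomm c hbot d (j + 1) (by omega) (by omega) _ hg' h0' m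
    have h2 : x ^ (m.choose j) ∈ T F m :=
      Subgroup.subset_closure ⟨j, hj2, x, by simpa using hx, rfl⟩
    have h3 := (T F m).mul_mem h1 h2
    rw [Pi.mul_apply, Pi.inv_apply, epow_apply, inv_mul_cancel_right] at h3
    exact h3

end Sequences

section Main

variable {K : Type*} [Group K]

theorem pow_dvd_choose_pow {p : ℕ} (hp : p.Prime) (n i : ℕ) (hi0 : 0 < i) (hip : i < p) :
    p ^ n ∣ (p ^ n).choose i := by
  obtain ⟨i', rfl⟩ : ∃ i', i = i' + 1 := ⟨i - 1, by omega⟩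
  have hpos : 0 < p ^ n := pow_pos hp.pos n
  obtain ⟨m', hm'⟩ : ∃ m', p ^ n = m' + 1 := ⟨p ^ n - 1, by omega⟩
  have h1 : (m' + 1) * m'.choose i' = (m' + 1).choose (i' + 1) * (i' + 1) :=
    Nat.add_one_mul_choose_eq m' i'
  have hcop : Nat.Coprime (p ^ n) (i' + 1) := by
    apply Nat.Coprime.pow_left
    rw [Nat.Prime.coprime_iff_not_dvd hp]
    intro hdvd
    exact absurd (Nat.le_of_dvd (by omega) hdvd) (by omega)
  rw [hm'] at hcop ⊢
  exact hcop.dvd_of_dvd_mul_right (Dvd.intro _ h1)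

/-- Hall–Petrescu type formula for groups of class less than `p`. -/
theorem pow_mul_pow_eq (p : ℕ) [hp : Fact p.Prime]
    (hcl : (⊤ : Subgroup K).lowerCentralSeries (p - 1) = ⊥) (a b : K) (n : ℕ) :
    ∃ c ∈ Subgroup.closure {y : K | ∃ x ∈ _root_.commutator K, y = x ^ (p ^ n)},
      (a * b) ^ (p ^ n) = a ^ (p ^ n) * b ^ (p ^ n) * c := by
  classical
  set L : ℕ → Subgroup K := (⊤ : Subgroup K).lowerCentralSeries with hL
  set F : ℕ → Subgroup K := fun i => L (i - 1) with hF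
  have hLanti : Antitone L := Subgroup.lowerCentralSeries_antitone ⊤
  have hanti : Antitone F := fun i j hij => hLanti (by omega)
  have hcomm : ∀ i j, ⁅F i, F j⁆ ≤ F (i + j) := by
    intro i j
    rcases i with _ | i
    · have hn : (F j).Normal := by
        show (L (j - 1)).Normal
        rw [hL]; infer_instance
      have : ⁅F 0, F j⁆ ≤ F j := by
        have h0 : F 0 = ⊤ := rfl
        rw [h0]
        exact Subgroup.commutator_top_left_le_iff.2 hn
      simpa using this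
    · rcases j with _ | j
      · have hn : (F (i + 1)).Normal := by
          show (L (i + 1 - 1)).Normal
          rw [hL]; infer_instance
        have h0 : F 0 = ⊤ := rfl
        rw [h0]
        exact Subgroup.commutator_top_right_le_iff.2 hn
      · show ⁅L (i + 1 - 1), L (j + 1 - 1)⁆ ≤ L (i + 1 + (j + 1) - 1)
        have e1 : i + 1 - 1 = i := by omega
        have e2 : j + 1 - 1 = j := by omega
        have e3 : i + 1 + (j + 1) - 1 = i + j + 1 := by omega
        rw [e1, e2, e3]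
        exact lcs_comm_le j i
  have hp2 : 2 ≤ p := hp.out.two_le
  have hbot : F (p - 1 + 1) = ⊥ := by
    show L (p - 1 + 1 - 1) = ⊥
    have : p - 1 + 1 - 1 = p - 1 := by omega
    rw [this]; exact hcl
  have htop : ∀ x : K, x ∈ F (0 + 1) := fun x => by
    show x ∈ L 0
    rw [hL]; simp
  set g : ℕ → K := (epow b 1)⁻¹ * (epow a 1)⁻¹ * epow (a * b) 1 with hg
  have hgP : Poly F 0 g :=
    Poly.mul hanti hcomm (Poly.mul hanti hcomm (Poly.inv hanti hcomm (Poly_epow hanti (htop b)))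
      (Poly.inv hanti hcomm (Poly_epow hanti (htop a)))) (Poly_epow hanti (htop (a * b)))
  have hgm : ∀ m, g m = (b ^ m)⁻¹ * (a ^ m)⁻¹ * (a * b) ^ m := by
    intro m
    simp [hg, epow_apply]
  have hg0 : ∀ m < 2, g m = 1 := by
    intro m hm
    rw [hgm]
    interval_cases m
    · simp
    · simp
  have hT := taylor hanti hcomm (p - 1) hbot (p - 2) 2 (by omega) le_rfl g hgP hg0 (p ^ n)
  have hTle : T F (p ^ n) ≤
      Subgroup.closure {y : K | ∃ x ∈ _root_.commutator K, y = x ^ (p ^ n)} := by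
    unfold T
    rw [Subgroup.closure_le]
    rintro y ⟨i, hi2, x, hx, rfl⟩
    by_cases hip : i < p
    · obtain ⟨t, ht⟩ := pow_dvd_choose_pow hp.out n i (by omega) hip
      apply Subgroup.subset_closure
      refine ⟨x ^ t, ?_, ?_⟩
      · apply Subgroup.pow_mem
        have h1 : F i ≤ L 1 := hLanti (by omega)
        have h2 := h1 hx
        rw [hL, Subgroup.top_lowerCentralSeries_one] at h2
        exact h2
      · rw [ht, ← pow_mul, mul_comm]
    · have h1 : F i ≤ L (p - 1) := hLanti (by omega)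
      have h2 := h1 hx
      rw [hcl, Subgroup.mem_bot] at h2
      rw [h2, one_pow]
      exact Subgroup.one_mem _
  refine ⟨g (p ^ n), hTle hT, ?_⟩
  rw [hgm]
  group

end Main

end Cfsg.Agent.Lib.Helper22.HallPetrescu
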