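import Mathlib
import Cfsg.Agent.Lib.Helper21.GL23Defs

/-!
# S0197 farm-out, package B2 (helper22): the cyclic subgroups `⟨c8⟩`, `⟨c6⟩` of `GL(2,3)`

`orderOf_c8`, `orderOf_c6`, `card_conj_c8`, `card_conj_c6` with the exact statements of
`notes/S0197_skeleton_helper21.lean.txt`.  Method: pass to the four matrix entries and `decide`.
-/

set_option autoImplicit false
open Cfsg.Agent.Lib.Helper21.GL23

namespace Cfsg.Agent.Lib.Helper22.S0197B2

/-- Quadruples of entries. -/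
abbrev Q : Type := ZMod 3 × ZMod 3 × ZMod 3 × ZMod 3

/-- The entries of an element of `GL(2,3)`. -/
def ent (M : Gam) : Q :=
  ((M : Matrix (Fin 2) (Fin 2) (ZMod 3)) 0 0, (M : Matrix (Fin 2) (Fin 2) (ZMod 3)) 0 1,
   (M : Matrix (Fin 2) (Fin 2) (ZMod 3)) 1 0, (M : Matrix (Fin 2) (Fin 2) (ZMod 3)) 1 1)

/-- Matrix product on quadruples. -/
def mulQ (x y : Q) : Q :=
  (x.1 * y.1 + x.2.1 * y.2.2.1, x.1 * y.2.1 + x.2.1 * y.2.2.2,
   x.2.2.1 * y.1 + x.2.2.2 * y.2.2.1, x.2.2.1 * y.2.1 + x.2.2.2 * y.2.2.2)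

/-- Determinant on quadruples. -/
def detQ (x : Q) : ZMod 3 := x.1 * x.2.2.2 - x.2.1 * x.2.2.1

theorem ent_mul (M N : Gam) : ent (M * N) = mulQ (ent M) (ent N) := by
  simp [ent, mulQ, Matrix.mul_apply, Fin.sum_univ_two]

theorem ent_one : ent (1 : Gam) = (1, 0, 0, 1) := by
  simp [ent]

theorem ent_neg_one : ent (-1 : Gam) = (2, 0, 0, 2) := by
  simp only [ent, Units.val_neg, Units.val_one, Matrix.neg_apply, Matrix.one_apply_eq,
    Matrix.one_apply_ne, ne_eq, Fin.isValue, zero_ne_one, one_ne_zero, not_false_eq_true, neg_zero]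
  decide

theorem ent_injective : Function.Injective ent := by
  intro M N h
  simp only [ent, Prod.mk.injEq] at h
  refine Matrix.GeneralLinearGroup.ext fun i j => ?_
  fin_cases i <;> fin_cases j
  · exact h.1
  · exact h.2.1
  · exact h.2.2.1
  · exact h.2.2.2

theorem detQ_ent (M : Gam) : detQ (ent M) ≠ 0 := by
  have h := (Matrix.isUnits_det_units M).ne_zero
  rw [Matrix.det_fin_two] at h
  exact h

/-- The element of `GL(2,3)` with given entries. -/
def ofQ (x : Q) (hx : detQ x ≠ 0) : Gam :=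
  Matrix.GeneralLinearGroup.mkOfDetNeZero !![x.1, x.2.1; x.2.2.1, x.2.2.2]
    (by rw [Matrix.det_fin_two_of]; exact hx)

theorem ent_ofQ (x : Q) (hx : detQ x ≠ 0) : ent (ofQ x hx) = x := by
  simp [ent, ofQ]

/-- The conjugation-count predicate on entries. -/
def P (m n x : Q) : Prop := detQ x ≠ 0 ∧ mulQ m x = mulQ x n

instance (m n : Q) : DecidablePred (P m n) := fun x => by unfold P; infer_instance

/-- `#{X invertible : M X = X N}` computed on entries. -/
def cnt (m n : Q) : ℕ := ((Finset.univ : Finset Q).filter (P m n)).card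

theorem card_conj_eq_cnt (M N : Gam) :
    Nat.card {X : Gam // X⁻¹ * M * X = N} = cnt (ent M) (ent N) := by
  have e : {X : Gam // X⁻¹ * M * X = N} ≃ {x : Q // P (ent M) (ent N) x} :=
    { toFun := fun X => ⟨ent X.1, detQ_ent X.1, by
        rw [← ent_mul, ← ent_mul]
        congr 1
        have hX := X.2
        calc M * X.1 = X.1 * (X.1⁻¹ * M * X.1) := by group
          _ = X.1 * N := by rw [hX]⟩
      invFun := fun x => ⟨ofQ x.1 x.2.1, by
        have h := x.2.2
        have h2 : ent (M * ofQ x.1 x.2.1) = ent (ofQ x.1 x.2.1 * N) := by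
          rw [ent_mul, ent_mul, ent_ofQ]; exact h
        have h3 := ent_injective h2
        rw [mul_assoc, h3, inv_mul_cancel_left]⟩
      left_inv := fun X => by
        apply Subtype.ext
        apply ent_injective
        simp [ent_ofQ]
      right_inv := fun x => by
        apply Subtype.ext
        simp [ent_ofQ] }
  rw [Nat.card_congr e, Nat.card_eq_fintype_card, Fintype.card_subtype]
  rfl

/-- Class label on entries. -/
def clsE (m : Q) : Fin 8 :=
  if m = (1, 0, 0, 1) then 0 else if m = (2, 0, 0, 2) then 1 else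
  if detQ m = 1 then
    (if m.1 + m.2.2.2 = 0 then 3 else if m.1 + m.2.2.2 = 2 then 4 else 5)
  else
    (if m.1 + m.2.2.2 = 0 then 2 else if m.1 + m.2.2.2 = 1 then 6 else 7)

theorem cls_eq_clsE (M : Gam) : cls M = clsE (ent M) := by
  have h1 : M = 1 ↔ ent M = (1, 0, 0, 1) := by
    rw [← ent_one]; exact ent_injective.eq_iff.symm
  have h2 : M = -1 ↔ ent M = (2, 0, 0, 2) := by
    rw [← ent_neg_one]; exact ent_injective.eq_iff.symm
  have h3 : (M : Matrix (Fin 2) (Fin 2) (ZMod 3)).det = detQ (ent M) := by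
    rw [Matrix.det_fin_two]; rfl
  have h4 : (M : Matrix (Fin 2) (Fin 2) (ZMod 3)).trace = (ent M).1 + (ent M).2.2.2 := by
    rw [Matrix.trace_fin_two]; rfl
  unfold cls clsE
  simp only [h1, h2, h3, h4]

/-- Entries of the powers of `c8`. -/
def p8 : Fin 8 → Q :=
  ![(1,0,0,1), (0,1,1,1), (1,1,1,2), (1,2,2,0), (2,0,0,2), (0,2,2,2), (2,2,2,1), (2,1,1,0)]

/-- Entries of the powers of `c6`. -/
def p6 : Fin 6 → Q :=
  ![(1,0,0,1), (2,2,0,2), (1,2,0,1), (2,0,0,2), (1,1,0,1), (2,1,0,2)]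

theorem ent_c8 : ent c8 = (0, 1, 1, 1) := by
  simp [ent, c8]

theorem ent_c6 : ent c6 = (2, 2, 0, 2) := by
  simp [ent, c6]

/-- Powers on quadruples. -/
def powQ (x : Q) : ℕ → Q
  | 0 => (1, 0, 0, 1)
  | k + 1 => mulQ (powQ x k) x

theorem ent_pow (M : Gam) (k : ℕ) : ent (M ^ k) = powQ (ent M) k := by
  induction k with
  | zero => simp [powQ, ent_one]
  | succ k ih => rw [pow_succ, ent_mul, ih]; rfl

theorem ent_c8_pow (k : Fin 8) : ent (c8 ^ (k : ℕ)) = p8 k := by
  rw [ent_pow, ent_c8]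
  revert k; decide

theorem ent_c6_pow (k : Fin 6) : ent (c6 ^ (k : ℕ)) = p6 k := by
  rw [ent_pow, ent_c6]
  revert k; decide

set_option maxRecDepth 100000 in
theorem big8 : ∀ m : Q, detQ m ≠ 0 → ∀ k : Fin 8, cnt m (p8 k) = n8 (clsE m) k := by
  decide

set_option maxRecDepth 100000 in
theorem big6 : ∀ m : Q, detQ m ≠ 0 → ∀ k : Fin 6, cnt m (p6 k) = n6 (clsE m) k := by
  decide

theorem card_conj_c8 (M : Gam) (k : Fin 8) :
    Nat.card {X : Gam // X⁻¹ * M * X = c8 ^ (k : ℕ)} = n8 (cls M) k := by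
  rw [card_conj_eq_cnt, ent_c8_pow, cls_eq_clsE]
  exact big8 _ (detQ_ent M) k

theorem card_conj_c6 (M : Gam) (k : Fin 6) :
    Nat.card {X : Gam // X⁻¹ * M * X = c6 ^ (k : ℕ)} = n6 (cls M) k := by
  rw [card_conj_eq_cnt, ent_c6_pow, cls_eq_clsE]
  exact big6 _ (detQ_ent M) k

theorem pow_eq_one_iff_powQ (M : Gam) (k : ℕ) : M ^ k = 1 ↔ powQ (ent M) k = (1, 0, 0, 1) := by
  rw [← ent_pow, ← ent_one]; exact ent_injective.eq_iff.symm

theorem orderOf_c8 : orderOf c8 = 8 := by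
  have h8 : c8 ^ 8 = 1 := by rw [pow_eq_one_iff_powQ, ent_c8]; decide
  have h4 : c8 ^ 4 ≠ 1 := by rw [Ne, pow_eq_one_iff_powQ, ent_c8]; decide
  exact orderOf_eq_prime_pow (p := 2) (n := 2) h4 h8

theorem orderOf_c6 : orderOf c6 = 6 := by
  have h6 : c6 ^ 6 = 1 := by rw [pow_eq_one_iff_powQ, ent_c6]; decide
  have h3 : c6 ^ 3 ≠ 1 := by rw [Ne, pow_eq_one_iff_powQ, ent_c6]; decide
  have h2 : c6 ^ 2 ≠ 1 := by rw [Ne, pow_eq_one_iff_powQ, ent_c6]; decide
  refine orderOf_eq_of_pow_and_pow_div_prime (by norm_num) h6 ?_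
  intro p hp hpd
  have : p = 2 ∨ p = 3 := by
    have hle : p ≤ 6 := Nat.le_of_dvd (by norm_num) hpd
    interval_cases p <;> simp_all (config := {decide := true})
  rcases this with rfl | rfl
  · exact h3
  · exact h2

end Cfsg.Agent.Lib.Helper22.S0197B2
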