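import Mathlib
import Cfsg.Prelude
import Cfsg.Agent.Lib.Helper10.BGBase
import Cfsg.Agent.Lib.Helper10.BGSolv
import Cfsg.Agent.Lib.Helper10.PComponent
import Cfsg.Agent.Lib.Helper9.Misc
import Cfsg.Agent.Lib.Helper1.CoprimeSylow

/-!
# Bender's lemmas on maximal local subgroups

* `le_centralizer_of_nilpotent`: Thompson's `A × B` lemma in its nilpotent form.
* `le_centralizer_of_normalizer_le`: if `Z_p`, `Z_r` are commuting subgroups for distinct primes
  acting on a `p`-group `V` and `C_V(Z_p)` normalizes `Z_r`, then `Z_r` centralizes `V`.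
* `le_pPrimeCore_of_commutator`: the quotient form of the previous lemma.
-/

set_option autoImplicit false
open Cfsg

namespace Cfsg.Agent.Lib.Helper22.Bender

open Cfsg.Agent.Lib.Helper10.BG Cfsg.Agent.Lib.Helper1

variable {G : Type*} [Group G]

/-- Thompson's `A × B` lemma, nilpotent form: a subgroup `E` of order prime to the nilpotent group
`F`, normalizing `F` and centralizing a subgroup `M` of `F` containing its centralizer in `F`,
centralizes `F`. -/
theorem le_centralizer_of_nilpotent [Finite G] {F M E : Subgroup G}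
    (hnil : Group.IsNilpotent F) (hMF : M ≤ F)
    (hC : F ⊓ Subgroup.centralizer (M : Set G) ≤ M)
    (hEF : E ≤ Subgroup.normalizer (F : Set G))
    (hcop : (Nat.card E).Coprime (Nat.card F))
    (hEM : E ≤ Subgroup.centralizer (M : Set G)) :
    E ≤ Subgroup.centralizer (F : Set G) := by
  obtain ⟨K, hMK, hKmax⟩ := Finite.exists_le_maximal
    (p := fun K : Subgroup G => M ≤ K ∧ K ≤ F ∧ E ≤ Subgroup.centralizer (K : Set G))
    (a := M) ⟨le_rfl, hMF, hEM⟩
  obtain ⟨-, hKF, hEK⟩ := hKmax.prop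
  by_cases hKeq : K = F
  · rw [← hKeq]; exact hEK
  exfalso
  have hlt : K.subgroupOf F < ⊤ := by
    rw [lt_top_iff_ne_top]
    intro h
    apply hKeq
    apply le_antisymm hKF
    intro x hx
    have : (⟨x, hx⟩ : F) ∈ K.subgroupOf F := by rw [h]; exact Subgroup.mem_top _
    exact this
  have := hnil
  have hnc := Group.normalizerCondition_of_isNilpotent (G := F) _ hlt
  obtain ⟨n, hnN, hnK⟩ := SetLike.exists_of_lt hnc
  -- the normalizer of `K` in `F`
  obtain ⟨N, hN⟩ : ∃ N : Subgroup G, N = F ⊓ Subgroup.normalizer (K : Set G) := ⟨_, rfl⟩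
  have hnN' : (n : G) ∈ N := by
    rw [hN]
    refine Subgroup.mem_inf.mpr ⟨n.2, ?_⟩
    rw [Subgroup.mem_normalizer_iff]
    intro k
    constructor
    · intro hk
      have h1 := (Subgroup.mem_normalizer_iff.mp hnN ⟨k, hKF hk⟩).mp hk
      exact h1
    · intro hk
      have hkF : k ∈ F := by
        have h2 : (n : G)⁻¹ * ((n : G) * k * (n : G)⁻¹) * (n : G) ∈ F :=
          F.mul_mem (F.mul_mem (F.inv_mem n.2) (hKF hk)) n.2
        have h3 : (n : G)⁻¹ * ((n : G) * k * (n : G)⁻¹) * (n : G) = k := by group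
        rwa [h3] at h2
      have h1 := (Subgroup.mem_normalizer_iff.mp hnN ⟨k, hkF⟩).mpr hk
      exact h1
  have hKN : K ≤ N := by
    rw [hN]
    exact le_inf hKF Subgroup.le_normalizer
  have hEN : E ≤ Subgroup.centralizer (N : Set G) := by
    intro e he
    rw [Subgroup.mem_centralizer_iff]
    intro m hm
    rw [hN] at hm
    obtain ⟨hmF, hmK⟩ := hm
    have heK : ∀ k ∈ K, k * e = e * k := fun k hk =>
      Subgroup.mem_centralizer_iff.mp (hEK he) k hk
    -- the commutator
    obtain ⟨c, hc⟩ : ∃ c : G, c = m⁻¹ * (e * m * e⁻¹) := ⟨_, rfl⟩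
    have hcF : c ∈ F := by
      rw [hc]
      exact F.mul_mem (F.inv_mem hmF) ((Subgroup.mem_normalizer_iff.mp (hEF he) m).mp hmF)
    have hcK : c ∈ Subgroup.centralizer (K : Set G) := by
      rw [Subgroup.mem_centralizer_iff]
      intro k hk
      have h1 : e⁻¹ * k * e = k := by
        have := heK k hk
        calc e⁻¹ * k * e = e⁻¹ * (k * e) := by group
          _ = e⁻¹ * (e * k) := by rw [this]
          _ = k := by group
      have hk' : m * k * m⁻¹ ∈ K := (Subgroup.mem_normalizer_iff.mp hmK k).mp hk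
      have h2 : e * (m * k * m⁻¹) * e⁻¹ = m * k * m⁻¹ := by
        have := heK _ hk'
        calc e * (m * k * m⁻¹) * e⁻¹ = (e * (m * k * m⁻¹)) * e⁻¹ := by group
          _ = ((m * k * m⁻¹) * e) * e⁻¹ := by rw [this]
          _ = m * k * m⁻¹ := by group
      symm
      calc c * k = m⁻¹ * (e * (m * (e⁻¹ * k * e) * m⁻¹) * e⁻¹) * (e * m * e⁻¹) := by
            rw [hc]; group
        _ = m⁻¹ * (e * (m * k * m⁻¹) * e⁻¹) * (e * m * e⁻¹) := by rw [h1]
        _ = m⁻¹ * (m * k * m⁻¹) * (e * m * e⁻¹) := by rw [h2]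
        _ = k * c := by rw [hc]; group
    have hcM : c ∈ M := by
      apply hC
      refine ⟨hcF, ?_⟩
      exact Subgroup.centralizer_le (SetLike.coe_subset_coe.mpr hMK) hcK
    have hce : c * e = e * c := heK c (hMK hcM)
    have hconj : e * m * e⁻¹ = m * c := by rw [hc]; group
    have hpow : ∀ j : ℕ, e ^ j * m * (e ^ j)⁻¹ = m * c ^ j := by
      intro j
      induction j with
      | zero => simp
      | succ j ih =>
        have hcj : e * c ^ j * e⁻¹ = c ^ j := by
          have h1 : Commute e (c ^ j) := (Commute.pow_right hce.symm j)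
          calc e * c ^ j * e⁻¹ = (e * c ^ j) * e⁻¹ := by group
            _ = (c ^ j * e) * e⁻¹ := by rw [h1.eq]
            _ = c ^ j := by group
        calc e ^ (j + 1) * m * (e ^ (j + 1))⁻¹ = e * (e ^ j * m * (e ^ j)⁻¹) * e⁻¹ := by
              rw [pow_succ']; group
          _ = e * (m * c ^ j) * e⁻¹ := by rw [ih]
          _ = (e * m * e⁻¹) * (e * c ^ j * e⁻¹) := by group
          _ = m * c * c ^ j := by rw [hconj, hcj]
          _ = m * c ^ (j + 1) := by rw [pow_succ']; group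
    have h1 := hpow (orderOf e)
    rw [pow_orderOf_eq_one] at h1
    have h2 : c ^ orderOf e = 1 := by
      have : m = m * c ^ orderOf e := by simpa using h1
      exact (mul_eq_left.mp this.symm)
    have h3 : orderOf c ∣ orderOf e := orderOf_dvd_of_pow_eq_one h2
    have h4 : orderOf c ∣ Nat.card E := h3.trans (Subgroup.orderOf_dvd_natCard E he)
    have h5 : orderOf c ∣ Nat.card F := Subgroup.orderOf_dvd_natCard F hcF
    have h6 : orderOf c = 1 := Nat.eq_one_of_dvd_coprimes hcop h4 h5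
    have h7 : c = 1 := orderOf_eq_one_iff.mp h6
    rw [h7, mul_one] at hconj
    calc m * e = (e * m * e⁻¹) * e := by rw [hconj]
      _ = e * m := by group
  have hle : N ≤ K := hKmax.le_of_ge ⟨hMK.trans hKN, by rw [hN]; exact inf_le_left, hEN⟩ hKN
  exact hnK (hle hnN')


/-- If `Z_p` (an abelian `p`-group) and `Z_r` (an `r`-group, `r ≠ p`) commute elementwise, both
normalize the `p`-group `V`, and `C_V(Z_p)` normalizes `Z_r`, then `Z_r` centralizes `V`. -/
theorem le_centralizer_of_normalizer_le [Finite G] {p r : ℕ} [Fact p.Prime] [Fact r.Prime]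
    (hpr : p ≠ r) {Zp Zr V : Subgroup G} (hZp : IsPGroup p Zp)
    (hZpc : ∀ a ∈ Zp, ∀ b ∈ Zp, a * b = b * a) (hZr : IsPGroup r Zr)
    (hcomm : ∀ a ∈ Zp, ∀ b ∈ Zr, a * b = b * a) (hV : IsPGroup p V)
    (hpV : Zp ≤ Subgroup.normalizer (V : Set G)) (hrV : Zr ≤ Subgroup.normalizer (V : Set G))
    (hN : V ⊓ Subgroup.centralizer (Zp : Set G) ≤ Subgroup.normalizer (Zr : Set G)) :
    Zr ≤ Subgroup.centralizer (V : Set G) := by
  have hp : p.Prime := Fact.out
  have hr : r.Prime := Fact.out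
  have hF : IsPGroup p (V ⊔ Zp : Subgroup G) := hV.to_sup_of_normal_left' hZp hpV
  have hZrZp : Zr ≤ Subgroup.centralizer (Zp : Set G) := by
    intro z hz
    rw [Subgroup.mem_centralizer_iff]
    intro a ha
    exact hcomm a ha z hz
  have hZpZp : Zp ≤ Subgroup.centralizer (Zp : Set G) := by
    intro z hz
    rw [Subgroup.mem_centralizer_iff]
    intro a ha
    exact hZpc a ha z hz
  have hVr : V ⊓ Zr = ⊥ := inf_eq_bot_of_coprime (coprime_card_of_isPGroup hp hr hpr hV hZr)
  have h := le_centralizer_of_nilpotent (F := V ⊔ Zp)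
    (M := Zp ⊔ (V ⊓ Subgroup.centralizer (Zp : Set G))) (E := Zr) hF.isNilpotent
    (sup_le le_sup_right (inf_le_left.trans le_sup_left)) ?_ ?_ ?_ ?_
  · exact h.trans (Subgroup.centralizer_le (SetLike.coe_subset_coe.mpr le_sup_left))
  · -- the centralizer condition
    rintro x ⟨hxF, hxC⟩
    obtain ⟨v, hv, z, hz, rfl⟩ := (Cfsg.Agent.Lib.Helper9.mem_sup_of_le_normalizer hpV).mp hxF
    have hvz : v * z ∈ Subgroup.centralizer (Zp : Set G) :=
      Subgroup.centralizer_le (SetLike.coe_subset_coe.mpr le_sup_left) hxC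
    have hvC : v ∈ Subgroup.centralizer (Zp : Set G) := by
      have h1 := (Subgroup.centralizer (Zp : Set G)).mul_mem hvz
        ((Subgroup.centralizer (Zp : Set G)).inv_mem (hZpZp hz))
      have h2 : v * z * z⁻¹ = v := by group
      rwa [h2] at h1
    exact (Zp ⊔ (V ⊓ Subgroup.centralizer (Zp : Set G))).mul_mem
      ((le_sup_right : V ⊓ Subgroup.centralizer (Zp : Set G) ≤ _) ⟨hv, hvC⟩)
      ((le_sup_left : Zp ≤ _) hz)
  · exact le_normalizer_sup hrV (hZrZp.trans (Subgroup.centralizer_le_normalizer _))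
  · exact coprime_card_of_isPGroup hr hp (Ne.symm hpr) hZr hF
  · apply le_centralizer_sup hZrZp
    apply le_centralizer_of_commute
    intro z hz v hv
    have hnorm : Zr ≤ Subgroup.normalizer
        ((V ⊓ Subgroup.centralizer (Zp : Set G) : Subgroup G) : Set G) :=
      le_normalizer_inf hrV
        (le_normalizer_centralizer (hZrZp.trans (Subgroup.centralizer_le_normalizer _)))
    have hinf : (V ⊓ Subgroup.centralizer (Zp : Set G)) ⊓ Zr = ⊥ := by
      rw [eq_bot_iff, ← hVr]
      exact inf_le_inf inf_le_left le_rfl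
    exact (commute_of_normalize_of_inf_eq_bot hN hnorm hinf hv hz).symm

/-- Quotient form: in a finite solvable group `Γ`, let `Z_p` be an abelian `p`-subgroup and `Z_r`
an `r`-subgroup (`r ≠ p`) commuting with it, with `N(Z_p) ≤ N(Z_r)`.  A subgroup `Q` of order prime
to `p` with `Q = [Q, Z_r]` lies in `O_{p'}(Γ)`. -/
theorem le_pPrimeCore_of_commutator {Γ : Type*} [Group Γ] [Finite Γ] [Group.IsSolvable Γ]
    {p r : ℕ} [Fact p.Prime] [Fact r.Prime] (hpr : p ≠ r) {Zp Zr Q : Subgroup Γ}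
    (hZp : IsPGroup p Zp) (hZpc : ∀ a ∈ Zp, ∀ b ∈ Zp, a * b = b * a) (hZr : IsPGroup r Zr)
    (hcomm : ∀ a ∈ Zp, ∀ b ∈ Zr, a * b = b * a)
    (hN : Subgroup.normalizer (Zp : Set Γ) ≤ Subgroup.normalizer (Zr : Set Γ))
    (hQ : Q = ⁅Q, Zr⁆) (hQcop : (Nat.card Q).Coprime p) : Q ≤ pPrimeCore p Γ := by
  have hp : p.Prime := Fact.out
  obtain ⟨φ, hφ⟩ : ∃ φ : Γ →* Γ ⧸ pPrimeCore p Γ, φ = QuotientGroup.mk' (pPrimeCore p Γ) :=
    ⟨_, rfl⟩
  have hφsurj : Function.Surjective φ := by rw [hφ]; exact QuotientGroup.mk'_surjective _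
  have hker : ∀ x : Γ, φ x = 1 ↔ x ∈ pPrimeCore p Γ := by
    intro x; rw [hφ]; exact QuotientGroup.eq_one_iff x
  have hbot : pPrimeCore p (Γ ⧸ pPrimeCore p Γ) = ⊥ :=
    Cfsg.Agent.Lib.Helper10.pPrimeCore_quotient_eq_bot p
  have hsolv : Group.IsSolvable (Γ ⧸ pPrimeCore p Γ) := inferInstance
  obtain ⟨V, hVdef⟩ : ∃ V : Subgroup (Γ ⧸ pPrimeCore p Γ), V = pCore p (Γ ⧸ pPrimeCore p Γ) :=
    ⟨_, rfl⟩
  have hVn : V.Normal := by rw [hVdef]; infer_instance
  have hV : IsPGroup p V := by rw [hVdef]; exact pCore_isPGroup p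
  have hCV : Subgroup.centralizer (V : Set (Γ ⧸ pPrimeCore p Γ)) ≤ V := by
    rw [hVdef]; exact centralizer_pCore_le p hbot
  have hact : CoprimeAct Zp (pPrimeCore p Γ) := by
    refine ⟨?_, ?_, Or.inl inferInstance⟩
    · rw [Subgroup.normalizer_eq_top]; exact le_top
    · obtain ⟨k, hk⟩ := hZp.exists_card_eq
      rw [hk]
      exact Nat.Coprime.pow_left k (pPrimeCore_coprime (G := Γ) p).symm
  -- `Z_r` centralizes `V` in the quotient
  have hZrV : Zr.map φ ≤ Subgroup.centralizer (V : Set (Γ ⧸ pPrimeCore p Γ)) := by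
    apply le_centralizer_of_normalizer_le hpr (Zp := Zp.map φ) (hZp.map φ) ?_ (hZr.map φ) ?_ hV
      ?_ ?_ ?_
    · rintro _ ⟨a, ha, rfl⟩ _ ⟨b, hb, rfl⟩
      rw [← map_mul, ← map_mul, hZpc a ha b hb]
    · rintro _ ⟨a, ha, rfl⟩ _ ⟨b, hb, rfl⟩
      rw [← map_mul, ← map_mul, hcomm a ha b hb]
    · rw [Subgroup.normalizer_eq_top]; exact le_top
    · rw [Subgroup.normalizer_eq_top]; exact le_top
    · rintro w ⟨-, hwC⟩
      obtain ⟨v, rfl⟩ := hφsurj w
      have hx : ∀ a ∈ Zp, v⁻¹ * (a * v * a⁻¹) ∈ pPrimeCore p Γ := by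
        intro a ha
        rw [← hker]
        have h1 : φ a * φ v = φ v * φ a :=
          Subgroup.mem_centralizer_iff.mp hwC (φ a) (Subgroup.mem_map_of_mem φ ha)
        rw [map_mul, map_inv, map_mul, map_mul, map_inv, h1]
        group
      obtain ⟨u, hu, hvu⟩ := hact.exists_mul_mem_normalizer v hx
      have h2 : φ (v * u) = φ v := by
        rw [map_mul, (hker u).mpr hu, mul_one]
      rw [← h2]
      exact Subgroup.le_normalizer_map φ (Subgroup.mem_map_of_mem φ (hN hvu))
  have hCn : (Subgroup.centralizer (V : Set (Γ ⧸ pPrimeCore p Γ))).Normal := inferInstance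
  have hQV : Q.map φ ≤ V := by
    refine le_trans ?_ hCV
    rw [hQ, Subgroup.map_commutator]
    exact (Subgroup.commutator_mono le_top hZrV).trans (Subgroup.commutator_le_right _ _)
  intro x hx
  rw [← hker]
  have h1 : φ x ∈ V := hQV (Subgroup.mem_map_of_mem φ hx)
  obtain ⟨k, hk⟩ := (IsPGroup.iff_orderOf.mp hV) ⟨φ x, h1⟩
  have h2 : orderOf (φ x) = p ^ k := by
    rw [← hk]; exact (Subgroup.orderOf_mk (φ x) h1).symm
  have h3 : orderOf (φ x) ∣ Nat.card Q :=
    (orderOf_map_dvd φ x).trans (Subgroup.orderOf_dvd_natCard Q hx)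
  have h4 : orderOf (φ x) ∣ p ^ k := by rw [h2]
  have h5 : orderOf (φ x) = 1 :=
    Nat.eq_one_of_dvd_coprimes (Nat.Coprime.pow_right k hQcop) h3 h4
  exact orderOf_eq_one_iff.mp h5


/-! ### The `s`-part of `Z(F(H))` -/

/-- If `s` divides `#F(H)` then `O_s(H) ≠ 1`. -/
theorem pCoreOf_ne_bot_of_dvd [Finite G] (H : Subgroup G) {s : ℕ} (hs : s.Prime)
    (hdvd : s ∣ Nat.card (fittingOf H)) : pCoreOf s H ≠ ⊥ := by
  intro h
  have h1 : fittingOf H ≤ ppCoreOf s H := by
    rw [fittingOf_eq_sup hs H, h, bot_sup_eq]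
    exact fitCompl_le_ppCoreOf hs H
  have h2 : s ∣ Nat.card (ppCoreOf s H) := hdvd.trans (Subgroup.card_dvd_of_le h1)
  have h3 := coprime_card_ppCoreOf s H
  exact hs.one_lt.ne' (Nat.eq_one_of_dvd_coprimes h3 h2 dvd_rfl)

/-- The `s`-part of the centre of `F(H)`, as a subgroup of `G`. -/
def fitCenter (s : ℕ) (H : Subgroup G) : Subgroup G :=
  pCoreOf s H ⊓ Subgroup.centralizer (fittingOf H : Set G)

theorem fitCenter_le_pCoreOf (s : ℕ) (H : Subgroup G) : fitCenter s H ≤ pCoreOf s H := inf_le_left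

theorem fitCenter_le_centralizer (s : ℕ) (H : Subgroup G) :
    fitCenter s H ≤ Subgroup.centralizer (fittingOf H : Set G) := inf_le_right

theorem isPGroup_fitCenter (s : ℕ) (H : Subgroup G) : IsPGroup s (fitCenter s H) :=
  (isPGroup_pCoreOf s H).to_le inf_le_left

theorem fitCenter_le_fittingOf [Finite G] {s : ℕ} (hs : s.Prime) (H : Subgroup G) :
    fitCenter s H ≤ fittingOf H := inf_le_left.trans (pCoreOf_le_fittingOf hs H)

theorem fitCenter_le (s : ℕ) (H : Subgroup G) : fitCenter s H ≤ H :=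
  inf_le_left.trans (pCoreOf_le s H)

theorem le_normalizer_fitCenter (s : ℕ) (H : Subgroup G) :
    H ≤ Subgroup.normalizer (fitCenter s H : Set G) :=
  le_normalizer_inf (le_normalizer_pCoreOf s H)
    (le_normalizer_centralizer (le_normalizer_fittingOf H))

theorem le_normalizer_fitCenter_of_le {s : ℕ} {H N : Subgroup G}
    (h : N ≤ Subgroup.normalizer (H : Set G)) :
    N ≤ Subgroup.normalizer (fitCenter s H : Set G) :=
  le_normalizer_inf (le_normalizer_pCoreOf_of_le h)
    (le_normalizer_centralizer (le_normalizer_fittingOf_of_le h))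

theorem fitCenter_ne_bot [Finite G] (H : Subgroup G) {s : ℕ} (hs : s.Prime)
    (hne : pCoreOf s H ≠ ⊥) : fitCenter s H ≠ ⊥ := by
  have : Fact s.Prime := ⟨hs⟩
  have h1 := inf_centralizer_ne_bot (isPGroup_pCoreOf s H) hne
  intro h2
  apply h1
  rw [eq_bot_iff, ← h2]
  intro x hx
  obtain ⟨hx1, hx2⟩ := Subgroup.mem_inf.mp hx
  refine Subgroup.mem_inf.mpr ⟨hx1, ?_⟩
  rw [fittingOf_eq_iSup, mem_centralizer_iSup_iff]
  intro q
  by_cases hqs : (q : ℕ) = s
  · rw [hqs]; exact hx2
  · rw [Subgroup.mem_centralizer_iff]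
    intro y hy
    exact commute_pCoreOf q.2 hs hqs H hy hx1

/-- elements of `fitCenter` for distinct primes commute. -/
theorem commute_fitCenter [Finite G] {p r : ℕ} (H : Subgroup G) {a b : G}
    (ha : a ∈ fitCenter p H) (hb : b ∈ fitCenter r H) (hr : r.Prime) : a * b = b * a :=
  (Subgroup.mem_centralizer_iff.mp (fitCenter_le_centralizer p H ha) b
    (fitCenter_le_fittingOf hr H hb)).symm

/-- `fitCenter` is abelian. -/
theorem commute_fitCenter_self [Finite G] {p : ℕ} (hp : p.Prime) (H : Subgroup G) {a b : G}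
    (ha : a ∈ fitCenter p H) (hb : b ∈ fitCenter p H) : a * b = b * a :=
  commute_fitCenter H ha hb hp

end Cfsg.Agent.Lib.Helper22.Bender
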