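import Mathlib
import Cfsg.Prelude.Def_GeometricClasses
import Cfsg.Agent.Lib.Helper7.AschDefs
import Cfsg.Agent.Lib.Helper22.AschC7Defs
import Cfsg.Agent.Lib.Helper22.AschC7Core
import Cfsg.Agent.Lib.Helper22.AschC7Top
import Cfsg.Agent.Lib.Helper22.S5663U7Defs

/-!
# S5663, block U7: the tensor structure of the tensor-induced case, with the position groups exposed  (helper22)

A re-cut of the proof of `Cfsg.Agent.Lib.Helper22.AschC7.c7_case` (S5630 I7) which keeps `e`, `P`, the conjugates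
`Ls i` of `L` and their position in the tensor decomposition.
-/

set_option autoImplicit false

namespace Cfsg.Agent.Lib.Helper22.U7Rec

open Matrix Cfsg.Geo Cfsg.Agent.Lib.Helper7.Asch Cfsg.Agent.Lib.Helper22.AschC7 Cfsg.Agent.Lib.Helper22.U7
open scoped commutatorElement

variable {F : Type*} [Field F] {n : ℕ}

/-- whoever permutes the images `Phi e P (pos i ·)` of the position algebras lies in the tensor-wreath group of `e`, `P` -/
theorem mem_tensorWreath_of_perm (m t : ℕ) (ht : 0 < t)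
    (φ : Fin t → (Matrix (Fin m) (Fin m) F →ₐ[F] Matrix (Fin n) (Fin n) F))
    (e : Fin n ≃ (Fin t → Fin m)) (P : GL (Fin n) F) (hP' : ∀ i a, φ i a = Phi e P (pos i a))
    (h : GL (Fin n) F) (hh : ∃ σ : Equiv.Perm (Fin t), ∀ i a, ∃ b, conjAlg h (φ i a) = φ (σ i) b) :
    h ∈ tensorWreathSubgroup m t e P := by
  have hPP : ((P⁻¹ : GL (Fin n) F) : Matrix (Fin n) (Fin n) F) * (P : Matrix (Fin n) (Fin n) F) = 1 := by
    rw [← Units.val_mul, inv_mul_cancel, Units.val_one]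
  obtain ⟨Φ, hP⟩ : ∃ Φ : Matrix (Fin t → Fin m) (Fin t → Fin m) F → Matrix (Fin n) (Fin n) F, ∀ A, Φ A =
      (P : Matrix (Fin n) (Fin n) F) * Matrix.reindex e.symm e.symm A * ((P⁻¹ : GL (Fin n) F) : Matrix (Fin n) (Fin n) F) :=
    ⟨_, fun _ => rfl⟩
  have hΦ : ∀ i a, Φ (pos i a) = φ i a := fun i a => by rw [hP, hP' i a, Phi_def]
  have hΦinj : Function.Injective Φ := by
    intro A B hAB
    rw [hP, hP] at hAB
    have h1 : Matrix.reindex e.symm e.symm A = Matrix.reindex e.symm e.symm B := by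
      have := congrArg (fun M => ((P⁻¹ : GL (Fin n) F) : Matrix (Fin n) (Fin n) F) * M * (P : Matrix (Fin n) (Fin n) F)) hAB
      beta_reduce at this
      rw [← mul_assoc, ← mul_assoc, hPP, one_mul, mul_assoc, hPP, mul_one] at this
      rw [← mul_assoc, ← mul_assoc, hPP, one_mul, mul_assoc, hPP, mul_one] at this
      exact this
    exact (Matrix.reindex e.symm e.symm).injective h1
  obtain ⟨σ, hσ⟩ := hh
  obtain ⟨g, hg⟩ : ∃ g : GL (Fin t → Fin m) F, g = (glReindex e.symm).symm (P⁻¹ * h * P) := ⟨_, rfl⟩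
  have hgr : glReindex e.symm g = P⁻¹ * h * P := by rw [hg, MulEquiv.apply_symm_apply]
  have hgh : h = P * (glReindex e.symm g) * P⁻¹ := by rw [hgr]; group
  have hcoe : ∀ k : GL (Fin t → Fin m) F, ((glReindex e.symm k : GL (Fin n) F) : Matrix (Fin n) (Fin n) F) =
      Matrix.reindex e.symm e.symm (k : Matrix (Fin t → Fin m) (Fin t → Fin m) F) := fun k => rfl
  have hre_mul : ∀ A B : Matrix (Fin t → Fin m) (Fin t → Fin m) F,
      Matrix.reindex e.symm e.symm (A * B) = Matrix.reindex e.symm e.symm A * Matrix.reindex e.symm e.symm B := by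
    intro A B
    exact map_mul (Matrix.reindexAlgEquiv F F e.symm) A B
  have key : ∀ A, Φ ((g : Matrix (Fin t → Fin m) (Fin t → Fin m) F) * A *
      ((g⁻¹ : GL (Fin t → Fin m) F) : Matrix (Fin t → Fin m) (Fin t → Fin m) F)) = conjAlg h (Φ A) := by
    intro A
    rw [hP, hP, conjAlg_apply, hre_mul, hre_mul, ← hcoe g, ← hcoe g⁻¹, map_inv]
    have e1 : (h : Matrix (Fin n) (Fin n) F) = (P : Matrix (Fin n) (Fin n) F) *
        ((glReindex e.symm g : GL (Fin n) F) : Matrix (Fin n) (Fin n) F) * ((P⁻¹ : GL (Fin n) F) : Matrix (Fin n) (Fin n) F) := by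
      conv_lhs => rw [hgh]
      rw [Units.val_mul, Units.val_mul]
    have e2 : ((h⁻¹ : GL (Fin n) F) : Matrix (Fin n) (Fin n) F) = (P : Matrix (Fin n) (Fin n) F) *
        (((glReindex e.symm g)⁻¹ : GL (Fin n) F) : Matrix (Fin n) (Fin n) F) * ((P⁻¹ : GL (Fin n) F) : Matrix (Fin n) (Fin n) F) := by
      conv_lhs => rw [hgh]
      rw [_root_.mul_inv_rev, _root_.mul_inv_rev, inv_inv, Units.val_mul, Units.val_mul, mul_assoc]
    rw [e1, e2]
    simp only [mul_assoc]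
    rw [← mul_assoc ((P⁻¹ : GL (Fin n) F) : Matrix (Fin n) (Fin n) F) (P : Matrix (Fin n) (Fin n) F), hPP, one_mul]
    rw [← mul_assoc ((P⁻¹ : GL (Fin n) F) : Matrix (Fin n) (Fin n) F) (P : Matrix (Fin n) (Fin n) F), hPP, one_mul]
  have hmem : g ∈ tensorWreathStandard m t F := by
    apply mem_tensorWreathStandard ht g σ
    intro i a
    obtain ⟨b, hb⟩ := hσ i a
    refine ⟨b, hΦinj ?_⟩
    rw [key, hΦ, hΦ, hb]
  rw [hgh]
  exact Subgroup.mem_map.mpr ⟨glReindex e.symm g, Subgroup.mem_map.mpr ⟨g, hmem, rfl⟩, rfl⟩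

/-- the tensor structure of the tensor-induced case -/
theorem exists_tensor_structure [Fintype F] (hn : 3 ≤ n) (H L : Subgroup (GL (Fin n) F)) (hQP : QP H)
    (hLH : L ≤ H) (hLs : ¬ L ≤ scalars (Fin n) F)
    (hconj : ∀ h ∈ H, (∀ x ∈ L, h * x * h⁻¹ ∈ L) ∨
      (∀ x ∈ L, ∀ y ∈ L, (h * x * h⁻¹) * y = y * (h * x * h⁻¹)))
    (hnn : ¬ NormBy H L) :
    ∃ (m t : ℕ) (e : Fin n ≃ (Fin t → Fin m)) (P : GL (Fin n) F) (Ls : Fin t → Subgroup (GL (Fin n) F))
      (i₀ : Fin t), 2 ≤ m ∧ 2 ≤ t ∧ H ≤ tensorWreathSubgroup m t e P ∧ Ls i₀ = L ∧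
      (∀ i, ∃ h ∈ H, Ls i = cj h L) ∧ AbsIrr (⨆ i, Ls i) ∧ NormBy H (⨆ i, Ls i) ∧ (⨆ i, Ls i) ≤ H ∧
      (∀ i, ∀ x ∈ Ls i, ∃ a : Matrix (Fin m) (Fin m) F,
        ((x : GL (Fin n) F) : Matrix (Fin n) (Fin n) F) = Phi e P (pos i a)) ∧
      (∀ i, ∀ b : Matrix (Fin m) (Fin m) F, Phi e P (pos i b) ∈ Submodule.span F (matrixSet (Ls i))) := by
  obtain ⟨t, hs, ht, hsH, ⟨i₀, hi₀⟩, hcomm, hperm⟩ := exists_conj_enum H L hLH hconj hnn
  have hN : AbsIrr (⨆ i, cj (hs i) L) := absIrr_iSup_cj H L hQP hLH hLs hs hsH ⟨i₀, hi₀⟩ hperm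
  have hLN : L ≤ ⨆ i, cj (hs i) L := by
    have := le_iSup (fun i => cj (hs i) L) i₀
    rwa [hi₀] at this
  obtain ⟨m, φ, h1, h2⟩ := exists_algHom_span (by omega) _ L hN hLN (exists_factor L hs i₀ hi₀ hcomm)
  have hc : ∀ i j, i ≠ j → ∀ a b, ((conjAlg (hs i)).comp φ) a * ((conjAlg (hs j)).comp φ) b =
      ((conjAlg (hs j)).comp φ) b * ((conjAlg (hs i)).comp φ) a :=
    fun i j hij a b => commute_ranges L φ h1 (hs i) (hs j) (hcomm i j hij) a b
  have hgen := adjoin_ranges_eq_top L φ h2 hs hN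
  obtain ⟨e, P, hP'⟩ := exists_tens (by omega) m t (fun i => (conjAlg (hs i)).comp φ) hc hgen
  have hP'' : ∀ i a, ((conjAlg (hs i)).comp φ) a = Phi e P (pos i a) := fun i a => by rw [hP' i a, Phi_def]
  have hHle : H ≤ tensorWreathSubgroup m t e P := by
    intro h hh
    apply mem_tensorWreath_of_perm m t (by omega) (fun i => (conjAlg (hs i)).comp φ) e P hP''
    obtain ⟨σ, hσ⟩ := hperm h hh
    exact ⟨σ, fun i a => conj_range_perm L φ h1 h2 h (hs i) (hs (σ i)) (hσ i) a⟩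
  have hm : 2 ≤ m := two_le_of_algHom (by omega) L hLs m φ h2
  have hNH : (⨆ i, cj (hs i) L) ≤ H := by
    refine iSup_le fun i => ?_
    intro y hy
    obtain ⟨x, hx, rfl⟩ := mem_cj.1 hy
    exact mul_mem (mul_mem (hsH i) (hLH hx)) (inv_mem (hsH i))
  have hnorm : NormBy H (⨆ i, cj (hs i) L) := by
    intro h hh x hx
    obtain ⟨σ, hσ⟩ := hperm h hh
    refine Subgroup.iSup_induction (fun i => cj (hs i) L)
      (C := fun x => h * x * h⁻¹ ∈ (⨆ i, cj (hs i) L)) hx ?_ ?_ ?_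
    · intro i x hx
      have : h * x * h⁻¹ ∈ cj h (cj (hs i) L) := conj_mem_cj hx
      rw [hσ i] at this
      exact Subgroup.mem_iSup_of_mem (σ i) this
    · rw [mul_one, mul_inv_cancel]
      exact one_mem _
    · intro x y hx hy
      have : h * (x * y) * h⁻¹ = (h * x * h⁻¹) * (h * y * h⁻¹) := by group
      rw [this]
      exact mul_mem hx hy
  refine ⟨m, t, e, P, fun i => cj (hs i) L, i₀, hm, ht, hHle, hi₀, fun i => ⟨hs i, hsH i, rfl⟩, hN, hnorm, hNH,
    ?_, ?_⟩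
  · intro i x hx
    obtain ⟨y, hy, rfl⟩ := mem_cj.1 hx
    obtain ⟨a, ha⟩ := h2 y hy
    refine ⟨a, ?_⟩
    rw [← hP'' i a, AlgHom.comp_apply, ha, conjAlg_apply, Units.val_mul, Units.val_mul]
  · intro i b
    rw [← hP'' i b, AlgHom.comp_apply]
    have hgen : ∀ M ∈ Submodule.span F (matrixSet L),
        conjAlg (hs i) M ∈ Submodule.span F (matrixSet (cj (hs i) L)) := by
      intro M hM
      induction hM using Submodule.span_induction with
      | mem x hx =>
        obtain ⟨y, hy, rfl⟩ := hx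
        apply Submodule.subset_span
        refine ⟨hs i * y * (hs i)⁻¹, conj_mem_cj hy, ?_⟩
        show ((hs i * y * (hs i)⁻¹ : GL (Fin n) F) : Matrix (Fin n) (Fin n) F) = _
        rw [conjAlg_apply, Units.val_mul, Units.val_mul]
      | zero => rw [map_zero]; exact Submodule.zero_mem _
      | add x y _ _ hx hy => rw [map_add]; exact Submodule.add_mem _ hx hy
      | smul c x _ hx => rw [map_smul]; exact Submodule.smul_mem _ c hx
    exact hgen _ (h1 b)

end Cfsg.Agent.Lib.Helper22.U7Rec
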