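import Mathlib
import Cfsg.Prelude.Def_GeometricClasses
import Cfsg.Agent.Lib.Helper7.AschDefs
import Cfsg.Agent.Lib.Helper22.AschC7Defs
import Cfsg.Agent.Lib.Helper22.AschC7Core
import Cfsg.Agent.Lib.Helper22.AschC7Top
import Cfsg.Agent.Lib.Helper22.S5663U7Defs
import Cfsg.Agent.Lib.Helper22.S5663U7Rec

/-!
# The data of the tensor-induced case (S5630 I7 re-cut), form-free, for the three form hubs  (helper22)

`c7_data_full` : in the situation of the tensor-induced case (`L` perfect, not normal in `H`, its `H`-conjugates commute),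
there are `m t e P`, ONE subgroup `Y ≤ GL_m(F)` (perfect, not scalar, spanning `M_m(F)`, absolutely irreducible) and the
`t` conjugates `Ls i` of `L` such that `H ≤ tensorWreathSubgroup m t e P`, `Ls i = {P (pos i a) P⁻¹ | a ∈ Y}` (through
`Phi e P`), and `N = ⨆ i, Ls i` is absolutely irreducible, perfect, normalised by `H`.
`c7_data` : the statement of the stub C7-DATA of `Lib/Helper16/SpAC7Skel.lean` (S5662).
-/

set_option autoImplicit false

namespace Cfsg.Agent.Lib.Helper22.C7Data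

open Matrix Cfsg.Geo Cfsg.Agent.Lib.Helper7.Asch Cfsg.Agent.Lib.Helper22.AschC7 Cfsg.Agent.Lib.Helper22.U7
open scoped commutatorElement

variable {F : Type*} [Field F] {n : ℕ}

/-- a group of matrices spanning the matrix algebra is absolutely irreducible -/
theorem absIrr_of_span_eq_top {m : ℕ} (Y : Subgroup (GL (Fin m) F))
    (hspan : Submodule.span F (matrixSet Y) = ⊤) : AbsIrr Y := by
  have hall : ∀ (W : Submodule F (Fin m → F)), (∀ s ∈ matrixSet Y, W.map (Matrix.toLin' s) ≤ W) →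
      ∀ M : Matrix (Fin m) (Fin m) F, ∀ w ∈ W, M *ᵥ w ∈ W := by
    intro W hW M w hw
    have hM : M ∈ Submodule.span F (matrixSet Y) := by rw [hspan]; trivial
    induction hM using Submodule.span_induction with
    | mem x hx =>
      apply hW x hx
      exact Submodule.mem_map.mpr ⟨w, hw, by rw [Matrix.toLin'_apply]⟩
    | zero => rw [Matrix.zero_mulVec]; exact W.zero_mem
    | add x y _ _ hx hy => rw [Matrix.add_mulVec]; exact W.add_mem hx hy
    | smul c x _ hx => rw [Matrix.smul_mulVec]; exact W.smul_mem c hx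
  refine ⟨?_, ?_⟩
  · intro W hW
    by_cases hbot : W = ⊥
    · exact Or.inl hbot
    right
    obtain ⟨w, hw, hw0⟩ := (Submodule.ne_bot_iff W).mp hbot
    obtain ⟨j, hj⟩ : ∃ j, w j ≠ 0 := by
      by_contra hcon
      push Not at hcon
      exact hw0 (funext hcon)
    rw [eq_top_iff]
    intro v _
    have := hall W hW ((w j)⁻¹ • Matrix.vecMulVec v (Pi.single j 1)) w hw
    have hv : ((w j)⁻¹ • Matrix.vecMulVec v (Pi.single j 1)) *ᵥ w = v := by
      funext k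
      rw [Matrix.smul_mulVec, Pi.smul_apply, Matrix.mulVec, dotProduct]
      simp only [Matrix.vecMulVec_apply, smul_eq_mul]
      rw [Finset.sum_eq_single j]
      · rw [Pi.single_eq_same, mul_one]
        field_simp
      · intro b _ hb
        rw [Pi.single_eq_of_ne hb]
        simp
      · intro h; exact absurd (Finset.mem_univ j) h
    rwa [hv] at this
  · intro Z hZ
    have hcom : ∀ a : Matrix (Fin m) (Fin m) F, Z * a = a * Z := by
      intro a
      have ha : a ∈ Submodule.span F (matrixSet Y) := by rw [hspan]; trivial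
      induction ha using Submodule.span_induction with
      | mem x hx => exact hZ x hx
      | zero => simp
      | add x y _ _ hx hy => rw [mul_add, add_mul, hx, hy]
      | smul c x _ hx => rw [Matrix.mul_smul, Matrix.smul_mul, hx]
    have hmem : Z ∈ Set.range (Matrix.scalar (Fin m)) := by
      apply Matrix.mem_range_scalar_of_commute_single
      intro i j _
      exact (hcom _).symm
    obtain ⟨c, hc⟩ := hmem
    refine ⟨c, ?_⟩
    rw [← hc]
    ext i j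
    simp [Matrix.scalar_apply, Matrix.diagonal_apply, Matrix.one_apply]

/-- the full data of the tensor-induced case -/
theorem c7_data_full [Fintype F] (hn : 3 ≤ n) (H L : Subgroup (GL (Fin n) F)) (hQP : QP H)
    (hLH : L ≤ H) (hLs : ¬ L ≤ scalars (Fin n) F) (hperf : ⁅L, L⁆ = L)
    (hconj : ∀ h ∈ H, (∀ x ∈ L, h * x * h⁻¹ ∈ L) ∨
      (∀ x ∈ L, ∀ y ∈ L, (h * x * h⁻¹) * y = y * (h * x * h⁻¹)))
    (hnn : ¬ NormBy H L) :
    ∃ (m t : ℕ) (e : Fin n ≃ (Fin t → Fin m)) (P : GL (Fin n) F) (Y : Subgroup (GL (Fin m) F))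
      (Ls : Fin t → Subgroup (GL (Fin n) F)) (i₀ : Fin t),
      2 ≤ m ∧ 2 ≤ t ∧ H ≤ tensorWreathSubgroup m t e P ∧
      AbsIrr Y ∧ Submodule.span F (matrixSet Y) = ⊤ ∧ ⁅Y, Y⁆ = Y ∧ ¬ Y ≤ scalars (Fin m) F ∧
      Ls i₀ = L ∧ (∀ i, Ls i ≤ H) ∧
      (∀ i, ∀ a ∈ Y, ∃ g ∈ Ls i, ((g : GL (Fin n) F) : Matrix (Fin n) (Fin n) F) =
        Phi e P (pos i ((a : GL (Fin m) F) : Matrix (Fin m) (Fin m) F))) ∧
      (∀ i, ∀ g ∈ Ls i, ∃ a ∈ Y, ((g : GL (Fin n) F) : Matrix (Fin n) (Fin n) F) =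
        Phi e P (pos i ((a : GL (Fin m) F) : Matrix (Fin m) (Fin m) F))) ∧
      AbsIrr (⨆ i, Ls i) ∧ NormBy H (⨆ i, Ls i) ∧ (⨆ i, Ls i) ≤ H ∧
      ⁅(⨆ i, Ls i), (⨆ i, Ls i)⁆ = ⨆ i, Ls i := by
  obtain ⟨t, hs, ht, hsH, ⟨i₀, hi₀⟩, hcomm, hperm⟩ := exists_conj_enum H L hLH hconj hnn
  have hN : AbsIrr (⨆ i, cj (hs i) L) := absIrr_iSup_cj H L hQP hLH hLs hs hsH ⟨i₀, hi₀⟩ hperm
  have hLN : L ≤ ⨆ i, cj (hs i) L := by
    have := le_iSup (fun i => cj (hs i) L) i₀
    rwa [hi₀] at this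
  obtain ⟨m, φ, h1, h2⟩ := exists_algHom_span (by omega) _ L hN hLN (exists_factor L hs i₀ hi₀ hcomm)
  have hc : ∀ i j, i ≠ j → ∀ a b, ((conjAlg (hs i)).comp φ) a * ((conjAlg (hs j)).comp φ) b =
      ((conjAlg (hs j)).comp φ) b * ((conjAlg (hs i)).comp φ) a :=
    fun i j hij a b => commute_ranges L φ h1 (hs i) (hs j) (hcomm i j hij) a b
  have hgen := adjoin_ranges_eq_top L φ h2 hs hN
  obtain ⟨e, P, hP'⟩ := exists_tens (by omega) m t (fun i => (conjAlg (hs i)).comp φ) hc hgen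
  have hP'' : ∀ i a, ((conjAlg (hs i)).comp φ) a = Phi e P (pos i a) := fun i a => by rw [hP' i a, Phi_def]
  have hHle : H ≤ tensorWreathSubgroup m t e P := by
    intro h hh
    apply Cfsg.Agent.Lib.Helper22.U7Rec.mem_tensorWreath_of_perm m t (by omega)
      (fun i => (conjAlg (hs i)).comp φ) e P hP''
    obtain ⟨σ, hσ⟩ := hperm h hh
    exact ⟨σ, fun i a => conj_range_perm L φ h1 h2 h (hs i) (hs (σ i)) (hσ i) a⟩
  have hm : 2 ≤ m := two_le_of_algHom (by omega) L hLs m φ h2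
  have hNH : (⨆ i, cj (hs i) L) ≤ H := by
    refine iSup_le fun i => ?_
    intro y hy
    obtain ⟨x, hx, rfl⟩ := mem_cj.1 hy
    exact mul_mem (mul_mem (hsH i) (hLH hx)) (inv_mem (hsH i))
  have hnorm : NormBy H (⨆ i, cj (hs i) L) := by
    intro h hh x hx
    obtain ⟨σ, hσ⟩ := hperm h hh
    refine Subgroup.iSup_induction (fun i => cj (hs i) L)
      (C := fun x => h * x * h⁻¹ ∈ (⨆ i, cj (hs i) L)) hx ?_ ?_ ?_
    · intro i x hx
      have : h * x * h⁻¹ ∈ cj h (cj (hs i) L) := conj_mem_cj hx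
      rw [hσ i] at this
      exact Subgroup.mem_iSup_of_mem (σ i) this
    · rw [mul_one, mul_inv_cancel]
      exact one_mem _
    · intro x y hx hy
      have : h * (x * y) * h⁻¹ = (h * x * h⁻¹) * (h * y * h⁻¹) := by group
      rw [this]
      exact mul_mem hx hy
  -- `φ` is injective
  haveI : Nonempty (Fin m) := ⟨⟨0, by omega⟩⟩
  haveI : Nonempty (Fin n) := ⟨⟨0, by omega⟩⟩
  have hφinj : Function.Injective φ := (φ : Matrix (Fin m) (Fin m) F →+* Matrix (Fin n) (Fin n) F).injective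
  -- the group `Y`
  obtain ⟨Ψ, hΨ⟩ : ∃ Ψ : GL (Fin m) F →* GL (Fin n) F, ∀ a : GL (Fin m) F,
      ((Ψ a : GL (Fin n) F) : Matrix (Fin n) (Fin n) F) = φ (a : Matrix (Fin m) (Fin m) F) :=
    ⟨Units.map (φ : Matrix (Fin m) (Fin m) F →* Matrix (Fin n) (Fin n) F), fun a => rfl⟩
  have hΨinj : Function.Injective Ψ := by
    intro a b hab
    apply Units.ext
    apply hφinj
    rw [← hΨ, ← hΨ, hab]
  have hLrange : ∀ x ∈ L, ∃ a : GL (Fin m) F, Ψ a = x := by
    intro x hx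
    obtain ⟨a, ha⟩ := h2 x hx
    obtain ⟨a', ha'⟩ := h2 x⁻¹ (inv_mem hx)
    have h11 : a * a' = 1 := by
      apply hφinj
      rw [map_mul, ha, ha', ← Units.val_mul, mul_inv_cancel, Units.val_one, map_one]
    have h12 : a' * a = 1 := by
      apply hφinj
      rw [map_mul, ha, ha', ← Units.val_mul, inv_mul_cancel, Units.val_one, map_one]
    refine ⟨⟨a, a', h11, h12⟩, ?_⟩
    apply Units.ext
    rw [hΨ]
    exact ha
  obtain ⟨Y, hY⟩ : ∃ Y : Subgroup (GL (Fin m) F), Y = L.comap Ψ := ⟨_, rfl⟩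
  have hYmem : ∀ a, a ∈ Y ↔ Ψ a ∈ L := fun a => by rw [hY]; exact Subgroup.mem_comap
  have hYmap : Y.map Ψ = L := by
    apply le_antisymm
    · rintro _ ⟨a, ha, rfl⟩
      exact (hYmem a).mp ha
    · intro x hx
      obtain ⟨a, rfl⟩ := hLrange x hx
      exact ⟨a, (hYmem a).mpr hx, rfl⟩
  have hYperf : ⁅Y, Y⁆ = Y := by
    apply Subgroup.map_injective hΨinj
    rw [Subgroup.map_commutator, hYmap, hperf]
  have hYns : ¬ Y ≤ scalars (Fin m) F := by
    intro hsc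
    apply hLs
    intro x hx
    obtain ⟨a, rfl⟩ := hLrange x hx
    obtain ⟨c, hc⟩ := (mem_scalars_iff _).mp (hsc ((hYmem a).mpr hx))
    rw [mem_scalars_iff]
    refine ⟨c, ?_⟩
    rw [hΨ, hc, map_smul, map_one]
  have hYspan : Submodule.span F (matrixSet Y) = ⊤ := by
    rw [eq_top_iff]
    intro b _
    have hgenφ : ∀ M ∈ Submodule.span F (matrixSet L), ∃ b' ∈ Submodule.span F (matrixSet Y), φ b' = M := by
      intro M hM
      induction hM using Submodule.span_induction with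
      | mem x hx =>
        obtain ⟨y, hy, rfl⟩ := hx
        obtain ⟨a, rfl⟩ := hLrange y hy
        exact ⟨(a : Matrix (Fin m) (Fin m) F), Submodule.subset_span ⟨a, (hYmem a).mpr hy, rfl⟩, (hΨ a).symm⟩
      | zero => exact ⟨0, Submodule.zero_mem _, map_zero φ⟩
      | add x y _ _ hx hy =>
        obtain ⟨x', hx', rfl⟩ := hx
        obtain ⟨y', hy', rfl⟩ := hy
        exact ⟨x' + y', Submodule.add_mem _ hx' hy', map_add φ _ _⟩
      | smul c x _ hx =>
        obtain ⟨x', hx', rfl⟩ := hx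
        exact ⟨c • x', Submodule.smul_mem _ c hx', map_smul φ _ _⟩
    obtain ⟨b', hb', hbb⟩ := hgenφ _ (h1 b)
    rw [← hφinj hbb]
    exact hb'
  have hcjperf : ∀ i, ⁅cj (hs i) L, cj (hs i) L⁆ = cj (hs i) L := by
    intro i
    unfold cj
    rw [← Subgroup.map_commutator, hperf]
  have hNperf : ⁅(⨆ i, cj (hs i) L), (⨆ i, cj (hs i) L)⁆ = ⨆ i, cj (hs i) L := by
    apply le_antisymm
    · rw [Subgroup.commutator_le]
      intro x hx y hy
      exact mul_mem (mul_mem (mul_mem hx hy) (inv_mem hx)) (inv_mem hy)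
    · refine iSup_le fun i => ?_
      rw [← hcjperf i]
      exact Subgroup.commutator_mono (le_iSup (fun i => cj (hs i) L) i) (le_iSup (fun i => cj (hs i) L) i)
  refine ⟨m, t, e, P, Y, fun i => cj (hs i) L, i₀, hm, ht, hHle, absIrr_of_span_eq_top Y hYspan, hYspan, hYperf,
    hYns, hi₀, ?_, ?_, ?_, hN, hnorm, hNH, hNperf⟩
  · intro i
    exact (le_iSup (fun i => cj (hs i) L) i).trans hNH
  · intro i a ha
    refine ⟨hs i * Ψ a * (hs i)⁻¹, conj_mem_cj ((hYmem a).mp ha), ?_⟩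
    rw [← hP'' i, AlgHom.comp_apply, conjAlg_apply, Units.val_mul, Units.val_mul, hΨ]
  · intro i g hg
    obtain ⟨y, hy, rfl⟩ := mem_cj.1 hg
    obtain ⟨a, rfl⟩ := hLrange y hy
    refine ⟨a, (hYmem a).mpr hy, ?_⟩
    rw [← hP'' i, AlgHom.comp_apply, conjAlg_apply, Units.val_mul, Units.val_mul, hΨ]

/-- **C7-DATA** of `Lib/Helper16/SpAC7Skel.lean` (S5662), exact signature -/
theorem c7_data [Fintype F] (hn : 3 ≤ n) (H L : Subgroup (GL (Fin n) F)) (hH : AbsIrr H) (hQP : QP H)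
    (hLH : L ≤ H) (hLs : ¬ L ≤ scalars (Fin n) F) (hperf : ⁅L, L⁆ = L) (hqs : SimpleModScal L)
    (hconj : ∀ h ∈ H, (∀ x ∈ L, h * x * h⁻¹ ∈ L) ∨
      (∀ x ∈ L, ∀ y ∈ L, (h * x * h⁻¹) * y = y * (h * x * h⁻¹)))
    (hnn : ¬ NormBy H L) :
    ∃ (m t : ℕ) (e : Fin n ≃ (Fin t → Fin m)) (P : GL (Fin n) F) (Y : Subgroup (GL (Fin m) F)),
      2 ≤ m ∧ 2 ≤ t ∧ H ≤ tensorWreathSubgroup m t e P ∧ AbsIrr Y ∧ Submodule.span F (matrixSet Y) = ⊤ ∧
      ⁅Y, Y⁆ = Y ∧ ¬ Y ≤ scalars (Fin m) F ∧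
      ∀ i : Fin t, ∀ a ∈ Y, ∃ g ∈ H, (g : Matrix (Fin n) (Fin n) F) = (P : Matrix (Fin n) (Fin n) F) *
        Matrix.reindex e.symm e.symm (pos i (a : Matrix (Fin m) (Fin m) F)) *
        ((P⁻¹ : GL (Fin n) F) : Matrix (Fin n) (Fin n) F) := by
  obtain ⟨m, t, e, P, Y, Ls, i₀, hm, ht, hle, hYabs, hYspan, hYperf, hYns, -, hLsH, hpos, -, -, -, -, -⟩ :=
    c7_data_full hn H L hQP hLH hLs hperf hconj hnn
  refine ⟨m, t, e, P, Y, hm, ht, hle, hYabs, hYspan, hYperf, hYns, ?_⟩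
  intro i a ha
  obtain ⟨g, hg, hga⟩ := hpos i a ha
  exact ⟨g, hLsH i hg, hga⟩

end Cfsg.Agent.Lib.Helper22.C7Data
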