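import Cfsg.Agent.H5.StemTC
import Cfsg.Agent.Lib.Helper1.WeakL3

/-!
# S2043 (Schur multiplier of `Co₁`), block `[P2]`: data for the local subgroup `L = 2^11 : M₂₄` (helper22)

Seven generators `x, y, z, t, w` (generators of `M₂₄` as coordinate permutations, of orders `23, 11, 5, 5, 23`),
`u = ε z ε⁻¹` (order `5`, `ε` a sign change on an octad) and `v = z⁻¹ u` (a sign change, order `2`), given as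
words `ws2` in the letters of `Cfsg.Agent.Lib.Helper27.Co1O.gens9`.  Letters `2 i`, `2 i + 1`: generator `i`,
its inverse.

* `r24`: the defining relators of `M₂₄` of `Cfsg.Agent.Helper4.TC.M24SD` (reversed: words here are read left
  to right);
* `relsS`: further short relators of `M₂₄` (letters `< 10`);
* `u5`, `vdef`, `conjRel conjA 2 5 1`: `u ^ 5`, `v = z⁻¹ u`, `A z A⁻¹ = u`;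
* `stabs`: triples `(a, s, o)`: `a` a word for a sign change, `s` a word of `M₂₄` of odd order `o` that fixes
  the sign set: the relator is the commutator of `a` and `s`;
* `cen`: six words in the conjugates of `v` that are trivial in `L`; in the central extension they are only
  central (used through `Cfsg.H5.StemTC.cwords`).
-/

set_option autoImplicit false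

namespace Cfsg.Agent.Lib.Helper22.Co1M

open Cfsg.H5.TCk Cfsg.H5.StemTC Cfsg.Agent.Lib.Helper10.Weak

def ws2 : List (List ℕ) := [[2, 4, 0, 2, 1, 2, 5, 3, 8, 3],
  [5, 3, 1, 2, 0, 5, 5, 5, 2, 1],
  [5, 3, 4, 3, 1, 2, 4, 2, 5, 0],
  [2, 5, 1, 3, 4, 0, 8, 4, 0],
  [9, 0, 4, 1, 2, 1, 9, 9, 9, 2, 0],
  [10, 2, 4, 4, 0, 5, 3, 8, 0, 8, 1, 5, 3, 4, 3, 1, 2, 4, 2, 5, 0, 0, 9, 1, 9, 2, 4, 1, 5, 5, 3, 11],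
  [1, 4, 3, 5, 3, 0, 2, 5, 2, 4, 10, 2, 4, 4, 0, 5, 3, 8, 0, 8, 1, 5, 3, 4, 3, 1, 2, 4, 2, 5, 0, 0, 9, 1, 9, 2, 4, 1, 5, 5, 3, 11]]

def r24 : List (List ℕ) := [[2, 2, 2, 2, 2, 2, 2, 2, 2, 2, 2],
  [4, 4, 4, 4, 4],
  [4, 3, 5, 2, 2, 2],
  [6, 6, 6, 6, 6],
  [0, 0, 0, 0, 0, 0, 0, 0, 0, 0, 0, 0, 0, 0, 0, 0, 0, 0, 0, 0, 0, 0, 0],
  [2, 1, 3, 0, 0],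
  [7, 1, 1, 5, 3, 1, 4, 0, 2, 4, 0, 0],
  [8, 8, 8, 8, 8, 8, 8, 8, 8, 8, 8, 8, 8, 8, 8, 8, 8, 8, 8, 8, 8, 8, 8],
  [9, 9, 3, 8, 2],
  [6, 4, 4, 6, 4, 4],
  [7, 5, 5, 7, 4, 4, 4],
  [6, 5, 6, 4, 3, 6, 2, 2],
  [6, 2, 6, 2, 6, 2, 6, 2],
  [7, 4, 4, 4, 7, 4, 4, 4],
  [6, 4, 6, 4, 6, 4, 6, 4],
  [6, 5, 7, 5, 6, 4, 6, 4],
  [7, 4, 6, 4, 7, 4, 6, 4],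
  [7, 3, 4, 7, 7, 4, 4, 2, 2],
  [7, 5, 5, 7, 2, 5, 5, 2, 2],
  [6, 4, 4, 7, 5, 3, 6, 2, 2],
  [4, 4, 2, 7, 4, 3, 4, 1, 6, 2, 4, 0],
  [8, 5, 2, 4, 8, 0, 8, 5, 2, 4, 8, 0],
  [8, 5, 3, 5, 8, 0, 8, 4, 3, 4, 8, 0],
  [8, 5, 3, 5, 9, 1, 9, 4, 3, 4, 8, 0],
  [8, 4, 9, 0, 9, 1, 9, 9, 0, 5, 8, 0],
  [9, 3, 1, 9, 4, 4, 3, 5, 3, 5, 8, 0],
  [8, 4, 1, 8, 8, 0, 8, 1, 8, 5, 8, 0],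
  [2, 6, 5, 2, 7, 9, 3, 5, 3, 7, 8, 0]]

set_option maxRecDepth 100000 in
def relsS : List (List ℕ) := [[2, 8, 8, 3, 9],
  [0, 0, 8, 0, 0, 8],
  [0, 2, 8, 1, 2, 9],
  [2, 2, 2, 4, 3, 5],
  [4, 4, 6, 4, 4, 6],
  [0, 8, 0, 9, 1, 9],
  [0, 8, 8, 0, 8, 8],
  [0, 8, 0, 8, 0, 8],
  [0, 0, 8, 2, 0, 3, 8],
  [0, 2, 1, 9, 0, 2, 8],
  [0, 8, 1, 2, 9, 1, 2],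
  [0, 3, 8, 2, 0, 8, 8],
  [2, 2, 2, 2, 5, 3, 4],
  [2, 2, 2, 5, 2, 2, 4],
  [2, 2, 4, 4, 2, 5, 5],
  [2, 4, 2, 5, 5, 3, 4],
  [2, 4, 3, 4, 3, 5, 5],
  [0, 2, 8, 1, 9, 2, 8],
  [0, 8, 2, 9, 1, 2, 9],
  [4, 4, 4, 7, 5, 5, 7],
  [0, 0, 2, 2, 1, 3, 0, 3],
  [0, 0, 2, 0, 2, 1, 3, 3],
  [0, 0, 0, 0, 2, 1, 1, 3],
  [0, 2, 1, 9, 1, 2, 0, 8],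
  [0, 0, 9, 2, 8, 8, 1, 3],
  [0, 0, 2, 1, 8, 8, 3, 9],
  [0, 3, 0, 8, 0, 3, 0, 8],
  [0, 3, 9, 1, 9, 3, 0, 8],
  [0, 3, 8, 0, 8, 3, 0, 8],
  [0, 2, 0, 3, 1, 2, 1, 3],
  [0, 2, 0, 8, 0, 2, 0, 8],
  [2, 2, 6, 5, 6, 4, 3, 6],
  [0, 2, 9, 1, 9, 2, 0, 8],
  [0, 4, 1, 9, 1, 5, 0, 8],
  [0, 4, 0, 8, 0, 5, 0, 8],
  [2, 2, 5, 5, 2, 4, 2, 4],
  [2, 4, 2, 4, 4, 4, 3, 4],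
  [2, 2, 5, 2, 5, 2, 4, 4],
  [2, 4, 3, 4, 3, 4, 4, 4],
  [2, 2, 4, 4, 2, 4, 4, 4],
  [2, 2, 5, 5, 5, 2, 5, 5],
  [0, 4, 9, 1, 9, 5, 0, 8],
  [0, 4, 8, 0, 8, 5, 0, 8],
  [2, 4, 2, 5, 3, 4, 3, 5],
  [0, 5, 9, 1, 9, 4, 0, 8],
  [0, 5, 8, 0, 8, 4, 0, 8],
  [0, 7, 0, 7, 0, 7, 0, 7],
  [4, 6, 4, 7, 4, 6, 4, 7],
  [0, 0, 9, 1, 9, 9, 0, 8],
  [0, 8, 1, 8, 0, 8, 8, 8],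
  [2, 2, 9, 9, 3, 9, 3, 8],
  [0, 8, 2, 8, 0, 8, 2, 8],
  [2, 8, 3, 8, 2, 9, 3, 9],
  [0, 8, 3, 8, 0, 8, 3, 8],
  [0, 8, 4, 8, 0, 8, 5, 8],
  [0, 8, 4, 9, 1, 9, 5, 8],
  [0, 0, 8, 0, 9, 9, 1, 9],
  [2, 8, 8, 8, 8, 3, 9, 9],
  [2, 2, 8, 8, 3, 8, 3, 9],
  [0, 0, 0, 9, 3, 1, 8, 1, 3],
  [0, 0, 3, 3, 4, 2, 5, 1, 3],
  [0, 0, 3, 4, 2, 5, 3, 1, 3],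
  [0, 0, 4, 2, 5, 3, 3, 1, 3],
  [0, 0, 5, 2, 2, 2, 4, 1, 3],
  [0, 0, 2, 2, 8, 1, 2, 9, 3],
  [0, 2, 8, 2, 1, 3, 0, 2, 9],
  [0, 0, 2, 9, 3, 1, 8, 3, 3],
  [0, 3, 8, 1, 9, 1, 8, 1, 2],
  [0, 3, 8, 8, 0, 8, 8, 1, 2],
  [0, 3, 9, 0, 3, 9, 0, 3, 9],
  [0, 8, 1, 3, 9, 2, 8, 1, 8],
  [0, 3, 8, 2, 9, 0, 9, 1, 9],
  [0, 3, 8, 0, 9, 3, 9, 1, 9],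
  [0, 2, 9, 1, 9, 9, 2, 1, 9],
  [0, 8, 1, 2, 8, 0, 8, 8, 2],
  [0, 9, 2, 0, 9, 2, 0, 9, 2],
  [0, 2, 1, 3, 8, 3, 0, 9, 3],
  [0, 0, 3, 8, 0, 9, 3, 0, 8],
  [0, 0, 0, 2, 1, 8, 1, 2, 9],
  [0, 0, 2, 1, 4, 3, 5, 2, 2],
  [0, 0, 2, 1, 2, 4, 3, 5, 2],
  [0, 0, 2, 1, 2, 2, 4, 3, 5],
  [0, 0, 2, 1, 5, 3, 3, 3, 4],
  [0, 2, 1, 3, 9, 0, 8, 0, 9],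
  [0, 2, 1, 3, 9, 9, 1, 9, 9],
  [0, 0, 8, 0, 2, 9, 0, 8, 2],
  [0, 8, 1, 3, 9, 1, 8, 3, 8],
  [2, 2, 2, 4, 8, 8, 3, 9, 5],
  [2, 2, 2, 4, 9, 9, 3, 8, 5],
  [2, 2, 5, 5, 7, 7, 5, 3, 6],
  [2, 2, 7, 3, 4, 7, 7, 4, 4],
  [2, 2, 7, 5, 5, 7, 2, 5, 5],
  [2, 2, 4, 2, 5, 3, 5, 3, 4],
  [2, 4, 2, 4, 7, 2, 4, 6, 6],
  [2, 4, 2, 6, 4, 4, 6, 3, 4],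
  [2, 4, 6, 6, 5, 2, 6, 4, 4],
  [2, 2, 5, 2, 4, 2, 5, 2, 4],
  [2, 5, 2, 6, 6, 5, 2, 6, 5],
  [2, 2, 5, 3, 5, 3, 4, 3, 4],
  [2, 4, 3, 4, 3, 6, 4, 4, 6],
  [2, 4, 3, 5, 2, 8, 2, 9, 9],
  [2, 4, 3, 5, 2, 9, 2, 8, 8],
  [2, 4, 6, 6, 5, 2, 5, 5, 7],
  [0, 2, 9, 3, 8, 2, 1, 2, 9],
  [0, 9, 2, 8, 8, 8, 1, 2, 9],
  [0, 2, 8, 1, 8, 2, 9, 9, 9],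
  [2, 2, 4, 4, 2, 6, 4, 4, 6],
  [2, 2, 9, 2, 8, 8, 4, 3, 5],
  [2, 2, 4, 3, 5, 9, 2, 8, 8],
  [2, 2, 8, 2, 9, 9, 4, 3, 5],
  [2, 2, 4, 3, 5, 8, 2, 9, 9],
  [4, 4, 6, 5, 6, 4, 4, 6, 6],
  [4, 4, 7, 5, 6, 4, 6, 5, 7],
  [4, 4, 6, 4, 4, 7, 7, 7, 7],
  [0, 2, 2, 8, 8, 3, 1, 2, 9],
  [0, 2, 8, 1, 2, 2, 9, 9, 3],
  [0, 0, 0, 3, 3, 3, 1, 2, 2, 2],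
  [0, 0, 0, 3, 3, 3, 1, 4, 2, 5],
  [0, 0, 2, 9, 1, 3, 0, 8, 3, 3],
  [0, 0, 9, 0, 3, 9, 0, 3, 9, 3],
  [0, 0, 2, 0, 8, 2, 0, 3, 8, 3],
  [0, 0, 2, 2, 1, 9, 0, 2, 8, 3],
  [0, 0, 2, 9, 2, 0, 9, 2, 0, 9],
  [0, 0, 8, 2, 2, 0, 3, 1, 3, 8],
  [0, 0, 8, 2, 1, 2, 0, 3, 3, 8],
  [0, 0, 0, 8, 3, 0, 9, 1, 1, 3],
  [0, 0, 8, 8, 0, 3, 8, 1, 1, 2],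
  [0, 0, 5, 2, 4, 3, 3, 3, 1, 3],
  [0, 0, 3, 5, 2, 4, 3, 3, 1, 3],
  [0, 0, 4, 3, 3, 3, 5, 3, 1, 3],
  [0, 0, 4, 4, 3, 5, 5, 3, 1, 3],
  [0, 0, 3, 5, 3, 3, 4, 3, 1, 3],
  [0, 0, 3, 3, 5, 2, 4, 3, 1, 3],
  [0, 0, 3, 4, 3, 3, 3, 5, 1, 3],
  [0, 0, 5, 2, 4, 4, 3, 5, 1, 3],
  [0, 0, 4, 2, 2, 2, 2, 5, 1, 3],
  [0, 0, 4, 4, 2, 5, 2, 5, 1, 3],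
  [0, 0, 3, 4, 4, 3, 5, 5, 1, 3],
  [0, 0, 3, 3, 5, 3, 3, 4, 1, 3],
  [0, 0, 5, 5, 2, 4, 3, 4, 1, 3],
  [0, 0, 3, 3, 3, 5, 2, 4, 1, 3],
  [0, 0, 5, 5, 3, 3, 4, 4, 1, 3],
  [0, 0, 5, 3, 5, 2, 4, 4, 1, 3],
  [0, 0, 0, 9, 1, 3, 0, 8, 1, 3],
  [0, 0, 2, 1, 1, 9, 9, 1, 3, 9],
  [0, 0, 2, 1, 2, 2, 2, 5, 3, 4],
  [0, 0, 2, 1, 2, 2, 5, 3, 4, 2],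
  [0, 0, 2, 1, 2, 4, 2, 2, 2, 5],
  [0, 0, 2, 1, 2, 5, 2, 2, 4, 2],
  [0, 0, 2, 1, 2, 5, 3, 4, 2, 2],
  [0, 0, 2, 1, 4, 2, 2, 2, 5, 2],
  [0, 0, 2, 1, 4, 2, 5, 5, 3, 4],
  [0, 0, 2, 1, 4, 3, 3, 3, 3, 5],
  [0, 0, 2, 1, 4, 3, 4, 3, 5, 5],
  [0, 0, 2, 1, 4, 4, 2, 5, 5, 2],
  [0, 0, 2, 1, 4, 4, 3, 5, 3, 5],
  [0, 0, 2, 1, 5, 2, 2, 4, 2, 2],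
  [0, 0, 2, 1, 5, 2, 5, 3, 4, 4],
  [0, 2, 2, 2, 1, 2, 1, 5, 3, 4],
  [0, 0, 2, 1, 5, 5, 2, 2, 4, 4],
  [0, 2, 1, 3, 8, 0, 3, 1, 9, 3],
  [0, 2, 2, 1, 9, 1, 2, 2, 0, 8],
  [0, 3, 3, 0, 8, 0, 3, 3, 0, 8],
  [0, 2, 0, 5, 3, 4, 1, 2, 2, 2],
  [0, 3, 3, 9, 1, 9, 3, 3, 0, 8],
  [0, 3, 3, 8, 0, 8, 3, 3, 0, 8],
  [0, 3, 4, 1, 9, 1, 5, 3, 0, 8],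
  [0, 3, 4, 0, 8, 0, 5, 3, 0, 8],
  [0, 3, 4, 9, 1, 9, 5, 3, 0, 8],
  [0, 3, 4, 8, 0, 8, 5, 3, 0, 8],
  [0, 3, 5, 1, 9, 1, 4, 3, 0, 8],
  [0, 3, 5, 0, 8, 0, 4, 3, 0, 8],
  [0, 3, 5, 9, 1, 9, 4, 3, 0, 8],
  [0, 3, 5, 8, 0, 8, 4, 3, 0, 8],
  [0, 2, 2, 8, 0, 2, 8, 2, 1, 9],
  [0, 2, 8, 0, 2, 9, 3, 1, 9, 3],
  [0, 8, 1, 2, 2, 9, 1, 2, 9, 2],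
  [0, 8, 2, 2, 9, 1, 2, 9, 2, 9],
  [0, 2, 9, 1, 2, 9, 3, 0, 8, 3],
  [0, 2, 0, 3, 0, 2, 2, 1, 3, 3],
  [0, 0, 0, 4, 3, 5, 1, 2, 2, 2],
  [0, 3, 0, 4, 3, 5, 1, 5, 2, 4],
  [0, 8, 1, 8, 2, 9, 9, 9, 1, 2],
  [0, 3, 0, 8, 2, 0, 3, 8, 1, 2],
  [0, 2, 0, 5, 3, 4, 1, 4, 2, 5],
  [0, 2, 1, 3, 3, 0, 8, 3, 0, 9],
  [0, 2, 0, 3, 1, 8, 2, 0, 3, 8],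
  [0, 2, 2, 0, 8, 0, 2, 2, 0, 8],
  [2, 2, 2, 4, 3, 6, 4, 4, 6, 4],
  [2, 2, 2, 2, 5, 8, 8, 3, 9, 4],
  [2, 2, 2, 2, 5, 9, 9, 3, 8, 4],
  [2, 2, 2, 7, 7, 2, 2, 2, 7, 7],
  [2, 2, 2, 7, 7, 4, 2, 5, 7, 7],
  [0, 2, 2, 9, 1, 9, 2, 2, 0, 8],
  [2, 2, 2, 8, 5, 3, 4, 9, 2, 9],
  [2, 2, 2, 8, 3, 3, 3, 9, 9, 9],
  [0, 2, 2, 8, 0, 8, 2, 2, 0, 8],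
  [2, 2, 2, 9, 5, 3, 4, 8, 2, 8],
  [0, 2, 4, 1, 9, 1, 5, 2, 0, 8],
  [0, 2, 8, 1, 5, 2, 2, 2, 4, 9],
  [0, 5, 2, 2, 2, 4, 8, 1, 2, 9],
  [0, 2, 4, 0, 8, 0, 5, 2, 0, 8],
  [2, 2, 5, 6, 6, 5, 2, 6, 2, 5],
  [2, 2, 4, 4, 8, 2, 9, 9, 5, 5],
  [2, 2, 4, 4, 9, 2, 8, 8, 5, 5],
  [2, 2, 2, 7, 4, 7, 3, 3, 7, 5],
  [2, 2, 5, 2, 7, 7, 5, 3, 6, 5],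
  [2, 2, 7, 3, 5, 5, 6, 5, 6, 5],
  [0, 2, 4, 9, 1, 9, 5, 2, 0, 8],
  [0, 2, 4, 8, 0, 8, 5, 2, 0, 8],
  [0, 2, 5, 1, 9, 1, 4, 2, 0, 8],
  [0, 2, 5, 0, 8, 0, 4, 2, 0, 8],
  [2, 2, 7, 2, 4, 6, 6, 4, 3, 4],
  [2, 2, 4, 7, 3, 4, 7, 7, 2, 4],
  [2, 2, 2, 5, 8, 2, 9, 9, 2, 4],
  [2, 2, 2, 5, 9, 2, 8, 8, 2, 4],
  [2, 2, 7, 3, 4, 6, 6, 6, 4, 4],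
  [2, 2, 6, 6, 3, 6, 3, 7, 7, 4],
  [2, 2, 4, 2, 7, 2, 4, 6, 6, 4],
  [0, 2, 5, 9, 1, 9, 4, 2, 0, 8],
  [2, 2, 4, 7, 2, 2, 7, 3, 3, 6],
  [2, 2, 6, 6, 4, 3, 7, 7, 3, 7],
  [2, 2, 6, 3, 3, 6, 3, 5, 2, 7],
  [2, 2, 6, 4, 3, 7, 7, 2, 4, 7],
  [2, 2, 7, 3, 5, 7, 4, 7, 4, 7],
  [2, 2, 5, 5, 6, 6, 6, 5, 3, 6],
  [2, 2, 6, 6, 4, 7, 5, 7, 3, 6],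
  [2, 2, 5, 3, 5, 6, 6, 5, 2, 6],
  [0, 2, 0, 8, 1, 2, 2, 0, 3, 8],
  [0, 2, 0, 3, 8, 0, 3, 0, 8, 3],
  [0, 3, 8, 1, 8, 0, 3, 8, 1, 8],
  [0, 2, 9, 9, 0, 9, 2, 0, 9, 2],
  [0, 0, 9, 1, 3, 9, 9, 2, 1, 9],
  [2, 2, 2, 8, 4, 3, 5, 9, 9, 9],
  [0, 8, 1, 8, 2, 0, 8, 1, 8, 2],
  [0, 3, 9, 0, 3, 9, 0, 9, 9, 3],
  [0, 2, 2, 1, 3, 9, 1, 2, 1, 9],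
  [0, 3, 3, 8, 0, 9, 3, 0, 8, 2],
  [0, 3, 9, 1, 3, 9, 2, 0, 8, 2],
  [2, 2, 2, 9, 4, 3, 5, 8, 8, 8],
  [2, 2, 6, 4, 4, 6, 2, 4, 2, 4],
  [2, 2, 9, 2, 8, 8, 2, 5, 3, 4],
  [2, 4, 3, 7, 2, 4, 6, 6, 3, 4],
  [2, 2, 2, 7, 5, 5, 7, 5, 3, 5],
  [2, 4, 2, 4, 7, 5, 5, 7, 3, 4],
  [2, 4, 4, 8, 8, 3, 9, 5, 3, 5],
  [2, 4, 4, 9, 9, 3, 8, 5, 3, 5],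
  [2, 4, 2, 6, 5, 5, 5, 6, 3, 4],
  [2, 4, 3, 4, 2, 7, 3, 4, 7, 7],
  [2, 4, 2, 7, 5, 5, 7, 4, 3, 4],
  [0, 4, 3, 9, 1, 9, 3, 5, 0, 8],
  [0, 0, 2, 1, 2, 2, 5, 2, 2, 4],
  [0, 0, 5, 3, 3, 4, 3, 3, 1, 3],
  [2, 2, 5, 2, 5, 2, 7, 5, 5, 7],
  [2, 2, 4, 8, 2, 9, 9, 2, 2, 5],
  [2, 2, 2, 4, 3, 4, 6, 4, 4, 6],
  [2, 4, 3, 4, 3, 4, 7, 5, 5, 7],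
  [2, 4, 3, 4, 8, 8, 3, 9, 5, 5],
  [2, 4, 3, 4, 9, 9, 3, 8, 5, 5],
  [2, 4, 3, 4, 3, 6, 5, 5, 5, 6],
  [2, 4, 3, 7, 4, 7, 4, 4, 2, 6],
  [2, 4, 3, 4, 3, 7, 5, 5, 7, 4],
  [0, 4, 4, 1, 9, 1, 5, 5, 0, 8],
  [2, 2, 4, 4, 2, 6, 5, 5, 5, 6],
  [2, 2, 6, 6, 5, 2, 6, 3, 5, 5],
  [2, 2, 4, 4, 2, 7, 5, 5, 7, 4],
  [2, 4, 6, 6, 3, 5, 5, 2, 5, 7],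
  [2, 4, 4, 3, 6, 6, 5, 2, 6, 4],
  [2, 2, 4, 4, 3, 7, 2, 4, 6, 6],
  [2, 2, 5, 6, 4, 4, 6, 2, 5, 5],
  [2, 4, 3, 4, 4, 6, 6, 5, 2, 6],
  [2, 4, 4, 7, 7, 5, 3, 6, 3, 4],
  [0, 4, 4, 9, 1, 9, 5, 5, 0, 8],
  [0, 4, 4, 8, 0, 8, 5, 5, 0, 8],
  [2, 4, 6, 2, 4, 6, 6, 5, 3, 7],
  [2, 6, 3, 4, 6, 2, 6, 3, 4, 6],
  [2, 6, 6, 3, 4, 6, 3, 4, 6, 5],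
  [2, 4, 6, 3, 4, 7, 7, 3, 5, 7],
  [2, 4, 7, 3, 4, 6, 5, 3, 6, 5],
  [2, 2, 7, 3, 4, 6, 6, 5, 5, 7],
  [2, 5, 2, 7, 7, 7, 5, 2, 6, 5],
  [2, 4, 7, 3, 7, 4, 7, 2, 5, 6],
  [2, 4, 3, 7, 5, 5, 6, 5, 2, 6],
  [2, 4, 8, 4, 3, 5, 9, 3, 9, 5],
  [2, 4, 9, 4, 3, 5, 8, 3, 8, 5],
  [0, 0, 0, 4, 3, 5, 1, 4, 2, 5],
  [0, 2, 8, 1, 3, 4, 2, 5, 3, 9],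
  [2, 4, 6, 6, 5, 2, 6, 5, 5, 5],
  [2, 2, 2, 8, 2, 9, 9, 5, 3, 4],
  [2, 2, 2, 9, 2, 8, 8, 5, 3, 4],
  [2, 5, 2, 5, 8, 8, 3, 9, 4, 4],
  [2, 5, 2, 5, 9, 9, 3, 8, 4, 4],
  [2, 5, 6, 5, 6, 4, 3, 6, 3, 4],
  [0, 5, 3, 9, 1, 9, 3, 4, 0, 8],
  [0, 5, 3, 8, 0, 8, 3, 4, 0, 8],
  [2, 4, 4, 4, 7, 2, 4, 6, 6, 5],
  [2, 2, 2, 5, 3, 4, 8, 2, 9, 9],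
  [2, 4, 2, 5, 5, 8, 8, 3, 9, 4],
  [2, 4, 2, 5, 5, 9, 9, 3, 8, 4],
  [2, 4, 3, 5, 7, 2, 5, 7, 4, 7],
  [0, 5, 2, 9, 1, 9, 2, 4, 0, 8],
  [0, 5, 2, 8, 0, 8, 2, 4, 0, 8],
  [2, 2, 5, 5, 5, 2, 6, 4, 4, 6],
  [2, 5, 5, 2, 8, 2, 9, 9, 4, 4],
  [2, 5, 5, 2, 9, 2, 8, 8, 4, 4],
  [2, 4, 4, 2, 5, 5, 8, 2, 9, 9],
  [2, 4, 4, 2, 5, 5, 9, 2, 8, 8],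
  [4, 4, 4, 7, 4, 7, 5, 5, 7, 7],
  [0, 5, 5, 9, 1, 9, 4, 4, 0, 8],
  [0, 5, 5, 8, 0, 8, 4, 4, 0, 8],
  [4, 4, 7, 4, 4, 7, 5, 6, 5, 7],
  [2, 5, 7, 7, 4, 2, 5, 7, 7, 4],
  [2, 4, 7, 7, 7, 5, 2, 5, 5, 7],
  [2, 2, 6, 4, 4, 6, 5, 2, 5, 5],
  [2, 4, 7, 7, 7, 5, 2, 6, 4, 4],
  [2, 2, 2, 5, 7, 5, 5, 7, 3, 5],
  [2, 5, 8, 4, 3, 5, 9, 9, 9, 4],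
  [2, 7, 2, 7, 2, 7, 2, 7, 2, 7],
  [2, 6, 4, 6, 3, 7, 7, 3, 7, 7],
  [4, 6, 4, 6, 6, 4, 6, 4, 6, 6],
  [4, 6, 4, 6, 6, 5, 7, 5, 6, 6],
  [4, 6, 4, 7, 7, 4, 6, 4, 7, 7],
  [2, 2, 6, 5, 5, 5, 7, 5, 3, 6],
  [0, 2, 0, 2, 8, 0, 2, 2, 1, 9],
  [0, 0, 0, 9, 1, 9, 9, 9, 0, 8],
  [0, 2, 0, 9, 1, 9, 9, 2, 0, 8],
  [0, 2, 8, 1, 3, 3, 4, 2, 5, 9],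
  [0, 5, 8, 8, 0, 8, 1, 4, 0, 8],
  [0, 5, 0, 9, 1, 9, 9, 4, 0, 8],
  [0, 2, 8, 1, 4, 2, 5, 3, 3, 9],
  [0, 8, 1, 4, 8, 0, 8, 5, 8, 8],
  [0, 8, 1, 4, 9, 1, 9, 5, 8, 8],
  [0, 4, 8, 8, 0, 8, 1, 5, 0, 8],
  [0, 4, 0, 9, 1, 9, 9, 5, 0, 8],
  [0, 8, 1, 5, 8, 0, 8, 4, 8, 8],
  [0, 8, 1, 5, 9, 1, 9, 4, 8, 8],
  [0, 0, 2, 1, 1, 3, 9, 1, 1, 9],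
  [0, 3, 8, 2, 0, 9, 3, 8, 2, 8],
  [0, 8, 2, 4, 8, 0, 8, 5, 2, 8],
  [0, 8, 2, 5, 9, 1, 9, 4, 2, 8],
  [0, 3, 9, 1, 8, 3, 3, 0, 8, 3],
  [0, 8, 3, 3, 8, 0, 8, 3, 3, 8],
  [0, 8, 3, 4, 8, 0, 8, 5, 3, 8],
  [0, 8, 3, 5, 9, 1, 9, 4, 3, 8],
  [2, 8, 3, 8, 8, 2, 9, 3, 9, 9],
  [0, 0, 8, 0, 9, 5, 8, 0, 8, 4],
  [0, 0, 5, 9, 1, 9, 4, 9, 0, 8],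
  [0, 0, 8, 0, 9, 5, 9, 1, 9, 4],
  [0, 5, 8, 0, 8, 4, 9, 9, 1, 9],
  [0, 0, 8, 0, 9, 4, 8, 0, 8, 5],
  [0, 0, 4, 9, 1, 9, 5, 9, 0, 8],
  [0, 4, 9, 1, 9, 5, 9, 9, 1, 9],
  [0, 0, 4, 8, 0, 8, 5, 9, 0, 8],
  [0, 8, 8, 1, 8, 0, 8, 8, 1, 8],
  [0, 3, 0, 8, 0, 3, 9, 9, 1, 9],
  [0, 4, 0, 8, 0, 5, 9, 9, 1, 9],
  [2, 4, 4, 3, 5, 9, 9, 3, 8, 5],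
  [0, 4, 1, 8, 0, 8, 8, 5, 0, 8],
  [2, 2, 4, 2, 2, 9, 2, 8, 8, 5],
  [0, 3, 3, 4, 2, 5, 8, 1, 2, 9],
  [0, 4, 2, 5, 3, 3, 8, 1, 2, 9],
  [0, 0, 3, 8, 0, 0, 8, 1, 1, 2],
  [2, 4, 4, 3, 5, 8, 8, 3, 9, 5],
  [2, 2, 4, 2, 2, 8, 2, 9, 9, 5],
  [0, 0, 0, 0, 0, 0, 3, 3, 1, 2, 2],
  [0, 0, 0, 0, 0, 3, 0, 3, 0, 2, 2],
  [0, 0, 0, 0, 3, 4, 2, 5, 1, 3, 3],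
  [0, 0, 0, 0, 4, 2, 5, 3, 1, 3, 3],
  [0, 0, 0, 0, 0, 3, 3, 0, 2, 0, 2],
  [0, 0, 0, 5, 3, 4, 2, 1, 2, 2, 2],
  [0, 0, 0, 9, 0, 3, 9, 3, 0, 2, 9],
  [0, 0, 3, 0, 3, 3, 1, 2, 2, 0, 2],
  [0, 0, 3, 0, 8, 8, 2, 1, 8, 2, 8],
  [0, 0, 3, 3, 0, 3, 0, 2, 2, 0, 2],
  [0, 0, 0, 3, 3, 1, 3, 0, 2, 2, 2],
  [0, 0, 3, 0, 0, 3, 3, 1, 4, 2, 5],
  [0, 0, 3, 3, 1, 5, 2, 4, 0, 3, 3],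
  [0, 0, 0, 3, 3, 3, 0, 2, 1, 2, 2],
  [0, 0, 3, 3, 8, 8, 1, 5, 3, 4, 9],
  [0, 0, 3, 7, 2, 5, 7, 4, 7, 1, 3],
  [0, 0, 3, 9, 9, 1, 2, 1, 8, 2, 8],
  [0, 0, 4, 3, 3, 5, 5, 3, 4, 1, 3],
  [0, 0, 4, 3, 4, 4, 4, 2, 4, 1, 3],
  [0, 0, 5, 2, 0, 2, 6, 6, 0, 3, 6],
  [0, 0, 0, 5, 3, 4, 1, 1, 5, 2, 4],
  [0, 0, 5, 3, 5, 3, 4, 4, 3, 1, 3],
  [0, 0, 6, 2, 2, 6, 5, 6, 4, 1, 3],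
  [0, 0, 7, 2, 5, 7, 4, 7, 3, 1, 3],
  [0, 0, 7, 3, 7, 3, 7, 3, 7, 1, 3],
  [0, 0, 8, 3, 3, 4, 2, 5, 0, 3, 8],
  [0, 0, 8, 3, 4, 2, 5, 3, 0, 3, 8],
  [0, 0, 8, 3, 8, 1, 3, 8, 8, 0, 2],
  [0, 0, 8, 4, 2, 5, 3, 3, 0, 3, 8],
  [0, 0, 9, 5, 2, 4, 1, 8, 8, 2, 2],
  [0, 0, 2, 0, 0, 4, 3, 5, 1, 2, 2],
  [0, 0, 3, 0, 3, 3, 0, 2, 0, 2, 2],
  [0, 0, 8, 3, 8, 1, 3, 1, 9, 9, 2],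
  [0, 0, 2, 2, 0, 5, 3, 4, 1, 2, 2],
  [0, 0, 0, 3, 0, 0, 2, 2, 1, 1, 3],
  [0, 0, 0, 0, 2, 2, 1, 2, 4, 3, 5],
  [0, 0, 3, 1, 3, 3, 3, 1, 5, 2, 4],
  [0, 2, 2, 6, 6, 4, 2, 1, 6, 2, 4],
  [0, 0, 2, 7, 0, 7, 0, 7, 0, 7, 3],
  [0, 0, 2, 8, 4, 1, 9, 1, 5, 8, 3],
  [0, 0, 2, 8, 5, 1, 9, 1, 4, 8, 3],
  [0, 0, 2, 8, 5, 9, 1, 9, 4, 8, 3],
  [0, 0, 3, 0, 3, 0, 3, 0, 4, 2, 5],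
  [0, 3, 0, 5, 2, 2, 4, 1, 5, 2, 4],
  [0, 3, 0, 3, 0, 5, 2, 4, 0, 3, 3],
  [0, 3, 0, 5, 3, 4, 2, 1, 5, 2, 4],
  [0, 0, 0, 3, 3, 3, 1, 3, 5, 2, 4],
  [0, 3, 3, 7, 7, 3, 7, 1, 5, 3, 7],
  [0, 3, 7, 0, 7, 0, 7, 0, 7, 1, 2],
  [0, 3, 7, 5, 7, 3, 6, 1, 5, 3, 7],
  [0, 0, 9, 2, 1, 3, 0, 9, 9, 0, 8],
  [0, 2, 2, 1, 2, 1, 5, 3, 4, 1, 2],
  [0, 2, 0, 5, 3, 4, 0, 2, 1, 2, 2],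
  [0, 2, 0, 5, 3, 4, 1, 3, 5, 2, 4],
  [0, 2, 1, 3, 6, 1, 6, 1, 6, 1, 6],
  [0, 8, 1, 3, 4, 2, 5, 3, 9, 1, 2],
  [0, 2, 2, 9, 1, 9, 2, 9, 2, 1, 9],
  [0, 5, 8, 0, 8, 4, 2, 9, 0, 8, 2],
  [0, 2, 5, 9, 1, 9, 4, 9, 2, 1, 9],
  [0, 2, 5, 8, 0, 8, 4, 9, 2, 1, 9],
  [0, 3, 8, 2, 9, 0, 4, 9, 1, 9, 5],
  [0, 3, 8, 0, 9, 3, 4, 9, 1, 9, 5],
  [0, 4, 8, 0, 8, 5, 2, 9, 0, 8, 2],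
  [0, 8, 1, 2, 4, 9, 1, 9, 5, 8, 2],
  [0, 2, 4, 9, 1, 9, 5, 9, 2, 1, 9],
  [0, 8, 1, 2, 4, 8, 0, 8, 5, 8, 2],
  [0, 4, 8, 0, 8, 5, 8, 3, 0, 8, 3],
  [0, 0, 0, 9, 3, 0, 2, 9, 2, 0, 9],
  [0, 0, 3, 1, 2, 1, 8, 1, 2, 9, 2],
  [0, 8, 1, 2, 9, 1, 3, 3, 4, 2, 5],
  [0, 3, 3, 0, 9, 3, 3, 9, 0, 3, 9],
  [0, 3, 8, 0, 9, 3, 5, 1, 9, 1, 4],
  [0, 3, 8, 0, 9, 3, 5, 8, 0, 8, 4],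
  [0, 3, 8, 1, 3, 8, 1, 8, 8, 1, 3],
  [0, 0, 2, 1, 6, 5, 6, 4, 3, 6, 2],
  [0, 0, 2, 1, 5, 3, 5, 5, 5, 2, 5],
  [0, 0, 2, 1, 5, 2, 4, 3, 5, 3, 4],
  [0, 0, 2, 1, 5, 7, 4, 7, 3, 3, 7],
  [0, 0, 2, 1, 2, 6, 5, 6, 4, 3, 6],
  [0, 0, 2, 1, 6, 2, 6, 2, 6, 2, 6],
  [0, 0, 8, 2, 0, 4, 3, 5, 2, 2, 8],
  [0, 0, 8, 2, 0, 2, 2, 4, 3, 5, 8],
  [0, 0, 8, 2, 0, 5, 3, 3, 3, 4, 8],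
  [0, 0, 4, 3, 5, 0, 2, 0, 2, 0, 2],
  [0, 2, 0, 5, 3, 4, 1, 5, 3, 3, 4],
  [0, 2, 0, 2, 0, 2, 2, 0, 5, 3, 4],
  [0, 2, 1, 3, 9, 5, 1, 9, 1, 4, 9],
  [0, 2, 2, 4, 3, 5, 1, 9, 3, 1, 8],
  [0, 2, 4, 3, 5, 2, 1, 9, 3, 1, 8],
  [0, 4, 1, 3, 9, 1, 8, 3, 5, 0, 8],
  [0, 4, 2, 9, 0, 8, 2, 0, 5, 0, 8],
  [0, 0, 0, 8, 0, 9, 2, 9, 0, 8, 2],
  [0, 2, 1, 8, 8, 1, 8, 2, 1, 8, 2],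
  [0, 2, 8, 0, 2, 8, 4, 8, 0, 8, 5],
  [0, 0, 0, 5, 2, 2, 4, 1, 2, 2, 2],
  [0, 0, 8, 3, 1, 9, 9, 2, 0, 9, 2],
  [0, 2, 0, 4, 3, 5, 3, 1, 2, 2, 2],
  [0, 0, 3, 9, 0, 3, 9, 9, 1, 2, 8],
  [0, 2, 2, 2, 1, 2, 1, 4, 3, 5, 3],
  [0, 3, 3, 3, 5, 2, 4, 8, 1, 2, 9],
  [2, 2, 2, 7, 2, 4, 6, 6, 3, 4, 4],
  [2, 2, 2, 7, 5, 7, 2, 7, 4, 2, 6],
  [2, 2, 2, 7, 7, 3, 5, 2, 4, 7, 7],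
  [2, 2, 2, 8, 2, 5, 3, 4, 9, 9, 9],
  [2, 2, 2, 8, 3, 8, 3, 8, 3, 8, 8],
  [2, 2, 2, 8, 5, 2, 2, 4, 9, 9, 9],
  [2, 2, 2, 9, 2, 5, 3, 4, 8, 8, 8],
  [2, 2, 2, 9, 3, 4, 3, 5, 8, 2, 8],
  [2, 2, 2, 9, 5, 2, 2, 4, 8, 8, 8],
  [0, 5, 3, 3, 3, 4, 8, 2, 0, 8, 8],
  [2, 2, 4, 6, 3, 7, 5, 6, 2, 7, 4],
  [2, 2, 2, 7, 7, 5, 3, 3, 4, 7, 7],
  [2, 2, 4, 7, 2, 6, 5, 3, 6, 5, 7],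
  [2, 2, 4, 7, 2, 7, 7, 2, 4, 2, 7],
  [2, 2, 4, 7, 3, 3, 6, 6, 2, 4, 7],
  [2, 2, 4, 8, 3, 8, 5, 2, 4, 9, 5],
  [2, 2, 4, 9, 3, 9, 5, 2, 4, 8, 5],
  [2, 2, 5, 5, 6, 2, 4, 6, 5, 3, 7],
  [2, 2, 5, 5, 8, 2, 9, 9, 4, 2, 4],
  [2, 2, 5, 5, 9, 2, 8, 8, 4, 2, 4],
  [2, 2, 5, 6, 2, 6, 6, 5, 6, 6, 4],
  [2, 2, 5, 6, 4, 6, 6, 4, 6, 3, 6],
  [2, 2, 2, 5, 7, 2, 2, 6, 3, 3, 6],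
  [2, 2, 2, 5, 7, 2, 5, 7, 4, 7, 4],
  [2, 2, 2, 5, 7, 7, 5, 3, 6, 2, 5],
  [0, 4, 2, 2, 2, 2, 5, 8, 1, 2, 9],
  [2, 2, 6, 2, 5, 3, 6, 3, 5, 7, 4],
  [2, 2, 6, 2, 6, 4, 3, 7, 5, 7, 7],
  [2, 2, 6, 2, 6, 5, 7, 2, 7, 5, 6],
  [2, 2, 6, 2, 6, 6, 4, 2, 2, 7, 4],
  [2, 2, 6, 2, 7, 2, 7, 2, 6, 6, 4],
  [2, 2, 6, 3, 4, 6, 3, 5, 5, 6, 5],
  [2, 2, 6, 3, 5, 6, 2, 7, 2, 7, 5],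
  [2, 2, 6, 3, 5, 7, 4, 2, 2, 6, 5],
  [2, 2, 6, 3, 6, 5, 3, 6, 5, 7, 7],
  [2, 2, 6, 3, 7, 7, 2, 4, 2, 7, 7],
  [2, 2, 6, 4, 3, 6, 6, 6, 2, 4, 7],
  [2, 2, 6, 4, 7, 2, 7, 7, 2, 2, 7],
  [2, 2, 6, 4, 7, 3, 3, 6, 6, 3, 7],
  [2, 2, 6, 4, 7, 5, 6, 4, 6, 3, 6],
  [2, 2, 6, 5, 3, 5, 3, 7, 7, 3, 5],
  [2, 2, 6, 5, 7, 7, 7, 7, 4, 3, 6],
  [2, 2, 6, 6, 2, 7, 2, 7, 7, 2, 5],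
  [2, 2, 6, 6, 3, 3, 6, 5, 2, 5, 7],
  [2, 2, 6, 6, 5, 5, 6, 4, 7, 3, 6],
  [2, 2, 4, 3, 7, 7, 4, 4, 2, 2, 7],
  [2, 2, 7, 2, 4, 7, 7, 7, 4, 3, 4],
  [2, 2, 7, 2, 6, 3, 4, 6, 3, 6, 5],
  [2, 2, 7, 2, 7, 3, 4, 7, 5, 6, 5],
  [2, 2, 6, 3, 3, 6, 4, 2, 6, 4, 4],
  [2, 2, 7, 3, 7, 5, 6, 6, 5, 7, 4],
  [2, 2, 7, 4, 2, 7, 3, 7, 3, 6, 4],
  [2, 2, 7, 4, 4, 2, 4, 7, 3, 5, 7],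
  [2, 2, 2, 7, 4, 7, 4, 4, 2, 6, 4],
  [2, 2, 7, 5, 2, 5, 3, 6, 5, 6, 5],
  [2, 2, 7, 7, 3, 4, 6, 6, 3, 5, 7],
  [2, 2, 8, 2, 8, 2, 8, 5, 3, 4, 8],
  [2, 2, 8, 2, 8, 3, 3, 8, 3, 8, 8],
  [2, 2, 9, 2, 9, 2, 9, 5, 3, 4, 9],
  [2, 2, 9, 3, 8, 8, 2, 8, 3, 3, 9],
  [0, 0, 0, 4, 3, 5, 1, 3, 5, 2, 4],
  [2, 4, 2, 4, 6, 2, 4, 7, 5, 3, 7],
  [2, 2, 4, 2, 7, 2, 5, 7, 4, 7, 5],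
  [2, 2, 2, 4, 2, 7, 3, 4, 7, 7, 4],
  [2, 4, 2, 7, 4, 4, 4, 7, 4, 3, 4],
  [2, 4, 2, 7, 7, 4, 7, 7, 3, 7, 5],
  [2, 4, 3, 6, 3, 6, 3, 7, 4, 2, 7],
  [2, 4, 3, 7, 2, 7, 5, 2, 7, 3, 6],
  [2, 2, 4, 3, 7, 3, 4, 7, 7, 3, 4],
  [2, 4, 3, 7, 4, 4, 2, 7, 5, 2, 7],
  [2, 4, 3, 7, 4, 6, 5, 2, 6, 3, 6],
  [2, 2, 4, 3, 7, 7, 3, 4, 3, 4, 7],
  [2, 4, 3, 8, 4, 3, 5, 9, 9, 9, 5],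
  [2, 4, 3, 8, 5, 3, 4, 9, 2, 9, 5],
  [2, 4, 3, 9, 4, 3, 5, 8, 8, 8, 5],
  [2, 4, 3, 9, 5, 3, 4, 8, 2, 8, 5],
  [0, 2, 8, 1, 5, 5, 3, 3, 4, 4, 9],
  [0, 5, 5, 3, 3, 4, 4, 8, 1, 2, 9],
  [2, 4, 4, 6, 3, 5, 6, 3, 7, 5, 6],
  [2, 4, 4, 6, 3, 7, 4, 6, 2, 7, 4],
  [2, 2, 2, 4, 4, 6, 6, 5, 2, 6, 4],
  [0, 2, 8, 1, 5, 3, 5, 2, 4, 4, 9],
  [2, 4, 6, 2, 6, 3, 6, 6, 5, 7, 4],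
  [2, 4, 6, 2, 6, 4, 2, 7, 4, 3, 6],
  [2, 4, 6, 3, 4, 3, 6, 5, 3, 4, 6],
  [2, 4, 6, 3, 4, 6, 6, 6, 3, 5, 7],
  [2, 4, 6, 4, 7, 2, 7, 4, 2, 6, 4],
  [2, 4, 6, 5, 3, 7, 7, 2, 4, 7, 7],
  [2, 4, 7, 3, 6, 3, 5, 2, 6, 4, 7],
  [2, 4, 7, 3, 6, 4, 2, 7, 5, 6, 4],
  [2, 4, 7, 4, 3, 4, 6, 6, 3, 6, 4],
  [2, 4, 7, 3, 6, 4, 2, 4, 7, 5, 7],
  [2, 4, 7, 7, 4, 7, 7, 3, 7, 2, 5],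
  [2, 2, 8, 8, 2, 2, 9, 5, 3, 4, 8],
  [2, 4, 8, 5, 3, 4, 9, 2, 9, 3, 5],
  [2, 4, 8, 8, 5, 3, 4, 9, 9, 9, 5],
  [2, 2, 4, 8, 8, 8, 4, 2, 5, 9, 5],
  [2, 2, 4, 9, 9, 9, 4, 2, 5, 8, 5],
  [0, 2, 0, 4, 3, 5, 3, 1, 4, 2, 5],
  [0, 3, 0, 4, 3, 5, 1, 2, 4, 2, 5],
  [0, 2, 8, 1, 3, 4, 3, 3, 3, 5, 9],
  [0, 0, 5, 3, 4, 2, 5, 2, 4, 1, 3],
  [2, 4, 6, 4, 4, 6, 3, 4, 4, 2, 5],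
  [2, 5, 2, 6, 3, 4, 4, 6, 6, 2, 7],
  [2, 5, 2, 6, 3, 7, 5, 5, 6, 2, 7],
  [2, 4, 7, 3, 4, 3, 6, 3, 5, 2, 6],
  [2, 5, 2, 5, 2, 7, 3, 4, 7, 7, 5],
  [2, 2, 7, 5, 2, 5, 2, 7, 3, 5, 7],
  [2, 5, 2, 7, 7, 2, 6, 4, 2, 7, 7],
  [2, 5, 2, 8, 4, 3, 5, 9, 3, 9, 4],
  [2, 5, 2, 9, 4, 3, 5, 8, 3, 8, 4],
  [0, 2, 4, 3, 5, 2, 8, 2, 0, 8, 8],
  [2, 2, 5, 3, 6, 6, 2, 7, 2, 7, 7],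
  [0, 2, 8, 1, 4, 4, 3, 5, 5, 3, 9],
  [0, 4, 4, 3, 5, 5, 3, 8, 1, 2, 9],
  [2, 2, 6, 5, 6, 3, 4, 4, 2, 5, 6],
  [2, 4, 2, 5, 7, 3, 4, 6, 5, 3, 6],
  [2, 5, 7, 3, 7, 2, 7, 7, 4, 2, 6],
  [2, 5, 7, 4, 2, 6, 5, 7, 2, 7, 5],
  [2, 2, 9, 4, 3, 5, 8, 8, 2, 8, 8],
  [2, 5, 8, 3, 8, 3, 8, 3, 8, 8, 4],
  [2, 2, 8, 4, 3, 5, 9, 9, 2, 9, 9],
  [2, 5, 9, 3, 9, 3, 9, 3, 9, 9, 4],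
  [2, 6, 2, 6, 2, 6, 8, 2, 9, 9, 6],
  [2, 6, 2, 6, 2, 6, 9, 2, 8, 8, 6],
  [2, 6, 3, 4, 6, 4, 6, 6, 3, 4, 7],
  [2, 6, 3, 5, 7, 5, 6, 6, 3, 4, 7],
  [2, 6, 3, 6, 4, 4, 2, 6, 5, 7, 4],
  [2, 6, 3, 6, 4, 6, 2, 6, 5, 2, 7],
  [2, 6, 3, 6, 5, 6, 2, 7, 4, 7, 7],
  [2, 5, 7, 5, 6, 6, 2, 7, 3, 6, 5],
  [2, 6, 4, 2, 6, 4, 6, 4, 2, 7, 4],
  [2, 6, 4, 2, 6, 5, 7, 5, 2, 7, 4],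
  [2, 4, 4, 2, 4, 7, 3, 4, 7, 7, 5],
  [2, 4, 7, 7, 4, 7, 7, 2, 6, 5, 6],
  [2, 2, 6, 5, 6, 5, 2, 2, 7, 5, 5],
  [2, 4, 7, 2, 7, 7, 3, 5, 7, 7, 5],
  [2, 2, 6, 6, 4, 3, 6, 6, 6, 3, 7],
  [2, 6, 6, 4, 6, 6, 2, 7, 4, 7, 5],
  [2, 4, 7, 7, 3, 4, 3, 6, 4, 3, 6],
  [2, 2, 7, 2, 7, 3, 5, 6, 5, 5, 6],
  [2, 2, 2, 2, 7, 3, 4, 6, 5, 3, 6],
  [2, 6, 6, 6, 3, 4, 7, 5, 2, 7, 5],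
  [2, 2, 6, 3, 4, 6, 3, 4, 7, 4, 4],
  [2, 4, 6, 5, 2, 7, 5, 2, 7, 4, 4],
  [2, 6, 4, 6, 3, 7, 7, 3, 6, 6, 6],
  [2, 6, 3, 4, 6, 6, 5, 2, 7, 7, 5],
  [2, 2, 2, 9, 3, 8, 3, 3, 9, 9, 9],
  [2, 2, 9, 3, 9, 3, 9, 9, 9, 9, 9],
  [0, 3, 9, 9, 2, 8, 3, 8, 1, 8, 3],
  [2, 2, 9, 2, 8, 5, 3, 4, 8, 2, 8],
  [0, 0, 2, 2, 8, 1, 8, 2, 9, 3, 9],
  [0, 3, 3, 5, 3, 3, 4, 8, 1, 2, 9],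
  [0, 5, 5, 2, 4, 3, 4, 8, 1, 2, 9],
  [0, 2, 8, 1, 4, 4, 2, 5, 2, 5, 9],
  [0, 2, 8, 1, 3, 4, 4, 3, 5, 5, 9],
  [2, 2, 2, 5, 5, 3, 6, 6, 5, 2, 6],
  [2, 2, 2, 4, 3, 4, 6, 5, 5, 5, 6],
  [0, 0, 4, 3, 4, 3, 3, 5, 5, 1, 3],
  [2, 2, 6, 3, 5, 7, 4, 7, 2, 5, 7],
  [2, 4, 3, 4, 3, 4, 6, 4, 4, 6, 5],
  [2, 4, 4, 2, 9, 2, 8, 8, 5, 2, 5],
  [2, 4, 4, 3, 4, 3, 6, 6, 5, 2, 6],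
  [2, 4, 2, 5, 5, 3, 7, 5, 5, 7, 5],
  [2, 2, 6, 5, 5, 5, 6, 2, 4, 2, 4],
  [2, 4, 7, 5, 2, 6, 3, 4, 3, 5, 7],
  [2, 4, 4, 3, 7, 7, 7, 5, 2, 6, 4],
  [2, 4, 3, 4, 6, 2, 4, 3, 7, 4, 7],
  [2, 4, 6, 5, 3, 7, 4, 4, 3, 4, 6],
  [2, 5, 5, 7, 2, 7, 5, 7, 7, 4, 6],
  [2, 4, 6, 6, 2, 5, 7, 3, 4, 6, 6],
  [2, 5, 7, 4, 7, 9, 9, 3, 8, 3, 7],
  [2, 2, 5, 9, 2, 8, 8, 5, 2, 4, 4],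
  [2, 4, 9, 9, 3, 8, 4, 3, 4, 4, 4],
  [2, 5, 5, 5, 2, 5, 5, 9, 2, 8, 8],
  [2, 2, 6, 5, 6, 4, 9, 9, 3, 8, 6],
  [2, 5, 7, 4, 7, 3, 9, 9, 3, 8, 7],
  [2, 5, 7, 4, 7, 8, 8, 3, 9, 3, 7],
  [2, 2, 6, 5, 6, 4, 8, 8, 3, 9, 6],
  [2, 5, 7, 4, 7, 3, 8, 8, 3, 9, 7],
  [2, 2, 5, 5, 5, 2, 6, 5, 5, 5, 6],
  [2, 4, 6, 6, 5, 3, 4, 4, 3, 4, 7],
  [2, 4, 7, 7, 4, 4, 6, 3, 5, 2, 7],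
  [2, 4, 3, 7, 5, 5, 7, 3, 4, 3, 4],
  [2, 4, 2, 5, 5, 3, 5, 7, 5, 5, 7],
  [2, 5, 2, 6, 4, 4, 6, 4, 3, 4, 4],
  [4, 6, 5, 6, 4, 7, 5, 7, 7, 5, 7],
  [2, 2, 2, 7, 5, 5, 6, 5, 2, 6, 4],
  [2, 2, 5, 3, 7, 7, 5, 3, 6, 3, 5],
  [2, 2, 2, 6, 6, 6, 2, 2, 2, 7, 7],
  [2, 2, 4, 4, 3, 7, 2, 4, 7, 7, 7],
  [0, 6, 6, 6, 6, 0, 7, 0, 7, 0, 7],
  [4, 6, 4, 7, 5, 6, 6, 6, 6, 5, 7],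
  [0, 0, 0, 0, 2, 2, 1, 4, 2, 2, 2, 5],
  [0, 0, 0, 0, 2, 2, 1, 4, 4, 2, 5, 5],
  [0, 0, 0, 2, 2, 0, 0, 4, 3, 5, 0, 2],
  [0, 0, 0, 3, 6, 6, 4, 2, 1, 6, 3, 4],
  [0, 0, 0, 9, 3, 0, 9, 2, 8, 2, 0, 9],
  [0, 0, 0, 8, 8, 2, 1, 2, 8, 1, 3, 9],
  [0, 0, 0, 3, 3, 8, 1, 8, 5, 2, 4, 9],
  [0, 0, 0, 9, 0, 3, 8, 3, 3, 0, 9, 9],
  [0, 0, 0, 9, 0, 3, 9, 9, 0, 2, 2, 8],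
  [0, 0, 3, 0, 0, 3, 3, 1, 5, 3, 3, 4],
  [0, 0, 0, 5, 2, 4, 0, 3, 3, 0, 3, 3],
  [0, 0, 2, 2, 8, 3, 1, 1, 2, 2, 9, 3],
  [0, 0, 3, 7, 7, 3, 7, 1, 5, 3, 7, 3],
  [0, 0, 5, 2, 0, 2, 6, 6, 3, 0, 0, 6],
  [0, 0, 0, 8, 8, 2, 1, 1, 9, 3, 9, 3],
  [0, 0, 2, 9, 2, 9, 1, 1, 3, 1, 9, 9],
  [0, 0, 2, 2, 1, 1, 5, 3, 4, 0, 2, 2],
  [0, 0, 3, 3, 3, 8, 1, 1, 3, 3, 3, 9],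
  [0, 0, 9, 1, 2, 2, 2, 0, 8, 2, 2, 2],
  [0, 0, 0, 9, 5, 3, 4, 8, 1, 8, 2, 2],
  [0, 0, 8, 3, 8, 3, 1, 8, 0, 0, 9, 2],
  [0, 0, 8, 3, 8, 1, 8, 1, 9, 2, 9, 2],
  [0, 0, 8, 3, 8, 1, 1, 3, 0, 9, 9, 2],
  [0, 0, 8, 2, 8, 2, 1, 8, 1, 1, 8, 2],
  [0, 0, 2, 0, 9, 5, 2, 4, 1, 8, 8, 2],
  [0, 0, 7, 7, 4, 7, 1, 5, 7, 4, 1, 5],
  [0, 0, 2, 2, 6, 6, 0, 3, 6, 0, 0, 5],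
  [0, 0, 6, 1, 1, 5, 3, 1, 5, 0, 2, 4],
  [0, 0, 7, 2, 0, 6, 4, 2, 7, 1, 4, 7],
  [0, 0, 5, 2, 0, 2, 7, 7, 7, 0, 3, 6],
  [0, 0, 3, 3, 3, 8, 0, 4, 3, 5, 1, 9],
  [0, 0, 2, 2, 9, 3, 0, 9, 9, 9, 0, 9],
  [0, 0, 2, 8, 2, 0, 9, 9, 3, 1, 3, 9],
  [0, 0, 3, 9, 0, 0, 8, 1, 8, 2, 2, 9],
  [0, 0, 3, 0, 8, 8, 1, 1, 8, 2, 2, 9],
  [0, 0, 8, 3, 3, 3, 0, 4, 2, 5, 1, 8],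
  [0, 0, 3, 3, 1, 8, 8, 2, 1, 8, 1, 8],
  [0, 0, 9, 2, 0, 0, 9, 3, 3, 8, 1, 8],
  [0, 0, 3, 0, 8, 2, 8, 8, 1, 8, 2, 8],
  [0, 0, 7, 5, 2, 4, 8, 0, 6, 8, 7, 8],
  [0, 0, 8, 0, 6, 1, 6, 1, 6, 1, 6, 8],
  [0, 0, 6, 9, 7, 1, 9, 5, 3, 4, 6, 8],
  [0, 0, 3, 9, 3, 0, 9, 2, 1, 8, 8, 8],
  [0, 0, 0, 3, 0, 2, 1, 1, 1, 3, 1, 2],
  [0, 0, 0, 4, 2, 5, 0, 5, 3, 4, 0, 2],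
  [0, 0, 3, 1, 3, 3, 1, 3, 0, 5, 2, 4],
  [0, 0, 3, 4, 1, 1, 2, 0, 5, 3, 1, 3],
  [0, 0, 3, 4, 8, 2, 9, 9, 5, 3, 1, 3],
  [0, 0, 7, 2, 4, 6, 6, 4, 4, 3, 1, 3],
  [0, 2, 6, 6, 4, 2, 1, 6, 2, 4, 1, 2],
  [0, 2, 0, 2, 7, 5, 1, 3, 1, 2, 7, 2],
  [0, 2, 0, 2, 7, 5, 3, 1, 2, 1, 7, 2],
  [0, 0, 7, 7, 5, 3, 6, 5, 3, 5, 1, 3],
  [0, 0, 5, 2, 7, 5, 5, 7, 3, 5, 1, 3],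
  [0, 2, 0, 4, 6, 1, 3, 3, 0, 3, 6, 3],
  [0, 0, 6, 5, 3, 5, 3, 7, 7, 5, 1, 3],
  [0, 0, 5, 5, 7, 3, 4, 7, 7, 5, 1, 3],
  [0, 0, 5, 3, 7, 7, 5, 3, 6, 5, 1, 3],
  [0, 0, 4, 7, 7, 5, 3, 6, 4, 4, 1, 3],
  [0, 0, 3, 7, 2, 4, 6, 6, 4, 4, 1, 3],
  [0, 2, 0, 6, 1, 6, 4, 0, 7, 5, 7, 2],
  [0, 0, 5, 2, 1, 2, 0, 6, 6, 0, 3, 6],
  [0, 0, 3, 5, 5, 6, 6, 5, 2, 6, 1, 3],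
  [0, 2, 0, 8, 3, 3, 3, 0, 5, 2, 4, 8],
  [0, 2, 0, 8, 4, 3, 5, 0, 5, 2, 4, 8],
  [0, 2, 0, 9, 2, 9, 2, 1, 3, 3, 8, 8],
  [0, 0, 0, 3, 0, 5, 2, 4, 0, 4, 3, 5],
  [0, 0, 2, 1, 1, 8, 2, 1, 8, 2, 1, 8],
  [0, 0, 3, 1, 8, 8, 2, 1, 1, 9, 3, 9],
  [0, 0, 2, 1, 2, 4, 0, 3, 1, 1, 5, 2],
  [0, 0, 2, 1, 4, 2, 4, 7, 2, 4, 6, 6],
  [0, 0, 2, 1, 4, 6, 6, 2, 4, 2, 4, 7],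
  [0, 0, 2, 1, 4, 6, 6, 4, 4, 3, 3, 7],
  [0, 0, 2, 1, 5, 2, 6, 6, 5, 2, 6, 5],
  [0, 0, 2, 1, 5, 5, 7, 7, 5, 3, 6, 2],
  [0, 0, 2, 1, 6, 5, 2, 5, 2, 6, 6, 5],
  [0, 2, 4, 6, 1, 3, 3, 0, 3, 6, 0, 3],
  [0, 2, 6, 0, 3, 0, 7, 3, 1, 2, 2, 6],
  [0, 0, 2, 1, 7, 3, 4, 7, 7, 4, 4, 2],
  [0, 3, 0, 8, 8, 2, 8, 2, 0, 3, 3, 9],
  [0, 2, 2, 2, 8, 0, 3, 0, 8, 5, 3, 4],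
  [0, 3, 0, 8, 5, 3, 4, 0, 4, 2, 5, 8],
  [0, 0, 3, 3, 0, 5, 2, 4, 1, 1, 3, 3],
  [0, 0, 0, 0, 4, 4, 3, 5, 5, 1, 3, 3],
  [0, 0, 0, 0, 3, 5, 3, 3, 4, 1, 3, 3],
  [0, 2, 2, 0, 5, 7, 0, 6, 6, 3, 6, 3],
  [0, 0, 9, 2, 1, 8, 1, 3, 3, 0, 9, 9],
  [0, 3, 3, 0, 3, 5, 3, 4, 0, 5, 3, 4],
  [0, 2, 6, 9, 7, 0, 3, 3, 0, 9, 9, 6],
  [0, 0, 9, 1, 2, 2, 2, 0, 8, 4, 2, 5],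
  [0, 3, 3, 3, 0, 9, 2, 2, 0, 9, 0, 9],
  [0, 2, 2, 2, 1, 9, 5, 2, 4, 1, 3, 8],
  [0, 2, 2, 2, 8, 0, 9, 0, 8, 3, 3, 3],
  [0, 2, 4, 3, 1, 9, 1, 5, 3, 3, 0, 8],
  [0, 3, 3, 5, 0, 8, 0, 4, 3, 3, 0, 8],
  [0, 2, 2, 8, 0, 2, 2, 8, 3, 1, 9, 3],
  [0, 2, 7, 7, 8, 6, 4, 2, 9, 1, 5, 3],
  [0, 5, 3, 0, 9, 7, 7, 1, 7, 9, 5, 7],
  [0, 2, 5, 2, 1, 9, 1, 2, 4, 2, 0, 8],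
  [0, 2, 4, 2, 7, 4, 2, 2, 1, 5, 3, 7],
  [0, 2, 2, 4, 1, 9, 1, 2, 5, 3, 0, 8],
  [0, 2, 2, 4, 0, 8, 0, 2, 5, 3, 0, 8],
  [0, 2, 2, 4, 9, 1, 9, 2, 5, 3, 0, 8],
  [0, 3, 4, 4, 1, 9, 1, 5, 5, 3, 0, 8],
  [0, 6, 2, 6, 8, 0, 7, 5, 3, 0, 6, 9],
  [0, 3, 7, 1, 5, 6, 2, 5, 5, 1, 2, 5],
  [0, 2, 4, 2, 1, 9, 1, 2, 5, 2, 0, 8],
  [0, 3, 3, 0, 5, 3, 4, 3, 0, 5, 3, 4],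
  [0, 2, 6, 0, 7, 2, 2, 4, 1, 4, 0, 7],
  [0, 2, 6, 0, 7, 3, 4, 2, 1, 4, 0, 7],
  [0, 2, 6, 2, 7, 2, 7, 3, 1, 5, 3, 7],
  [0, 4, 7, 0, 7, 7, 2, 7, 3, 0, 5, 6],
  [0, 2, 6, 5, 2, 7, 9, 3, 5, 3, 7, 8],
  [0, 2, 6, 9, 7, 0, 3, 9, 0, 2, 9, 6],
  [0, 2, 7, 3, 3, 5, 6, 3, 1, 6, 2, 4],
  [0, 2, 7, 7, 1, 7, 9, 5, 7, 0, 5, 9],
  [0, 2, 4, 2, 2, 2, 5, 1, 9, 3, 1, 8],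
  [0, 2, 8, 7, 0, 7, 0, 7, 0, 7, 2, 9],
  [0, 8, 1, 2, 9, 1, 3, 3, 3, 5, 2, 4],
  [0, 8, 1, 2, 9, 1, 4, 2, 4, 2, 5, 5],
  [0, 3, 0, 3, 3, 8, 1, 2, 9, 5, 2, 4],
  [0, 7, 0, 7, 0, 7, 8, 3, 0, 9, 3, 7],
  [0, 2, 6, 6, 0, 3, 6, 2, 0, 5, 3, 3],
  [0, 3, 3, 0, 4, 2, 2, 5, 0, 5, 3, 4],
  [0, 2, 0, 2, 4, 2, 2, 5, 1, 2, 2, 2],
  [0, 3, 3, 9, 0, 3, 9, 0, 3, 9, 1, 2],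
  [0, 2, 2, 0, 5, 2, 4, 0, 4, 3, 3, 5],
  [0, 2, 2, 1, 4, 2, 2, 5, 0, 2, 2, 2],
  [0, 2, 2, 0, 5, 7, 0, 3, 3, 5, 6, 6],
  [0, 2, 1, 3, 9, 3, 0, 9, 1, 3, 9, 9],
  [0, 2, 1, 3, 3, 8, 1, 3, 8, 1, 3, 8],
  [0, 2, 1, 9, 0, 5, 5, 3, 3, 4, 4, 8],
  [0, 5, 2, 4, 8, 3, 3, 3, 0, 8, 2, 8],
  [0, 2, 2, 1, 3, 5, 3, 4, 0, 2, 2, 2],
  [0, 2, 2, 2, 1, 2, 1, 4, 2, 2, 5, 2],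
  [0, 2, 2, 2, 8, 5, 3, 4, 0, 8, 3, 8],
  [0, 3, 3, 3, 8, 1, 8, 2, 2, 2, 0, 9],
  [0, 3, 3, 3, 8, 0, 3, 3, 3, 8, 1, 9],
  [0, 8, 1, 3, 3, 3, 9, 1, 3, 3, 3, 9],
  [0, 3, 9, 5, 2, 4, 1, 8, 8, 2, 2, 2],
  [0, 2, 2, 5, 1, 9, 1, 4, 2, 2, 0, 8],
  [2, 2, 2, 7, 4, 4, 2, 7, 5, 2, 7, 4],
  [0, 2, 2, 5, 9, 1, 9, 4, 2, 2, 0, 8],
  [0, 3, 4, 3, 3, 3, 5, 8, 1, 9, 2, 8],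
  [0, 8, 2, 9, 1, 3, 4, 3, 3, 3, 5, 9],
  [0, 0, 8, 4, 2, 2, 2, 2, 5, 0, 3, 8],
  [2, 2, 2, 7, 7, 4, 6, 2, 2, 6, 5, 7],
  [2, 2, 2, 4, 3, 7, 5, 7, 5, 7, 4, 6],
  [0, 4, 3, 5, 0, 9, 2, 2, 0, 9, 0, 9],
  [0, 3, 3, 3, 8, 1, 8, 4, 2, 5, 0, 9],
  [0, 2, 9, 2, 2, 2, 1, 2, 8, 4, 2, 5],
  [0, 0, 3, 3, 8, 8, 1, 4, 3, 5, 3, 9],
  [0, 0, 4, 3, 5, 8, 1, 1, 3, 3, 3, 9],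
  [0, 3, 3, 9, 0, 4, 2, 5, 0, 9, 0, 9],
  [0, 2, 9, 4, 2, 5, 1, 2, 8, 2, 2, 2],
  [0, 8, 5, 2, 4, 9, 1, 2, 8, 2, 2, 2],
  [0, 8, 2, 2, 2, 9, 1, 8, 8, 2, 2, 2],
  [0, 2, 0, 4, 3, 5, 3, 1, 5, 3, 3, 4],
  [0, 3, 4, 1, 3, 5, 7, 9, 6, 6, 3, 8],
  [2, 2, 5, 6, 5, 2, 7, 5, 2, 7, 2, 5],
  [2, 2, 5, 3, 6, 3, 7, 4, 6, 2, 7, 5],
  [2, 2, 5, 3, 6, 4, 2, 7, 3, 3, 4, 7],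
  [2, 2, 5, 2, 7, 7, 3, 5, 2, 2, 6, 5],
  [2, 2, 4, 7, 3, 5, 6, 3, 6, 4, 6, 5],
  [2, 2, 4, 8, 8, 8, 5, 2, 4, 3, 9, 5],
  [2, 2, 4, 8, 3, 8, 4, 2, 5, 2, 9, 5],
  [2, 2, 4, 8, 8, 8, 5, 3, 3, 4, 9, 5],
  [2, 2, 2, 4, 9, 2, 9, 9, 3, 3, 8, 5],
  [2, 2, 4, 9, 9, 2, 9, 9, 2, 2, 8, 5],
  [0, 3, 0, 4, 3, 5, 1, 3, 4, 3, 3, 5],
  [0, 2, 0, 4, 2, 2, 5, 2, 1, 4, 2, 5],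
  [2, 2, 7, 5, 7, 7, 2, 7, 3, 7, 2, 4],
  [2, 2, 6, 3, 7, 4, 4, 6, 2, 7, 2, 4],
  [2, 2, 6, 5, 3, 4, 6, 2, 4, 6, 2, 4],
  [2, 2, 2, 9, 2, 4, 2, 2, 5, 8, 2, 8],
  [2, 2, 2, 8, 2, 4, 2, 2, 5, 9, 2, 9],
  [2, 2, 5, 9, 2, 9, 4, 2, 5, 8, 2, 4],
  [0, 2, 5, 5, 1, 9, 1, 4, 4, 2, 0, 8],
  [2, 2, 6, 5, 6, 6, 2, 4, 7, 3, 7, 4],
  [2, 2, 7, 7, 5, 7, 7, 5, 2, 5, 6, 4],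
  [2, 2, 2, 9, 4, 2, 2, 5, 2, 8, 2, 8],
  [2, 2, 5, 2, 8, 2, 8, 4, 2, 5, 9, 4],
  [2, 2, 5, 9, 3, 3, 9, 5, 3, 4, 9, 4],
  [2, 2, 5, 8, 2, 8, 5, 2, 4, 9, 9, 4],
  [2, 2, 2, 8, 4, 2, 2, 5, 2, 9, 2, 9],
  [2, 2, 5, 2, 9, 2, 9, 4, 2, 5, 8, 4],
  [2, 2, 5, 8, 3, 3, 8, 5, 3, 4, 8, 4],
  [2, 2, 5, 3, 6, 4, 2, 7, 2, 4, 3, 7],
  [2, 2, 7, 5, 3, 5, 6, 5, 2, 7, 2, 7],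
  [2, 2, 7, 4, 3, 7, 7, 3, 5, 2, 5, 7],
  [2, 2, 4, 2, 7, 2, 7, 5, 7, 7, 5, 7],
  [2, 2, 4, 3, 7, 5, 2, 7, 5, 2, 7, 7],
  [2, 2, 5, 6, 4, 6, 3, 6, 6, 2, 7, 7],
  [2, 2, 6, 5, 3, 4, 6, 6, 2, 4, 7, 7],
  [2, 2, 6, 4, 7, 7, 2, 2, 6, 4, 7, 7],
  [2, 2, 7, 5, 2, 4, 7, 4, 6, 3, 3, 6],
  [2, 2, 5, 3, 6, 4, 7, 7, 4, 6, 2, 6],
  [2, 2, 6, 5, 6, 3, 5, 5, 5, 2, 5, 6],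
  [2, 2, 4, 7, 5, 7, 7, 3, 7, 2, 5, 6],
  [2, 2, 4, 7, 2, 2, 5, 6, 4, 3, 6, 6],
  [2, 2, 5, 2, 4, 6, 2, 6, 6, 5, 6, 6],
  [0, 0, 9, 9, 0, 3, 8, 1, 8, 2, 2, 9],
  [2, 2, 9, 2, 2, 9, 3, 9, 4, 3, 5, 9],
  [2, 2, 2, 9, 4, 2, 2, 5, 8, 2, 2, 9],
  [2, 2, 9, 2, 5, 2, 4, 9, 5, 2, 4, 9],
  [0, 3, 3, 8, 8, 8, 1, 5, 2, 4, 0, 9],
  [0, 0, 0, 8, 0, 3, 9, 0, 9, 1, 3, 9],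
  [0, 3, 9, 1, 4, 2, 5, 0, 8, 5, 2, 4],
  [2, 2, 8, 2, 5, 2, 4, 8, 5, 2, 4, 8],
  [0, 5, 2, 4, 1, 8, 1, 3, 3, 9, 9, 9],
  [0, 0, 0, 3, 4, 3, 5, 1, 1, 5, 2, 4],
  [0, 2, 2, 7, 7, 7, 4, 2, 1, 6, 2, 4],
  [0, 3, 9, 5, 2, 4, 1, 3, 8, 5, 2, 4],
  [0, 4, 0, 4, 0, 4, 0, 4, 0, 4, 0, 4],
  [0, 0, 0, 5, 3, 4, 1, 1, 4, 2, 5, 2],
  [2, 2, 6, 3, 5, 2, 6, 2, 4, 7, 2, 4],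
  [2, 2, 6, 3, 7, 7, 5, 5, 2, 7, 2, 4],
  [0, 0, 5, 2, 5, 2, 4, 2, 4, 3, 1, 3],
  [2, 4, 3, 6, 2, 4, 7, 5, 3, 7, 3, 4],
  [2, 4, 2, 4, 3, 8, 8, 3, 9, 5, 2, 5],
  [2, 4, 2, 4, 3, 9, 9, 3, 8, 5, 2, 5],
  [2, 4, 2, 4, 7, 8, 2, 9, 9, 4, 6, 6],
  [2, 4, 3, 4, 2, 6, 3, 4, 6, 3, 4, 7],
  [2, 2, 6, 4, 2, 6, 6, 5, 2, 7, 3, 5],
  [2, 4, 2, 7, 2, 6, 3, 5, 6, 6, 3, 7],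
  [2, 2, 7, 4, 3, 6, 5, 6, 2, 6, 3, 5],
  [2, 4, 2, 8, 4, 3, 5, 9, 3, 9, 3, 5],
  [2, 2, 2, 9, 3, 5, 2, 2, 4, 8, 2, 8],
  [0, 5, 7, 5, 9, 3, 5, 0, 7, 9, 7, 9],
  [2, 2, 8, 5, 2, 4, 2, 8, 5, 2, 4, 8],
  [0, 4, 6, 4, 9, 3, 5, 0, 7, 9, 7, 9],
  [2, 2, 9, 5, 2, 4, 2, 9, 5, 2, 4, 9],
  [0, 3, 8, 5, 3, 3, 4, 3, 3, 0, 8, 8],
  [2, 2, 5, 3, 6, 3, 3, 5, 7, 7, 3, 7],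
  [2, 2, 5, 2, 6, 3, 4, 7, 5, 3, 4, 7],
  [0, 2, 1, 9, 0, 5, 3, 3, 4, 3, 3, 8],
  [0, 4, 2, 2, 8, 0, 8, 2, 2, 5, 0, 8],
  [2, 5, 2, 6, 6, 5, 9, 2, 8, 8, 6, 5],
  [0, 4, 2, 4, 9, 1, 9, 5, 2, 5, 0, 8],
  [0, 4, 2, 4, 8, 0, 8, 5, 2, 5, 0, 8],
  [2, 2, 4, 6, 3, 4, 6, 2, 5, 2, 7, 7],
  [2, 4, 3, 8, 3, 4, 3, 5, 9, 2, 9, 5],
  [2, 2, 4, 8, 2, 2, 9, 9, 9, 9, 2, 5],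
  [2, 4, 3, 9, 3, 9, 3, 9, 3, 9, 9, 5],
  [2, 6, 3, 6, 4, 7, 3, 5, 6, 3, 4, 4],
  [2, 4, 2, 4, 4, 3, 7, 3, 4, 7, 7, 5],
  [2, 4, 4, 7, 2, 6, 2, 6, 3, 4, 4, 7],
  [2, 4, 4, 7, 3, 6, 4, 6, 4, 7, 3, 7],
  [2, 4, 4, 7, 3, 6, 6, 5, 7, 5, 3, 7],
  [2, 4, 4, 7, 3, 7, 2, 7, 3, 6, 5, 7],
  [2, 2, 6, 3, 7, 7, 5, 2, 4, 4, 7, 7],
  [2, 4, 6, 2, 7, 5, 5, 6, 6, 2, 6, 5],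
  [2, 4, 6, 3, 7, 5, 5, 6, 2, 7, 5, 5],
  [2, 4, 6, 5, 3, 7, 3, 4, 2, 7, 5, 5],
  [0, 0, 2, 1, 6, 4, 4, 2, 4, 6, 6, 5],
  [2, 4, 6, 6, 5, 8, 2, 9, 9, 6, 4, 4],
  [2, 4, 7, 2, 5, 6, 4, 3, 7, 7, 4, 7],
  [2, 4, 7, 3, 7, 5, 7, 4, 6, 3, 6, 5],
  [2, 6, 5, 2, 6, 5, 6, 3, 7, 4, 4, 6],
  [2, 4, 6, 6, 3, 4, 7, 3, 4, 7, 4, 4],
  [2, 2, 5, 5, 6, 5, 3, 7, 5, 3, 6, 6],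
  [2, 4, 6, 5, 2, 5, 5, 6, 5, 3, 6, 6],
  [2, 4, 3, 6, 4, 7, 2, 4, 7, 4, 6, 6],
  [2, 7, 4, 7, 4, 6, 2, 7, 7, 5, 6, 5],
  [2, 2, 7, 3, 5, 6, 4, 7, 4, 6, 6, 5],
  [2, 2, 6, 5, 7, 4, 2, 6, 4, 6, 6, 5],
  [0, 0, 9, 5, 2, 4, 1, 8, 2, 8, 8, 2],
  [2, 4, 2, 5, 9, 9, 5, 3, 4, 8, 8, 8],
  [0, 2, 0, 2, 4, 2, 2, 5, 1, 4, 2, 5],
  [0, 2, 0, 2, 5, 3, 4, 3, 1, 4, 2, 5],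
  [0, 2, 2, 1, 4, 2, 2, 5, 0, 4, 2, 5],
  [0, 2, 2, 0, 2, 2, 0, 4, 3, 5, 0, 3],
  [0, 2, 0, 3, 0, 2, 2, 1, 4, 3, 5, 2],
  [0, 0, 4, 3, 5, 8, 0, 4, 3, 5, 1, 9],
  [0, 4, 2, 2, 5, 1, 4, 2, 5, 1, 2, 2],
  [0, 0, 0, 3, 4, 3, 5, 2, 1, 4, 2, 5],
  [2, 4, 6, 5, 3, 4, 4, 6, 5, 3, 4, 6],
  [2, 4, 7, 5, 7, 2, 7, 4, 2, 6, 3, 5],
  [0, 4, 3, 4, 3, 3, 5, 5, 8, 1, 2, 9],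
  [2, 5, 6, 2, 6, 2, 6, 4, 7, 7, 5, 5],
  [2, 5, 2, 5, 6, 5, 2, 5, 2, 6, 6, 4],
  [2, 2, 7, 4, 3, 5, 2, 6, 3, 4, 2, 7],
  [2, 4, 3, 6, 2, 6, 3, 4, 3, 7, 3, 7],
  [2, 4, 4, 7, 2, 5, 2, 7, 3, 7, 4, 7],
  [2, 2, 7, 2, 4, 3, 5, 6, 3, 4, 2, 7],
  [2, 5, 6, 3, 4, 2, 7, 5, 7, 7, 3, 7],
  [2, 6, 5, 5, 5, 2, 7, 5, 7, 7, 4, 6],
  [2, 2, 9, 2, 9, 2, 9, 3, 4, 3, 5, 9],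
  [2, 4, 2, 5, 6, 2, 4, 4, 7, 7, 2, 6],
  [2, 2, 6, 6, 3, 5, 7, 3, 6, 6, 2, 4],
  [2, 4, 2, 4, 7, 4, 4, 2, 5, 2, 6, 6],
  [2, 4, 2, 5, 3, 8, 4, 3, 5, 9, 9, 9],
  [0, 2, 1, 8, 8, 2, 4, 3, 5, 0, 9, 3],
  [2, 4, 6, 5, 5, 5, 6, 3, 4, 4, 2, 5],
  [2, 4, 3, 7, 5, 5, 5, 2, 7, 5, 2, 7],
  [0, 2, 8, 1, 9, 3, 4, 4, 3, 5, 5, 8],
  [0, 3, 8, 4, 4, 3, 5, 5, 3, 0, 8, 8],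
  [2, 5, 6, 3, 6, 3, 7, 4, 2, 7, 4, 4],
  [2, 6, 3, 6, 3, 6, 4, 4, 2, 7, 4, 6],
  [2, 4, 7, 4, 2, 6, 6, 3, 5, 5, 7, 7],
  [2, 2, 9, 9, 9, 9, 4, 4, 2, 5, 5, 8],
  [2, 2, 8, 8, 8, 8, 4, 4, 2, 5, 5, 9],
  [2, 2, 5, 7, 5, 7, 3, 6, 3, 3, 5, 6],
  [2, 2, 5, 6, 5, 6, 2, 7, 5, 3, 7, 4],
  [2, 5, 6, 2, 5, 6, 6, 2, 7, 7, 3, 6],
  [2, 5, 6, 2, 6, 3, 7, 2, 7, 4, 6, 6],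
  [2, 5, 6, 2, 6, 4, 3, 6, 2, 7, 4, 7],
  [2, 6, 4, 6, 2, 7, 7, 4, 6, 3, 5, 6],
  [2, 2, 6, 2, 7, 7, 7, 4, 2, 2, 7, 4],
  [2, 2, 7, 5, 2, 6, 6, 5, 2, 7, 4, 4],
  [2, 2, 2, 7, 3, 3, 5, 6, 4, 2, 7, 4],
  [2, 5, 2, 6, 5, 5, 5, 6, 4, 3, 4, 4],
  [0, 7, 0, 8, 4, 7, 4, 2, 7, 7, 9, 7],
  [0, 7, 0, 8, 6, 6, 3, 5, 6, 5, 9, 7],
  [2, 7, 2, 7, 5, 5, 6, 6, 3, 7, 4, 4],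
  [2, 2, 7, 8, 8, 3, 9, 4, 7, 7, 4, 4],
  [2, 2, 7, 9, 9, 3, 8, 4, 7, 7, 4, 4],
  [0, 4, 4, 1, 9, 1, 6, 4, 4, 6, 0, 8],
  [2, 5, 7, 3, 5, 6, 4, 3, 7, 7, 4, 6],
  [2, 6, 4, 4, 6, 3, 4, 8, 2, 9, 9, 4],
  [2, 6, 4, 4, 6, 3, 4, 9, 2, 8, 8, 4],
  [2, 5, 6, 6, 4, 3, 7, 2, 6, 2, 6, 4],
  [2, 2, 5, 5, 7, 7, 5, 8, 8, 3, 9, 6],
  [2, 2, 5, 5, 7, 7, 5, 9, 9, 3, 8, 6],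
  [0, 9, 0, 9, 2, 2, 0, 9, 4, 3, 5, 9],
  [2, 8, 4, 6, 4, 9, 3, 9, 7, 5, 5, 8],
  [2, 8, 4, 6, 4, 9, 3, 9, 4, 4, 6, 8],
  [2, 2, 5, 8, 2, 2, 9, 4, 2, 5, 9, 4],
  [2, 2, 9, 9, 9, 2, 9, 4, 3, 5, 9, 9],
  [2, 2, 8, 8, 8, 2, 8, 4, 3, 5, 8, 8],
  [0, 0, 8, 6, 1, 6, 1, 6, 1, 6, 0, 8],
  [0, 7, 0, 7, 0, 7, 9, 1, 9, 1, 9, 7],
  [0, 7, 0, 7, 0, 7, 8, 0, 8, 1, 9, 7],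
  [0, 7, 0, 7, 0, 7, 9, 1, 8, 0, 8, 7],
  [2, 4, 4, 6, 2, 4, 6, 3, 7, 5, 5, 6],
  [0, 2, 8, 1, 7, 3, 7, 3, 7, 3, 7, 9],
  [0, 7, 3, 7, 3, 7, 3, 7, 8, 1, 2, 9],
  [2, 4, 6, 2, 6, 3, 6, 5, 7, 4, 6, 5],
  [2, 4, 7, 5, 7, 7, 3, 5, 6, 2, 6, 5],
  [2, 4, 2, 6, 4, 7, 5, 6, 2, 7, 3, 6],
  [2, 6, 5, 6, 2, 7, 5, 6, 6, 5, 6, 6],
  [2, 4, 3, 7, 7, 4, 2, 4, 6, 5, 6, 4],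
  [2, 5, 9, 2, 8, 8, 6, 6, 5, 2, 6, 5],
  [2, 4, 6, 6, 8, 2, 9, 9, 4, 2, 4, 7],
  [2, 4, 6, 6, 9, 2, 8, 8, 4, 2, 4, 7],
  [2, 4, 4, 7, 5, 7, 2, 7, 4, 4, 7, 7],
  [2, 4, 6, 5, 5, 7, 8, 8, 3, 9, 3, 7],
  [2, 4, 6, 5, 5, 7, 9, 9, 3, 8, 3, 7],
  [2, 5, 6, 3, 4, 6, 6, 3, 5, 2, 6, 6],
  [2, 5, 7, 5, 7, 2, 7, 3, 5, 2, 7, 5],
  [2, 2, 6, 5, 5, 6, 5, 7, 5, 6, 3, 6],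
  [2, 5, 2, 6, 6, 6, 2, 6, 4, 2, 7, 7],
  [2, 6, 9, 9, 3, 8, 3, 5, 5, 6, 6, 5],
  [4, 4, 6, 6, 5, 5, 6, 4, 7, 4, 6, 6],
  [0, 2, 8, 1, 3, 7, 2, 5, 7, 4, 7, 9],
  [2, 4, 6, 5, 5, 7, 3, 8, 8, 3, 9, 7],
  [2, 4, 6, 5, 5, 7, 3, 9, 9, 3, 8, 7],
  [2, 4, 6, 3, 7, 7, 2, 4, 6, 3, 7, 7],
  [2, 6, 5, 8, 2, 9, 9, 5, 2, 6, 6, 5],
  [2, 6, 5, 9, 2, 8, 8, 5, 2, 6, 6, 5],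
  [0, 0, 0, 9, 2, 2, 8, 1, 1, 3, 8, 8],
  [0, 3, 3, 8, 8, 0, 8, 1, 3, 3, 0, 8],
  [0, 0, 8, 1, 8, 2, 0, 9, 3, 0, 3, 9],
  [0, 2, 8, 1, 4, 3, 3, 5, 5, 3, 4, 9],
  [0, 5, 5, 0, 9, 1, 9, 9, 4, 4, 0, 8],
  [0, 8, 1, 5, 5, 9, 1, 9, 4, 4, 8, 8],
  [0, 2, 8, 1, 6, 2, 2, 6, 5, 6, 4, 9],
  [0, 2, 8, 1, 7, 2, 5, 7, 4, 7, 3, 9],
  [0, 0, 0, 8, 0, 9, 9, 0, 9, 1, 9, 9],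
  [0, 3, 9, 1, 9, 3, 9, 4, 1, 9, 1, 5],
  [2, 2, 2, 8, 4, 2, 2, 5, 9, 2, 2, 8],
  [0, 8, 2, 5, 3, 8, 0, 8, 3, 4, 2, 8],
  [0, 0, 8, 0, 9, 4, 3, 9, 1, 9, 3, 5],
  [0, 4, 1, 2, 8, 0, 8, 2, 8, 5, 0, 8],
  [2, 2, 8, 2, 2, 9, 3, 3, 8, 3, 3, 8],
  [0, 8, 3, 5, 5, 8, 0, 8, 4, 4, 3, 8],
  [2, 4, 8, 3, 8, 8, 8, 4, 3, 5, 8, 5],
  [0, 4, 0, 8, 0, 5, 9, 5, 8, 0, 8, 4],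
  [0, 4, 1, 9, 1, 5, 9, 5, 8, 0, 8, 4],
  [0, 3, 0, 5, 9, 1, 9, 4, 9, 3, 0, 8],
  [0, 2, 0, 5, 9, 1, 9, 4, 9, 2, 0, 8],
  [0, 4, 1, 9, 1, 5, 9, 5, 9, 1, 9, 4],
  [4, 8, 4, 8, 4, 8, 4, 8, 4, 8, 4, 8],
  [0, 4, 9, 5, 9, 1, 9, 4, 0, 5, 0, 8],
  [0, 4, 8, 5, 9, 1, 9, 4, 1, 5, 0, 8],
  [0, 4, 0, 8, 0, 5, 9, 4, 8, 0, 8, 5],
  [0, 4, 8, 4, 8, 0, 8, 5, 1, 5, 0, 8],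
  [2, 2, 9, 2, 2, 9, 9, 9, 5, 3, 4, 9],
  [2, 2, 9, 2, 8, 5, 3, 4, 8, 8, 2, 9],
  [0, 4, 1, 9, 1, 5, 9, 4, 9, 1, 9, 5],
  [0, 5, 8, 1, 8, 0, 8, 8, 1, 4, 0, 8],
  [0, 0, 0, 8, 8, 2, 1, 1, 8, 3, 3, 9],
  [0, 0, 8, 0, 9, 5, 1, 8, 0, 8, 8, 4],
  [0, 2, 5, 1, 8, 0, 8, 8, 4, 2, 0, 8],
  [2, 6, 4, 4, 9, 2, 8, 8, 4, 6, 6, 5],
  [2, 8, 3, 8, 8, 8, 2, 9, 3, 9, 9, 9],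
  [2, 2, 8, 2, 2, 8, 8, 8, 5, 3, 4, 8],
  [0, 0, 9, 2, 9, 3, 1, 9, 0, 3, 8, 3],
  [0, 4, 3, 3, 5, 5, 3, 4, 8, 1, 2, 9],
  [0, 6, 2, 2, 6, 5, 6, 4, 8, 1, 2, 9],
  [0, 7, 2, 5, 7, 4, 7, 3, 8, 1, 2, 9]]

def u5 : List ℕ := [10, 10, 10, 10, 10]

def vdef : List ℕ := [13, 5, 10]

def conjA : List ℕ := [9, 2, 1, 12, 0, 3, 8]

set_option maxRecDepth 100000 in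
def stabs : List (List ℕ × List ℕ × ℕ) := [([12], [0, 2, 2, 4], 7),
  ([12], [1, 4, 2, 4], 7),
  ([12], [2, 0, 6, 2], 15),
  ([12], [3, 5, 2, 1], 7),
  ([12], [3, 7, 1, 3], 15),
  ([12], [4, 6, 3, 9], 7),
  ([12], [5, 3, 5, 0], 7),
  ([12], [8, 2, 7, 5], 7),
  ([12], [8, 8, 4, 8], 7),
  ([12], [9, 5, 9, 9], 7),
  ([12], [0, 0, 6, 4, 6], 7),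
  ([12], [0, 5, 3, 1, 9], 15),
  ([12], [0, 6, 6, 3, 4], 7),
  ([12], [0, 6, 9, 2, 5], 5),
  ([12], [1, 3, 4, 0, 8], 15),
  ([12], [1, 7, 4, 0, 6], 7),
  ([12], [1, 7, 4, 9, 4], 7),
  ([12], [2, 0, 5, 2, 7], 7),
  ([12], [2, 2, 6, 8, 5], 15),
  ([12], [2, 2, 8, 4, 6], 7),
  ([12], [3, 0, 8, 7, 7], 5),
  ([12], [3, 5, 0, 5, 6], 7),
  ([12], [4, 3, 7, 5, 9], 7),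
  ([12], [4, 3, 8, 7, 1], 5),
  ([12], [4, 9, 7, 3, 3], 15),
  ([12], [5, 2, 0, 6, 6], 15),
  ([12], [5, 2, 7, 7, 1], 7),
  ([12], [5, 8, 5, 6, 0], 7),
  ([12], [5, 8, 8, 2, 8], 7),
  ([12], [6, 3, 4, 1, 3], 7),
  ([12], [6, 6, 9, 1, 2], 5),
  ([12], [7, 1, 5, 6, 0], 7),
  ([12], [7, 1, 8, 2, 8], 7),
  ([12], [7, 4, 1, 4, 2], 7),
  ([12], [7, 5, 7, 1, 1], 7),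
  ([12], [7, 5, 9, 3, 3], 7),
  ([12], [7, 7, 1, 3, 4], 15),
  ([12], [8, 4, 6, 2, 5], 7),
  ([12], [9, 3, 9, 0, 6], 7),
  ([12], [9, 3, 9, 9, 4], 7),
  ([12], [0, 0, 4, 7, 4, 9], 7),
  ([12], [0, 0, 4, 7, 9, 5], 7),
  ([12], [0, 0, 6, 9, 3, 3], 15),
  ([12], [0, 0, 8, 8, 4, 7], 5),
  ([12], [0, 0, 9, 9, 7, 8], 7),
  ([12], [0, 2, 2, 8, 0, 6], 5),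
  ([12], [0, 2, 6, 3, 1, 7], 7),
  ([12], [0, 2, 6, 6, 2, 7], 7),
  ([12], [0, 2, 9, 4, 4, 8], 15),
  ([12], [0, 2, 9, 4, 9, 9], 15),
  ([12], [0, 3, 3, 6, 1, 4], 15),
  ([12], [0, 3, 4, 7, 1, 3], 7),
  ([12], [0, 3, 7, 7, 0, 5], 7),
  ([12], [0, 3, 9, 5, 6, 8], 15),
  ([12], [0, 4, 0, 2, 7, 4], 3),
  ([12], [0, 4, 1, 7, 7, 4], 7),
  ([12], [0, 4, 3, 6, 8, 5], 7),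
  ([12], [0, 4, 6, 4, 0, 9], 15),
  ([12], [0, 4, 6, 5, 7, 3], 15),
  ([12], [0, 5, 7, 3, 7, 1], 3),
  ([12], [0, 5, 8, 0, 6, 3], 15),
  ([12], [0, 5, 9, 6, 9, 3], 15),
  ([12], [0, 6, 0, 8, 2, 5], 15),
  ([12], [0, 6, 1, 4, 4, 2], 7),
  ([12], [0, 6, 2, 5, 0, 9], 7),
  ([12], [0, 6, 2, 6, 4, 1], 3),
  ([12], [0, 6, 5, 0, 7, 8], 7),
  ([12], [0, 6, 9, 7, 5, 9], 5),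
  ([12], [0, 7, 1, 4, 1, 5], 7),
  ([12], [0, 7, 1, 8, 8, 4], 7),
  ([12], [0, 7, 3, 4, 1, 6], 15),
  ([12], [0, 7, 4, 3, 3, 7], 7),
  ([12], [0, 7, 7, 0, 4, 3], 15),
  ([12], [1, 1, 3, 8, 1, 4], 15),
  ([12], [1, 1, 6, 9, 0, 6], 15),
  ([12], [1, 1, 6, 9, 9, 4], 5),
  ([12], [1, 1, 7, 0, 5, 3], 15),
  ([12], [1, 2, 6, 3, 3, 9], 5),
  ([12], [1, 2, 6, 3, 7, 5], 7),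
  ([12], [1, 2, 7, 3, 6, 9], 7),
  ([12], [1, 3, 3, 0, 6, 5], 15),
  ([12], [1, 3, 5, 6, 6, 9], 15),
  ([12], [1, 3, 9, 7, 2, 2], 5),
  ([12], [1, 4, 1, 1, 8, 5], 15),
  ([12], [1, 4, 6, 3, 1, 7], 7),
  ([12], [1, 4, 6, 6, 2, 7], 3),
  ([12], [1, 4, 8, 2, 2, 8], 15),
  ([12], [1, 4, 9, 3, 6, 8], 7),
  ([12], [1, 5, 0, 5, 0, 3], 15),
  ([12], [1, 5, 1, 5, 6, 3], 3),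
  ([12], [1, 5, 2, 7, 9, 6], 15),
  ([12], [1, 5, 7, 2, 1, 8], 7),
  ([12], [1, 6, 2, 6, 3, 3], 7),
  ([12], [1, 6, 5, 6, 6, 5], 7),
  ([12], [1, 6, 6, 5, 7, 2], 7),
  ([12], [1, 7, 1, 5, 1, 4], 5),
  ([12], [1, 7, 2, 9, 3, 5], 15),
  ([12], [1, 7, 4, 8, 2, 8], 15),
  ([12], [1, 7, 7, 4, 1, 4], 15),
  ([12], [1, 8, 8, 6, 8, 2], 5),
  ([12], [1, 9, 3, 3, 6, 6], 7),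
  ([12], [1, 9, 4, 7, 1, 7], 7),
  ([12], [1, 9, 9, 2, 9, 4], 15),
  ([12], [2, 0, 4, 4, 7, 9], 7),
  ([12], [2, 0, 5, 3, 1, 6], 7),
  ([12], [2, 0, 6, 5, 2, 1], 7),
  ([12], [2, 0, 8, 4, 6, 5], 15),
  ([12], [2, 1, 4, 1, 4, 0], 15),
  ([12], [2, 1, 4, 6, 3, 8], 15),
  ([12], [2, 1, 7, 8, 3, 7], 7),
  ([12], [2, 2, 0, 5, 1, 5], 15),
  ([12], [2, 2, 4, 1, 1, 6], 7),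
  ([12], [2, 2, 6, 2, 0, 4], 7),
  ([12], [2, 2, 7, 3, 7, 0], 7),
  ([12], [2, 2, 8, 7, 1, 1], 15),
  ([12], [2, 4, 1, 6, 0, 0], 15),
  ([12], [2, 4, 3, 7, 1, 9], 3),
  ([12], [2, 5, 0, 9, 2, 7], 15),
  ([12], [2, 5, 1, 2, 6, 4], 7),
  ([12], [2, 5, 1, 6, 0, 7], 7),
  ([12], [2, 5, 1, 6, 6, 1], 15),
  ([12], [2, 5, 1, 9, 6, 6], 7),
  ([12], [2, 5, 5, 7, 0, 9], 15),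
  ([12], [2, 5, 6, 4, 0, 7], 7),
  ([12], [2, 5, 6, 4, 6, 1], 15),
  ([12], [2, 5, 8, 6, 3, 5], 5),
  ([12], [2, 5, 9, 9, 4, 6], 7),
  ([12], [2, 6, 0, 4, 3, 9], 5),
  ([12], [2, 6, 1, 6, 6, 2], 15),
  ([12], [2, 6, 2, 6, 5, 5], 3),
  ([12], [2, 7, 1, 4, 9, 2], 15),
  ([12], [2, 7, 1, 9, 4, 1], 15),
  ([12], [2, 7, 3, 4, 4, 6], 3),
  ([12], [2, 7, 4, 0, 4, 0], 3),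
  ([12], [2, 8, 2, 2, 8, 6], 7),
  ([12], [2, 8, 4, 4, 8, 2], 7),
  ([12], [2, 8, 6, 8, 4, 4], 15),
  ([12], [2, 8, 7, 8, 4, 1], 15),
  ([12], [2, 9, 2, 4, 8, 8], 15),
  ([12], [3, 1, 5, 8, 6, 6], 15),
  ([12], [3, 3, 5, 5, 1, 9], 7),
  ([12], [3, 3, 6, 8, 2, 0], 5),
  ([12], [3, 4, 6, 5, 0, 5], 7),
  ([12], [3, 5, 2, 7, 0, 7], 5),
  ([12], [3, 5, 5, 0, 7, 1], 7),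
  ([12], [3, 5, 7, 3, 4, 9], 7),
  ([12], [3, 5, 7, 7, 0, 5], 7),
  ([12], [3, 5, 8, 5, 8, 6], 15),
  ([12], [3, 5, 9, 6, 4, 8], 3),
  ([12], [3, 6, 4, 7, 7, 0], 7),
  ([12], [3, 6, 5, 5, 3, 6], 3),
  ([12], [3, 7, 3, 6, 4, 6], 3),
  ([12], [3, 7, 4, 0, 0, 9], 5),
  ([12], [3, 7, 4, 4, 7, 9], 7),
  ([12], [3, 8, 5, 0, 6, 3], 15),
  ([12], [3, 9, 5, 5, 9, 3], 7),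
  ([12], [3, 9, 6, 9, 7, 5], 7),
  ([12], [3, 9, 7, 9, 9, 0], 5),
  ([12], [4, 0, 3, 4, 3, 8], 7),
  ([12], [4, 0, 4, 1, 3, 3], 15),
  ([12], [4, 0, 5, 0, 0, 7], 7),
  ([12], [4, 0, 5, 0, 6, 1], 7),
  ([12], [4, 1, 2, 5, 6, 6], 7),
  ([12], [4, 1, 2, 6, 1, 6], 7),
  ([12], [4, 1, 3, 4, 6, 4], 7),
  ([12], [4, 1, 3, 5, 3, 9], 15),
  ([12], [4, 1, 4, 7, 5, 2], 7),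
  ([12], [4, 1, 5, 7, 0, 6], 5),
  ([12], [4, 1, 5, 7, 9, 4], 7),
  ([12], [4, 1, 6, 3, 4, 9], 7),
  ([12], [4, 1, 6, 6, 2, 1], 7),
  ([12], [4, 1, 6, 6, 4, 2], 7),
  ([12], [4, 2, 7, 3, 7, 5], 3),
  ([12], [4, 2, 7, 9, 4, 3], 5),
  ([12], [4, 2, 8, 3, 6, 0], 15),
  ([12], [4, 3, 6, 4, 1, 6], 15),
  ([12], [4, 3, 8, 3, 7, 4], 15),
  ([12], [4, 3, 9, 1, 7, 1], 15),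
  ([12], [4, 3, 9, 3, 5, 8], 5),
  ([12], [4, 4, 2, 6, 2, 6], 3),
  ([12], [4, 4, 3, 7, 0, 4], 15),
  ([12], [4, 4, 7, 0, 6, 8], 15),
  ([12], [4, 6, 2, 7, 3, 0], 7),
  ([12], [4, 6, 4, 2, 0, 5], 7),
  ([12], [4, 6, 8, 7, 8, 2], 7),
  ([12], [4, 7, 0, 2, 0, 2], 15),
  ([12], [4, 7, 5, 9, 1, 3], 15),
  ([12], [4, 7, 7, 4, 7, 0], 7),
  ([12], [4, 7, 8, 7, 4, 4], 5),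
  ([12], [4, 8, 3, 4, 6, 6], 7),
  ([12], [4, 8, 6, 5, 1, 1], 7),
  ([12], [4, 9, 0, 0, 5, 0], 15),
  ([12], [4, 9, 0, 7, 0, 9], 7),
  ([12], [4, 9, 7, 2, 5, 1], 7),
  ([12], [4, 9, 7, 5, 0, 8], 7),
  ([12], [4, 9, 7, 8, 4, 6], 7),
  ([12], [5, 0, 4, 0, 6, 0], 5),
  ([12], [5, 0, 5, 6, 6, 0], 15),
  ([12], [5, 0, 7, 2, 2, 1], 15),
  ([12], [5, 0, 7, 3, 0, 8], 5),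
  ([12], [5, 0, 9, 2, 0, 0], 15),
  ([12], [5, 1, 3, 7, 3, 3], 7),
  ([12], [5, 1, 6, 2, 5, 5], 15),
  ([12], [5, 1, 7, 0, 7, 7], 15),
  ([12], [5, 1, 7, 1, 6, 4], 15),
  ([12], [5, 1, 7, 9, 9, 7], 7),
  ([12], [5, 1, 9, 2, 0, 9], 15),
  ([12], [5, 2, 1, 5, 1, 7], 3),
  ([12], [5, 2, 6, 6, 0, 7], 5),
  ([12], [5, 3, 1, 7, 0, 9], 3),
  ([12], [5, 3, 6, 3, 1, 7], 7),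
  ([12], [5, 5, 2, 7, 3, 7], 3),
  ([12], [5, 5, 6, 9, 6, 5], 5),
  ([12], [5, 5, 9, 7, 9, 3], 15),
  ([12], [5, 6, 0, 0, 5, 8], 7),
  ([12], [5, 6, 2, 9, 2, 5], 15),
  ([12], [5, 6, 3, 1, 5, 1], 3),
  ([12], [5, 6, 8, 6, 6, 8], 5),
  ([12], [5, 7, 0, 0, 7, 7], 15),
  ([12], [5, 7, 0, 6, 0, 4], 15),
  ([12], [5, 7, 3, 6, 6, 1], 7),
  ([12], [5, 7, 3, 9, 6, 6], 7),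
  ([12], [5, 8, 6, 4, 0, 5], 7),
  ([12], [5, 8, 8, 7, 0, 0], 5),
  ([12], [5, 9, 9, 0, 6, 1], 7),
  ([12], [6, 0, 2, 6, 2, 7], 7),
  ([12], [6, 0, 2, 7, 2, 4], 7),
  ([12], [6, 0, 2, 7, 3, 1], 7),
  ([12], [6, 0, 2, 7, 5, 0], 7),
  ([12], [6, 0, 4, 0, 3, 4], 3),
  ([12], [6, 0, 6, 5, 8, 0], 7),
  ([12], [6, 1, 1, 4, 1, 5], 7),
  ([12], [6, 1, 4, 3, 3, 7], 5),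
  ([12], [6, 1, 5, 7, 4, 3], 7),
  ([12], [6, 1, 6, 2, 2, 4], 5),
  ([12], [6, 1, 7, 0, 4, 3], 7),
  ([12], [6, 1, 7, 7, 3, 4], 5),
  ([12], [6, 1, 9, 9, 7, 7], 15),
  ([12], [6, 2, 2, 5, 0, 7], 5),
  ([12], [6, 2, 2, 5, 6, 1], 7),
  ([12], [6, 2, 5, 8, 2, 7], 7),
  ([12], [6, 2, 6, 4, 9, 6], 15),
  ([12], [6, 2, 7, 1, 3, 6], 15),
  ([12], [6, 2, 9, 6, 0, 3], 7),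
  ([12], [6, 3, 5, 5, 7, 9], 5),
  ([12], [6, 3, 7, 3, 1, 7], 7),
  ([12], [6, 3, 7, 7, 5, 0], 3),
  ([12], [6, 3, 8, 1, 4, 3], 15),
  ([12], [6, 3, 9, 4, 3, 7], 7),
  ([12], [6, 4, 2, 7, 2, 9], 15),
  ([12], [6, 4, 7, 2, 5, 9], 7),
  ([12], [6, 5, 0, 8, 8, 1], 5),
  ([12], [6, 6, 1, 1, 6, 4], 15),
  ([12], [6, 6, 1, 6, 0, 4], 15),
  ([12], [6, 6, 1, 9, 9, 7], 15),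
  ([12], [6, 8, 8, 6, 0, 4], 7),
  ([12], [6, 9, 0, 5, 8, 8], 7),
  ([12], [6, 9, 6, 5, 8, 8], 3),
  ([12], [7, 0, 0, 3, 5, 2], 7),
  ([12], [7, 0, 2, 4, 1, 3], 7),
  ([12], [7, 0, 5, 2, 6, 1], 15),
  ([12], [7, 0, 5, 7, 2, 5], 15),
  ([12], [7, 0, 6, 5, 0, 6], 7),
  ([12], [7, 0, 7, 3, 0, 5], 7),
  ([12], [7, 1, 4, 3, 4, 6], 7),
  ([12], [7, 1, 4, 7, 1, 6], 7),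
  ([12], [7, 1, 8, 7, 0, 0], 15),
  ([12], [7, 1, 9, 3, 3, 1], 5),
  ([12], [7, 2, 0, 6, 3, 7], 15),
  ([12], [7, 2, 7, 1, 7, 8], 7),
  ([12], [7, 3, 5, 7, 1, 8], 7),
  ([12], [7, 5, 2, 5, 0, 6], 7),
  ([12], [7, 5, 7, 2, 6, 2], 3),
  ([12], [7, 5, 8, 2, 8, 6], 7),
  ([12], [7, 5, 8, 8, 4, 3], 7),
  ([12], [7, 5, 9, 6, 8, 5], 7),
  ([12], [7, 7, 2, 2, 8, 0], 7),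
  ([12], [7, 7, 5, 2, 4, 9], 7),
  ([12], [7, 7, 5, 2, 9, 5], 7),
  ([12], [7, 7, 8, 0, 4, 3], 7),
  ([12], [7, 7, 8, 2, 6, 4], 7),
  ([12], [7, 7, 9, 4, 0, 2], 15),
  ([12], [7, 8, 5, 7, 3, 7], 15),
  ([12], [7, 8, 6, 3, 4, 0], 15),
  ([12], [7, 9, 4, 9, 4, 2], 15),
  ([12], [8, 0, 3, 4, 3, 4], 7),
  ([12], [8, 0, 6, 2, 5, 3], 3),
  ([12], [8, 1, 1, 4, 7, 9], 7),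
  ([12], [8, 1, 1, 5, 6, 2], 5),
  ([12], [8, 1, 4, 3, 7, 1], 7),
  ([12], [8, 1, 4, 6, 4, 1], 15),
  ([12], [8, 1, 4, 9, 4, 9], 5),
  ([12], [8, 1, 5, 5, 7, 3], 15),
  ([12], [8, 1, 6, 0, 2, 4], 3),
  ([12], [8, 1, 6, 1, 8, 5], 7),
  ([12], [8, 2, 0, 9, 7, 9], 15),
  ([12], [8, 2, 2, 7, 3, 0], 5),
  ([12], [8, 2, 4, 2, 0, 5], 15),
  ([12], [8, 2, 5, 1, 7, 3], 5),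
  ([12], [8, 3, 6, 3, 5, 7], 15),
  ([12], [8, 4, 3, 6, 5, 7], 7),
  ([12], [8, 5, 2, 7, 0, 5], 7),
  ([12], [8, 5, 5, 7, 2, 7], 5),
  ([12], [8, 5, 6, 5, 1, 1], 7),
  ([12], [8, 5, 8, 5, 0, 9], 5),
  ([12], [8, 6, 5, 5, 1, 3], 7),
  ([12], [8, 6, 5, 5, 6, 2], 7),
  ([12], [8, 6, 8, 1, 3, 9], 15),
  ([12], [8, 7, 2, 6, 3, 0], 7),
  ([12], [8, 7, 7, 4, 2, 0], 15),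
  ([12], [8, 8, 5, 8, 3, 1], 15),
  ([12], [8, 8, 6, 3, 7, 8], 3),
  ([12], [9, 0, 3, 6, 4, 0], 7),
  ([12], [9, 0, 6, 4, 2, 6], 7),
  ([12], [9, 1, 2, 6, 1, 4], 5),
  ([12], [9, 1, 4, 6, 8, 5], 7),
  ([12], [9, 2, 5, 2, 1, 5], 7),
  ([12], [9, 2, 7, 5, 0, 3], 15),
  ([12], [9, 3, 3, 9, 5, 0], 15),
  ([12], [9, 3, 9, 5, 6, 0], 15),
  ([12], [9, 4, 1, 1, 7, 4], 7),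
  ([12], [9, 4, 2, 8, 2, 5], 5),
  ([12], [9, 5, 5, 8, 3, 1], 15),
  ([12], [9, 5, 7, 8, 4, 2], 3),
  ([12], [9, 6, 0, 6, 3, 6], 7),
  ([12], [9, 6, 1, 4, 7, 1], 7),
  ([12], [9, 6, 2, 7, 9, 9], 3),
  ([12], [9, 6, 8, 8, 1, 1], 7),
  ([12], [9, 7, 1, 6, 5, 5], 15),
  ([12], [9, 7, 2, 8, 5, 0], 7),
  ([12], [9, 7, 4, 8, 2, 1], 15),
  ([12], [9, 7, 7, 9, 7, 4], 5),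
  ([12], [9, 9, 4, 1, 8, 7], 7),
  ([12], [9, 9, 4, 7, 8, 7], 3),
  ([12], [9, 9, 5, 3, 8, 3], 15),
  ([12, 1, 12, 0], [1, 9], 3),
  ([12, 1, 12, 0], [8, 0], 3),
  ([12, 1, 12, 0], [1, 4, 1, 5], 11),
  ([12, 1, 12, 0], [1, 5, 0, 4], 11),
  ([12, 1, 12, 0], [4, 0, 5, 0], 11),
  ([12, 1, 12, 0], [4, 0, 8, 5], 3),
  ([12, 1, 12, 0], [4, 9, 1, 5], 3),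
  ([12, 1, 12, 0], [4, 9, 5, 9], 11),
  ([12, 1, 12, 0], [5, 1, 4, 0], 11),
  ([12, 1, 12, 0], [5, 1, 9, 4], 3),
  ([12, 1, 12, 0], [5, 8, 0, 4], 3),
  ([12, 1, 12, 0], [5, 8, 4, 9], 11),
  ([12, 1, 12, 0], [8, 4, 8, 5], 11),
  ([12, 1, 12, 0], [8, 5, 9, 4], 11),
  ([12, 1, 12, 0], [0, 6, 2, 6, 6], 11),
  ([12, 1, 12, 0], [4, 3, 8, 7, 1], 5),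
  ([12, 1, 12, 0], [4, 7, 3, 5, 7], 5),
  ([12, 1, 12, 0], [6, 4, 2, 6, 5], 5),
  ([12, 1, 12, 0], [7, 7, 3, 7, 1], 11),
  ([12, 1, 12, 0], [0, 0, 7, 5, 3, 1], 11),
  ([12, 1, 12, 0], [0, 0, 8, 8, 4, 7], 5),
  ([12, 1, 12, 0], [0, 2, 4, 6, 1, 1], 11),
  ([12, 1, 12, 0], [0, 3, 7, 2, 6, 9], 11),
  ([12, 1, 12, 0], [1, 4, 1, 5, 1, 9], 3),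
  ([12, 1, 12, 0], [1, 4, 1, 9, 5, 0], 3),
  ([12, 1, 12, 0], [1, 4, 1, 9, 5, 9], 11),
  ([12, 1, 12, 0], [1, 5, 0, 4, 1, 9], 3),
  ([12, 1, 12, 0], [1, 5, 0, 8, 4, 0], 3),
  ([12, 1, 12, 0], [1, 5, 0, 8, 4, 9], 11),
  ([12, 1, 12, 0], [1, 6, 5, 7, 1, 5], 5),
  ([12, 1, 12, 0], [1, 6, 6, 0, 4, 4], 3),
  ([12, 1, 12, 0], [1, 9, 4, 0, 5, 9], 3),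
  ([12, 1, 12, 0], [1, 9, 4, 9, 5, 0], 11),
  ([12, 1, 12, 0], [1, 9, 5, 1, 4, 9], 3),
  ([12, 1, 12, 0], [1, 9, 5, 8, 4, 0], 11),
  ([12, 1, 12, 0], [1, 9, 5, 8, 4, 9], 3),
  ([12, 1, 12, 0], [2, 0, 7, 1, 8, 4], 5),
  ([12, 1, 12, 0], [2, 2, 0, 2, 4, 7], 11),
  ([12, 1, 12, 0], [2, 5, 2, 6, 2, 2], 5),
  ([12, 1, 12, 0], [3, 3, 7, 3, 4, 3], 5),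
  ([12, 1, 12, 0], [3, 6, 8, 0, 6, 4], 5),
  ([12, 1, 12, 0], [3, 7, 1, 3, 5, 7], 11),
  ([12, 1, 12, 0], [4, 0, 6, 4, 7, 0], 5),
  ([12, 1, 12, 0], [4, 4, 2, 1, 9, 6], 11),
  ([12, 1, 12, 0], [5, 0, 4, 1, 3, 7], 11),
  ([12, 1, 12, 0], [5, 5, 1, 7, 7, 0], 3),
  ([12, 1, 12, 0], [5, 5, 6, 1, 5, 6], 11),
  ([12, 1, 12, 0], [5, 6, 0, 2, 4, 1], 11),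
  ([12, 1, 12, 0], [5, 7, 1, 9, 7, 2], 5),
  ([12, 1, 12, 0], [5, 9, 0, 6, 1, 3], 5),
  ([12, 1, 12, 0], [6, 2, 0, 5, 1, 4], 11),
  ([12, 1, 12, 0], [6, 4, 2, 0, 6, 2], 11),
  ([12, 1, 12, 0], [6, 5, 0, 8, 8, 1], 5),
  ([12, 1, 12, 0], [6, 5, 3, 1, 3, 3], 11),
  ([12, 1, 12, 0], [7, 4, 0, 7, 4, 4], 11),
  ([12, 1, 12, 0], [7, 8, 0, 3, 5, 5], 11),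
  ([12, 1, 12, 0], [7, 9, 6, 0, 6, 9], 3),
  ([12, 1, 12, 0], [8, 7, 1, 7, 8, 6], 3),
  ([12, 1, 12, 0], [8, 7, 3, 6, 2, 1], 11),
  ([12, 3, 0, 12, 1, 2], [3, 4, 9, 4], 7),
  ([12, 3, 0, 12, 1, 2], [3, 7, 2, 7], 3),
  ([12, 3, 0, 12, 1, 2], [4, 8, 4, 8], 3),
  ([12, 3, 0, 12, 1, 2], [5, 8, 5, 2], 7),
  ([12, 3, 0, 12, 1, 2], [6, 0, 6, 6], 7),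
  ([12, 3, 0, 12, 1, 2], [6, 3, 6, 2], 3),
  ([12, 3, 0, 12, 1, 2], [8, 3, 4, 9], 5),
  ([12, 3, 0, 12, 1, 2], [8, 5, 2, 9], 5),
  ([12, 3, 0, 12, 1, 2], [9, 5, 9, 5], 3),
  ([12, 3, 0, 12, 1, 2], [0, 2, 2, 7, 4], 7),
  ([12, 3, 0, 12, 1, 2], [0, 2, 4, 0, 4], 7),
  ([12, 3, 0, 12, 1, 2], [0, 4, 3, 7, 2], 7),
  ([12, 3, 0, 12, 1, 2], [1, 7, 4, 3, 6], 5),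
  ([12, 3, 0, 12, 1, 2], [1, 7, 4, 9, 4], 7),
  ([12, 3, 0, 12, 1, 2], [1, 7, 7, 2, 7], 3),
  ([12, 3, 0, 12, 1, 2], [1, 8, 3, 8, 4], 15),
  ([12, 3, 0, 12, 1, 2], [1, 9, 0, 3, 7], 15),
  ([12, 3, 0, 12, 1, 2], [2, 1, 1, 5, 9], 15),
  ([12, 3, 0, 12, 1, 2], [2, 2, 6, 0, 6], 5),
  ([12, 3, 0, 12, 1, 2], [2, 4, 4, 0, 5], 7),
  ([12, 3, 0, 12, 1, 2], [2, 7, 3, 0, 6], 3),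
  ([12, 3, 0, 12, 1, 2], [3, 1, 6, 3, 8], 5),
  ([12, 3, 0, 12, 1, 2], [3, 6, 2, 5, 1], 7),
  ([12, 3, 0, 12, 1, 2], [4, 1, 5, 5, 3], 7),
  ([12, 3, 0, 12, 1, 2], [4, 3, 8, 4, 9], 5),
  ([12, 3, 0, 12, 1, 2], [4, 6, 5, 7, 7], 3),
  ([12, 3, 0, 12, 1, 2], [4, 7, 2, 1, 7], 5),
  ([12, 3, 0, 12, 1, 2], [5, 1, 5, 3, 1], 7),
  ([12, 3, 0, 12, 1, 2], [5, 3, 0, 5, 6], 5),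
  ([12, 3, 0, 12, 1, 2], [5, 3, 7, 5, 8], 15),
  ([12, 3, 0, 12, 1, 2], [5, 5, 0, 6, 4], 5),
  ([12, 3, 0, 12, 1, 2], [5, 6, 3, 3, 1], 7),
  ([12, 3, 0, 12, 1, 2], [5, 7, 1, 4, 4], 5),
  ([12, 3, 0, 12, 1, 2], [5, 8, 5, 6, 0], 7),
  ([12, 3, 0, 12, 1, 2], [5, 9, 0, 9, 3], 15),
  ([12, 3, 0, 12, 1, 2], [6, 0, 3, 6, 5], 5),
  ([12, 3, 0, 12, 1, 2], [6, 2, 1, 8, 0], 15),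
  ([12, 3, 0, 12, 1, 2], [6, 3, 6, 6, 0], 3),
  ([12, 3, 0, 12, 1, 2], [6, 4, 6, 3, 0], 3),
  ([12, 3, 0, 12, 1, 2], [7, 1, 2, 6, 3], 3),
  ([12, 3, 0, 12, 1, 2], [7, 1, 5, 2, 7], 7),
  ([12, 3, 0, 12, 1, 2], [7, 4, 1, 2, 4], 5),
  ([12, 3, 0, 12, 1, 2], [8, 0, 2, 4, 4], 7),
  ([12, 3, 0, 12, 1, 2], [8, 4, 0, 0, 3], 15),
  ([12, 3, 0, 12, 1, 2], [8, 5, 3, 6, 9], 5),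
  ([12, 3, 0, 12, 1, 2], [8, 7, 2, 2, 9], 5),
  ([12, 3, 0, 12, 1, 2], [9, 2, 7, 0, 2], 5),
  ([12, 3, 0, 12, 1, 2], [9, 4, 6, 2, 4], 15),
  ([12, 3, 0, 12, 1, 2], [0, 0, 3, 9, 7, 0], 7),
  ([12, 3, 0, 12, 1, 2], [0, 0, 9, 9, 2, 7], 5),
  ([12, 3, 0, 12, 1, 2], [0, 2, 2, 6, 2, 4], 5),
  ([12, 3, 0, 12, 1, 2], [0, 2, 5, 2, 9, 1], 7),
  ([12, 3, 0, 12, 1, 2], [0, 3, 4, 6, 5, 3], 5),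
  ([12, 3, 0, 12, 1, 2], [0, 3, 5, 8, 0, 4], 7),
  ([12, 3, 0, 12, 1, 2], [0, 3, 6, 4, 2, 4], 5),
  ([12, 3, 0, 12, 1, 2], [0, 3, 6, 5, 5, 6], 5),
  ([12, 3, 0, 12, 1, 2], [0, 4, 0, 2, 5, 8], 15),
  ([12, 3, 0, 12, 1, 2], [0, 4, 3, 0, 9, 5], 7),
  ([12, 3, 0, 12, 1, 2], [0, 5, 2, 6, 4, 8], 15),
  ([12, 3, 0, 12, 1, 2], [0, 6, 6, 0, 4, 0], 5),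
  ([12, 3, 0, 12, 1, 2], [0, 7, 1, 1, 1, 5], 7),
  ([12, 3, 0, 12, 1, 2], [0, 8, 0, 7, 0, 0], 7),
  ([12, 3, 0, 12, 1, 2], [1, 1, 6, 4, 9, 1], 7),
  ([12, 3, 0, 12, 1, 2], [1, 1, 8, 8, 6, 6], 7),
  ([12, 3, 0, 12, 1, 2], [1, 5, 1, 7, 7, 1], 5),
  ([12, 3, 0, 12, 1, 2], [1, 6, 1, 3, 4, 1], 3),
  ([12, 3, 0, 12, 1, 2], [1, 6, 8, 2, 1, 1], 7),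
  ([12, 3, 0, 12, 1, 2], [1, 9, 6, 0, 6, 1], 7),
  ([12, 3, 0, 12, 1, 2], [2, 0, 4, 1, 3, 7], 5),
  ([12, 3, 0, 12, 1, 2], [2, 1, 4, 7, 0, 5], 3),
  ([12, 3, 0, 12, 1, 2], [2, 1, 5, 5, 6, 3], 7),
  ([12, 3, 0, 12, 1, 2], [2, 1, 6, 4, 7, 1], 5),
  ([12, 3, 0, 12, 1, 2], [2, 2, 1, 6, 5, 9], 15),
  ([12, 3, 0, 12, 1, 2], [2, 5, 7, 4, 0, 3], 7),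
  ([12, 3, 0, 12, 1, 2], [2, 6, 0, 4, 6, 2], 7),
  ([12, 3, 0, 12, 1, 2], [2, 6, 3, 4, 0, 5], 5),
  ([12, 3, 0, 12, 1, 2], [2, 7, 3, 5, 2, 7], 3),
  ([12, 3, 0, 12, 1, 2], [2, 8, 2, 8, 5, 6], 15),
  ([12, 3, 0, 12, 1, 2], [3, 0, 5, 0, 6, 5], 7),
  ([12, 3, 0, 12, 1, 2], [3, 0, 5, 1, 2, 7], 5),
  ([12, 3, 0, 12, 1, 2], [3, 0, 5, 1, 6, 2], 7),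
  ([12, 3, 0, 12, 1, 2], [3, 0, 6, 1, 1, 7], 5),
  ([12, 3, 0, 12, 1, 2], [3, 1, 2, 4, 7, 8], 5),
  ([12, 3, 0, 12, 1, 2], [3, 1, 2, 6, 1, 7], 5),
  ([12, 3, 0, 12, 1, 2], [3, 1, 3, 7, 0, 4], 5),
  ([12, 3, 0, 12, 1, 2], [3, 1, 5, 9, 1, 3], 7),
  ([12, 3, 0, 12, 1, 2], [3, 1, 7, 0, 2, 4], 7),
  ([12, 3, 0, 12, 1, 2], [3, 1, 9, 6, 0, 3], 7),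
  ([12, 3, 0, 12, 1, 2], [3, 3, 6, 0, 7, 7], 5),
  ([12, 3, 0, 12, 1, 2], [3, 4, 7, 1, 7, 5], 7),
  ([12, 3, 0, 12, 1, 2], [3, 4, 9, 6, 5, 8], 7),
  ([12, 3, 0, 12, 1, 2], [3, 5, 5, 6, 1, 6], 7),
  ([12, 3, 0, 12, 1, 2], [3, 6, 5, 5, 3, 6], 3),
  ([12, 3, 0, 12, 1, 2], [3, 6, 9, 0, 3, 7], 15),
  ([12, 3, 0, 12, 1, 2], [3, 7, 0, 4, 1, 2], 7),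
  ([12, 3, 0, 12, 1, 2], [3, 7, 5, 1, 7, 3], 7),
  ([12, 3, 0, 12, 1, 2], [4, 0, 0, 0, 6, 1], 7),
  ([12, 3, 0, 12, 1, 2], [4, 0, 0, 7, 8, 0], 15),
  ([12, 3, 0, 12, 1, 2], [4, 1, 2, 5, 3, 6], 5),
  ([12, 3, 0, 12, 1, 2], [4, 1, 5, 2, 7, 3], 5),
  ([12, 3, 0, 12, 1, 2], [4, 1, 6, 6, 2, 1], 7),
  ([12, 3, 0, 12, 1, 2], [4, 3, 0, 8, 6, 9], 15),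
  ([12, 3, 0, 12, 1, 2], [4, 3, 1, 8, 5, 1], 7),
  ([12, 3, 0, 12, 1, 2], [4, 3, 8, 3, 6, 9], 5),
  ([12, 3, 0, 12, 1, 2], [4, 6, 0, 6, 3, 6], 5),
  ([12, 3, 0, 12, 1, 2], [4, 8, 0, 5, 2, 6], 15),
  ([12, 3, 0, 12, 1, 2], [4, 8, 7, 2, 5, 2], 15),
  ([12, 3, 0, 12, 1, 2], [4, 8, 7, 2, 9, 4], 7),
  ([12, 3, 0, 12, 1, 2], [4, 8, 8, 5, 2, 9], 7),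
  ([12, 3, 0, 12, 1, 2], [5, 0, 2, 8, 7, 0], 15),
  ([12, 3, 0, 12, 1, 2], [5, 0, 7, 8, 0, 6], 7),
  ([12, 3, 0, 12, 1, 2], [5, 1, 5, 2, 5, 8], 7),
  ([12, 3, 0, 12, 1, 2], [5, 1, 6, 2, 0, 2], 5),
  ([12, 3, 0, 12, 1, 2], [5, 1, 8, 3, 8, 3], 15),
  ([12, 3, 0, 12, 1, 2], [5, 1, 9, 3, 3, 5], 7),
  ([12, 3, 0, 12, 1, 2], [5, 2, 5, 9, 6, 9], 7),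
  ([12, 3, 0, 12, 1, 2], [5, 5, 1, 4, 1, 6], 7),
  ([12, 3, 0, 12, 1, 2], [5, 5, 9, 5, 9, 9], 7),
  ([12, 3, 0, 12, 1, 2], [5, 6, 3, 1, 5, 1], 3),
  ([12, 3, 0, 12, 1, 2], [5, 7, 1, 5, 5, 8], 7),
  ([12, 3, 0, 12, 1, 2], [5, 8, 1, 7, 2, 9], 15),
  ([12, 3, 0, 12, 1, 2], [5, 8, 1, 7, 4, 9], 5),
  ([12, 3, 0, 12, 1, 2], [5, 8, 3, 6, 9, 5], 7),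
  ([12, 3, 0, 12, 1, 2], [6, 0, 4, 0, 3, 4], 3),
  ([12, 3, 0, 12, 1, 2], [6, 0, 5, 3, 6, 1], 7),
  ([12, 3, 0, 12, 1, 2], [6, 0, 7, 3, 0, 2], 5),
  ([12, 3, 0, 12, 1, 2], [6, 2, 4, 9, 6, 4], 7),
  ([12, 3, 0, 12, 1, 2], [6, 3, 6, 4, 9, 4], 7),
  ([12, 3, 0, 12, 1, 2], [6, 4, 0, 9, 1, 2], 3),
  ([12, 3, 0, 12, 1, 2], [6, 4, 1, 5, 0, 6], 3),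
  ([12, 3, 0, 12, 1, 2], [6, 5, 0, 8, 8, 4], 15),
  ([12, 3, 0, 12, 1, 2], [6, 5, 1, 5, 3, 4], 7),
  ([12, 3, 0, 12, 1, 2], [6, 8, 5, 9, 0, 6], 15),
  ([12, 3, 0, 12, 1, 2], [7, 0, 0, 3, 3, 0], 7),
  ([12, 3, 0, 12, 1, 2], [7, 0, 4, 6, 2, 8], 15),
  ([12, 3, 0, 12, 1, 2], [7, 0, 7, 2, 5, 1], 5),
  ([12, 3, 0, 12, 1, 2], [7, 0, 7, 4, 4, 2], 7),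
  ([12, 3, 0, 12, 1, 2], [7, 1, 8, 4, 9, 7], 15),
  ([12, 3, 0, 12, 1, 2], [7, 1, 9, 6, 1, 4], 7),
  ([12, 3, 0, 12, 1, 2], [7, 2, 5, 2, 9, 5], 15),
  ([12, 3, 0, 12, 1, 2], [7, 2, 9, 4, 4, 8], 7),
  ([12, 3, 0, 12, 1, 2], [7, 2, 9, 6, 5, 5], 15),
  ([12, 3, 0, 12, 1, 2], [7, 4, 1, 7, 5, 8], 5),
  ([12, 3, 0, 12, 1, 2], [7, 4, 8, 3, 3, 9], 15),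
  ([12, 3, 0, 12, 1, 2], [8, 2, 6, 6, 5, 9], 5),
  ([12, 3, 0, 12, 1, 2], [8, 3, 4, 9, 4, 8], 5),
  ([12, 3, 0, 12, 1, 2], [8, 3, 6, 0, 9, 4], 15),
  ([12, 3, 0, 12, 1, 2], [8, 5, 2, 9, 4, 8], 7),
  ([12, 3, 0, 12, 1, 2], [8, 5, 7, 3, 7, 9], 3),
  ([12, 3, 0, 12, 1, 2], [8, 7, 8, 4, 3, 4], 7),
  ([12, 3, 0, 12, 1, 2], [8, 7, 9, 1, 2, 5], 15),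
  ([12, 3, 0, 12, 1, 2], [8, 8, 2, 5, 9, 3], 5),
  ([12, 3, 0, 12, 1, 2], [9, 0, 0, 7, 8, 0], 7),
  ([12, 3, 0, 12, 1, 2], [9, 0, 6, 1, 3, 5], 5),
  ([12, 3, 0, 12, 1, 2], [9, 1, 5, 2, 7, 3], 5),
  ([12, 3, 0, 12, 1, 2], [9, 4, 3, 1, 5, 1], 15),
  ([12, 3, 0, 12, 1, 2], [9, 4, 3, 4, 0, 4], 7),
  ([12, 3, 0, 12, 1, 2], [9, 4, 4, 0, 6, 4], 7),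
  ([12, 3, 0, 12, 1, 2], [9, 4, 6, 0, 5, 6], 5),
  ([12, 3, 0, 12, 1, 2], [9, 6, 5, 3, 0, 2], 5)]

def cen : List (List ℕ) := [[12, 12],
  [12, 3, 0, 12, 1, 2, 13, 3, 0, 13, 1, 2],
  [12, 1, 12, 0, 13, 1, 13, 0],
  [12, 5, 12, 4, 13, 5, 13, 4],
  [12, 9, 12, 8, 7, 4, 12, 5, 6],
  [12, 1, 2, 12, 3, 0, 4, 9, 0, 12, 1, 8, 5]]

/-- the commutator of the sign change `a` and the element `s` of `M₂₄` -/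
def stabRel (q : List ℕ × List ℕ × ℕ) : List ℕ := q.1 ++ q.2.1 ++ winv q.1 ++ winv q.2.1

/-- the power `s ^ o` -/
def stabPow (q : List ℕ × List ℕ × ℕ) : List ℕ := (List.replicate q.2.2 q.2.1).flatten

def headR : List (List ℕ) := r24 ++ relsS ++ [u5, vdef, conjRel conjA 2 5 1] ++ stabs.map stabRel

/-- the relators that hold in every central extension by a `2`-group (for lifts of odd order) -/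
def relsW : List (List ℕ) := headR ++ cwords cen 7

/-- the relators that hold in `Co₁` -/
def relsE : List (List ℕ) := headR ++ cen

def sgens2 : List (List ℕ) := [[0], [2], [4], [6], [8]]

end Cfsg.Agent.Lib.Helper22.Co1M
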