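import Cfsg.Agent.Lib.Helper22.Co1MP2Gen
import Cfsg.Agent.Lib.Helper22.Co1MP2Data
import Cfsg.Agent.Lib.Helper20.WeakL78
import Cfsg.Agent.Lib.Helper17.Co1MSec
import Cfsg.Agent.Lib.Helper1.WeakL11

/-!
# S2043 (Schur multiplier of `Co₁`), block `[P2]`: the `2`-part of the kernel of a stem extension has order at most
`2` (helper22)

`part_2_of`: the block in abstract form. `G` is a group of the order of `Co₁` with seven elements `γ 0, …, γ 6`
(the generators `x, y, z, t, w, u, v` of the subgroup `L = 2^11 : M₂₄`) such that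

* the relators of the data file hold (`h24`, `hMw` for the words in `x, …, w`; `hN` for the others),
* `M = ⟨x, …, w⟩` is perfect of order `|M₂₄|` with trivial Schur multiplier,
* `L` has order at least `2^11 |M₂₄|`,
* the two coset enumerations close (`hW`: index `4096` for the relators that survive in a central extension by a
  `2`-group, `hE`: index `2048` for all relators).

Then `L` has order exactly `2^11 |M₂₄|` and odd index, the generators `x, …, u` lift to elements of the same odd
orders, `v` to `z⁻¹ u`, the lifts of `x, …, w` generate a copy of `M`, all relators of `relsW` hold for the lifts,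
and the preimage of `L` has order at most `4096 |M₂₄| = 2 |L|`.
-/

set_option autoImplicit false

namespace Cfsg.Agent.Lib.Helper22.Co1M

open Cfsg Cfsg.H5.TCk Cfsg.H5.StemTC Cfsg.Agent.Lib.Helper10.Weak

/-- the relators of the data that are not words in the generators of `M₂₄` -/
def relsN : List (List ℕ) := [u5, vdef, conjRel conjA 2 5 1] ++ stabs.map stabRel ++ cen

/-- the seven lifts -/
def mk7 {Γ : Type} [Group Γ] (a0 a1 a2 a3 a4 a5 : Γ) : ℕ → Γ
  | 0 => a0
  | 1 => a1
  | 2 => a2
  | 3 => a3
  | 4 => a4
  | 5 => a5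
  | _ => a2⁻¹ * a5

/-- the orders of the generators -/
def ord7 : ℕ → ℕ
  | 0 => 23
  | 1 => 11
  | 2 => 5
  | 3 => 5
  | 4 => 23
  | _ => 5

theorem ord7_coprime (i : ℕ) : (ord7 i).Coprime 2 := by
  unfold ord7
  split <;> decide

set_option maxRecDepth 100000 in
theorem r24_letters : r24.all (fun r => r.all (fun l => decide (l < 2 * 5))) = true := by
  decide +kernel

set_option maxRecDepth 100000 in
theorem relsS_letters : relsS.all (fun r => r.all (fun l => decide (l < 2 * 5))) = true := by
  decide +kernel

set_option maxRecDepth 100000 in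
theorem stabs_ok : stabs.all (fun q => (stabRel q).all (fun l => decide (l < 2 * 7)) &&
    (stabPow q).all (fun l => decide (l < 2 * 5)) && decide (q.2.2 % 2 = 1)) = true := by
  decide +kernel

set_option maxRecDepth 100000 in
theorem cen_letters : cen.all (fun r => r.all (fun l => decide (l < 2 * 7))) = true := by
  decide +kernel

set_option maxRecDepth 100000 in
theorem relsW_letters : relsW.all (fun r => r.all (fun l => decide (l < 2 * 7))) = true := by
  decide +kernel

set_option maxRecDepth 100000 in
theorem relsE_letters : relsE.all (fun r => r.all (fun l => decide (l < 2 * 7))) = true := by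
  decide +kernel

theorem sgens2_letters : sgens2.all (fun r => r.all (fun l => decide (l < 2 * 5))) = true := by
  decide +kernel

theorem pow_mem_r24 : List.replicate 23 0 ∈ r24 ∧ List.replicate 11 2 ∈ r24 ∧
    List.replicate 5 4 ∈ r24 ∧ List.replicate 5 6 ∈ r24 ∧ List.replicate 23 8 ∈ r24 := by
  decide +kernel

theorem ev_flatten_replicate {Γ : Type} [Group Γ] (γ : ℕ → Γ) (s : List ℕ) (o : ℕ) :
    ev γ (List.replicate o s).flatten = ev γ s ^ o := by
  induction o with
  | zero => simp [ev]
  | succ o ih => rw [List.replicate_succ, List.flatten_cons, ev_append, ih, pow_succ']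

theorem ev_pow_letter {Γ : Type} [Group Γ] (γ : ℕ → Γ) (n i : ℕ) :
    ev γ (List.replicate n (2 * i)) = γ i ^ n := by
  rw [Helper1.ev_replicate, Helper1.gl_even]

theorem all_lt_mono57 {w : List ℕ} (hw : w.all (fun l => decide (l < 2 * 5)) = true) :
    w.all (fun l => decide (l < 2 * 7)) = true := by
  rw [List.all_eq_true] at hw ⊢
  intro l hl
  have := hw l hl
  rw [decide_eq_true_eq] at this ⊢
  omega

theorem ev_vdef {Γ : Type} [Group Γ] (γ : ℕ → Γ) :
    ev γ vdef = (γ 6)⁻¹ * ((γ 2)⁻¹ * (γ 5 * 1)) := rfl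

/-- **The block `[P2]`, abstract form.** -/
theorem part_2_of {G : Type} [Group G] (γ : ℕ → G)
    (hG : Nat.card G = 4157776806543360000)
    (h24 : ∀ r ∈ r24, ev γ r = 1)
    (hMw : ∀ r ∈ relsS ++ stabs.map stabPow, ev γ r = 1)
    (hN : ∀ r ∈ relsN, ev γ r = 1)
    (hperf : commutator ↥(Subgroup.closure (Set.range fun i : Fin 5 => γ i.val)) = ⊤)
    (hmult : Cfsg.HasCyclicSchurMultiplier
      ↥(Subgroup.closure (Set.range fun i : Fin 5 => γ i.val)) 1)
    (hMcard : Nat.card ↥(Subgroup.closure (Set.range fun i : Fin 5 => γ i.val)) = 244823040)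
    (hge : 501397585920 ≤ Nat.card ↥(Subgroup.closure (Set.range fun i : Fin 7 => γ i.val)))
    (hW : TCBound 7 relsW sgens2 4096) (hE : TCBound 7 relsE sgens2 2048)
    {Γ : Type} [Group Γ] [Finite Γ] (σ : Γ →* G) (hσ : IsStemExtension σ)
    (hk : IsPGroup 2 σ.ker) : Nat.card σ.ker ≤ 2 := by
  classical
  haveI : Fact (Nat.Prime 2) := ⟨Nat.prime_two⟩
  have hs : Function.Surjective σ := hσ.1
  have hc : σ.ker ≤ Subgroup.center Γ := hσ.2.1
  haveI : Finite G := Nat.finite_of_card_ne_zero (by rw [hG]; norm_num)
  -- membership in the lists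
  have hmemS : ∀ r ∈ relsS, ev γ r = 1 := fun r hr => hMw r (List.mem_append_left _ hr)
  have hmemP : ∀ q ∈ stabs, ev γ (stabPow q) = 1 := fun q hq =>
    hMw _ (List.mem_append_right _ (List.mem_map_of_mem hq))
  have hu5 : ev γ u5 = 1 := hN _ (by simp [relsN])
  have hvd : ev γ vdef = 1 := hN _ (by simp [relsN])
  have hcj : ev γ (conjRel conjA 2 5 1) = 1 := hN _ (by simp [relsN])
  have hst : ∀ q ∈ stabs, ev γ (stabRel q) = 1 := fun q hq =>
    hN _ (by
      unfold relsN
      exact List.mem_append_left _ (List.mem_append_right _ (List.mem_map_of_mem hq)))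
  have hcen : ∀ r ∈ cen, ev γ r = 1 := fun r hr =>
    hN _ (by unfold relsN; exact List.mem_append_right _ hr)
  -- the orders of the generators
  obtain ⟨m0, m1, m2, m3, m4⟩ := pow_mem_r24
  have hx0 : γ 0 ^ 23 = 1 := by rw [← ev_pow_letter γ 23 0]; exact h24 _ m0
  have hx1 : γ 1 ^ 11 = 1 := by rw [← ev_pow_letter γ 11 1]; exact h24 _ m1
  have hx2 : γ 2 ^ 5 = 1 := by rw [← ev_pow_letter γ 5 2]; exact h24 _ m2
  have hx3 : γ 3 ^ 5 = 1 := by rw [← ev_pow_letter γ 5 3]; exact h24 _ m3
  have hx4 : γ 4 ^ 23 = 1 := by rw [← ev_pow_letter γ 23 4]; exact h24 _ m4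
  have hx5 : γ 5 ^ 5 = 1 := by rw [← ev_pow_letter γ 5 5]; exact hu5
  have hv6 : γ 6 = (γ 2)⁻¹ * γ 5 := by
    have h := hvd
    rw [ev_vdef, mul_one] at h
    have h' : (γ 6)⁻¹ * ((γ 2)⁻¹ * γ 5) = 1 := h
    exact (inv_mul_eq_one.mp h')
  -- the exact order of `L`
  have hrelsE : ∀ r ∈ relsE, ev γ r = 1 := by
    intro r hr
    unfold relsE headR at hr
    rcases List.mem_append.mp hr with hr | hr
    · rcases List.mem_append.mp hr with hr | hr
      · rcases List.mem_append.mp hr with hr | hr
        · rcases List.mem_append.mp hr with hr | hr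
          · exact h24 r hr
          · exact hmemS r hr
        · simp only [List.mem_cons, List.not_mem_nil, or_false] at hr
          rcases hr with rfl | rfl | rfl
          · exact hu5
          · exact hvd
          · exact hcj
      · obtain ⟨q, hq, rfl⟩ := List.mem_map.mp hr
        exact hst q hq
    · exact hcen r hr
  have hKM : ∀ g ∈ sgens2, ev γ g ∈ Subgroup.closure (Set.range fun i : Fin 5 => γ i.val) :=
    fun g hg => ev_mem_closure γ 5 g (List.all_eq_true.mp sgens2_letters g hg)
  have hLle := (card_closure_le_of_bound γ 7 relsE (fun r hr => List.all_eq_true.mp relsE_letters r hr)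
    hrelsE sgens2 (fun g hg => all_lt_mono57 (List.all_eq_true.mp sgens2_letters g hg))
    (Subgroup.closure (Set.range fun i : Fin 5 => γ i.val)) hKM 2048 hE).2
  rw [hMcard] at hLle
  have hLcard : Nat.card ↥(Subgroup.closure (Set.range fun i : Fin 7 => γ i.val)) = 501397585920 := by
    omega
  have hidx : ¬ 2 ∣ (Subgroup.closure (Set.range fun i : Fin 7 => γ i.val)).index := by
    have h1 := Subgroup.card_mul_index (Subgroup.closure (Set.range fun i : Fin 7 => γ i.val))
    rw [hLcard, hG] at h1
    have h2 : (Subgroup.closure (Set.range fun i : Fin 7 => γ i.val)).index = 8292375 := by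
      omega
    rw [h2]
    decide
  -- the lifts
  obtain ⟨a0, ha0, ha0p⟩ := exists_lift_pow_eq_one σ hs hk (γ 0) (n := 23) (by decide) hx0
  obtain ⟨a1, ha1, ha1p⟩ := exists_lift_pow_eq_one σ hs hk (γ 1) (n := 11) (by decide) hx1
  obtain ⟨a2, ha2, ha2p⟩ := exists_lift_pow_eq_one σ hs hk (γ 2) (n := 5) (by decide) hx2
  obtain ⟨a3, ha3, ha3p⟩ := exists_lift_pow_eq_one σ hs hk (γ 3) (n := 5) (by decide) hx3
  obtain ⟨a4, ha4, ha4p⟩ := exists_lift_pow_eq_one σ hs hk (γ 4) (n := 23) (by decide) hx4
  obtain ⟨a5, ha5, ha5p⟩ := exists_lift_pow_eq_one σ hs hk (γ 5) (n := 5) (by decide) hx5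
  obtain ⟨γh, hγhdef⟩ : ∃ γh : ℕ → Γ, γh = mk7 a0 a1 a2 a3 a4 a5 := ⟨_, rfl⟩
  have hγh : ∀ i < 7, σ (γh i) = γ i := by
    intro i hi
    rw [hγhdef]
    interval_cases i
    · exact ha0
    · exact ha1
    · exact ha2
    · exact ha3
    · exact ha4
    · exact ha5
    · show σ (a2⁻¹ * a5) = γ 6
      rw [map_mul, map_inv, ha2, ha5, hv6]
  have hpow : ∀ i < 6, γh i ^ ord7 i = 1 := by
    intro i hi
    rw [hγhdef]
    interval_cases i
    · exact ha0p
    · exact ha1p
    · exact ha2p
    · exact ha3p
    · exact ha4p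
    · exact ha5p
  have hevσ : ∀ w : List ℕ, w.all (fun l => decide (l < 2 * 7)) = true →
      ev (fun k => σ (γh k)) w = ev γ w := fun w hw =>
    Helper17.ev_congr_lt _ _ 7 (fun i hi => hγh i hi) w hw
  -- the lifts of the generators of `M` generate a copy of `M`
  have hfun : (fun i : Fin 5 => σ (γh i.val)) = fun i : Fin 5 => γ i.val :=
    funext fun i => hγh i.val (by omega)
  have hcard5 : Nat.card ↥(Subgroup.closure (Set.range fun i : Fin 5 => γh i.val)) ≤
      Nat.card ↥(Subgroup.closure (Set.range fun i : Fin 5 => σ (γh i.val))) := by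
    apply card_lifts_le σ hc hk 5 γh ord7 (fun i _ => ord7_coprime i)
      (fun i hi => hpow i (by omega))
    · rw [hfun]; exact hperf
    · rw [hfun]; exact hmult
  have hM_exact : ∀ w : List ℕ, w.all (fun l => decide (l < 2 * 5)) = true → ev γ w = 1 →
      ev γh w = 1 := by
    intro w hw h
    apply ev_eq_one_of_card_le σ γh 5 hcard5 w hw
    rw [hevσ w (all_lt_mono57 hw)]
    exact h
  -- the relators hold for the lifts
  have hrelsW : ∀ r ∈ relsW, ev γh r = 1 := by
    intro r hr
    unfold relsW headR at hr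
    rcases List.mem_append.mp hr with hr | hr
    · rcases List.mem_append.mp hr with hr | hr
      · rcases List.mem_append.mp hr with hr | hr
        · rcases List.mem_append.mp hr with hr | hr
          · exact hM_exact r (List.all_eq_true.mp r24_letters r hr) (h24 r hr)
          · exact hM_exact r (List.all_eq_true.mp relsS_letters r hr) (hmemS r hr)
        · simp only [List.mem_cons, List.not_mem_nil, or_false] at hr
          rcases hr with rfl | rfl | rfl
          · show ev γh (List.replicate 5 (2 * 5)) = 1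
            rw [ev_pow_letter]
            exact hpow 5 (by norm_num)
          · rw [ev_vdef, hγhdef]
            show (a2⁻¹ * a5)⁻¹ * (a2⁻¹ * (a5 * 1)) = 1
            group
          · apply ev_conjRel_eq_one σ hc hk γh ord7 conjA 2 5 1 (ord7_coprime 2) (ord7_coprime 5)
              (hpow 2 (by norm_num)) (hpow 5 (by norm_num))
            rw [hevσ _ (List.all_eq_true.mp relsW_letters _ (by
              unfold relsW headR
              simp))]
            exact hcj
      · obtain ⟨q, hq, rfl⟩ := List.mem_map.mp hr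
        have hq' := List.all_eq_true.mp stabs_ok q hq
        simp only [Bool.and_eq_true, decide_eq_true_eq] at hq'
        obtain ⟨⟨hq1, hq2⟩, hq3⟩ := hq'
        have hso : ev γh q.2.1 ^ q.2.2 = 1 := by
          rw [← ev_flatten_replicate]
          exact hM_exact _ hq2 (hmemP q hq)
        have hodd : (q.2.2).Coprime 2 := by
          rw [Nat.coprime_two_right, Nat.odd_iff]
          exact hq3
        apply ev_comm_eq_one σ hc hk γh q.1 q.2.1 q.2.2 hodd hso
        have := hevσ (stabRel q) hq1
        unfold stabRel at this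
        rw [this]
        exact hst q hq
    · unfold cwords at hr
      obtain ⟨c, hcm, hr⟩ := List.mem_flatMap.mp hr
      obtain ⟨g, _, rfl⟩ := List.mem_map.mp hr
      apply ev_cword
      apply hc
      rw [MonoidHom.mem_ker, Cfsg.H5.StemTC.map_ev,
        hevσ c (List.all_eq_true.mp cen_letters c hcm)]
      exact hcen c hcm
  -- the bound
  have hKt : ∀ g ∈ sgens2, ev γh g ∈ Subgroup.closure (Set.range fun i : Fin 5 => γh i.val) :=
    fun g hg => ev_mem_closure γh 5 g (List.all_eq_true.mp sgens2_letters g hg)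
  have hmain := card_ker_mul_card_le_of_bound σ hσ 2 hk 7 γ hidx γh hγh relsW
    (fun r hr => List.all_eq_true.mp relsW_letters r hr) hrelsW sgens2
    (fun g hg => all_lt_mono57 (List.all_eq_true.mp sgens2_letters g hg))
    (Subgroup.closure (Set.range fun i : Fin 5 => γh i.val)) hKt 4096 hW
  rw [hLcard] at hmain
  rw [hfun, hMcard] at hcard5
  have h3 : Nat.card σ.ker * 501397585920 ≤ 4096 * 244823040 :=
    le_trans hmain (Nat.mul_le_mul_left _ hcard5)
  omega

end Cfsg.Agent.Lib.Helper22.Co1M
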