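import Cfsg.Agent.Lib.Helper27.Co1O.LowP2
import Cfsg.Agent.Lib.Helper22.Co1MP2Glue

/-! # S2043 `[P2]`: the relators `relsN` hold in the model of `Co₁` on 98280 points, chunk 1 (generated) -/

set_option autoImplicit false

namespace Cfsg.Agent.Lib.Helper22.Co1M

open Cfsg.Agent.Lib.Helper27.Co1O

set_option maxRecDepth 1000000 in
theorem kN_1 : ((relsN.drop 44).take 39).all
    (fun r => baseFix (substW LowP2.wsH r)) = true := by
  decide +kernel

end Cfsg.Agent.Lib.Helper22.Co1M
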