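import Cfsg.Agent.Lib.Helper22.Co1MP2K0
import Cfsg.Agent.Lib.Helper22.Co1MP2K1
import Cfsg.Agent.Lib.Helper22.Co1MP2K2
import Cfsg.Agent.Lib.Helper22.Co1MP2K3
import Cfsg.Agent.Lib.Helper22.Co1MP2K4
import Cfsg.Agent.Lib.Helper22.Co1MP2K5
import Cfsg.Agent.Lib.Helper22.Co1MP2K6
import Cfsg.Agent.Lib.Helper22.Co1MP2K7
import Cfsg.Agent.Lib.Helper22.Co1MP2K8
import Cfsg.Agent.Lib.Helper22.Co1MP2K9
import Cfsg.Agent.Lib.Helper22.Co1MP2K10
import Cfsg.Agent.Lib.Helper22.Co1MP2K11
import Cfsg.Agent.Lib.Helper22.Co1MP2K12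
import Cfsg.Agent.Lib.Helper22.Co1MP2K13
import Cfsg.Agent.Lib.Helper22.Co1MP2K14
import Cfsg.Agent.Lib.Helper22.Co1MP2K15
import Cfsg.Agent.Lib.Helper22.Co1MP2K16
import Cfsg.Agent.Lib.Helper22.Co1MP2K17
import Cfsg.Agent.Lib.Helper22.Co1MP2K18

/-! # S2043 `[P2]`: the relators `r24` and `relsN` hold in the model of `Co₁` on 98280 points (generated) -/

set_option autoImplicit false

namespace Cfsg.Agent.Lib.Helper22.Co1M

open Cfsg.Agent.Lib.Helper27.Co1O

theorem all_drop_of_take {α : Type} (p : α → Bool) (l : List α) (a n : ℕ)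
    (h1 : ((l.drop a).take n).all p = true) (h2 : (l.drop (a + n)).all p = true) :
    (l.drop a).all p = true := by
  have e : l.drop a = (l.drop a).take n ++ l.drop (a + n) := by
    rw [← List.drop_drop, List.take_append_drop]
  rw [e, List.all_append, h1, h2]
  rfl

theorem kN_drop_19 : (relsN.drop 563).all
    (fun r => baseFix (substW LowP2.wsH r)) = true := by
  have h : relsN.drop 563 = [] := by decide +kernel
  rw [h]
  rfl

theorem kN_drop_18 : (relsN.drop 549).all
    (fun r => baseFix (substW LowP2.wsH r)) = true :=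
  all_drop_of_take _ relsN 549 14 kN_18 kN_drop_19

theorem kN_drop_17 : (relsN.drop 528).all
    (fun r => baseFix (substW LowP2.wsH r)) = true :=
  all_drop_of_take _ relsN 528 21 kN_17 kN_drop_18

theorem kN_drop_16 : (relsN.drop 507).all
    (fun r => baseFix (substW LowP2.wsH r)) = true :=
  all_drop_of_take _ relsN 507 21 kN_16 kN_drop_17

theorem kN_drop_15 : (relsN.drop 486).all
    (fun r => baseFix (substW LowP2.wsH r)) = true :=
  all_drop_of_take _ relsN 486 21 kN_15 kN_drop_16

theorem kN_drop_14 : (relsN.drop 465).all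
    (fun r => baseFix (substW LowP2.wsH r)) = true :=
  all_drop_of_take _ relsN 465 21 kN_14 kN_drop_15

theorem kN_drop_13 : (relsN.drop 444).all
    (fun r => baseFix (substW LowP2.wsH r)) = true :=
  all_drop_of_take _ relsN 444 21 kN_13 kN_drop_14

theorem kN_drop_12 : (relsN.drop 421).all
    (fun r => baseFix (substW LowP2.wsH r)) = true :=
  all_drop_of_take _ relsN 421 23 kN_12 kN_drop_13

theorem kN_drop_11 : (relsN.drop 398).all
    (fun r => baseFix (substW LowP2.wsH r)) = true :=
  all_drop_of_take _ relsN 398 23 kN_11 kN_drop_12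

theorem kN_drop_10 : (relsN.drop 374).all
    (fun r => baseFix (substW LowP2.wsH r)) = true :=
  all_drop_of_take _ relsN 374 24 kN_10 kN_drop_11

theorem kN_drop_9 : (relsN.drop 350).all
    (fun r => baseFix (substW LowP2.wsH r)) = true :=
  all_drop_of_take _ relsN 350 24 kN_9 kN_drop_10

theorem kN_drop_8 : (relsN.drop 317).all
    (fun r => baseFix (substW LowP2.wsH r)) = true :=
  all_drop_of_take _ relsN 317 33 kN_8 kN_drop_9

theorem kN_drop_7 : (relsN.drop 278).all
    (fun r => baseFix (substW LowP2.wsH r)) = true :=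
  all_drop_of_take _ relsN 278 39 kN_7 kN_drop_8

theorem kN_drop_6 : (relsN.drop 239).all
    (fun r => baseFix (substW LowP2.wsH r)) = true :=
  all_drop_of_take _ relsN 239 39 kN_6 kN_drop_7

theorem kN_drop_5 : (relsN.drop 200).all
    (fun r => baseFix (substW LowP2.wsH r)) = true :=
  all_drop_of_take _ relsN 200 39 kN_5 kN_drop_6

theorem kN_drop_4 : (relsN.drop 161).all
    (fun r => baseFix (substW LowP2.wsH r)) = true :=
  all_drop_of_take _ relsN 161 39 kN_4 kN_drop_5

theorem kN_drop_3 : (relsN.drop 122).all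
    (fun r => baseFix (substW LowP2.wsH r)) = true :=
  all_drop_of_take _ relsN 122 39 kN_3 kN_drop_4

theorem kN_drop_2 : (relsN.drop 83).all
    (fun r => baseFix (substW LowP2.wsH r)) = true :=
  all_drop_of_take _ relsN 83 39 kN_2 kN_drop_3

theorem kN_drop_1 : (relsN.drop 44).all
    (fun r => baseFix (substW LowP2.wsH r)) = true :=
  all_drop_of_take _ relsN 44 39 kN_1 kN_drop_2

theorem kN_drop_0 : (relsN.drop 0).all
    (fun r => baseFix (substW LowP2.wsH r)) = true :=
  all_drop_of_take _ relsN 0 44 kN_0 kN_drop_1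

theorem kN_all : relsN.all (fun r => baseFix (substW LowP2.wsH r)) = true := by
  have h := kN_drop_0
  rwa [List.drop_zero] at h

set_option maxRecDepth 1000000 in
theorem k24_all : r24.all (fun r => baseFix (substW LowP2.wsH r)) = true := by
  decide +kernel

end Cfsg.Agent.Lib.Helper22.Co1M
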