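import Mathlib
import Cfsg.Prelude.Def_KGroupFacts
import Cfsg.Agent.H5.StemTC
import Cfsg.Agent.Lib.Helper21.WeakL12
import Cfsg.Agent.Lib.Helper1.WeakL3
import Cfsg.Agent.Lib.Helper17.WeakL6
import Cfsg.Agent.Lib.Helper17.WeakL9

/-!
# S2043 (Schur multiplier of `Co₁`), block `[P2]`: generic lemmas (helper22)

* `TCBound t rels sgens bound`: a coset enumeration, in abstract form: every group generated by `t` elements that
  satisfy `rels` has order at most `bound` times the order of any finite subgroup containing the values of `sgens`.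
* `card_closure_le_of_bound`, `card_ker_mul_card_le_of_bound`: the lemmas `[L9]` and `[L6]` of
  `Cfsg.Agent.Lib.Helper10.Weak` with an abstract bound in place of a certificate of `Cfsg.H5.TCk`.
* `ev_comm_eq_one`: the commutator of a word with a word of `p'`-order that it centralises in the quotient is trivial
  upstairs.
-/

set_option autoImplicit false

namespace Cfsg.Agent.Lib.Helper22.Co1M

open Cfsg Cfsg.H5.TCk Cfsg.Agent.Lib.Helper10.Weak

/-- a coset enumeration in abstract form -/
def TCBound (t : ℕ) (rels sgens : List (List ℕ)) (bound : ℕ) : Prop :=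
  ∀ (M : Type) [Group M] (γm : ℕ → M) (Kt : Subgroup M) [Finite Kt],
    (∀ r ∈ rels, ev γm r = 1) → (∀ g ∈ sgens, ev γm g ∈ Kt) →
    Subgroup.closure (Set.range fun i : Fin t => γm i.val) = ⊤ →
    Finite M ∧ Nat.card M ≤ bound * Nat.card Kt

/-- a certificate of `Cfsg.H5.TCk` gives an abstract bound -/
theorem tcBound_of_check (t : ℕ) (rels sgens : List (List ℕ)) (D F ncos bound : ℕ)
    (defs : List (ℕ × ℕ)) (log : List ℕ)
    (hchk : Cfsg.H5.TCk.check D F (2 * t) ncos bound defs rels sgens log = true) :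
    TCBound t rels sgens bound := by
  intro M _ γm Kt _ hrel hsg hgen
  exact tc_sound Kt γm defs rels sgens D F t ncos bound log hrel hsg hgen hchk

/-- `[L9]` with an abstract bound -/
theorem card_closure_le_of_bound {Γ : Type} [Group Γ] (γh : ℕ → Γ) (t : ℕ) (rels : List (List ℕ))
    (hl : ∀ r ∈ rels, r.all (fun l => decide (l < 2 * t)) = true)
    (hrels : ∀ r ∈ rels, ev γh r = 1) (sgens : List (List ℕ))
    (hsl : ∀ g ∈ sgens, g.all (fun l => decide (l < 2 * t)) = true) (K : Subgroup Γ) [Finite K]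
    (hK : ∀ g ∈ sgens, ev γh g ∈ K) (bound : ℕ) (hB : TCBound t rels sgens bound) :
    Finite (Subgroup.closure (Set.range fun i : Fin t => γh i.val)) ∧
      Nat.card (Subgroup.closure (Set.range fun i : Fin t => γh i.val)) ≤ bound * Nat.card K := by
  classical
  generalize hMdef : Subgroup.closure (Set.range fun i : Fin t => γh i.val) = M
  have hγM : ∀ i < t, γh i ∈ M := by
    intro i hi
    rw [← hMdef]
    exact Subgroup.subset_closure ⟨⟨i, hi⟩, rfl⟩
  let γm : ℕ → M := fun i => if h : i < t then ⟨γh i, hγM i h⟩ else 1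
  have hγm : ∀ i < t, ((γm i : M) : Γ) = γh i := by
    intro i hi
    simp only [γm, dif_pos hi]
  have hev : ∀ w : List ℕ, w.all (fun l => decide (l < 2 * t)) = true →
      ((ev γm w : M) : Γ) = ev γh w := by
    intro w hw
    have h1 : ((ev γm w : M) : Γ) = ev (fun i => ((γm i : M) : Γ)) w :=
      Cfsg.H5.StemTC.map_ev M.subtype γm w
    rw [h1]
    exact Helper17.ev_congr_lt _ _ t (fun i hi => hγm i hi) w hw
  have hgenM : Subgroup.closure (Set.range fun i : Fin t => γm i.val) = ⊤ := by
    apply Subgroup.map_injective M.subtype_injective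
    have h1 : (⊤ : Subgroup M).map M.subtype = M := by
      rw [← MonoidHom.range_eq_map, Subgroup.range_subtype]
    rw [h1, MonoidHom.map_closure]
    have himg : (⇑M.subtype '' Set.range fun i : Fin t => γm i.val) =
        Set.range fun i : Fin t => γh i.val := by
      ext x
      constructor
      · rintro ⟨_, ⟨i, rfl⟩, rfl⟩
        exact ⟨i, (hγm i.val i.isLt).symm⟩
      · rintro ⟨i, rfl⟩
        exact ⟨γm i.val, ⟨i, rfl⟩, hγm i.val i.isLt⟩
    rw [himg]
    exact hMdef
  have hrelM : ∀ r ∈ rels, ev γm r = 1 := by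
    intro r hr
    apply Subtype.ext
    rw [hev r (hl r hr), hrels r hr]
    rfl
  have hsgM : ∀ g ∈ sgens, ev γm g ∈ K.subgroupOf M := by
    intro g hg
    rw [Subgroup.mem_subgroupOf, hev g (hsl g hg)]
    exact hK g hg
  have hinj : Function.Injective
      (fun x : K.subgroupOf M => (⟨(x.1 : Γ), Subgroup.mem_subgroupOf.mp x.2⟩ : K)) := by
    intro x y hxy
    apply Subtype.ext
    apply Subtype.ext
    have h2 : ((x.1 : M) : Γ) = ((y.1 : M) : Γ) := congrArg (fun z : K => (z : Γ)) hxy
    exact h2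
  haveI : Finite (K.subgroupOf M) := Finite.of_injective _ hinj
  obtain ⟨hfin, hfinal⟩ := hB M γm (K.subgroupOf M) hrelM hsgM hgenM
  have hKle : Nat.card (K.subgroupOf M) ≤ Nat.card K := Nat.card_le_card_of_injective _ hinj
  exact ⟨hfin, le_trans hfinal (Nat.mul_le_mul_left _ hKle)⟩

/-- `[L6]` with an abstract bound -/
theorem card_ker_mul_card_le_of_bound {G : Type} [Group G] {Γ : Type} [Group Γ] [Finite Γ]
    (σ : Γ →* G) (hσ : IsStemExtension σ) (p : ℕ) [Fact p.Prime] (hk : IsPGroup p σ.ker)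
    (t : ℕ) (γ : ℕ → G)
    (hidx : ¬ p ∣ (Subgroup.closure (Set.range fun i : Fin t => γ i.val)).index)
    (γh : ℕ → Γ) (hγh : ∀ i < t, σ (γh i) = γ i)
    (rels : List (List ℕ)) (hl : ∀ r ∈ rels, r.all (fun l => decide (l < 2 * t)) = true)
    (hrels : ∀ r ∈ rels, ev γh r = 1)
    (sgens : List (List ℕ)) (hsl : ∀ g ∈ sgens, g.all (fun l => decide (l < 2 * t)) = true)
    (K : Subgroup Γ) (hK : ∀ g ∈ sgens, ev γh g ∈ K)
    (bound : ℕ) (hB : TCBound t rels sgens bound) :
    Nat.card σ.ker * Nat.card (Subgroup.closure (Set.range fun i : Fin t => γ i.val)) ≤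
      bound * Nat.card K := by
  classical
  have hsurj : Function.Surjective σ := hσ.1
  have hτ : IsStemExtension
      (σ.subgroupComap (Subgroup.closure (Set.range fun i : Fin t => γ i.val))) :=
    stem_restrict_p σ hσ hk _ hidx
  have hcardM : Nat.card ((Subgroup.closure (Set.range fun i : Fin t => γ i.val)).comap σ) =
      Nat.card σ.ker * Nat.card (Subgroup.closure (Set.range fun i : Fin t => γ i.val)) :=
    card_comap σ hsurj _
  generalize hHdef : Subgroup.closure (Set.range fun i : Fin t => γ i.val) = H at hτ hcardM ⊢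
  have hγH : ∀ i < t, γ i ∈ H := by
    intro i hi
    rw [← hHdef]
    exact Subgroup.subset_closure ⟨⟨i, hi⟩, rfl⟩
  have hγhM : ∀ i < t, γh i ∈ H.comap σ := by
    intro i hi
    rw [Subgroup.mem_comap, hγh i hi]
    exact hγH i hi
  let γm : ℕ → H.comap σ := fun i => if h : i < t then ⟨γh i, hγhM i h⟩ else 1
  have hγm : ∀ i < t, ((γm i : H.comap σ) : Γ) = γh i := by
    intro i hi
    simp only [γm, dif_pos hi]
  have hev : ∀ w : List ℕ, w.all (fun l => decide (l < 2 * t)) = true →
      ((ev γm w : H.comap σ) : Γ) = ev γh w := by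
    intro w hw
    have h1 : ((ev γm w : H.comap σ) : Γ) = ev (fun i => ((γm i : H.comap σ) : Γ)) w :=
      Cfsg.H5.StemTC.map_ev (H.comap σ).subtype γm w
    rw [h1]
    exact Helper17.ev_congr_lt _ _ t (fun i hi => hγm i hi) w hw
  have hgenM : Subgroup.closure (Set.range fun i : Fin t => γm i.val) = ⊤ := by
    apply Cfsg.H5.StemLift.eq_top_of_map_eq_top (σ.subgroupComap H) hτ
    apply Subgroup.map_injective H.subtype_injective
    have h1 : (⊤ : Subgroup H).map H.subtype = H := by
      rw [← MonoidHom.range_eq_map, Subgroup.range_subtype]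
    rw [h1, Subgroup.map_map, MonoidHom.map_closure]
    have himg : (⇑(H.subtype.comp (σ.subgroupComap H)) '' Set.range fun i : Fin t => γm i.val) =
        Set.range fun i : Fin t => γ i.val := by
      ext x
      constructor
      · rintro ⟨_, ⟨i, rfl⟩, rfl⟩
        refine ⟨i, ?_⟩
        show γ i.val = σ ((γm i.val : H.comap σ) : Γ)
        rw [hγm i.val i.isLt, hγh i.val i.isLt]
      · rintro ⟨i, rfl⟩
        refine ⟨γm i.val, ⟨i, rfl⟩, ?_⟩
        show σ ((γm i.val : H.comap σ) : Γ) = γ i.val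
        rw [hγm i.val i.isLt, hγh i.val i.isLt]
    rw [himg]
    exact hHdef
  have hrelM : ∀ r ∈ rels, ev γm r = 1 := by
    intro r hr
    apply Subtype.ext
    rw [hev r (hl r hr), hrels r hr]
    rfl
  have hsgM : ∀ g ∈ sgens, ev γm g ∈ K.subgroupOf (H.comap σ) := by
    intro g hg
    rw [Subgroup.mem_subgroupOf, hev g (hsl g hg)]
    exact hK g hg
  have hfinal := (hB (H.comap σ) γm (K.subgroupOf (H.comap σ)) hrelM hsgM hgenM).2
  have hKle : Nat.card (K.subgroupOf (H.comap σ)) ≤ Nat.card K := by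
    apply Nat.card_le_card_of_injective
      (fun x : K.subgroupOf (H.comap σ) => (⟨(x.1 : Γ), Subgroup.mem_subgroupOf.mp x.2⟩ : K))
    intro x y hxy
    apply Subtype.ext
    apply Subtype.ext
    have h2 : ((x.1 : H.comap σ) : Γ) = ((y.1 : H.comap σ) : Γ) :=
      congrArg (fun z : K => (z : Γ)) hxy
    exact h2
  calc Nat.card σ.ker * Nat.card H = Nat.card (H.comap σ) := hcardM.symm
    _ ≤ bound * Nat.card (K.subgroupOf (H.comap σ)) := hfinal
    _ ≤ bound * Nat.card K := Nat.mul_le_mul_left _ hKle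

/-- the commutator of a word `a` with a word `s` of `p'`-order: if it is trivial in the quotient, it is trivial
upstairs -/
theorem ev_comm_eq_one {Γ G : Type} [Group Γ] [Group G] (σ : Γ →* G)
    (hc : σ.ker ≤ Subgroup.center Γ) {p : ℕ} (hk : IsPGroup p σ.ker) (γh : ℕ → Γ) (a s : List ℕ)
    (o : ℕ) (ho : o.Coprime p) (hso : ev γh s ^ o = 1)
    (h : ev (fun k => σ (γh k)) (a ++ s ++ winv a ++ winv s) = 1) :
    ev γh (a ++ s ++ winv a ++ winv s) = 1 := by
  rw [← Cfsg.H5.StemTC.map_ev] at h
  rw [ev_append, ev_append, ev_append, ev_winv, ev_winv] at h ⊢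
  set A := ev γh a
  set S := ev γh s
  have h1 : (A * S * A⁻¹) ^ o = 1 := by
    rw [conj_pow, hso, mul_one, mul_inv_cancel]
  have h2 : σ (A * S * A⁻¹) = σ S := by
    have : σ (A * S * A⁻¹ * S⁻¹) = 1 := h
    rw [map_mul, map_inv] at this
    exact mul_inv_eq_one.mp this
  have h3 : A * S * A⁻¹ = S := lift_unique σ hc hk ho ho h1 hso h2
  rw [h3, mul_inv_cancel]

end Cfsg.Agent.Lib.Helper22.Co1M
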