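import Cfsg.Agent.Lib.Helper22.Co1MP2TCES

/-! # S2043 `[P2]`: the coset enumeration `E`, slice 17 (generated, helper22) -/

set_option autoImplicit false
set_option maxRecDepth 10000000

namespace Cfsg.Agent.Lib.Helper22.Co1M.TCE

open Cfsg.H5.TCk2 Cfsg.Agent.Lib.Helper20.Co3Mult

theorem slice17 : stEq (runS 13 8 14 defs relsE sgens2 1776 (defs.drop 1776) S17 c17) S18 = true := by
  decide +kernel

end Cfsg.Agent.Lib.Helper22.Co1M.TCE
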