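import Cfsg.Agent.Lib.Helper22.Co1MP2TCES

/-! # S2043 `[P2]`: the coset enumeration `E`, slice 2 (generated, helper22) -/

set_option autoImplicit false
set_option maxRecDepth 10000000

namespace Cfsg.Agent.Lib.Helper22.Co1M.TCE

open Cfsg.H5.TCk2 Cfsg.Agent.Lib.Helper20.Co3Mult

theorem slice2 : stEq (runS 13 8 14 defs relsE sgens2 419 (defs.drop 419) S2 c2) S3 = true := by
  decide +kernel

end Cfsg.Agent.Lib.Helper22.Co1M.TCE
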