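import Cfsg.Agent.Lib.Helper22.Co1MP2TCEs0
import Cfsg.Agent.Lib.Helper22.Co1MP2TCEs1
import Cfsg.Agent.Lib.Helper22.Co1MP2TCEs2
import Cfsg.Agent.Lib.Helper22.Co1MP2TCEs3
import Cfsg.Agent.Lib.Helper22.Co1MP2TCEs4
import Cfsg.Agent.Lib.Helper22.Co1MP2TCEs5
import Cfsg.Agent.Lib.Helper22.Co1MP2TCEs6
import Cfsg.Agent.Lib.Helper22.Co1MP2TCEs7
import Cfsg.Agent.Lib.Helper22.Co1MP2TCEs8
import Cfsg.Agent.Lib.Helper22.Co1MP2TCEs9
import Cfsg.Agent.Lib.Helper22.Co1MP2TCEs10
import Cfsg.Agent.Lib.Helper22.Co1MP2TCEs11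
import Cfsg.Agent.Lib.Helper22.Co1MP2TCEs12
import Cfsg.Agent.Lib.Helper22.Co1MP2TCEs13
import Cfsg.Agent.Lib.Helper22.Co1MP2TCEs14
import Cfsg.Agent.Lib.Helper22.Co1MP2TCEs15
import Cfsg.Agent.Lib.Helper22.Co1MP2TCEs16
import Cfsg.Agent.Lib.Helper22.Co1MP2TCEs17
import Cfsg.Agent.Lib.Helper22.Co1MP2TCEs18
import Cfsg.Agent.Lib.Helper22.Co1MP2TCEs19
import Cfsg.Agent.Lib.Helper22.Co1MP2TCEs20
import Cfsg.Agent.Lib.Helper22.Co1MP2TCEs21
import Cfsg.Agent.Lib.Helper22.Co1MP2TCEs22
import Cfsg.Agent.Lib.Helper22.Co1MP2TCEs23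
import Cfsg.Agent.Lib.Helper22.Co1MP2TCEs24
import Cfsg.Agent.H5.TCk2Main
import Cfsg.Agent.Lib.Helper22.Co1MP2Gen

/-! # S2043 `[P2]`: the coset enumeration `E`: the abstract bound (generated, helper22) -/

set_option autoImplicit false
set_option maxRecDepth 10000000

namespace Cfsg.Agent.Lib.Helper22.Co1M.TCE

open Cfsg.H5.TCk2 Cfsg.Agent.Lib.Helper20.Co3Mult

theorem run25 : run 13 8 14 defs relsE sgens2 S25 (rest25.map Step.ofNat) = some S25 := rfl

theorem run24 : run 13 8 14 defs relsE sgens2 S24 (rest24.map Step.ofNat) = some S25 :=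
  (run_chunk 13 8 14 defs relsE sgens2 S24 S25 c24 rest25 2137 slice24).trans run25

theorem run23 : run 13 8 14 defs relsE sgens2 S23 (rest23.map Step.ofNat) = some S25 :=
  (run_chunk 13 8 14 defs relsE sgens2 S23 S24 c23 rest24 2093 slice23).trans run24

theorem run22 : run 13 8 14 defs relsE sgens2 S22 (rest22.map Step.ofNat) = some S25 :=
  (run_chunk 13 8 14 defs relsE sgens2 S22 S23 c22 rest23 2047 slice22).trans run23

theorem run21 : run 13 8 14 defs relsE sgens2 S21 (rest21.map Step.ofNat) = some S25 :=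
  (run_chunk 13 8 14 defs relsE sgens2 S21 S22 c21 rest22 1997 slice21).trans run22

theorem run20 : run 13 8 14 defs relsE sgens2 S20 (rest20.map Step.ofNat) = some S25 :=
  (run_chunk 13 8 14 defs relsE sgens2 S20 S21 c20 rest21 1945 slice20).trans run21

theorem run19 : run 13 8 14 defs relsE sgens2 S19 (rest19.map Step.ofNat) = some S25 :=
  (run_chunk 13 8 14 defs relsE sgens2 S19 S20 c19 rest20 1890 slice19).trans run20

theorem run18 : run 13 8 14 defs relsE sgens2 S18 (rest18.map Step.ofNat) = some S25 :=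
  (run_chunk 13 8 14 defs relsE sgens2 S18 S19 c18 rest19 1833 slice18).trans run19

theorem run17 : run 13 8 14 defs relsE sgens2 S17 (rest17.map Step.ofNat) = some S25 :=
  (run_chunk 13 8 14 defs relsE sgens2 S17 S18 c17 rest18 1776 slice17).trans run18

theorem run16 : run 13 8 14 defs relsE sgens2 S16 (rest16.map Step.ofNat) = some S25 :=
  (run_chunk 13 8 14 defs relsE sgens2 S16 S17 c16 rest17 1711 slice16).trans run17

theorem run15 : run 13 8 14 defs relsE sgens2 S15 (rest15.map Step.ofNat) = some S25 :=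
  (run_chunk 13 8 14 defs relsE sgens2 S15 S16 c15 rest16 1645 slice15).trans run16

theorem run14 : run 13 8 14 defs relsE sgens2 S14 (rest14.map Step.ofNat) = some S25 :=
  (run_chunk 13 8 14 defs relsE sgens2 S14 S15 c14 rest15 1576 slice14).trans run15

theorem run13 : run 13 8 14 defs relsE sgens2 S13 (rest13.map Step.ofNat) = some S25 :=
  (run_chunk 13 8 14 defs relsE sgens2 S13 S14 c13 rest14 1502 slice13).trans run14

theorem run12 : run 13 8 14 defs relsE sgens2 S12 (rest12.map Step.ofNat) = some S25 :=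
  (run_chunk 13 8 14 defs relsE sgens2 S12 S13 c12 rest13 1427 slice12).trans run13

theorem run11 : run 13 8 14 defs relsE sgens2 S11 (rest11.map Step.ofNat) = some S25 :=
  (run_chunk 13 8 14 defs relsE sgens2 S11 S12 c11 rest12 1339 slice11).trans run12

theorem run10 : run 13 8 14 defs relsE sgens2 S10 (rest10.map Step.ofNat) = some S25 :=
  (run_chunk 13 8 14 defs relsE sgens2 S10 S11 c10 rest11 1256 slice10).trans run11

theorem run9 : run 13 8 14 defs relsE sgens2 S9 (rest9.map Step.ofNat) = some S25 :=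
  (run_chunk 13 8 14 defs relsE sgens2 S9 S10 c9 rest10 1166 slice9).trans run10

theorem run8 : run 13 8 14 defs relsE sgens2 S8 (rest8.map Step.ofNat) = some S25 :=
  (run_chunk 13 8 14 defs relsE sgens2 S8 S9 c8 rest9 1082 slice8).trans run9

theorem run7 : run 13 8 14 defs relsE sgens2 S7 (rest7.map Step.ofNat) = some S25 :=
  (run_chunk 13 8 14 defs relsE sgens2 S7 S8 c7 rest8 1009 slice7).trans run8

theorem run6 : run 13 8 14 defs relsE sgens2 S6 (rest6.map Step.ofNat) = some S25 :=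
  (run_chunk 13 8 14 defs relsE sgens2 S6 S7 c6 rest7 906 slice6).trans run7

theorem run5 : run 13 8 14 defs relsE sgens2 S5 (rest5.map Step.ofNat) = some S25 :=
  (run_chunk 13 8 14 defs relsE sgens2 S5 S6 c5 rest6 819 slice5).trans run6

theorem run4 : run 13 8 14 defs relsE sgens2 S4 (rest4.map Step.ofNat) = some S25 :=
  (run_chunk 13 8 14 defs relsE sgens2 S4 S5 c4 rest5 689 slice4).trans run5

theorem run3 : run 13 8 14 defs relsE sgens2 S3 (rest3.map Step.ofNat) = some S25 :=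
  (run_chunk 13 8 14 defs relsE sgens2 S3 S4 c3 rest4 561 slice3).trans run4

theorem run2 : run 13 8 14 defs relsE sgens2 S2 (rest2.map Step.ofNat) = some S25 :=
  (run_chunk 13 8 14 defs relsE sgens2 S2 S3 c2 rest3 419 slice2).trans run3

theorem run1 : run 13 8 14 defs relsE sgens2 S1 (rest1.map Step.ofNat) = some S25 :=
  (run_chunk 13 8 14 defs relsE sgens2 S1 S2 c1 rest2 257 slice1).trans run2

theorem run0 : run 13 8 14 defs relsE sgens2 S0 (rest0.map Step.ofNat) = some S25 :=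
  (run_chunk 13 8 14 defs relsE sgens2 S0 S1 c0 rest1 0 slice0).trans run1

theorem final_ok : (finalOK 8 14 2141 S25 && decide ((roots 2141 S25).length ≤ 2048)) = true := by
  decide +kernel

theorem tc_ok : checkS 13 8 (2 * 7) 2141 2048 defs relsE sgens2 log = true :=
  checkS_of_run 13 8 14 2141 2048 defs relsE sgens2 log S25 run0 final_ok

end Cfsg.Agent.Lib.Helper22.Co1M.TCE

namespace Cfsg.Agent.Lib.Helper22.Co1M

theorem tcE_bound22 : TCBound 7 relsE sgens2 2048 := by
  intro M _ γm Kt _ hrel hsg hgen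
  exact Cfsg.H5.TCk2.tc_bound Kt γm TCE.defs relsE sgens2 13 8 7 2141 2048 TCE.log hrel hsg hgen
    TCE.tc_ok

end Cfsg.Agent.Lib.Helper22.Co1M
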