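import Cfsg.Agent.Lib.Helper27.Co1O.LowP2
import Cfsg.Agent.Lib.Helper22.Co1MP2K
import Cfsg.Agent.Lib.Helper22.Co1MP2Glue
import Cfsg.Agent.Lib.Helper5.Co1MM24
import Cfsg.Agent.Lib.Helper7.Co1MP2TCW
import Cfsg.Agent.Lib.Helper22.Co1MP2TCE22

/-!
# S2043 (Schur multiplier of `Co₁`), block `[P2]`: the kernel of a stem extension of `Co₁` that is a `2`-group has
order at most `2` (helper22)

The abstract block `part_2_of` for the model `K` of `Co₁` on 98280 points (helper27) and the seven generators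
`LowP2.wsH` of the monomial subgroup `2^11 : M₂₄`.
-/

set_option autoImplicit false

namespace Cfsg.Agent.Lib.Helper22.Co1M

open Cfsg Cfsg.H5.TCk Cfsg.Agent.Lib.Helper27.Co1O Cfsg.Agent.Lib.Helper22.SuzOut

/-- the seven generators of `L = 2^11 : M₂₄` in `K` -/
noncomputable def gP2 (i : ℕ) : ↥K := genKK LowP2.wsH LowP2.wsH_ok i

theorem gP2_r24 : ∀ r ∈ r24, ev gP2 r = 1 := rels_hold_KK LowP2.wsH_ok r24 k24_all

theorem gP2_relsN : ∀ r ∈ relsN, ev gP2 r = 1 := rels_hold_KK LowP2.wsH_ok relsN kN_all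

set_option maxRecDepth 1000000 in
theorem x_moves : evalF 17 gens9 (LowP2.wsH.getD 0 []) 0 ≠ 0 := by decide +kernel

theorem gP2_ne : gP2 0 ≠ 1 := by
  intro h
  have h0 : ((gP2 0 : ↥K) : Equiv.Perm (Fin 98280)) = ((1 : ↥K) : Equiv.Perm (Fin 98280)) :=
    congrArg Subtype.val h
  have h1 : wordK (LowP2.wsH.getD 0 []) = 1 := h0
  have h2 := wordK_val (okW_getD LowP2.wsH_ok 0) (⟨0, Nat.succ_pos _⟩ : Fin 98280)
  rw [h1] at h2
  exact x_moves h2.symm

/-- **The block `[P2]`.** -/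
theorem part_2 {Γ : Type} [Group Γ] [Finite Γ] (σ : Γ →* ↥K) (hσ : IsStemExtension σ)
    (hk : IsPGroup 2 σ.ker) : Nat.card σ.ker ≤ 2 := by
  obtain ⟨hperf, hmult, hcard, hw⟩ := m24_of_rels gP2 gP2_r24 gP2_ne
  exact part_2_of gP2 card_K gP2_r24
    (fun r hr => hw r (List.all_eq_true.mp permChk_all r hr)) gP2_relsN hperf hmult hcard
    LowP2.card_ge (fun M _ γm Kt _ h1 h2 h3 => tcW_bound γm Kt h1 h2 h3)
    tcE_bound22 σ hσ hk

end Cfsg.Agent.Lib.Helper22.Co1M
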