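import Mathlib

/-!
# Coprime action on an invariant abelian subgroup (helper22 library)

`A` acts on `G` (`MulDistribMulAction`), `K ≤ G` an `A`-invariant abelian subgroup with
`(|A|,|K|) = 1`.
* `exists_fixed_mul`: vanishing of `H¹`: if `g⁻¹ * a • g ∈ K` for all `a` then `g * t` is fixed by
  `A` for some `t ∈ K`.
* `eq_one_of_fixed_of_mem_comm`: `C_K(A) ∩ [K,A] = 1`.
-/

set_option autoImplicit false

namespace Cfsg.Agent.Lib.Helper22

open Subgroup

variable {G A : Type*} [Group G] [Group A] [Finite A] [MulDistribMulAction A G]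

/-- the action of `a` on an invariant subgroup, as a monoid hom -/
def actOn (K : Subgroup G) (hKinv : ∀ (a : A) (k : G), k ∈ K → a • k ∈ K) (a : A) : ↥K →* ↥K where
  toFun k := ⟨a • (k : G), hKinv a k k.2⟩
  map_one' := Subtype.ext (smul_one a)
  map_mul' x y := Subtype.ext (smul_mul' a (x : G) y)

theorem exists_fixed_mul (K : Subgroup G) (hKinv : ∀ (a : A) (k : G), k ∈ K → a • k ∈ K)
    (hKcomm : ∀ x ∈ K, ∀ y ∈ K, x * y = y * x) (hcop : (Nat.card A).Coprime (Nat.card K))
    (g : G) (hg : ∀ a : A, g⁻¹ * a • g ∈ K) : ∃ t ∈ K, ∀ a : A, a • (g * t) = g * t := by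
  classical
  have : Fintype A := Fintype.ofFinite A
  let _ : CommGroup ↥K :=
    { (inferInstance : Group ↥K) with mul_comm := fun x y => Subtype.ext (hKcomm x x.2 y y.2) }
  let F : A → ↥K := fun b => ⟨g⁻¹ * b • g, hg b⟩
  have hcoc : ∀ a b, F (a * b) = F a * actOn K hKinv a (F b) := by
    intro a b
    apply Subtype.ext
    show g⁻¹ * (a * b) • g = (g⁻¹ * a • g) * a • (g⁻¹ * b • g)
    rw [smul_mul', smul_inv', mul_smul]
    group
  set s : ↥K := ∏ b : A, F b with hs_def
  have hs : ∀ a, s = F a ^ (Fintype.card A) * actOn K hKinv a s := by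
    intro a
    calc s = ∏ b : A, F (a * b) :=
          (Fintype.prod_equiv (Equiv.mulLeft a) (fun b => F (a * b)) F (fun b => rfl)).symm
      _ = ∏ b : A, (F a * actOn K hKinv a (F b)) := by simp only [hcoc]
      _ = (∏ _b : A, F a) * ∏ b : A, actOn K hKinv a (F b) := Finset.prod_mul_distrib
      _ = F a ^ Fintype.card A * actOn K hKinv a s := by
          rw [Finset.prod_const, Finset.card_univ, map_prod]
  set n := Nat.card A with hn_def
  have hn : Fintype.card A = n := (Nat.card_eq_fintype_card).symm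
  have hcs : n.Coprime (orderOf s) := Nat.Coprime.coprime_dvd_right (orderOf_dvd_natCard s) hcop
  obtain ⟨m, hm⟩ := exists_pow_eq_self_of_coprime hcs
  have ht : (s ^ m) ^ n = s := by
    rw [← pow_mul, mul_comm, pow_mul]; exact hm
  have hinj : ∀ x y : ↥K, x ^ n = y ^ n → x = y := by
    intro x y hxy
    have h1 : (x * y⁻¹) ^ n = 1 := by rw [mul_pow, inv_pow, hxy, mul_inv_cancel]
    have h2 : orderOf (x * y⁻¹) ∣ n := orderOf_dvd_of_pow_eq_one h1
    have h3 : orderOf (x * y⁻¹) ∣ Nat.card K := orderOf_dvd_natCard _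
    have h4 : orderOf (x * y⁻¹) = 1 := Nat.eq_one_of_dvd_coprimes hcop h2 h3
    exact mul_inv_eq_one.mp (orderOf_eq_one_iff.mp h4)
  refine ⟨((s ^ m : ↥K) : G), (s ^ m).2, fun a => ?_⟩
  have h1 : s ^ m = F a * actOn K hKinv a (s ^ m) := by
    apply hinj
    rw [mul_pow, ← map_pow, ht, ← hn]
    exact hs a
  have h2 : ((s ^ m : ↥K) : G) = g⁻¹ * a • g * a • ((s ^ m : ↥K) : G) := congrArg Subtype.val h1
  rw [smul_mul']
  calc a • g * a • ((s ^ m : ↥K) : G) = g * (g⁻¹ * a • g * a • ((s ^ m : ↥K) : G)) := by group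
    _ = g * ((s ^ m : ↥K) : G) := by rw [← h2]

theorem eq_one_of_fixed_of_mem_comm (K : Subgroup G) (hKinv : ∀ (a : A) (k : G), k ∈ K → a • k ∈ K)
    (hKcomm : ∀ x ∈ K, ∀ y ∈ K, x * y = y * x) (hcop : (Nat.card A).Coprime (Nat.card K))
    (x : G) (hxK : x ∈ closure {y : G | ∃ (a : A) (k : G), k ∈ K ∧ y = k⁻¹ * a • k})
    (hxfix : ∀ a : A, a • x = x) : x = 1 := by
  classical
  have : Fintype A := Fintype.ofFinite A
  let _ : CommGroup ↥K :=
    { (inferInstance : Group ↥K) with mul_comm := fun x y => Subtype.ext (hKcomm x x.2 y y.2) }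
  let N : ↥K →* ↥K := ∏ a : A, actOn K hKinv a
  have hNapp : ∀ k : ↥K, N k = ∏ a : A, actOn K hKinv a k := fun k => MonoidHom.finsetProd_apply _ _ _
  have hNact : ∀ (b : A) (k : ↥K), N (actOn K hKinv b k) = N k := by
    intro b k
    rw [hNapp, hNapp]
    have h1 : ∀ a : A, actOn K hKinv a (actOn K hKinv b k) = actOn K hKinv (a * b) k := by
      intro a
      apply Subtype.ext
      exact (mul_smul a b (k : G)).symm
    simp only [h1]
    exact Fintype.prod_equiv (Equiv.mulRight b) (fun a => actOn K hKinv (a * b) k)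
      (fun a => actOn K hKinv a k) (fun a => rfl)
  have hgen : closure {y : G | ∃ (a : A) (k : G), k ∈ K ∧ y = k⁻¹ * a • k} ≤ N.ker.map K.subtype := by
    rw [closure_le]
    rintro _ ⟨a, k, hk, rfl⟩
    refine ⟨⟨k, hk⟩⁻¹ * actOn K hKinv a ⟨k, hk⟩, ?_, rfl⟩
    rw [SetLike.mem_coe, MonoidHom.mem_ker, map_mul, map_inv, hNact, inv_mul_cancel]
  obtain ⟨x', hx'0, rfl⟩ := hgen hxK
  have hx' : N x' = 1 := MonoidHom.mem_ker.mp hx'0
  rw [hNapp] at hx'
  have h2 : ∀ a : A, actOn K hKinv a x' = x' := fun a => Subtype.ext (hxfix a)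
  simp only [h2, Finset.prod_const, Finset.card_univ] at hx'
  have h3 : orderOf x' ∣ Nat.card A := by
    rw [Nat.card_eq_fintype_card]; exact orderOf_dvd_of_pow_eq_one hx'
  have h4 : orderOf x' ∣ Nat.card K := orderOf_dvd_natCard _
  have h5 : orderOf x' = 1 := Nat.eq_one_of_dvd_coprimes hcop h3 h4
  rw [orderOf_eq_one_iff.mp h5]
  rfl

end Cfsg.Agent.Lib.Helper22
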