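import Mathlib

/-!
# Cyclic groups of prime order acting on elementary abelian groups

Abstract linear algebra used for the "three automorphism orbits" theorem.
-/

namespace Cfsg.Helper22.CycMod

open Polynomial

/-- In a finite commutative domain `B` of characteristic `p`, if `cB` has multiplicative order `q`
and every polynomial over `ZMod p` killing `cB` also kills all `cB ^ k` (`0 < k < q`), then `p`
is a primitive root modulo `q`. -/
theorem orderOf_eq_of_domain {p q : ℕ} [hp : Fact p.Prime] [hq : Fact q.Prime] (hpq : p ≠ q)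
    {B : Type*} [CommRing B] [IsDomain B] [Algebra (ZMod p) B] [Finite B]
    (cB : B) (hcq : cB ^ q = 1) (hc1 : cB ≠ 1)
    (htw : ∀ k, 0 < k → k < q → ∀ g : (ZMod p)[X], aeval cB g = 0 → aeval (cB ^ k) g = 0) :
    orderOf ((p : ℕ) : ZMod q) = q - 1 := by
  classical
  have hq2 : 2 ≤ q := hq.out.two_le
  have hcop : p.Coprime q := (Nat.coprime_primes hp.out hq.out).mpr hpq
  have : Module.Finite (ZMod p) B := Module.Finite.of_finite
  have hint : IsIntegral (ZMod p) cB := IsIntegral.of_finite _ _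
  have hirr : Irreducible (minpoly (ZMod p) cB) := minpoly.irreducible hint
  have hΦ : aeval cB (cyclotomic q (ZMod p)) = 0 := by
    rw [cyclotomic_prime, map_sum]
    simp only [map_pow, aeval_X]
    have h1 : (∑ i ∈ Finset.range q, cB ^ i) * (cB - 1) = 0 := by
      rw [geom_sum_mul, hcq, sub_self]
    rcases mul_eq_zero.mp h1 with h | h
    · exact h
    · exact absurd (sub_eq_zero.mp h) hc1
  have hdvd : minpoly (ZMod p) cB ∣ cyclotomic q (ZMod p) := minpoly.dvd (ZMod p) cB hΦ
  have hcard : Fintype.card (ZMod p) = p ^ 1 := by simp [ZMod.card]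
  have hcop' : (p ^ 1).Coprime q := by simpa using hcop
  have hdeg := natDegree_of_dvd_cyclotomic_of_irreducible (K := ZMod p) (p := p) (f := 1) (n := q)
    hcard hcop hdvd hirr
  -- lower bound on the degree
  have hord : orderOf cB = q := orderOf_eq_prime hcq hc1
  have hμ0 : minpoly (ZMod p) cB ≠ 0 := minpoly.ne_zero hint
  have hinj : Function.Injective (algebraMap (ZMod p) B) := (algebraMap (ZMod p) B).injective
  have hμ0' : (minpoly (ZMod p) cB).map (algebraMap (ZMod p) B) ≠ 0 := by
    rw [Ne, Polynomial.map_eq_zero_iff hinj]; exact hμ0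
  set Z : Finset B := (Finset.Icc 1 (q - 1)).image (fun k => cB ^ k) with hZ
  have hZcard : Z.card = q - 1 := by
    rw [hZ, Finset.card_image_of_injOn]
    · simp
    · intro a ha b hb hab
      have ha' : a ∈ Set.Iio (orderOf cB) := by
        rw [hord]; simp only [Finset.coe_Icc, Set.mem_Icc] at ha; simp only [Set.mem_Iio]; omega
      have hb' : b ∈ Set.Iio (orderOf cB) := by
        rw [hord]; simp only [Finset.coe_Icc, Set.mem_Icc] at hb; simp only [Set.mem_Iio]; omega
      exact pow_injOn_Iio_orderOf ha' hb' hab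
  have hZsub : Z.val ⊆ ((minpoly (ZMod p) cB).map (algebraMap (ZMod p) B)).roots := by
    intro x hx
    rw [Finset.mem_val, hZ, Finset.mem_image] at hx
    obtain ⟨k, hk, rfl⟩ := hx
    rw [Finset.mem_Icc] at hk
    rw [mem_roots hμ0', IsRoot, eval_map_algebraMap]
    exact htw k (by omega) (by omega) _ (minpoly.aeval _ _)
  have hlow := card_le_degree_of_subset_roots hZsub
  rw [hZcard, natDegree_map_eq_of_injective hinj, hdeg] at hlow
  -- upper bound
  have hup : orderOf (ZMod.unitOfCoprime (p ^ 1) hcop') ≤ q - 1 := by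
    have h1 := orderOf_le_card_univ (x := ZMod.unitOfCoprime (p ^ 1) hcop')
    rw [ZMod.card_units_eq_totient, Nat.totient_prime hq.out] at h1
    exact h1
  have heq : orderOf (ZMod.unitOfCoprime (p ^ 1) hcop') = q - 1 := le_antisymm hup hlow
  rw [← orderOf_units, ZMod.coe_unitOfCoprime] at heq
  simpa using heq


section Module

open scoped IsMulCommutative

variable {p q : ℕ} [hp : Fact p.Prime] [hq : Fact q.Prime]
variable {V : Type*} [AddCommGroup V] [Module (ZMod p) V]

/-- The `ZMod p`-linear map attached to an additive endomorphism. -/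
noncomputable abbrev lin (c : V →+ V) : Module.End (ZMod p) V := c.toZModLinearMap p

theorem lin_apply (c : V →+ V) (x : V) : (lin (p := p) c) x = c x := rfl

theorem lin_pow_apply (c : V →+ V) (n : ℕ) (x : V) : ((lin (p := p) c) ^ n) x = c^[n] x := by
  rw [Module.End.pow_apply]; rfl

omit hq in
theorem lin_pow_eq_one (c : V →+ V) (hc : ∀ x, c^[q] x = x) : (lin (p := p) c) ^ q = 1 := by
  ext x; rw [lin_pow_apply, hc]; rfl

theorem twist_aeval (C D F : Module.End (ZMod p) V) (h : F * C = D * F) (g : (ZMod p)[X]) :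
    F * aeval C g = aeval D g * F := by
  rw [aeval_eq_sum_range, aeval_eq_sum_range, Finset.mul_sum, Finset.sum_mul]
  refine Finset.sum_congr rfl fun i _ => ?_
  have h2 : F * C ^ i = D ^ i * F := SemiconjBy.pow_right (show SemiconjBy F C D from h) i
  rw [mul_smul_comm, h2, smul_mul_assoc]

theorem aeval_mem_adjoin (C : Module.End (ZMod p) V) (g : (ZMod p)[X]) :
    aeval C g ∈ Algebra.adjoin (ZMod p) {C} := by
  rw [Algebra.adjoin_singleton_eq_range_aeval]; exact ⟨g, rfl⟩

theorem aeval_pow_mem_adjoin (C : Module.End (ZMod p) V) (k : ℕ) (g : (ZMod p)[X]) :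
    aeval (C ^ k) g ∈ Algebra.adjoin (ZMod p) {C} := by
  have : aeval (C ^ k) g = aeval C (g.comp (X ^ k)) := by
    rw [aeval_comp]; simp
  rw [this]; exact aeval_mem_adjoin C _

theorem exists_aeval_of_mem_adjoin (C : Module.End (ZMod p) V) {r : Module.End (ZMod p) V}
    (hr : r ∈ Algebra.adjoin (ZMod p) {C}) : ∃ g : (ZMod p)[X], aeval C g = r := by
  rw [Algebra.adjoin_singleton_eq_range_aeval] at hr; exact hr


/-- `Simple C v`: the cyclic module generated by `v` over the algebra generated by `C` is simple,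
in the form: every nonzero multiple of `v` has `v` as a multiple. -/
def Simple (C : Module.End (ZMod p) V) (v : V) : Prop :=
  ∀ r : Algebra.adjoin (ZMod p) {C}, r.1 v ≠ 0 → ∃ s : Algebra.adjoin (ZMod p) {C}, s.1 (r.1 v) = v

theorem exists_simple [Finite V] [Nontrivial V] (C : Module.End (ZMod p) V) :
    ∃ v : V, v ≠ 0 ∧ Simple C v := by
  classical
  have := Fintype.ofFinite V
  let M : V → Set V := fun v => {x | ∃ r : Algebra.adjoin (ZMod p) {C}, r.1 v = x}
  have hne : (Finset.univ.filter (fun v : V => v ≠ 0)).Nonempty := by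
    obtain ⟨v, hv⟩ := exists_ne (0 : V)
    exact ⟨v, by simp [hv]⟩
  obtain ⟨v₀, hv₀, hmin⟩ := Finset.exists_min_image _ (fun v => (M v).ncard) hne
  simp only [Finset.mem_filter, Finset.mem_univ, true_and] at hv₀ hmin
  refine ⟨v₀, hv₀, ?_⟩
  intro r hr
  have hsub : M (r.1 v₀) ⊆ M v₀ := by
    rintro x ⟨s, rfl⟩
    exact ⟨s * r, rfl⟩
  have heq : M (r.1 v₀) = M v₀ :=
    Set.eq_of_subset_of_ncard_le hsub (hmin _ hr) (Set.toFinite _)
  have hmem : v₀ ∈ M v₀ := ⟨1, rfl⟩
  rw [← heq] at hmem
  exact hmem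

theorem simple_transport (C : Module.End (ZMod p) V) (hCq : C ^ q = 1) {v₀ v : V}
    (h₀ : Simple C v₀) (F : Module.End (ZMod p) V) (k : ℕ) (hk : ¬ q ∣ k)
    (hF : F * C = C ^ k * F) (hv : F v₀ = v) : Simple C v := by
  have hcop : Nat.Coprime k q := (Nat.Coprime.symm ((Nat.Prime.coprime_iff_not_dvd hq.out).mpr hk))
  obtain ⟨k', -, hk'⟩ := Nat.exists_mul_mod_eq_one_of_coprime hcop hq.out.one_lt
  have hCk : (C ^ k) ^ k' = C := by
    rw [← pow_mul, pow_eq_pow_mod (k * k') hCq, hk', pow_one]
  intro r hr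
  obtain ⟨h, hh⟩ := exists_aeval_of_mem_adjoin C r.2
  set g := h.comp (X ^ k') with hg
  have hgr : aeval (C ^ k) g = r.1 := by
    rw [hg, aeval_comp]; simp only [map_pow, aeval_X]; rw [hCk, hh]
  have htw := twist_aeval C (C ^ k) F hF g
  rw [hgr] at htw
  have h1 : F (aeval C g v₀) = r.1 v := by
    have := congrArg (fun T : Module.End (ZMod p) V => T v₀) htw
    simp only [Module.End.mul_apply] at this
    rw [this, hv]
  have h2 : (aeval C g) v₀ ≠ 0 := by
    intro h0; rw [h0, map_zero] at h1; exact hr h1.symm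
  obtain ⟨s₀, hs₀⟩ := h₀ ⟨aeval C g, aeval_mem_adjoin C g⟩ h2
  obtain ⟨f, hf⟩ := exists_aeval_of_mem_adjoin C s₀.2
  refine ⟨⟨aeval (C ^ k) f, aeval_pow_mem_adjoin C k f⟩, ?_⟩
  have htw2 := twist_aeval C (C ^ k) F hF f
  have h3 := congrArg (fun T : Module.End (ZMod p) V => T (aeval C g v₀)) htw2
  simp only [Module.End.mul_apply] at h3
  show (aeval (C ^ k) f) (r.1 v) = v
  rw [← h1, ← h3, hf]
  show F (s₀.1 ((aeval C g) v₀)) = v
  rw [hs₀, hv]

theorem eq_zero_of_apply_eq_zero (C : Module.End (ZMod p) V) (hS : ∀ v : V, v ≠ 0 → Simple C v)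
    (r : Algebra.adjoin (ZMod p) {C}) (v : V) (hv : v ≠ 0) (hrv : r.1 v = 0) : r = 0 := by
  apply Subtype.ext
  apply LinearMap.ext
  intro w
  show r.1 w = 0
  by_cases hw : ∃ s : Algebra.adjoin (ZMod p) {C}, s.1 v = w
  · obtain ⟨s, rfl⟩ := hw
    have : r.1 (s.1 v) = s.1 (r.1 v) := by
      have h1 : (r * s).1 v = (s * r).1 v := by rw [mul_comm]
      exact h1
    rw [this, hrv, map_zero]
  · by_contra hrw
    have hw0 : w ≠ 0 := by
      rintro rfl; exact hw ⟨0, by simp⟩
    have hu : v + w ≠ 0 := by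
      intro h0
      apply hw
      refine ⟨-1, ?_⟩
      have : w = -v := by rw [eq_neg_iff_add_eq_zero, add_comm]; exact h0
      rw [this]; simp
    have hru : r.1 (v + w) ≠ 0 := by rw [map_add, hrv, zero_add]; exact hrw
    obtain ⟨s, hs⟩ := hS (v + w) hu r hru
    rw [map_add, hrv, zero_add] at hs
    -- v = (s * r - 1) w
    have hv' : (s * r - 1).1 w = v := by
      show (s.1 * r.1 - 1) w = v
      rw [LinearMap.sub_apply, Module.End.mul_apply, hs]; simp
    have hne : (s * r - 1).1 w ≠ 0 := by rw [hv']; exact hv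
    obtain ⟨s', hs'⟩ := hS w hw0 (s * r - 1) hne
    rw [hv'] at hs'
    exact hw ⟨s', hs'⟩

/-- Main abstract statement for the forward direction: transitivity of twisted automorphisms
forces `p` to be a primitive root modulo `q`. -/
theorem orderOf_eq_of_transitive [Finite V] [Nontrivial V] (hpq : p ≠ q)
    (c : V →+ V) (hc : ∀ x, c^[q] x = x) (hfp : ∀ x, c x = x → x = 0)
    (H1 : ∀ v w : V, v ≠ 0 → w ≠ 0 → ∃ (φ : V →+ V) (k : ℕ), Function.Bijective φ ∧ ¬ q ∣ k ∧
      (∀ x, φ (c x) = c^[k] (φ x)) ∧ φ v = w)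
    (H2 : ∀ k, 0 < k → k < q → ∃ φ : V →+ V, Function.Bijective φ ∧ ∀ x, φ (c x) = c^[k] (φ x)) :
    orderOf ((p : ℕ) : ZMod q) = q - 1 := by
  classical
  set C : Module.End (ZMod p) V := lin c with hCdef
  have hCq : C ^ q = 1 := lin_pow_eq_one c hc
  have htwist : ∀ (φ : V →+ V) (k : ℕ), (∀ x, φ (c x) = c^[k] (φ x)) →
      (lin φ : Module.End (ZMod p) V) * C = C ^ k * lin φ := by
    intro φ k h
    ext x
    simp only [Module.End.mul_apply]
    rw [hCdef, lin_pow_apply]
    exact h x
  -- every nonzero vector generates a simple module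
  obtain ⟨v₀, hv₀, hs₀⟩ := exists_simple C
  have hS : ∀ v : V, v ≠ 0 → Simple C v := by
    intro v hv
    obtain ⟨φ, k, -, hk, hφ, hφv⟩ := H1 v₀ v hv₀ hv
    exact simple_transport C hCq hs₀ (lin φ) k hk (htwist φ k hφ) hφv
  -- the adjoined algebra is a domain
  have hnzd : NoZeroDivisors (Algebra.adjoin (ZMod p) {C}) := by
    refine ⟨fun {r s} hrs => ?_⟩
    by_cases hs : s = 0
    · exact Or.inr hs
    · left
      obtain ⟨v, hv⟩ : ∃ v, s.1 v ≠ 0 := by
        by_contra h
        push Not at h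
        exact hs (Subtype.ext (LinearMap.ext h))
      refine eq_zero_of_apply_eq_zero C hS r (s.1 v) hv ?_
      have h1 : (r * s).1 v = 0 := by rw [hrs]; rfl
      exact h1
  have : Nontrivial (Module.End (ZMod p) V) := inferInstance
  have : IsDomain (Algebra.adjoin (ZMod p) {C}) := NoZeroDivisors.to_isDomain _
  have : Finite (Module.End (ZMod p) V) :=
    Finite.of_injective (fun f : Module.End (ZMod p) V => (f : V → V)) DFunLike.coe_injective
  have : Finite (Algebra.adjoin (ZMod p) {C}) := inferInstance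
  let cB : Algebra.adjoin (ZMod p) {C} := ⟨C, Algebra.self_mem_adjoin_singleton _ C⟩
  have hcB : (cB : Module.End (ZMod p) V) = C := rfl
  have hcBq : cB ^ q = 1 := by
    apply Subtype.ext
    rw [SubmonoidClass.coe_pow, hcB, hCq]; rfl
  have hcB1 : cB ≠ 1 := by
    intro h1
    have hC1 : C = 1 := by
      have := congrArg (fun t : Algebra.adjoin (ZMod p) {C} => (t : Module.End (ZMod p) V)) h1
      exact this
    obtain ⟨v, hv⟩ := exists_ne (0 : V)
    apply hv
    apply hfp
    have : C v = v := by rw [hC1]; rfl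
    exact this
  refine orderOf_eq_of_domain hpq cB hcBq hcB1 ?_
  intro k hk0 hkq g hg
  obtain ⟨φ, hφbij, hφ⟩ := H2 k hk0 hkq
  have hgC : aeval C g = 0 := by
    have := congrArg (fun t : Algebra.adjoin (ZMod p) {C} => (t : Module.End (ZMod p) V)) hg
    simp only [aeval_subalgebra_coe] at this
    exact this
  have htw := twist_aeval C (C ^ k) (lin φ) (htwist φ k hφ) g
  rw [hgC, mul_zero] at htw
  have hzero : aeval (C ^ k) g = 0 := by
    ext x
    obtain ⟨y, rfl⟩ := hφbij.2 x
    have := congrArg (fun T : Module.End (ZMod p) V => T y) htw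
    simp only [Module.End.mul_apply] at this
    exact this.symm
  apply Subtype.ext
  rw [aeval_subalgebra_coe, SubmonoidClass.coe_pow, hcB, hzero]
  rfl


omit hq in
theorem sum_pow_eq_zero (c : V →+ V) (hc : ∀ x, c^[q] x = x) (hfp : ∀ x, c x = x → x = 0) :
    ∑ i ∈ Finset.range q, (lin (p := p) c) ^ i = 0 := by
  set C : Module.End (ZMod p) V := lin c
  have hCq : C ^ q = 1 := lin_pow_eq_one c hc
  have h1 : C * ∑ i ∈ Finset.range q, C ^ i = ∑ i ∈ Finset.range q, C ^ i := by
    rw [Finset.mul_sum]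
    have h2 : ∑ i ∈ Finset.range q, C * C ^ i = ∑ i ∈ Finset.range q, C ^ (i + 1) :=
      Finset.sum_congr rfl fun i _ => (pow_succ' C i).symm
    rw [h2]
    have e1 := Finset.sum_range_succ' (fun i => C ^ i) q
    have e2 := Finset.sum_range_succ (fun i => C ^ i) q
    rw [e2, hCq, pow_zero] at e1
    exact (add_right_cancel e1).symm
  ext x
  apply hfp
  have := congrArg (fun T : Module.End (ZMod p) V => T x) h1
  simp only [Module.End.mul_apply] at this
  exact this

theorem aeval_cyclotomic_eq_zero (c : V →+ V) (hc : ∀ x, c^[q] x = x)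
    (hfp : ∀ x, c x = x → x = 0) :
    aeval (lin (p := p) c) (cyclotomic q (ZMod p)) = 0 := by
  rw [cyclotomic_prime, map_sum]
  simp only [map_pow, aeval_X]
  exact sum_pow_eq_zero c hc hfp

theorem irreducible_cyclotomic (hpq : p ≠ q) (hord : orderOf ((p : ℕ) : ZMod q) = q - 1) :
    Irreducible (cyclotomic q (ZMod p)) := by
  have hpn : ¬ p ∣ q := fun h => hpq ((Nat.prime_dvd_prime_iff_eq hp.out hq.out).mp h)
  apply ZMod.irreducible_of_dvd_cyclotomic_of_natDegree hpn dvd_rfl
  rw [natDegree_cyclotomic, Nat.totient_prime hq.out, ← hord, ← orderOf_units,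
    ZMod.coe_unitOfCoprime]


/-- Main abstract statement for the converse direction. -/
theorem converse_main [Finite V] (hpq : p ≠ q) (hord : orderOf ((p : ℕ) : ZMod q) = q - 1)
    (c : V →+ V) (hc : ∀ x, c^[q] x = x) (hfp : ∀ x, c x = x → x = 0) :
    (∀ v w : V, v ≠ 0 → w ≠ 0 → ∃ ψ : V ≃+ V, (∀ x, ψ (c x) = c (ψ x)) ∧ ψ v = w) ∧
    (∀ k : ℕ, ¬ q ∣ k → ∃ φ : V ≃+ V, ∀ x, φ (c x) = c^[k] (φ x)) := by
  classical
  set C : Module.End (ZMod p) V := lin c with hCdef
  have hΦ : aeval C (cyclotomic q (ZMod p)) = 0 := aeval_cyclotomic_eq_zero c hc hfp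
  have : Fact (Irreducible (cyclotomic q (ZMod p))) := ⟨irreducible_cyclotomic hpq hord⟩
  let cA : Algebra.adjoin (ZMod p) {C} := ⟨C, Algebra.self_mem_adjoin_singleton _ C⟩
  have hΦA : (cyclotomic q (ZMod p)).eval₂ (algebraMap (ZMod p) (Algebra.adjoin (ZMod p) {C})) cA
      = 0 := by
    rw [← aeval_def]
    apply Subtype.ext
    rw [aeval_subalgebra_coe]; exact hΦ
  let ρ₀ : AdjoinRoot (cyclotomic q (ZMod p)) →+* Algebra.adjoin (ZMod p) {C} :=
    AdjoinRoot.lift (algebraMap (ZMod p) (Algebra.adjoin (ZMod p) {C})) cA hΦA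
  let ρ : AdjoinRoot (cyclotomic q (ZMod p)) →+* Module.End (ZMod p) V :=
    ((Algebra.adjoin (ZMod p) {C}).val : Algebra.adjoin (ZMod p) {C} →+* _).comp ρ₀
  letI : Module (AdjoinRoot (cyclotomic q (ZMod p))) V := Module.compHom V ρ
  have hsmul : ∀ (r : AdjoinRoot (cyclotomic q (ZMod p))) (x : V), r • x = (ρ r) x :=
    fun r x => rfl
  have hρroot : ρ (AdjoinRoot.root (cyclotomic q (ZMod p))) = C := by
    show ((ρ₀ (AdjoinRoot.root (cyclotomic q (ZMod p))) : Algebra.adjoin (ZMod p) {C}) :
      Module.End (ZMod p) V) = C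
    rw [AdjoinRoot.lift_root]
  have hroot : ∀ x : V, (AdjoinRoot.root (cyclotomic q (ZMod p))) • x = c x := by
    intro x; rw [hsmul, hρroot]; rfl
  have hrootpow : ∀ (n : ℕ) (x : V),
      ((AdjoinRoot.root (cyclotomic q (ZMod p))) ^ n) • x = c^[n] x := by
    intro n x; rw [hsmul, map_pow, hρroot, hCdef, lin_pow_apply]
  have : Module.Finite (ZMod p) (AdjoinRoot (cyclotomic q (ZMod p))) :=
    (cyclotomic.monic q (ZMod p)).finite_adjoinRoot
  have hKfin : Finite (AdjoinRoot (cyclotomic q (ZMod p))) := Module.finite_of_finite (ZMod p)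
  constructor
  · -- transitivity of the commuting automorphisms
    intro v w hv hw
    by_cases hmem : w ∈ Submodule.span (AdjoinRoot (cyclotomic q (ZMod p))) {v}
    · obtain ⟨a, rfl⟩ := Submodule.mem_span_singleton.mp hmem
      have ha : a ≠ 0 := by rintro rfl; simp at hw
      refine ⟨(LinearEquiv.smulOfNeZero (AdjoinRoot (cyclotomic q (ZMod p))) V a ha).toAddEquiv,
        ?_, ?_⟩
      · intro x
        show a • (c x) = c (a • x)
        rw [← hroot, ← hroot, smul_comm]
      · rfl
    · obtain ⟨g1, -, hg1⟩ := LinearMap.exists_extend_of_notMem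
        (K := AdjoinRoot (cyclotomic q (ZMod p)))
        (0 : (⊥ : Submodule (AdjoinRoot (cyclotomic q (ZMod p))) V) →ₗ[_] _) (v := v)
        (by simpa using hv) (1 : AdjoinRoot (cyclotomic q (ZMod p)))
      obtain ⟨g, hgp, hgw⟩ := LinearMap.exists_extend_of_notMem
        (K := AdjoinRoot (cyclotomic q (ZMod p)))
        (g1.comp (Submodule.span (AdjoinRoot (cyclotomic q (ZMod p))) {v}).subtype) hmem
        (1 : AdjoinRoot (cyclotomic q (ZMod p)))
      have hgv : g v = 1 := by
        have := LinearMap.congr_fun hgp ⟨v, Submodule.mem_span_singleton_self v⟩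
        simpa [hg1] using this
      have h0 : g (w - v) = 0 := by rw [map_sub, hgw, hgv, sub_self]
      refine ⟨(LinearEquiv.transvection h0).toAddEquiv, ?_, ?_⟩
      · intro x
        show (LinearEquiv.transvection h0) (c x) = c ((LinearEquiv.transvection h0) x)
        rw [← hroot, ← hroot, map_smul]
      · show (LinearEquiv.transvection h0) v = w
        rw [LinearEquiv.transvection.apply, hgv, one_smul]; abel
  · -- twisting automorphisms
    intro k hk
    have hcop : Nat.Coprime k q := ((Nat.Prime.coprime_iff_not_dvd hq.out).mpr hk).symm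
    set ζ := AdjoinRoot.root (cyclotomic q (ZMod p)) with hζdef
    have hqK : NeZero ((q : ℕ) : AdjoinRoot (cyclotomic q (ZMod p))) := by
      refine ⟨fun h0 => ?_⟩
      have h1 : ((q : ℕ) : AdjoinRoot (cyclotomic q (ZMod p))) =
          algebraMap (ZMod p) (AdjoinRoot (cyclotomic q (ZMod p))) ((q : ℕ) : ZMod p) := by simp
      rw [h1] at h0
      have h2 : ((q : ℕ) : ZMod p) = 0 :=
        (algebraMap (ZMod p) (AdjoinRoot (cyclotomic q (ZMod p)))).injective
          (by rw [h0, map_zero])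
      rw [ZMod.natCast_eq_zero_iff] at h2
      exact hpq ((Nat.prime_dvd_prime_iff_eq hp.out hq.out).mp h2)
    have hζ : IsPrimitiveRoot ζ q := by
      rw [← isRoot_cyclotomic_iff]
      have := AdjoinRoot.isRoot_root (cyclotomic q (ZMod p))
      rwa [map_cyclotomic] at this
    have hζk : IsPrimitiveRoot (ζ ^ k) q := hζ.pow_of_coprime k hcop
    have hev : (cyclotomic q (ZMod p)).eval₂ (AdjoinRoot.of (cyclotomic q (ZMod p))) (ζ ^ k)
        = 0 := by
      rw [eval₂_eq_eval_map, map_cyclotomic]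
      exact isRoot_cyclotomic_iff.mpr hζk
    let σ : AdjoinRoot (cyclotomic q (ZMod p)) →+* AdjoinRoot (cyclotomic q (ZMod p)) :=
      AdjoinRoot.lift (AdjoinRoot.of (cyclotomic q (ZMod p))) (ζ ^ k) hev
    have hσζ : σ ζ = ζ ^ k := AdjoinRoot.lift_root hev
    have hσbij : Function.Bijective σ :=
      Finite.injective_iff_bijective.mp σ.injective
    let σe : AdjoinRoot (cyclotomic q (ZMod p)) ≃+ AdjoinRoot (cyclotomic q (ZMod p)) :=
      AddEquiv.ofBijective σ.toAddMonoidHom hσbij
    let bas := Module.Free.chooseBasis (AdjoinRoot (cyclotomic q (ZMod p))) V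
    let φ : V ≃+ V := bas.repr.toAddEquiv.trans
      ((Finsupp.mapRange.addEquiv σe).trans bas.repr.symm.toAddEquiv)
    have hφ : ∀ (r : AdjoinRoot (cyclotomic q (ZMod p))) (x : V), φ (r • x) = σ r • φ x := by
      intro r x
      show bas.repr.symm (Finsupp.mapRange σe (map_zero _) (bas.repr (r • x))) =
        σ r • bas.repr.symm (Finsupp.mapRange σe (map_zero _) (bas.repr x))
      have key : Finsupp.mapRange σe (map_zero _) (bas.repr (r • x)) =
          σ r • Finsupp.mapRange σe (map_zero _) (bas.repr x) := by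
        ext i
        rw [map_smul]
        simp only [Finsupp.mapRange_apply, Finsupp.smul_apply, smul_eq_mul]
        show σ (r * _) = σ r * σ _
        rw [map_mul]
      rw [key, map_smul]
    refine ⟨φ, fun x => ?_⟩
    rw [← hroot, hφ, hσζ, hrootpow]

end Module

end Cfsg.Helper22.CycMod
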