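import Mathlib

/-!
# Counting cycle types (multisets of naturals `≥ 2` with sum `≤ n`)
-/

set_option autoImplicit false

namespace Cfsg.Agent.Lib.Helper22.CycleTypeCount

/-- Possible cycle types in degree `n`. -/
def CT (n : ℕ) : Set (Multiset ℕ) := {m | (∀ a ∈ m, 2 ≤ a) ∧ m.sum ≤ n}

/-- Cycle types of sum exactly `n`. -/
def U (n : ℕ) : Set (Multiset ℕ) := {m | (∀ a ∈ m, 2 ≤ a) ∧ m.sum = n}

theorem CT_succ (n : ℕ) : CT (n + 1) = CT n ∪ U (n + 1) := by
  ext m
  simp only [CT, U, Set.mem_ofPred_eq, Set.mem_union]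
  constructor
  · rintro ⟨h1, h2⟩
    rcases Nat.lt_or_ge m.sum (n + 1) with h | h
    · exact Or.inl ⟨h1, by omega⟩
    · exact Or.inr ⟨h1, by omega⟩
  · rintro (⟨h1, h2⟩ | ⟨h1, h2⟩)
    · exact ⟨h1, by omega⟩
    · exact ⟨h1, by omega⟩

/-- A chosen element of a multiset (junk `0` on the empty multiset). -/
noncomputable def pick (m : Multiset ℕ) : ℕ := by
  classical
  exact if h : m = 0 then 0 else (Multiset.exists_mem_of_ne_zero h).choose

theorem pick_mem {m : Multiset ℕ} (h : m ≠ 0) : pick m ∈ m := by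
  classical
  unfold pick
  rw [dif_neg h]
  exact (Multiset.exists_mem_of_ne_zero h).choose_spec

theorem sum_erase_pick {m : Multiset ℕ} (h : m ≠ 0) : pick m + (m.erase (pick m)).sum = m.sum := by
  conv_rhs => rw [← Multiset.cons_erase (pick_mem h)]
  rw [Multiset.sum_cons]

theorem U_mapsTo (n : ℕ) : Set.MapsTo (fun m => m.erase (pick m)) (U (n + 1)) (CT n) := by
  rintro m ⟨h1, h2⟩
  have hne : m ≠ 0 := by
    rintro rfl
    simp at h2
  have h3 := sum_erase_pick hne
  have h4 := h1 _ (pick_mem hne)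
  refine ⟨fun a ha => h1 a (Multiset.mem_of_mem_erase ha), ?_⟩
  show (m.erase (pick m)).sum ≤ n
  omega

theorem U_injOn (n : ℕ) : Set.InjOn (fun m => m.erase (pick m)) (U (n + 1)) := by
  rintro m ⟨h1, h2⟩ m' ⟨h1', h2'⟩ heq
  have hne : m ≠ 0 := by
    rintro rfl
    simp at h2
  have hne' : m' ≠ 0 := by
    rintro rfl
    simp at h2'
  simp only at heq
  have h3 := sum_erase_pick hne
  have h3' := sum_erase_pick hne'
  have hp : pick m = pick m' := by
    rw [heq] at h3
    omega
  rw [← Multiset.cons_erase (pick_mem hne), ← Multiset.cons_erase (pick_mem hne'), heq, hp]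

theorem CT_finite : ∀ n, (CT n).Finite
  | 0 => by
    have : CT 0 ⊆ {0} := by
      rintro m ⟨h1, h2⟩
      rw [Set.mem_singleton_iff]
      by_contra hne
      obtain ⟨a, ha⟩ := Multiset.exists_mem_of_ne_zero hne
      have := Multiset.le_sum_of_mem ha
      have := h1 a ha
      omega
    exact (Set.finite_singleton _).subset this
  | n + 1 => by
    rw [CT_succ]
    exact (CT_finite n).union (Set.Finite.of_injOn (U_mapsTo n) (U_injOn n) (CT_finite n))

theorem ncard_CT_succ_le (n : ℕ) : (CT (n + 1)).ncard ≤ 2 * (CT n).ncard := by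
  rw [CT_succ]
  have h1 := Set.ncard_union_le (CT n) (U (n + 1))
  have h2 : (U (n + 1)).ncard ≤ (CT n).ncard :=
    Set.ncard_le_ncard_of_injOn _ (U_mapsTo n) (U_injOn n) (CT_finite n)
  omega

theorem CT_five_subset : CT 5 ⊆ (({0, {2}, {3}, {4}, {5}, {2, 2}, {2, 3}} : Finset (Multiset ℕ)) : Set (Multiset ℕ)) := by
  rintro m ⟨h1, h2⟩
  have hc : Multiset.card m • 2 ≤ m.sum := Multiset.card_nsmul_le_sum h1
  have hc2 : Multiset.card m ≤ 2 := by
    simp only [smul_eq_mul] at hc
    omega
  simp only [Finset.coe_insert, Finset.coe_singleton, Set.mem_insert_iff, Set.mem_singleton_iff]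
  interval_cases hcard : Multiset.card m
  · left
    exact Multiset.card_eq_zero.1 hcard
  · obtain ⟨a, rfl⟩ := Multiset.card_eq_one.1 hcard
    have ha := h1 a (by simp)
    simp only [Multiset.sum_singleton] at h2
    interval_cases a <;> simp
  · obtain ⟨a, b, rfl⟩ := Multiset.card_eq_two.1 hcard
    have ha := h1 a (by simp)
    have hb := h1 b (by simp)
    have h2' : a + b ≤ 5 := by simpa using h2
    have ha3 : a ≤ 3 := by omega
    have hb3 : b ≤ 3 := by omega
    interval_cases a <;> interval_cases b <;> first | omega | (right; right; right; right; right; right; exact Multiset.pair_comm _ _) | (simp; done)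

theorem ncard_CT_five : (CT 5).ncard ≤ 8 := by
  have h1 := Set.ncard_le_ncard CT_five_subset (Finset.finite_toSet _)
  rw [Set.ncard_coe_finset] at h1
  have h2 : ({0, {2}, {3}, {4}, {5}, {2, 2}, {2, 3}} : Finset (Multiset ℕ)).card ≤ 7 := by
    refine (Finset.card_insert_le _ _).trans ?_
    refine (Nat.add_le_add_right ((Finset.card_insert_le _ _).trans ?_) 1)
    refine (Nat.add_le_add_right ((Finset.card_insert_le _ _).trans ?_) 1)
    refine (Nat.add_le_add_right ((Finset.card_insert_le _ _).trans ?_) 1)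
    refine (Nat.add_le_add_right ((Finset.card_insert_le _ _).trans ?_) 1)
    refine (Nat.add_le_add_right ((Finset.card_insert_le _ _).trans ?_) 1)
    rw [Finset.card_singleton]
  omega

theorem ncard_CT_le : ∀ n, 5 ≤ n → (CT n).ncard ≤ 2 ^ (n - 2) := by
  intro n hn
  induction n, hn using Nat.le_induction with
  | base => simpa using ncard_CT_five
  | succ n hn ih =>
    have h1 := ncard_CT_succ_le n
    have e : n + 1 - 2 = (n - 2) + 1 := by omega
    rw [e, pow_succ]
    omega

/-- Cycle types of the classes of `S_n` that split in `A_n`. -/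
def Dset (n : ℕ) : Set (Multiset ℕ) :=
  {m | m ∈ CT n ∧ (∀ a ∈ m, Odd a) ∧ m.Nodup ∧ n ≤ m.sum + 1}

/-- Cycle types of odd permutations. -/
def Oset (n : ℕ) : Set (Multiset ℕ) := {m | m ∈ CT n ∧ Odd (m.sum + Multiset.card m)}

theorem even_sum_add_card_of_odd (m : Multiset ℕ) (h : ∀ a ∈ m, Odd a) :
    Even (m.sum + Multiset.card m) := by
  induction m using Multiset.induction_on with
  | empty => simp
  | cons a s ih =>
    have ha : Odd a := h a (Multiset.mem_cons_self a s)
    have ih' := ih (fun b hb => h b (Multiset.mem_cons_of_mem hb))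
    rw [Multiset.sum_cons, Multiset.card_cons]
    have e : a + s.sum + (Multiset.card s + 1) = (s.sum + Multiset.card s) + (a + 1) := by ring
    rw [e]
    exact ih'.add (ha.add_odd odd_one)

/-- Replace a chosen part `a` by `a - 1`. -/
noncomputable def θ (m : Multiset ℕ) : Multiset ℕ := (pick m - 1) ::ₘ m.erase (pick m)

theorem Dset_ne_zero {n : ℕ} (hn : 5 ≤ n) {m : Multiset ℕ} (hm : m ∈ Dset n) : m ≠ 0 := by
  rintro rfl
  have := hm.2.2.2
  simp at this
  omega

theorem pick_ge_three {n : ℕ} (hn : 5 ≤ n) {m : Multiset ℕ} (hm : m ∈ Dset n) : 3 ≤ pick m := by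
  have hne := Dset_ne_zero hn hm
  have h1 := hm.1.1 _ (pick_mem hne)
  have h2 := hm.2.1 _ (pick_mem hne)
  obtain ⟨k, hk⟩ := h2
  omega

theorem θ_mapsTo (n : ℕ) (hn : 5 ≤ n) : Set.MapsTo θ (Dset n) (Oset n \ {{2}}) := by
  intro m hm
  have hne := Dset_ne_zero hn hm
  have h3 := pick_ge_three hn hm
  have hs := sum_erase_pick hne
  have hsum : (θ m).sum = m.sum - 1 := by
    unfold θ
    rw [Multiset.sum_cons]
    omega
  have hcard : Multiset.card (θ m) = Multiset.card m := by
    unfold θ
    rw [Multiset.card_cons, Multiset.card_erase_of_mem (pick_mem hne)]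
    have : 0 < Multiset.card m := Multiset.card_pos.2 hne
    rw [Nat.pred_eq_sub_one]
    omega
  refine ⟨⟨⟨?_, ?_⟩, ?_⟩, ?_⟩
  · intro a ha
    unfold θ at ha
    rcases Multiset.mem_cons.1 ha with rfl | ha
    · omega
    · exact hm.1.1 a (Multiset.mem_of_mem_erase ha)
  · rw [hsum]
    have := hm.1.2
    omega
  · rw [hsum, hcard]
    have hev := even_sum_add_card_of_odd m hm.2.1
    have hpos : 1 ≤ m.sum := by omega
    obtain ⟨k, hk⟩ := hev
    refine ⟨k - 1, ?_⟩
    omega
  · intro h2
    rw [Set.mem_singleton_iff] at h2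
    have hc1 : Multiset.card m = 1 := by rw [← hcard, h2]; simp
    obtain ⟨a, rfl⟩ := Multiset.card_eq_one.1 hc1
    have hs2 : (θ {a}).sum = 2 := by rw [h2]; simp
    rw [hsum] at hs2
    have := hm.2.2.2
    simp at hs2 this
    omega

theorem θ_injOn (n : ℕ) (hn : 5 ≤ n) : Set.InjOn θ (Dset n) := by
  intro m hm m' hm' heq
  have hne := Dset_ne_zero hn hm
  have hne' := Dset_ne_zero hn hm'
  have h3 := pick_ge_three hn hm
  have h3' := pick_ge_three hn hm'
  have hodd : Odd (pick m) := hm.2.1 _ (pick_mem hne)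
  have hodd' : Odd (pick m') := hm'.2.1 _ (pick_mem hne')
  unfold θ at heq
  have hmem : pick m - 1 ∈ (pick m' - 1) ::ₘ m'.erase (pick m') := by
    rw [← heq]; exact Multiset.mem_cons_self _ _
  have hp : pick m = pick m' := by
    rcases Multiset.mem_cons.1 hmem with h | h
    · omega
    · exfalso
      have h4 : Odd (pick m - 1) := hm'.2.1 _ (Multiset.mem_of_mem_erase h)
      obtain ⟨k, hk⟩ := hodd
      obtain ⟨l, hl⟩ := h4
      omega
  rw [hp] at heq
  have h5 : m.erase (pick m') = m'.erase (pick m') := (Multiset.cons_inj_right _).1 heq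
  rw [← Multiset.cons_erase (pick_mem hne), ← Multiset.cons_erase (pick_mem hne'), hp, h5]

theorem Oset_finite (n : ℕ) : (Oset n).Finite := (CT_finite n).subset fun _ h => h.1

theorem two_mem_Oset (n : ℕ) (hn : 5 ≤ n) : ({2} : Multiset ℕ) ∈ Oset n := by
  refine ⟨⟨?_, ?_⟩, ?_⟩
  · intro a ha
    rw [Multiset.mem_singleton] at ha
    omega
  · simp; omega
  · simp; decide

theorem ncard_Dset_lt (n : ℕ) (hn : 5 ≤ n) : (Dset n).ncard < (Oset n).ncard := by
  have h1 : (Dset n).ncard ≤ (Oset n \ {{2}}).ncard :=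
    Set.ncard_le_ncard_of_injOn θ (θ_mapsTo n hn) (θ_injOn n hn)
      ((Oset_finite n).subset Set.sdiff_subset)
  have h2 : (Oset n \ {{2}}).ncard < (Oset n).ncard :=
    Set.ncard_sdiff_singleton_lt_of_mem (two_mem_Oset n hn) (Oset_finite n)
  omega

end Cfsg.Agent.Lib.Helper22.CycleTypeCount
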