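import Mathlib

/-!
# Groups all of whose 2-elements are 2-central have abelian Sylow 2-subgroups

Elementary proof (Burnside fusion + a Sylow argument), no Z* needed.
-/

set_option autoImplicit false

namespace Cfsg.Agent.Lib.Helper22.TwoCentral

open Subgroup
open scoped Pointwise

universe u

/-- The hypothesis: every 2-element is centralised by some Sylow 2-subgroup. -/
def Hyp (G : Type*) [Group G] : Prop :=
  ∀ x : G, (∃ k : ℕ, orderOf x = 2 ^ k) →
    ∃ Q : Sylow 2 G, (Q : Subgroup G) ≤ centralizer ({x} : Set G)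

variable {G : Type*} [Group G]

theorem mem_cent_single {x g : G} : g ∈ centralizer ({x} : Set G) ↔ x * g = g * x := by
  rw [mem_centralizer_iff]
  constructor
  · intro h; exact h x rfl
  · rintro h y rfl; exact h

theorem mem_smul_sylow {g x : G} {Q : Sylow 2 G} :
    x ∈ ((g • Q : Sylow 2 G) : Subgroup G) ↔ g⁻¹ * x * g ∈ (Q : Subgroup G) := by
  rw [Sylow.coe_subgroup_smul, mem_pointwise_smul_iff_inv_smul_mem]
  simp [MulAut.smul_def]

theorem isPGroup_zpowers {y : G} {a : ℕ} (h : y ^ (2 ^ a) = 1) : IsPGroup 2 (zpowers y) := by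
  rintro ⟨g, hg⟩
  obtain ⟨i, rfl⟩ := mem_zpowers_iff.mp hg
  refine ⟨a, ?_⟩
  ext
  simp only [SubmonoidClass.coe_pow, OneMemClass.coe_one]
  rw [← zpow_natCast, ← zpow_mul, mul_comm, zpow_mul, zpow_natCast, h, one_zpow]

theorem two_elt_of_mem (Q : Sylow 2 G) {x : G} (hx : x ∈ (Q : Subgroup G)) :
    ∃ k : ℕ, orderOf x = 2 ^ k := by
  obtain ⟨k, hk⟩ := (IsPGroup.iff_orderOf.mp Q.2) ⟨x, hx⟩
  exact ⟨k, by rw [← hk, Subgroup.orderOf_mk]⟩

theorem mem_sylow_of_mem_normalizer (Q : Sylow 2 G) {y : G}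
    (hy : y ∈ normalizer (Q : Set G)) {a : ℕ} (h : y ^ (2 ^ a) = 1) :
    y ∈ (Q : Subgroup G) := by
  have h1 := (isPGroup_zpowers h).inf_normalizer_sylow Q
  have h2 : y ∈ zpowers y ⊓ normalizer (Q : Set G) := ⟨mem_zpowers y, hy⟩
  rw [h1] at h2
  exact h2.2

theorem conj_sq_of_swap {u v n : G} (h1 : n⁻¹ * u * n = v) (h2 : n⁻¹ * v * n = u) :
    u * (n * n) = (n * n) * u := by
  have : (n * n)⁻¹ * u * (n * n) = u := by
    calc (n * n)⁻¹ * u * (n * n) = n⁻¹ * (n⁻¹ * u * n) * n := by group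
      _ = u := by rw [h1, h2]
  calc u * (n * n) = (n * n) * ((n * n)⁻¹ * u * (n * n)) := by group
    _ = (n * n) * u := by rw [this]

theorem conj_odd_pow_of_swap {u v n : G} (h1 : n⁻¹ * u * n = v) (h2 : n⁻¹ * v * n = u)
    {m : ℕ} (hm : Odd m) : (n ^ m)⁻¹ * u * n ^ m = v := by
  obtain ⟨k, rfl⟩ := hm
  have hc : Commute u (n * n) := conj_sq_of_swap h1 h2
  have hc' : Commute u ((n * n) ^ k) := hc.pow_right k
  have : n ^ (2 * k + 1) = (n * n) ^ k * n := by
    rw [pow_succ, pow_mul, pow_two]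
  rw [this]
  calc ((n * n) ^ k * n)⁻¹ * u * ((n * n) ^ k * n)
      = n⁻¹ * (((n * n) ^ k)⁻¹ * (u * (n * n) ^ k)) * n := by group
    _ = n⁻¹ * (((n * n) ^ k)⁻¹ * ((n * n) ^ k * u)) * n := by rw [hc'.eq]
    _ = n⁻¹ * u * n := by group
    _ = v := h1

theorem swap_eq [Finite G] (Q : Sylow 2 G) {u v n : G}
    (hn : n ∈ normalizer (Q : Set G))
    (hu : (Q : Subgroup G) ≤ centralizer ({u} : Set G))
    (h1 : n⁻¹ * u * n = v) (h2 : n⁻¹ * v * n = u) : u = v := by
  obtain ⟨a, m, hm, hnm⟩ := Nat.exists_eq_two_pow_mul_odd (orderOf_pos n).ne'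
  have hy : (n ^ m) ^ (2 ^ a) = 1 := by
    rw [← pow_mul, mul_comm, ← hnm, pow_orderOf_eq_one]
  have hyQ : n ^ m ∈ (Q : Subgroup G) :=
    mem_sylow_of_mem_normalizer Q (pow_mem hn m) hy
  have hcomm : u * n ^ m = n ^ m * u := mem_cent_single.mp (hu hyQ)
  have h3 := conj_odd_pow_of_swap h1 h2 hm
  rw [← h3]
  calc u = (n ^ m)⁻¹ * (n ^ m * u) := by group
    _ = (n ^ m)⁻¹ * u * n ^ m := by rw [← hcomm]; group


/-- Burnside's fusion lemma. -/
theorem burnside [Finite G] (Q : Sylow 2 G) {u v g : G}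
    (hu : (Q : Subgroup G) ≤ centralizer ({u} : Set G))
    (hv : (Q : Subgroup G) ≤ centralizer ({v} : Set G))
    (h : g⁻¹ * u * g = v) :
    ∃ n : G, n ∈ normalizer (Q : Set G) ∧ n⁻¹ * u * n = v := by
  have h2 : ((g⁻¹ • Q : Sylow 2 G) : Subgroup G) ≤ centralizer ({v} : Set G) := by
    intro q hq
    rw [mem_smul_sylow, inv_inv] at hq
    have := mem_cent_single.mp (hu hq)
    rw [mem_cent_single, ← h]
    calc g⁻¹ * u * g * q = g⁻¹ * (u * (g * q * g⁻¹)) * g := by group
      _ = g⁻¹ * ((g * q * g⁻¹) * u) * g := by rw [this]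
      _ = q * (g⁻¹ * u * g) := by group
  obtain ⟨c, hc⟩ := MulAction.exists_smul_eq (centralizer ({v} : Set G))
    ((g⁻¹ • Q : Sylow 2 G).subtype h2) (Q.subtype hv)
  rw [Sylow.smul_subtype] at hc
  have hc' := Sylow.subtype_injective hc
  have hc2 : ((c : G) * g⁻¹) • Q = Q := by rw [mul_smul]; exact hc'
  have hn : (c : G) * g⁻¹ ∈ normalizer (Q : Set G) := Sylow.smul_eq_iff_mem_normalizer.mp hc2
  refine ⟨((c : G) * g⁻¹)⁻¹, inv_mem hn, ?_⟩
  have hcv : v * (c : G) = (c : G) * v := mem_cent_single.mp c.2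
  calc ((c : G) * g⁻¹)⁻¹⁻¹ * u * ((c : G) * g⁻¹)⁻¹ = (c : G) * (g⁻¹ * u * g) * (c : G)⁻¹ := by group
    _ = (c : G) * v * (c : G)⁻¹ := by rw [h]
    _ = v := by rw [← hcv]; group

/-- A real 2-element has order at most 2. -/
theorem real_sq [Finite G] (hH : Hyp G) {u g : G} (hu : ∃ k : ℕ, orderOf u = 2 ^ k)
    (h : g⁻¹ * u * g = u⁻¹) : u * u = 1 := by
  obtain ⟨Q, hQ⟩ := hH u hu
  have hQ' : (Q : Subgroup G) ≤ centralizer ({u⁻¹} : Set G) := by
    intro q hq
    have := mem_cent_single.mp (hQ hq)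
    rw [mem_cent_single]
    calc u⁻¹ * q = u⁻¹ * (q * u) * u⁻¹ := by group
      _ = u⁻¹ * (u * q) * u⁻¹ := by rw [this]
      _ = q * u⁻¹ := by group
  obtain ⟨n, hn, hnu⟩ := burnside Q hQ hQ' h
  have h2 : n⁻¹ * u⁻¹ * n = u := by
    calc n⁻¹ * u⁻¹ * n = (n⁻¹ * u * n)⁻¹ := by group
      _ = u := by rw [hnu, inv_inv]
  have := swap_eq Q hn hQ hnu h2
  calc u * u = u * u⁻¹ := by rw [← this]
    _ = 1 := mul_inv_cancel u

/-- A 2-element is not conjugate to its product with a nontrivial central involution. -/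
theorem central_shift [Finite G] (hH : Hyp G) {u g z : G} (hu : ∃ k : ℕ, orderOf u = 2 ^ k)
    (hz : ∀ x : G, z * x = x * z) (hz2 : z * z = 1)
    (h : g⁻¹ * u * g = u * z) : z = 1 := by
  obtain ⟨Q, hQ⟩ := hH u hu
  have hQ' : (Q : Subgroup G) ≤ centralizer ({u * z} : Set G) := by
    intro q hq
    have := mem_cent_single.mp (hQ hq)
    rw [mem_cent_single]
    calc u * z * q = u * (z * q) := by group
      _ = u * (q * z) := by rw [hz q]
      _ = (u * q) * z := by group
      _ = (q * u) * z := by rw [this]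
      _ = q * (u * z) := by group
  obtain ⟨n, hn, hnu⟩ := burnside Q hQ hQ' h
  have h2 : n⁻¹ * (u * z) * n = u := by
    calc n⁻¹ * (u * z) * n = n⁻¹ * u * (z * n) := by group
      _ = n⁻¹ * u * (n * z) := by rw [hz n]
      _ = (n⁻¹ * u * n) * z := by group
      _ = u * (z * z) := by rw [hnu]; group
      _ = u := by rw [hz2, mul_one]
  have := swap_eq Q hn hQ hnu h2
  calc z = u⁻¹ * (u * z) := by group
    _ = u⁻¹ * u := by rw [← this]
    _ = 1 := inv_mul_cancel u

/-- Two involutions whose product is a 2-element commute. -/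
theorem invol_comm [Finite G] (hH : Hyp G) {a b : G} (ha : a * a = 1) (hb : b * b = 1)
    (hab : ∃ k : ℕ, orderOf (a * b) = 2 ^ k) : a * b = b * a := by
  have ha' : a⁻¹ = a := inv_eq_of_mul_eq_one_left ha
  have hb' : b⁻¹ = b := inv_eq_of_mul_eq_one_left hb
  have h : a⁻¹ * (a * b) * a = (a * b)⁻¹ := by
    rw [mul_inv_rev, ha', hb']
    calc a * (a * b) * a = (a * a) * b * a := by group
      _ = b * a := by rw [ha, one_mul]
  have h2 := real_sq hH hab h
  calc a * b = (a * b)⁻¹ := (inv_eq_of_mul_eq_one_left h2).symm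
    _ = b * a := by rw [mul_inv_rev, ha', hb']

/-- The involutions of a Sylow 2-subgroup form a subgroup. -/
def invSub [Finite G] (hH : Hyp G) (Q : Sylow 2 G) : Subgroup G where
  carrier := {e | e ∈ (Q : Subgroup G) ∧ e * e = 1}
  mul_mem' := by
    rintro a b ⟨ha, ha2⟩ ⟨hb, hb2⟩
    refine ⟨mul_mem ha hb, ?_⟩
    have hc := invol_comm hH ha2 hb2 (two_elt_of_mem Q (mul_mem ha hb))
    calc a * b * (a * b) = a * (b * a) * b := by group
      _ = a * (a * b) * b := by rw [hc]
      _ = (a * a) * (b * b) := by group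
      _ = 1 := by rw [ha2, hb2, one_mul]
  one_mem' := ⟨one_mem _, one_mul 1⟩
  inv_mem' := by
    rintro a ⟨ha, ha2⟩
    refine ⟨inv_mem ha, ?_⟩
    rw [← mul_inv_rev, ha2, inv_one]

theorem mem_invSub [Finite G] (hH : Hyp G) (Q : Sylow 2 G) {e : G} :
    e ∈ invSub hH Q ↔ e ∈ (Q : Subgroup G) ∧ e * e = 1 := Iff.rfl

/-- A Sylow 2-subgroup inside `K` containing a given 2-element of `K`, provided `K` contains
some Sylow 2-subgroup. -/
theorem exists_sylow_le_mem [Finite G] {K : Subgroup G} (Q0 : Sylow 2 G)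
    (hQ0 : (Q0 : Subgroup G) ≤ K) {t : G} (ht : t ∈ K) {a : ℕ} (ht2 : t ^ (2 ^ a) = 1) :
    ∃ Q : Sylow 2 G, (Q : Subgroup G) ≤ K ∧ t ∈ (Q : Subgroup G) := by
  have hT : IsPGroup 2 (zpowers (⟨t, ht⟩ : K)) := by
    apply isPGroup_zpowers (a := a)
    ext
    simpa using ht2
  obtain ⟨Q', hQ'⟩ := hT.exists_le_sylow
  obtain ⟨c, hc⟩ := MulAction.exists_smul_eq K (Q0.subtype hQ0) Q'
  rw [Sylow.smul_subtype] at hc
  refine ⟨(c : G) • Q0, Sylow.smul_le hQ0 c, ?_⟩
  have h1 : (⟨t, ht⟩ : K) ∈ Q' := hQ' (mem_zpowers _)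
  rw [← hc] at h1
  exact mem_subgroupOf.mp h1


/-- If `F = invSub Q` lies in the Sylow subgroup `g • Q` then `F` contains all involutions of
`g • Q`. -/
theorem invSub_absorb [Finite G] (hH : Hyp G) (Q : Sylow 2 G) (g : G)
    (hF : invSub hH Q ≤ ((g • Q : Sylow 2 G) : Subgroup G)) {e : G}
    (he : e ∈ ((g • Q : Sylow 2 G) : Subgroup G)) (he2 : e * e = 1) : e ∈ invSub hH Q := by
  have hmem : ∀ f : G, f ∈ ((g • Q : Sylow 2 G) : Subgroup G) → f * f = 1 →
      g⁻¹ * f * g ∈ invSub hH Q := by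
    intro f hf hf2
    refine ⟨mem_smul_sylow.mp hf, ?_⟩
    calc g⁻¹ * f * g * (g⁻¹ * f * g) = g⁻¹ * (f * f) * g := by group
      _ = 1 := by rw [hf2]; group
  let φ : invSub hH Q → invSub hH Q := fun f => ⟨g⁻¹ * f.1 * g, hmem f.1 (hF f.2) f.2.2⟩
  have hinj : Function.Injective φ := by
    intro f1 f2 h
    have h' : g⁻¹ * f1.1 * g = g⁻¹ * f2.1 * g := congrArg Subtype.val h
    apply Subtype.ext
    calc f1.1 = g * (g⁻¹ * f1.1 * g) * g⁻¹ := by group
      _ = g * (g⁻¹ * f2.1 * g) * g⁻¹ := by rw [h']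
      _ = f2.1 := by group
  have hsurj : Function.Surjective φ := Finite.surjective_of_injective hinj
  obtain ⟨f, hf⟩ := hsurj ⟨g⁻¹ * e * g, hmem e he he2⟩
  have h' : g⁻¹ * f.1 * g = g⁻¹ * e * g := congrArg Subtype.val hf
  have : e = f.1 := by
    calc e = g * (g⁻¹ * e * g) * g⁻¹ := by group
      _ = g * (g⁻¹ * f.1 * g) * g⁻¹ := by rw [h']
      _ = f.1 := by group
  rw [this]; exact f.2

theorem orderOf_sq_lt {x : G} (hx : ∃ k : ℕ, orderOf x = 2 ^ k) (hx1 : x ≠ 1) :
    orderOf (x * x) < orderOf x := by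
  obtain ⟨k, hk⟩ := hx
  have hk0 : k ≠ 0 := by
    rintro rfl
    rw [pow_zero, orderOf_eq_one_iff] at hk
    exact hx1 hk
  obtain ⟨j, rfl⟩ := Nat.exists_eq_succ_of_ne_zero hk0
  rw [← pow_two, orderOf_pow' x two_ne_zero, hk]
  have : Nat.gcd (2 ^ (j + 1)) 2 = 2 := by
    apply Nat.gcd_eq_right
    exact dvd_pow_self 2 (Nat.succ_ne_zero j)
  rw [this, pow_succ, Nat.mul_div_cancel _ (by norm_num : 0 < 2)]
  have : 0 < 2 ^ j := pow_pos (by norm_num) j
  omega

/-- Key step: every involution of a Sylow 2-subgroup is central in it. -/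
theorem omega_central [Finite G] (hH : Hyp G) (S : Sylow 2 G) :
    ∀ n : ℕ, ∀ x ∈ (S : Subgroup G), orderOf x = n →
      ∀ e ∈ (S : Subgroup G), e * e = 1 → x * e = e * x := by
  intro n
  induction n using Nat.strong_induction_on with
  | _ n ih =>
    intro x hx hn e he he2
    by_contra hne
    have hx1 : x ≠ 1 := by
      rintro rfl
      exact hne (by rw [one_mul, mul_one])
    have hx2 := two_elt_of_mem S hx
    have hxx : ∀ e' ∈ (S : Subgroup G), e' * e' = 1 → (x * x) * e' = e' * (x * x) := by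
      intro e' he' he'2
      have hlt : orderOf (x * x) < n := hn ▸ orderOf_sq_lt hx2 hx1
      exact ih _ hlt (x * x) (mul_mem hx hx) rfl e' he' he'2
    have he' : e⁻¹ = e := inv_eq_of_mul_eq_one_left he2
    -- the conjugate of e
    have hexS : x⁻¹ * e * x ∈ (S : Subgroup G) := mul_mem (mul_mem (inv_mem hx) he) hx
    have hex2 : (x⁻¹ * e * x) * (x⁻¹ * e * x) = 1 := by
      calc (x⁻¹ * e * x) * (x⁻¹ * e * x) = x⁻¹ * (e * e) * x := by group
        _ = 1 := by rw [he2]; group
    have hcomm : (x⁻¹ * e * x) * e = e * (x⁻¹ * e * x) :=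
      invol_comm hH hex2 he2 (two_elt_of_mem S (mul_mem hexS he))
    obtain ⟨t, ht⟩ : ∃ t : G, t = (x⁻¹ * e * x) * e := ⟨_, rfl⟩
    have htS : t ∈ (S : Subgroup G) := ht ▸ mul_mem hexS he
    have ht2 : t * t = 1 := by
      rw [ht]
      calc (x⁻¹ * e * x) * e * ((x⁻¹ * e * x) * e)
          = (x⁻¹ * e * x) * (e * (x⁻¹ * e * x)) * e := by group
        _ = (x⁻¹ * e * x) * ((x⁻¹ * e * x) * e) * e := by rw [hcomm]
        _ = ((x⁻¹ * e * x) * (x⁻¹ * e * x)) * (e * e) := by group
        _ = 1 := by rw [hex2, he2, one_mul]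
    have hext : e⁻¹ * x * e = x * t := by
      rw [ht, he']
      group
    have hxt : x * t = t * x := by
      have h1 : (x * x)⁻¹ * e * (x * x) = e := by
        have := hxx e he he2
        calc (x * x)⁻¹ * e * (x * x) = (x * x)⁻¹ * (e * (x * x)) := by group
          _ = (x * x)⁻¹ * ((x * x) * e) := by rw [this]
          _ = e := by group
      have h2 : x⁻¹ * t * x = t := by
        rw [ht]
        calc x⁻¹ * ((x⁻¹ * e * x) * e) * x = ((x * x)⁻¹ * e * (x * x)) * (x⁻¹ * e * x) := by group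
          _ = e * (x⁻¹ * e * x) := by rw [h1]
          _ = (x⁻¹ * e * x) * e := hcomm.symm
      calc x * t = x * (x⁻¹ * t * x) := by rw [h2]
        _ = t * x := by group
    have het : e * t = t * e := invol_comm hH he2 ht2 (two_elt_of_mem S (mul_mem he htS))
    have ht' : t⁻¹ = t := inv_eq_of_mul_eq_one_left ht2
    -- a Sylow subgroup Q centralising x and containing t
    obtain ⟨Q0, hQ0⟩ := hH x hx2
    have htK : t ∈ centralizer ({x} : Set G) := mem_cent_single.mpr hxt
    obtain ⟨Q, hQx, htQ⟩ := exists_sylow_le_mem Q0 hQ0 htK (a := 1) (by rw [pow_one, pow_two, ht2])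
    -- the subgroup M
    let M : Subgroup G :=
      { carrier := {g | g * t = t * g ∧ (g⁻¹ * x * g = x ∨ g⁻¹ * x * g = x * t)}
        mul_mem' := by
          rintro a b ⟨ha1, ha2⟩ ⟨hb1, hb2⟩
          refine ⟨?_, ?_⟩
          · calc a * b * t = a * (b * t) := by group
              _ = a * (t * b) := by rw [hb1]
              _ = (a * t) * b := by group
              _ = (t * a) * b := by rw [ha1]
              _ = t * (a * b) := by group
          · have hbt : b⁻¹ * t * b = t := by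
              calc b⁻¹ * t * b = b⁻¹ * (t * b) := by group
                _ = b⁻¹ * (b * t) := by rw [hb1]
                _ = t := by group
            have e1 : (a * b)⁻¹ * x * (a * b) = b⁻¹ * (a⁻¹ * x * a) * b := by group
            rw [e1]
            rcases ha2 with ha2 | ha2 <;> rcases hb2 with hb2 | hb2
            · left; rw [ha2, hb2]
            · right; rw [ha2, hb2]
            · right
              rw [ha2]
              calc b⁻¹ * (x * t) * b = (b⁻¹ * x * b) * (b⁻¹ * t * b) := by group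
                _ = x * t := by rw [hb2, hbt]
            · left
              rw [ha2]
              calc b⁻¹ * (x * t) * b = (b⁻¹ * x * b) * (b⁻¹ * t * b) := by group
                _ = x * t * t := by rw [hb2, hbt]
                _ = x := by rw [mul_assoc, ht2, mul_one]
        one_mem' := by
          refine ⟨by rw [one_mul, mul_one], Or.inl ?_⟩
          group
        inv_mem' := by
          rintro a ⟨ha1, ha2⟩
          have hat : a * t * a⁻¹ = t := by
            rw [ha1]; group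
          refine ⟨?_, ?_⟩
          · calc a⁻¹ * t = a⁻¹ * (a * t * a⁻¹) := by rw [hat]
              _ = t * a⁻¹ := by group
          · rw [inv_inv]
            rcases ha2 with ha2 | ha2
            · left
              calc a * x * a⁻¹ = a * (a⁻¹ * x * a) * a⁻¹ := by rw [ha2]
                _ = x := by group
            · right
              have : a * x * a⁻¹ * t = x := by
                calc a * x * a⁻¹ * t = a * x * a⁻¹ * (a * t * a⁻¹) := by rw [hat]
                  _ = a * (x * t) * a⁻¹ := by group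
                  _ = a * (a⁻¹ * x * a) * a⁻¹ := by rw [ha2]
                  _ = x := by group
              calc a * x * a⁻¹ = (a * x * a⁻¹ * t) * t := by rw [mul_assoc _ t t, ht2, mul_one]
                _ = x * t := by rw [this] }
    have hM : ∀ g : G, g ∈ M ↔ g * t = t * g ∧ (g⁻¹ * x * g = x ∨ g⁻¹ * x * g = x * t) :=
      fun g => Iff.rfl
    have heM : e ∈ M := (hM e).mpr ⟨het, Or.inr hext⟩
    have hFcent : ∀ f ∈ invSub hH Q, f * t = t * f ∧ x * f = f * x := by
      intro f hf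
      refine ⟨?_, mem_cent_single.mp (hQx hf.1)⟩
      exact invol_comm hH hf.2 ht2 (two_elt_of_mem Q (mul_mem hf.1 htQ))
    have hFM : invSub hH Q ≤ M := by
      intro f hf
      obtain ⟨h1, h2⟩ := hFcent f hf
      refine (hM f).mpr ⟨h1, Or.inl ?_⟩
      calc f⁻¹ * x * f = f⁻¹ * (x * f) := by group
        _ = f⁻¹ * (f * x) := by rw [h2]
        _ = x := by group
    -- the group Y generated by e and F
    obtain ⟨Y, hY⟩ : ∃ Y : Subgroup G, Y = invSub hH Q ⊔ zpowers e := ⟨_, rfl⟩
    have hFY : invSub hH Q ≤ Y := hY ▸ le_sup_left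
    have heY : e ∈ Y := hY ▸ (le_sup_right : zpowers e ≤ _) (mem_zpowers e)
    have hYM : Y ≤ M := by
      rw [hY]
      exact sup_le hFM (by rw [zpowers_le]; exact heM)
    -- Sylow subgroup of Y containing F
    have hFp : IsPGroup 2 ((invSub hH Q).subgroupOf Y) := by
      have h1 : IsPGroup 2 (invSub hH Q) :=
        Q.2.to_le (fun f hf => hf.1)
      exact h1.comap_subtype
    obtain ⟨T, hT⟩ := hFp.exists_le_sylow
    -- conjugate e into T
    have hep : IsPGroup 2 (zpowers (⟨e, heY⟩ : Y)) := by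
      apply isPGroup_zpowers (a := 1)
      ext
      simp [pow_two, he2]
    obtain ⟨T', hT'⟩ := hep.exists_le_sylow
    obtain ⟨y, hy⟩ := MulAction.exists_smul_eq Y T T'
    have heT : y⁻¹ * (⟨e, heY⟩ : Y) * y ∈ (T : Subgroup Y) := by
      have : (⟨e, heY⟩ : Y) ∈ ((y • T : Sylow 2 Y) : Subgroup Y) := by
        rw [hy]; exact hT' (mem_zpowers _)
      exact mem_smul_sylow.mp this
    -- a Sylow subgroup of G containing T
    have hTp : IsPGroup 2 ((T : Subgroup Y).map Y.subtype) := T.2.map _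
    obtain ⟨S', hS'⟩ := hTp.exists_le_sylow
    obtain ⟨g, hg⟩ := MulAction.exists_smul_eq G Q S'
    have hFS' : invSub hH Q ≤ ((g • Q : Sylow 2 G) : Subgroup G) := by
      intro f hf
      rw [hg]
      apply hS'
      exact ⟨⟨f, hFY hf⟩, hT (mem_subgroupOf.mpr hf), rfl⟩
    have he'S' : (y : G)⁻¹ * e * (y : G) ∈ ((g • Q : Sylow 2 G) : Subgroup G) := by
      rw [hg]
      apply hS'
      exact ⟨_, heT, rfl⟩
    have he'2 : ((y : G)⁻¹ * e * (y : G)) * ((y : G)⁻¹ * e * (y : G)) = 1 := by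
      calc ((y : G)⁻¹ * e * (y : G)) * ((y : G)⁻¹ * e * (y : G))
          = (y : G)⁻¹ * (e * e) * (y : G) := by group
        _ = 1 := by rw [he2]; group
    have he'F := invSub_absorb hH Q g hFS' he'S' he'2
    obtain ⟨h1, h2⟩ := hFcent _ he'F
    -- y⁻¹ ∈ M
    have hyM : (y : G)⁻¹ ∈ M := inv_mem (hYM y.2)
    obtain ⟨h3, h4⟩ := (hM _).mp hyM
    rw [inv_inv] at h4
    -- e commutes with y x y⁻¹
    have h5 : ((y : G) * x * (y : G)⁻¹) * e = e * ((y : G) * x * (y : G)⁻¹) := by
      calc ((y : G) * x * (y : G)⁻¹) * e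
          = (y : G) * (x * ((y : G)⁻¹ * e * (y : G))) * (y : G)⁻¹ := by group
        _ = (y : G) * (((y : G)⁻¹ * e * (y : G)) * x) * (y : G)⁻¹ := by rw [h2]
        _ = e * ((y : G) * x * (y : G)⁻¹) := by group
    rcases h4 with h4 | h4
    · rw [h4] at h5
      exact hne h5
    · rw [h4] at h5
      apply hne
      calc x * e = (x * t) * t * e := by rw [mul_assoc x t t, ht2, mul_one]
        _ = (x * t) * (t * e) := by group
        _ = (x * t) * (e * t) := by rw [het]
        _ = ((x * t) * e) * t := by group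
        _ = (e * (x * t)) * t := by rw [h5]
        _ = e * (x * (t * t)) := by group
        _ = e * x := by rw [ht2, mul_one]


theorem sylow_central_invol [Finite G] (hH : Hyp G) (S : Sylow 2 G) {x e : G}
    (hx : x ∈ (S : Subgroup G)) (he : e ∈ (S : Subgroup G)) (he2 : e * e = 1) :
    x * e = e * x :=
  omega_central hH S _ x hx rfl e he he2

/-- Transport of commutativity along conjugation of Sylow subgroups. -/
theorem comm_of_conj [Finite G] (Q P : Sylow 2 G)
    (hQ : ∀ a ∈ (Q : Subgroup G), ∀ b ∈ (Q : Subgroup G), a * b = b * a) :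
    ∀ a ∈ (P : Subgroup G), ∀ b ∈ (P : Subgroup G), a * b = b * a := by
  obtain ⟨g, hg⟩ := MulAction.exists_smul_eq G Q P
  intro a ha b hb
  rw [← hg] at ha hb
  have h := hQ _ (mem_smul_sylow.mp ha) _ (mem_smul_sylow.mp hb)
  calc a * b = g * ((g⁻¹ * a * g) * (g⁻¹ * b * g)) * g⁻¹ := by group
    _ = g * ((g⁻¹ * b * g) * (g⁻¹ * a * g)) * g⁻¹ := by rw [h]
    _ = b * a := by group

/-- Main theorem, by strong induction on the order. -/
theorem main_aux : ∀ (n : ℕ) (G : Type u) [Group G] [Finite G], Nat.card G = n → Hyp G →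
    ∀ P : Sylow 2 G, ∀ a ∈ (P : Subgroup G), ∀ b ∈ (P : Subgroup G), a * b = b * a := by
  intro n
  induction n using Nat.strong_induction_on with
  | _ n ih =>
    intro G _ _ hn hH P
    by_cases hc : ∃ e : G, e * e = 1 ∧ ¬ (∀ g : G, e * g = g * e)
    · -- a non-central involution
      obtain ⟨e, he2, hec⟩ := hc
      obtain ⟨K, hK⟩ : ∃ K : Subgroup G, K = centralizer ({e} : Set G) := ⟨_, rfl⟩
      have hKlt : Nat.card K < n := by
        rw [← hn]
        refine lt_of_le_of_ne (Subgroup.card_le_card_group K) ?_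
        intro hcard
        have htop : K = ⊤ := Subgroup.eq_top_of_card_eq K hcard
        apply hec
        intro g
        have : g ∈ K := htop ▸ Subgroup.mem_top g
        rw [hK] at this
        exact mem_cent_single.mp this
      have he2' : e ^ (2 ^ 1) = 1 := by rw [pow_one, pow_two, he2]
      have he_two : ∃ k : ℕ, orderOf e = 2 ^ k := by
        have hd : orderOf e ∣ 2 ^ 1 := orderOf_dvd_of_pow_eq_one he2'
        obtain ⟨k, _, hk⟩ := (Nat.dvd_prime_pow Nat.prime_two).mp hd
        exact ⟨k, hk⟩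
      have hHK : Hyp K := by
        rintro x ⟨k, hk⟩
        have hxo : ∃ k : ℕ, orderOf (x : G) = 2 ^ k := ⟨k, by rw [Subgroup.orderOf_coe, hk]⟩
        obtain ⟨Q0, hQ0⟩ := hH (x : G) hxo
        have hex : e ∈ centralizer ({(x : G)} : Set G) := by
          have hx : (x : G) ∈ centralizer ({e} : Set G) := hK.le x.2
          rw [mem_cent_single]
          exact (mem_cent_single.mp hx).symm
        obtain ⟨Q1, hQ1x, heQ1⟩ := exists_sylow_le_mem Q0 hQ0 hex he2'
        have hQ1K : (Q1 : Subgroup G) ≤ K := by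
          intro q hq
          rw [hK, mem_cent_single]
          exact (sylow_central_invol hH Q1 hq heQ1 he2).symm
        refine ⟨Q1.subtype hQ1K, ?_⟩
        intro q hq
        have hq' : (q : G) ∈ (Q1 : Subgroup G) := mem_subgroupOf.mp hq
        have := mem_cent_single.mp (hQ1x hq')
        rw [mem_cent_single]
        exact Subtype.ext this
      obtain ⟨Qe, hQe⟩ := hH e he_two
      have hQeK : (Qe : Subgroup G) ≤ K := hK ▸ hQe
      have hcomm := ih _ hKlt K rfl hHK (Qe.subtype hQeK)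
      apply comm_of_conj Qe P
      intro a ha b hb
      have := hcomm ⟨a, hQeK ha⟩ (mem_subgroupOf.mpr ha) ⟨b, hQeK hb⟩ (mem_subgroupOf.mpr hb)
      exact congrArg Subtype.val this
    · -- all involutions are central
      push Not at hc
      intro a ha b hb
      by_contra hab
      have ha1 : a ≠ 1 := by
        rintro rfl
        exact hab (by rw [one_mul, mul_one])
      -- an involution z
      obtain ⟨k, hk⟩ := two_elt_of_mem P ha
      have hk0 : k ≠ 0 := by
        rintro rfl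
        rw [pow_zero, orderOf_eq_one_iff] at hk
        exact ha1 hk
      obtain ⟨j, rfl⟩ := Nat.exists_eq_succ_of_ne_zero hk0
      obtain ⟨z, hz⟩ : ∃ z : G, z = a ^ (2 ^ j) := ⟨_, rfl⟩
      have hz2 : z * z = 1 := by
        rw [hz, ← pow_add, ← two_mul, ← pow_succ', ← hk, pow_orderOf_eq_one]
      have hz1 : z ≠ 1 := by
        rw [hz]
        intro h
        have hd : orderOf a ∣ 2 ^ j := orderOf_dvd_of_pow_eq_one h
        rw [hk] at hd
        have := Nat.le_of_dvd (pow_pos (by norm_num) j) hd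
        rw [pow_succ] at this
        have : 0 < 2 ^ j := pow_pos (by norm_num) j
        omega
      have hzc : ∀ g : G, z * g = g * z := hc z hz2
      -- the central subgroup N = ⟨z⟩
      obtain ⟨N, hN⟩ : ∃ N : Subgroup G, N = zpowers z := ⟨_, rfl⟩
      have hNc : ∀ w ∈ N, (∀ g : G, w * g = g * w) ∧ w * w = 1 := by
        intro w hw
        rw [hN] at hw
        obtain ⟨i, rfl⟩ := mem_zpowers_iff.mp hw
        constructor
        · intro g
          have : Commute z g := hzc g
          exact (this.zpow_left i).eq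
        · rw [← zpow_add, ← two_mul, zpow_mul, zpow_two, hz2, one_zpow]
      have hNn : N.Normal := by
        constructor
        intro w hw g
        have := (hNc w hw).1 g
        have e1 : g * w * g⁻¹ = w := by
          rw [← this]; group
        rw [e1]; exact hw
      have hNz : z ∈ N := hN ▸ mem_zpowers z
      have hQlt : Nat.card (G ⧸ N) < n := by
        rw [← hn, ← Subgroup.card_mul_index N, ← Subgroup.index_eq_card]
        have h1 : 1 < Nat.card N := by
          rw [Finite.one_lt_card_iff_nontrivial]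
          exact ⟨⟨⟨z, hNz⟩, 1, fun h => hz1 (congrArg Subtype.val h)⟩⟩
        have h2 : 0 < N.index := Nat.pos_of_ne_zero Subgroup.index_ne_zero_of_finite
        nlinarith
      have hHQ : Hyp (G ⧸ N) := by
        rintro xb ⟨k, hk⟩
        obtain ⟨x, rfl⟩ := QuotientGroup.mk_surjective xb
        have h1 : x ^ (2 ^ k) ∈ N := by
          rw [← QuotientGroup.eq_one_iff, QuotientGroup.mk_pow, ← hk, pow_orderOf_eq_one]
        have h2 : x ^ (2 ^ (k + 1)) = 1 := by
          rw [pow_succ, pow_mul, pow_two]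
          exact (hNc _ h1).2
        have hxo : ∃ k : ℕ, orderOf x = 2 ^ k := by
          have hd : orderOf x ∣ 2 ^ (k + 1) := orderOf_dvd_of_pow_eq_one h2
          obtain ⟨k', _, hk'⟩ := (Nat.dvd_prime_pow Nat.prime_two).mp hd
          exact ⟨k', hk'⟩
        obtain ⟨Q, hQ⟩ := hH x hxo
        refine ⟨Q.mapSurjective (QuotientGroup.mk'_surjective N), ?_⟩
        rw [Sylow.coe_mapSurjective]
        rintro _ ⟨q, hq, rfl⟩
        have := mem_cent_single.mp (hQ hq)
        rw [mem_cent_single]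
        show (QuotientGroup.mk x : G ⧸ N) * QuotientGroup.mk q = QuotientGroup.mk q * QuotientGroup.mk x
        rw [← QuotientGroup.mk_mul, ← QuotientGroup.mk_mul, this]
      have hcomm := ih _ hQlt (G ⧸ N) rfl hHQ (P.mapSurjective (QuotientGroup.mk'_surjective N))
      have hab' : (QuotientGroup.mk a : G ⧸ N) * QuotientGroup.mk b
          = QuotientGroup.mk b * QuotientGroup.mk a := by
        apply hcomm
        · rw [Sylow.coe_mapSurjective]; exact ⟨a, ha, rfl⟩
        · rw [Sylow.coe_mapSurjective]; exact ⟨b, hb, rfl⟩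
      rw [← QuotientGroup.mk_mul, ← QuotientGroup.mk_mul, QuotientGroup.eq] at hab'
      -- w = (a b)⁻¹ (b a) ∈ N
      obtain ⟨hwc, hw2⟩ := hNc _ hab'
      have hconj : b⁻¹ * a * b = a * ((a * b)⁻¹ * (b * a))⁻¹ := by group
      have hwinv : ((a * b)⁻¹ * (b * a))⁻¹ = (a * b)⁻¹ * (b * a) :=
        inv_eq_of_mul_eq_one_left hw2
      rw [hwinv] at hconj
      have := central_shift hH (two_elt_of_mem P ha) hwc hw2 hconj
      apply hab
      calc a * b = (a * b) * ((a * b)⁻¹ * (b * a)) := by rw [this, mul_one]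
        _ = b * a := by group


/-- Main theorem: if all 2-elements are 2-central then Sylow 2-subgroups are abelian. -/
theorem main {G : Type u} [Group G] [Finite G] (hH : Hyp G) (P : Sylow 2 G) :
    ∀ a ∈ (P : Subgroup G), ∀ b ∈ (P : Subgroup G), a * b = b * a :=
  main_aux _ G rfl hH P

/-- Converse: abelian Sylow 2-subgroups make all 2-elements 2-central. -/
theorem hyp_of_comm [Finite G] (P : Sylow 2 G)
    (hP : ∀ a ∈ (P : Subgroup G), ∀ b ∈ (P : Subgroup G), a * b = b * a) : Hyp G := by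
  rintro x ⟨k, hk⟩
  have hx : IsPGroup 2 (zpowers x) := isPGroup_zpowers (a := k) (by rw [← hk, pow_orderOf_eq_one])
  obtain ⟨Q, hQ⟩ := hx.exists_le_sylow
  refine ⟨Q, ?_⟩
  intro q hq
  rw [mem_cent_single]
  exact comm_of_conj P Q hP x (hQ (mem_zpowers x)) q hq

/-- A subgroup of odd index contains a Sylow 2-subgroup. -/
theorem exists_sylow_le_of_odd_index [Finite G] (K : Subgroup G) (hK : ¬ 2 ∣ K.index) :
    ∃ Q : Sylow 2 G, (Q : Subgroup G) ≤ K := by
  obtain ⟨Q0⟩ : Nonempty (Sylow 2 K) := inferInstance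
  have hp : IsPGroup 2 ((Q0 : Subgroup K).map K.subtype) := Q0.2.map _
  have hidx : ¬ 2 ∣ ((Q0 : Subgroup K).map K.subtype).index := by
    rw [Subgroup.index_map_subtype]
    exact Nat.Prime.not_dvd_mul Nat.prime_two Q0.not_dvd_index hK
  refine ⟨hp.toSylow hidx, ?_⟩
  intro q hq
  obtain ⟨q', _, rfl⟩ := (IsPGroup.mem_toSylow hp hidx).mp hq
  exact q'.2

theorem hyp_of_odd_index [Finite G]
    (h : ∀ x : G, (∃ k : ℕ, orderOf x = 2 ^ k) →
      ¬ 2 ∣ (centralizer ({x} : Set G)).index) : Hyp G :=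
  fun x hx => exists_sylow_le_of_odd_index _ (h x hx)

end Cfsg.Agent.Lib.Helper22.TwoCentral
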