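import Mathlib
import Cfsg.Agent.Lib.Helper1.Frattini
import Cfsg.Agent.Lib.Helper22.TwoCentral
import Cfsg.Agent.Lib.Helper10.DihedralRecog

/-!
# An involution whose centralizer is a Sylow 2-subgroup `R` with `Φ(R) = ⟨z⟩`
(helper22 library, used for S5435)
-/

set_option autoImplicit false

namespace Cfsg.Agent.Lib.Helper22.D8Cent

open Subgroup
open scoped Pointwise
open scoped commutatorElement

variable {L : Type*} [Group L]

/-- element-level data of an involution `z` whose centralizer is the Sylow 2-subgroup `R`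
with `Φ(R) = ⟨z⟩`. -/
structure Ctx (z : L) (R : Sylow 2 L) : Prop where
  sq : z * z = 1
  ne : z ≠ 1
  mem : ∀ x, x ∈ (R : Subgroup L) ↔ z * x = x * z
  pw : ∀ x, z * x = x * z → x * x = 1 ∨ x * x = z
  cm : ∀ x y, z * x = x * z → z * y = y * z →
    x * y * x⁻¹ * y⁻¹ = 1 ∨ x * y * x⁻¹ * y⁻¹ = z
  nz : ∀ n, n ∈ normalizer ((R : Subgroup L) : Set L) → z * n = n * z

theorem mem_zpowers_sq {z y : L} (hz : z * z = 1) (hy : y ∈ zpowers z) : y = 1 ∨ y = z := by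
  obtain ⟨k, rfl⟩ := mem_zpowers_iff.mp hy
  have h2 : z ^ (2 : ℤ) = 1 := by
    rw [zpow_ofNat, pow_two, hz]
  have hk : k = k % 2 + 2 * (k / 2) := (Int.emod_add_mul_ediv k 2).symm
  rw [hk, zpow_add, zpow_mul, h2, one_zpow, mul_one]
  rcases Int.emod_two_eq_zero_or_one k with h | h
  · left; rw [h, zpow_zero]
  · right; rw [h, zpow_one]

/-- conjugation by a normalizing element, as an automorphism of the subgroup -/
def conjEquiv (H : Subgroup L) (n : L) (hn : n ∈ normalizer (H : Set L)) : ↥H ≃* ↥H where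
  toFun r := ⟨n * r * n⁻¹, (mem_normalizer_iff.mp hn r).mp r.2⟩
  invFun r := ⟨n⁻¹ * r * n, by
    have := (mem_normalizer_iff.mp hn (n⁻¹ * r * n)).mpr
    apply this
    have e : n * (n⁻¹ * (r : L) * n) * n⁻¹ = r := by group
    rw [e]; exact r.2⟩
  left_inv r := by
    apply Subtype.ext
    simp only
    group
  right_inv r := by
    apply Subtype.ext
    simp only
    group
  map_mul' a b := by
    apply Subtype.ext
    simp only [Subgroup.coe_mul]
    group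

theorem Ctx.of_hyp [Finite L] (z : L) (hz : orderOf z = 2) (R : Sylow 2 L)
    (hR : (R : Subgroup L) = centralizer ({z} : Set L))
    (hΦ : (frattini ↥(R : Subgroup L)).map (R : Subgroup L).subtype = zpowers z) :
    Ctx z R := by
  have : Fact (Nat.Prime 2) := ⟨Nat.prime_two⟩
  have hsq : z * z = 1 := by
    rw [← pow_two, ← hz]; exact pow_orderOf_eq_one z
  have hne : z ≠ 1 := by
    intro h
    rw [h, orderOf_one] at hz
    norm_num at hz
  have hmem : ∀ x, x ∈ (R : Subgroup L) ↔ z * x = x * z := by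
    intro x
    rw [hR]
    exact TwoCentral.mem_cent_single
  have hP : IsPGroup 2 ↥(R : Subgroup L) := R.2
  have hfr : ∀ y : ↥(R : Subgroup L), y ∈ frattini ↥(R : Subgroup L) →
      (y : L) = 1 ∨ (y : L) = z := by
    intro y hy
    have : (y : L) ∈ (frattini ↥(R : Subgroup L)).map (R : Subgroup L).subtype :=
      ⟨y, hy, rfl⟩
    rw [hΦ] at this
    exact mem_zpowers_sq hsq this
  refine ⟨hsq, hne, hmem, ?_, ?_, ?_⟩
  · intro x hx
    have hxR : x ∈ (R : Subgroup L) := (hmem x).mpr hx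
    have h1 := Cfsg.Agent.Lib.Helper1.IsPGroup.pow_mem_frattini hP (⟨x, hxR⟩ : ↥(R : Subgroup L))
    have h2 := hfr _ h1
    simpa [pow_two] using h2
  · intro x y hx hy
    have hxR : x ∈ (R : Subgroup L) := (hmem x).mpr hx
    have hyR : y ∈ (R : Subgroup L) := (hmem y).mpr hy
    have h0 : ⁅(⟨x, hxR⟩ : ↥(R : Subgroup L)), ⟨y, hyR⟩⁆ ∈ commutator ↥(R : Subgroup L) := by
      rw [_root_.commutator_def]
      exact Subgroup.commutator_mem_commutator (Subgroup.mem_top _) (Subgroup.mem_top _)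
    have h1 := Cfsg.Agent.Lib.Helper1.IsPGroup.commutator_le_frattini hP h0
    have h2 := hfr _ h1
    simpa [commutatorElement_def] using h2
  · intro n hn
    have hzR : z ∈ (R : Subgroup L) := (hmem z).mpr rfl
    have hzF : (⟨z, hzR⟩ : ↥(R : Subgroup L)) ∈ frattini ↥(R : Subgroup L) := by
      have : z ∈ (frattini ↥(R : Subgroup L)).map (R : Subgroup L).subtype := by
        rw [hΦ]; exact mem_zpowers z
      obtain ⟨y, hy, hyz⟩ := this
      have : y = ⟨z, hzR⟩ := Subtype.ext hyz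
      rw [← this]; exact hy
    have hchar : (frattini ↥(R : Subgroup L)).Characteristic := frattini_characteristic
    have h1 := (characteristic_iff_map_eq.mp hchar) (conjEquiv (R : Subgroup L) n hn)
    have h2 : conjEquiv (R : Subgroup L) n hn ⟨z, hzR⟩ ∈ frattini ↥(R : Subgroup L) := by
      rw [← h1]
      exact ⟨_, hzF, rfl⟩
    have h3 := hfr _ h2
    have h4 : n * z * n⁻¹ = 1 ∨ n * z * n⁻¹ = z := h3
    rcases h4 with h4 | h4
    · exfalso
      apply hne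
      have : z = n⁻¹ * (n * z * n⁻¹) * n := by group
      rw [this, h4]; group
    · calc z * n = (n * z * n⁻¹) * n := by rw [h4]
        _ = n * z := by group


theorem conj_comm_iff (g z x : L) :
    (g * z * g⁻¹) * x = x * (g * z * g⁻¹) ↔ z * (g⁻¹ * x * g) = (g⁻¹ * x * g) * z := by
  constructor
  · intro hx
    calc z * (g⁻¹ * x * g) = g⁻¹ * ((g * z * g⁻¹) * x) * g := by group
      _ = g⁻¹ * (x * (g * z * g⁻¹)) * g := by rw [hx]
      _ = (g⁻¹ * x * g) * z := by group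
  · intro hx
    calc (g * z * g⁻¹) * x = g * (z * (g⁻¹ * x * g)) * g⁻¹ := by group
      _ = g * ((g⁻¹ * x * g) * z) * g⁻¹ := by rw [hx]
      _ = x * (g * z * g⁻¹) := by group

theorem Ctx.conj [Finite L] {z : L} {R : Sylow 2 L} (h : Ctx z R) (g : L) :
    Ctx (g * z * g⁻¹) (g • R) := by
  have key := conj_comm_iff g z
  refine ⟨?_, ?_, ?_, ?_, ?_, ?_⟩
  · calc (g * z * g⁻¹) * (g * z * g⁻¹) = g * (z * z) * g⁻¹ := by group
      _ = 1 := by rw [h.sq]; group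
  · intro hc
    apply h.ne
    calc z = g⁻¹ * (g * z * g⁻¹) * g := by group
      _ = 1 := by rw [hc]; group
  · intro x
    rw [TwoCentral.mem_smul_sylow, h.mem, key]
  · intro x hx
    rcases h.pw _ ((key x).mp hx) with h1 | h1
    · left
      calc x * x = g * ((g⁻¹ * x * g) * (g⁻¹ * x * g)) * g⁻¹ := by group
        _ = 1 := by rw [h1]; group
    · right
      calc x * x = g * ((g⁻¹ * x * g) * (g⁻¹ * x * g)) * g⁻¹ := by group
        _ = g * z * g⁻¹ := by rw [h1]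
  · intro x y hx hy
    rcases h.cm _ _ ((key x).mp hx) ((key y).mp hy) with h1 | h1
    · left
      calc x * y * x⁻¹ * y⁻¹
          = g * ((g⁻¹ * x * g) * (g⁻¹ * y * g) * (g⁻¹ * x * g)⁻¹ * (g⁻¹ * y * g)⁻¹) * g⁻¹ := by
            group
        _ = 1 := by rw [h1]; group
    · right
      calc x * y * x⁻¹ * y⁻¹
          = g * ((g⁻¹ * x * g) * (g⁻¹ * y * g) * (g⁻¹ * x * g)⁻¹ * (g⁻¹ * y * g)⁻¹) * g⁻¹ := by
            group
        _ = g * z * g⁻¹ := by rw [h1]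
  · intro n hn
    have h1 : n • (g • R) = g • R := Sylow.smul_eq_iff_mem_normalizer.mpr hn
    have h2 : (g⁻¹ * n * g) • R = R := by
      rw [mul_smul, mul_smul, h1, inv_smul_smul]
    have h3 := h.nz _ (Sylow.smul_eq_iff_mem_normalizer.mp h2)
    exact (key n).mpr h3

/-- `w` is a conjugate of `z` -/
def IsK (z w : L) : Prop := ∃ g : L, w = g * z * g⁻¹

theorem isK_self (z : L) : IsK z z := ⟨1, by group⟩

theorem IsK.conj {z w : L} (hw : IsK z w) (x : L) : IsK z (x * w * x⁻¹) := by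
  obtain ⟨g, rfl⟩ := hw
  exact ⟨x * g, by group⟩

theorem IsK.ctx [Finite L] {z w : L} {R : Sylow 2 L} (h : Ctx z R) (hw : IsK z w) :
    ∃ S : Sylow 2 L, Ctx w S := by
  obtain ⟨g, rfl⟩ := hw
  exact ⟨g • R, h.conj g⟩

theorem Ctx.inv_eq {z : L} {R : Sylow 2 L} (h : Ctx z R) : z⁻¹ = z :=
  inv_eq_of_mul_eq_one_left h.sq

/-- a conjugate of `z` that is central in `C(w₁)` is `w₁`. -/
theorem central_eq [Finite L] {z w₁ w₂ : L} {R : Sylow 2 L} (h : Ctx z R)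
    (k₁ : IsK z w₁) (k₂ : IsK z w₂)
    (hc : ∀ x, w₁ * x = x * w₁ → w₂ * x = x * w₂) : w₂ = w₁ := by
  obtain ⟨g₁, rfl⟩ := k₁
  obtain ⟨g₂, rfl⟩ := k₂
  have h1 := h.conj g₁
  have h2 := h.conj g₂
  have hle : ((g₁ • R : Sylow 2 L) : Subgroup L) ≤ ((g₂ • R : Sylow 2 L) : Subgroup L) := by
    intro x hx
    exact (h2.mem x).mpr (hc x ((h1.mem x).mp hx))
  have heq : ((g₂ • R : Sylow 2 L) : Subgroup L) = ((g₁ • R : Sylow 2 L) : Subgroup L) :=
    (g₁ • R).is_maximal' (g₂ • R).2 hle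
  have heq' : g₂ • R = g₁ • R := Sylow.ext heq
  have h3 : (g₂⁻¹ * g₁) • R = R := by
    rw [mul_smul, ← heq', inv_smul_smul]
  have h4 := h.nz _ (Sylow.smul_eq_iff_mem_normalizer.mp h3)
  calc g₂ * z * g₂⁻¹ = g₂ * (z * (g₂⁻¹ * g₁)) * g₁⁻¹ := by group
    _ = g₂ * ((g₂⁻¹ * g₁) * z) * g₁⁻¹ := by rw [h4]
    _ = g₁ * z * g₁⁻¹ := by group


theorem comm_of_commutator_eq_one {x y : L} (h : x * y * x⁻¹ * y⁻¹ = 1) : x * y = y * x := by
  calc x * y = (x * y * x⁻¹ * y⁻¹) * (y * x) := by group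
    _ = y * x := by rw [h, one_mul]

theorem conj_of_commutator_eq {x y w : L} (h : x * y * x⁻¹ * y⁻¹ = w) : x * y * x⁻¹ = w * y := by
  calc x * y * x⁻¹ = (x * y * x⁻¹ * y⁻¹) * y := by group
    _ = w * y := by rw [h]

/-- (L1) an element of `C(w₁)` moving `w₂` to `w₁ w₂`. -/
theorem exists_mover [Finite L] {z w₁ w₂ : L} {R : Sylow 2 L} (h : Ctx z R)
    (k₁ : IsK z w₁) (k₂ : IsK z w₂) (hne : w₂ ≠ w₁) (hc : w₁ * w₂ = w₂ * w₁) :
    ∃ x, w₁ * x = x * w₁ ∧ x * w₂ * x⁻¹ = w₁ * w₂ := by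
  obtain ⟨S₁, h1⟩ := k₁.ctx h
  by_contra hcon
  push Not at hcon
  apply hne
  apply central_eq h k₁ k₂
  intro x hx
  rcases h1.cm x w₂ hx hc with h2 | h2
  · exact (comm_of_commutator_eq_one h2).symm
  · exact absurd (conj_of_commutator_eq h2) (hcon x hx)

/-- (L2a) elements of `C(w₁) ∩ C(w₂)` are involutions. -/
theorem sq_of_comm [Finite L] {z w₁ w₂ f : L} {R : Sylow 2 L} (h : Ctx z R)
    (k₁ : IsK z w₁) (k₂ : IsK z w₂) (hne : w₂ ≠ w₁)
    (h1 : w₁ * f = f * w₁) (h2 : w₂ * f = f * w₂) : f * f = 1 := by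
  obtain ⟨S₁, c1⟩ := k₁.ctx h
  obtain ⟨S₂, c2⟩ := k₂.ctx h
  rcases c1.pw f h1 with h3 | h3
  · exact h3
  · rcases c2.pw f h2 with h4 | h4
    · exact h4
    · exact absurd (h4.symm.trans h3) hne

/-- (L2b) `C(w₁) ∩ C(w₂)` is abelian. -/
theorem comm_of_comm [Finite L] {z w₁ w₂ f f' : L} {R : Sylow 2 L} (h : Ctx z R)
    (k₁ : IsK z w₁) (k₂ : IsK z w₂) (hne : w₂ ≠ w₁)
    (h1 : w₁ * f = f * w₁) (h2 : w₂ * f = f * w₂)
    (h1' : w₁ * f' = f' * w₁) (h2' : w₂ * f' = f' * w₂) : f * f' = f' * f := by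
  obtain ⟨S₁, c1⟩ := k₁.ctx h
  obtain ⟨S₂, c2⟩ := k₂.ctx h
  rcases c1.cm f f' h1 h1' with h3 | h3
  · exact comm_of_commutator_eq_one h3
  · rcases c2.cm f f' h2 h2' with h4 | h4
    · exact comm_of_commutator_eq_one h4
    · exact absurd (h4.symm.trans h3) hne

/-- (L3) `C(w₁) = F ∪ xF` with `F = C(w₁) ∩ C(w₂)`. -/
theorem decomp {w₁ w₂ x y : L} {S₁ : Sylow 2 L} (c1 : Ctx w₁ S₁)
    (hc : w₁ * w₂ = w₂ * w₁) (hx2 : x * w₂ * x⁻¹ = w₁ * w₂)
    (hy : w₁ * y = y * w₁) : w₂ * y = y * w₂ ∨ w₂ * (x⁻¹ * y) = (x⁻¹ * y) * w₂ := by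
  rcases c1.cm y w₂ hy hc with h2 | h2
  · left; exact (comm_of_commutator_eq_one h2).symm
  · right
    have h3 : y * w₂ * y⁻¹ = x * w₂ * x⁻¹ := by
      rw [conj_of_commutator_eq h2, hx2]
    calc w₂ * (x⁻¹ * y) = x⁻¹ * (x * w₂ * x⁻¹) * y := by group
      _ = x⁻¹ * (y * w₂ * y⁻¹) * y := by rw [h3]
      _ = (x⁻¹ * y) * w₂ := by group

/-- (L4) an element of `F` commuting with the mover is central in `C(w₁)`. -/
theorem central_of [Finite L] {z w₁ w₂ x v : L} {R : Sylow 2 L} (h : Ctx z R)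
    (k₁ : IsK z w₁) (k₂ : IsK z w₂) (hne : w₂ ≠ w₁) (hc : w₁ * w₂ = w₂ * w₁)
    (hx : w₁ * x = x * w₁) (hx2 : x * w₂ * x⁻¹ = w₁ * w₂)
    (hv1 : w₁ * v = v * w₁) (hv2 : w₂ * v = v * w₂) (hvx : x * v = v * x) :
    ∀ y, w₁ * y = y * w₁ → v * y = y * v := by
  obtain ⟨S₁, c1⟩ := k₁.ctx h
  intro y hy
  rcases decomp c1 hc hx2 hy with h1 | h1
  · exact comm_of_comm h k₁ k₂ hne hv1 hv2 hy h1
  · have hx' : w₁ * x⁻¹ = x⁻¹ * w₁ := by
      calc w₁ * x⁻¹ = x⁻¹ * (x * w₁) * x⁻¹ := by group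
        _ = x⁻¹ * (w₁ * x) * x⁻¹ := by rw [hx]
        _ = x⁻¹ * w₁ := by group
    have h0 : w₁ * (x⁻¹ * y) = (x⁻¹ * y) * w₁ := by
      rw [← mul_assoc, hx', mul_assoc, hy, mul_assoc]
    have h2 := comm_of_comm h k₁ k₂ hne hv1 hv2 h0 h1
    calc v * y = (v * x) * (x⁻¹ * y) := by group
      _ = x * (v * (x⁻¹ * y)) := by rw [← hvx]; group
      _ = x * ((x⁻¹ * y) * v) := by rw [h2]
      _ = y * v := by group

/-- (P5') three pairwise commuting distinct conjugates of `z`: the third is the product. -/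
theorem third [Finite L] {z w₁ w₂ w₃ : L} {R : Sylow 2 L} (h : Ctx z R)
    (k₁ : IsK z w₁) (k₂ : IsK z w₂) (k₃ : IsK z w₃)
    (n12 : w₂ ≠ w₁) (n13 : w₃ ≠ w₁) (n23 : w₃ ≠ w₂)
    (c12 : w₁ * w₂ = w₂ * w₁) (c13 : w₁ * w₃ = w₃ * w₁) (c23 : w₂ * w₃ = w₃ * w₂) :
    w₃ = w₁ * w₂ := by
  obtain ⟨S₁, c1⟩ := k₁.ctx h
  obtain ⟨S₂, c2⟩ := k₂.ctx h
  obtain ⟨x, hx, hx2⟩ := exists_mover h k₁ k₂ n12 c12
  rcases c1.cm x w₃ hx c13 with h3 | h3
  · -- `w₃` central in `C(w₁)`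
    exfalso
    apply n13
    apply central_eq h k₁ k₃
    intro y hy
    have := central_of h k₁ k₂ n12 c12 hx hx2 c13 c23 (comm_of_commutator_eq_one h3) y hy
    exact this
  · have hx3 : x * w₃ * x⁻¹ = w₁ * w₃ := conj_of_commutator_eq h3
    -- `v = w₂ w₃` is fixed by `x`
    have hv : x * (w₂ * w₃) * x⁻¹ = w₂ * w₃ := by
      calc x * (w₂ * w₃) * x⁻¹ = (x * w₂ * x⁻¹) * (x * w₃ * x⁻¹) := by group
        _ = (w₁ * w₂) * (w₁ * w₃) := by rw [hx2, hx3]
        _ = w₁ * (w₂ * w₁) * w₃ := by group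
        _ = w₁ * (w₁ * w₂) * w₃ := by rw [c12]
        _ = (w₁ * w₁) * (w₂ * w₃) := by group
        _ = w₂ * w₃ := by rw [c1.sq, one_mul]
    have hvx : x * (w₂ * w₃) = (w₂ * w₃) * x := by
      calc x * (w₂ * w₃) = (x * (w₂ * w₃) * x⁻¹) * x := by group
        _ = (w₂ * w₃) * x := by rw [hv]
    have hv1 : w₁ * (w₂ * w₃) = (w₂ * w₃) * w₁ := by
      rw [← mul_assoc, c12, mul_assoc, c13, mul_assoc]
    have hv2 : w₂ * (w₂ * w₃) = (w₂ * w₃) * w₂ := by
      rw [mul_assoc, c23]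
    -- `v` is a conjugate of `z`
    obtain ⟨y, hy, hy2⟩ := exists_mover h k₂ k₃ n23 c23
    have kv : IsK z (w₂ * w₃) := by
      rw [← hy2]; exact k₃.conj y
    have hcen := central_of h k₁ k₂ n12 c12 hx hx2 hv1 hv2 hvx
    have h5 : w₂ * w₃ = w₁ := central_eq h k₁ kv hcen
    calc w₃ = (w₂ * w₂) * w₃ := by rw [c2.sq, one_mul]
      _ = w₂ * (w₂ * w₃) := by group
      _ = w₂ * w₁ := by rw [h5]
      _ = w₁ * w₂ := c12.symm


/-- Fusion of central elements of `R = C(z)`: a conjugate of `u ∈ Z(R)` lying in `R` is `u`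
or `u` times a conjugate of `z`. -/
theorem fusion_central [Finite L] {z u g : L} {R : Sylow 2 L} (h : Ctx z R)
    (hu : ∀ x, z * x = x * z → u * x = x * u)
    (hs : z * (g * u * g⁻¹) = (g * u * g⁻¹) * z) :
    g * u * g⁻¹ = u ∨ ∃ w, IsK z w ∧ w ≠ z ∧ z * w = w * z ∧ g * u * g⁻¹ = u * w := by
  set s := g * u * g⁻¹ with hsdef
  -- Step 1: extremal choice of the conjugating element
  have hS0 : ((g • R : Sylow 2 L) : Subgroup L) ≤ centralizer ({s} : Set L) := by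
    intro x hx
    rw [TwoCentral.mem_cent_single]
    rw [TwoCentral.mem_smul_sylow, h.mem] at hx
    exact (conj_comm_iff g u x).mpr (hu _ hx)
  have hzs : z ∈ centralizer ({s} : Set L) := by
    rw [TwoCentral.mem_cent_single]; exact hs.symm
  have hz2 : z ^ (2 ^ 1) = 1 := by rw [pow_one, pow_two, h.sq]
  obtain ⟨Q, hQ, hzQ⟩ := TwoCentral.exists_sylow_le_mem (g • R) hS0 hzs hz2
  obtain ⟨g₁, hg₁⟩ := MulAction.exists_smul_eq L R Q
  have hRu : (R : Subgroup L) ≤ centralizer ({u} : Set L) := by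
    intro x hx
    rw [TwoCentral.mem_cent_single]
    exact hu x ((h.mem x).mp hx)
  have hRu₁ : (R : Subgroup L) ≤ centralizer ({g₁⁻¹ * s * g₁} : Set L) := by
    intro x hx
    rw [TwoCentral.mem_cent_single]
    have h1 : g₁ * x * g₁⁻¹ ∈ (Q : Subgroup L) := by
      rw [← hg₁, TwoCentral.mem_smul_sylow]
      have e : g₁⁻¹ * (g₁ * x * g₁⁻¹) * g₁ = x := by group
      rw [e]; exact hx
    have h2 := TwoCentral.mem_cent_single.mp (hQ h1)
    calc g₁⁻¹ * s * g₁ * x = g₁⁻¹ * (s * (g₁ * x * g₁⁻¹)) * g₁ := by group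
      _ = g₁⁻¹ * ((g₁ * x * g₁⁻¹) * s) * g₁ := by rw [h2]
      _ = x * (g₁⁻¹ * s * g₁) := by group
  have hk : (g⁻¹ * g₁)⁻¹ * u * (g⁻¹ * g₁) = g₁⁻¹ * s * g₁ := by
    rw [hsdef]; group
  obtain ⟨n, hn, hnu⟩ := TwoCentral.burnside R hRu hRu₁ hk
  have hnz := h.nz n hn
  have hnu' := hu n hnz
  have hu₁ : g₁⁻¹ * s * g₁ = u := by
    rw [← hnu]
    calc n⁻¹ * u * n = n⁻¹ * (u * n) := by group
      _ = n⁻¹ * (n * u) := by rw [hnu']
      _ = u := by group
  have hs₁ : s = g₁ * u * g₁⁻¹ := by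
    rw [← hu₁]; group
  have hzz' : z * (g₁ * z * g₁⁻¹) = (g₁ * z * g₁⁻¹) * z := by
    have h1 : g₁⁻¹ * z * g₁ ∈ (R : Subgroup L) := by
      rw [← TwoCentral.mem_smul_sylow, hg₁]; exact hzQ
    exact ((conj_comm_iff g₁ z z).mpr ((h.mem _).mp h1)).symm
  -- Step 2
  set z' := g₁ * z * g₁⁻¹ with hz'def
  have k' : IsK z z' := ⟨g₁, rfl⟩
  by_cases hzeq : z' = z
  · left
    have h1 : z * g₁ = g₁ * z := by
      calc z * g₁ = z' * g₁ := by rw [hzeq]
        _ = g₁ * z := by rw [hz'def]; group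
    have h2 := hu g₁ h1
    rw [hs₁]
    calc g₁ * u * g₁⁻¹ = (g₁ * u) * g₁⁻¹ := by group
      _ = (u * g₁) * g₁⁻¹ := by rw [h2]
      _ = u := by group
  · obtain ⟨r₀, hr₀, hr₀2⟩ := exists_mover h (isK_self z) k' hzeq hzz'
    obtain ⟨x₀, hx₀, hx₀2⟩ := exists_mover h k' (isK_self z) (Ne.symm hzeq) hzz'.symm
    obtain ⟨S', c'⟩ := k'.ctx h
    have hr₀z : r₀ * z * r₀⁻¹ = z := by
      calc r₀ * z * r₀⁻¹ = (r₀ * z) * r₀⁻¹ := by group
        _ = (z * r₀) * r₀⁻¹ := by rw [hr₀]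
        _ = z := by group
    have hh₁ : (r₀ * x₀) * z * (r₀ * x₀)⁻¹ = z' := by
      calc (r₀ * x₀) * z * (r₀ * x₀)⁻¹ = r₀ * (x₀ * z * x₀⁻¹) * r₀⁻¹ := by group
        _ = r₀ * (z' * z) * r₀⁻¹ := by rw [hx₀2]
        _ = (r₀ * z' * r₀⁻¹) * (r₀ * z * r₀⁻¹) := by group
        _ = (z * z') * z := by rw [hr₀2, hr₀z]
        _ = z' * (z * z) := by rw [hzz']; group
        _ = z' := by rw [h.sq, mul_one]
    have hcomm : z * ((r₀ * x₀)⁻¹ * g₁) = ((r₀ * x₀)⁻¹ * g₁) * z := by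
      have e1 : g₁ * z = z' * g₁ := by rw [hz'def]; group
      have e2 : z * (r₀ * x₀)⁻¹ = (r₀ * x₀)⁻¹ * z' := by
        rw [← hh₁]; group
      calc z * ((r₀ * x₀)⁻¹ * g₁) = (z * (r₀ * x₀)⁻¹) * g₁ := by group
        _ = (r₀ * x₀)⁻¹ * (z' * g₁) := by rw [e2]; group
        _ = (r₀ * x₀)⁻¹ * (g₁ * z) := by rw [e1]
        _ = ((r₀ * x₀)⁻¹ * g₁) * z := by group
    have hucomm := hu _ hcomm
    have hs₂ : s = (r₀ * x₀) * u * (r₀ * x₀)⁻¹ := by
      rw [hs₁]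
      calc g₁ * u * g₁⁻¹
          = (r₀ * x₀) * (((r₀ * x₀)⁻¹ * g₁) * u) * g₁⁻¹ := by group
        _ = (r₀ * x₀) * (u * ((r₀ * x₀)⁻¹ * g₁)) * g₁⁻¹ := by rw [hucomm]
        _ = (r₀ * x₀) * u * (r₀ * x₀)⁻¹ := by group
    have huz' : z' * u = u * z' := (hu z' hzz').symm
    have hr₀u : r₀ * u * r₀⁻¹ = u := by
      have := hu r₀ hr₀
      calc r₀ * u * r₀⁻¹ = (r₀ * u) * r₀⁻¹ := by group
        _ = (u * r₀) * r₀⁻¹ := by rw [this]
        _ = u := by group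
    rcases c'.cm x₀ u hx₀ huz' with h3 | h3
    · left
      have h4 : x₀ * u = u * x₀ := comm_of_commutator_eq_one h3
      rw [hs₂]
      calc (r₀ * x₀) * u * (r₀ * x₀)⁻¹ = r₀ * ((x₀ * u) * x₀⁻¹) * r₀⁻¹ := by group
        _ = r₀ * ((u * x₀) * x₀⁻¹) * r₀⁻¹ := by rw [h4]
        _ = r₀ * u * r₀⁻¹ := by group
        _ = u := hr₀u
    · right
      have h4 : x₀ * u * x₀⁻¹ = z' * u := conj_of_commutator_eq h3
      refine ⟨z * z', ?_, ?_, ?_, ?_⟩
      · rw [← hr₀2]; exact k'.conj r₀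
      · intro hc
        apply c'.ne
        calc z' = (z * z) * z' := by rw [h.sq, one_mul]
          _ = z * (z * z') := by group
          _ = z * z := by rw [hc]
          _ = 1 := h.sq
      · calc z * (z * z') = z * (z' * z) := by rw [hzz']
          _ = (z * z') * z := by group
      · rw [hs₂]
        calc (r₀ * x₀) * u * (r₀ * x₀)⁻¹ = r₀ * (x₀ * u * x₀⁻¹) * r₀⁻¹ := by group
          _ = r₀ * (z' * u) * r₀⁻¹ := by rw [h4]
          _ = (r₀ * z' * r₀⁻¹) * (r₀ * u * r₀⁻¹) := by group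
          _ = (z * z') * u := by rw [hr₀2, hr₀u]
          _ = z * (z' * u) := by group
          _ = z * (u * z') := by rw [huz']
          _ = (z * u) * z' := by group
          _ = (u * z) * z' := by rw [hu z rfl]
          _ = u * (z * z') := by group

/-- (Lemma V) a maximal subgroup containing `N ⊇ Φ(P)` and avoiding `u ∉ N`. -/
theorem exists_relIndex_two {G : Type*} [Group G] [Finite G] (P N : Subgroup G) (hNP : N ≤ P)
    (hsq : ∀ x ∈ P, x * x ∈ N) (hcm : ∀ x ∈ P, ∀ y ∈ P, x * y * x⁻¹ * y⁻¹ ∈ N)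
    (u : G) (huP : u ∈ P) (huN : u ∉ N) :
    ∃ M : Subgroup G, N ≤ M ∧ M ≤ P ∧ M.relIndex P = 2 ∧ u ∉ M := by
  obtain ⟨M, ⟨hNM, hMP, huM⟩, hmax⟩ := Set.exists_max_image
    {M : Subgroup G | N ≤ M ∧ M ≤ P ∧ u ∉ M} (fun M => Nat.card M) (Set.toFinite _)
    ⟨N, le_refl _, hNP, huN⟩
  have hnorm : ∀ x ∈ P, ∀ m ∈ M, x * m * x⁻¹ ∈ M := by
    intro x hx m hm
    have h1 := hNM (hcm x hx m (hMP hm))
    have e : x * m * x⁻¹ = (x * m * x⁻¹ * m⁻¹) * m := by group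
    rw [e]; exact M.mul_mem h1 hm
  have key : ∀ r ∈ P, r ∉ M → r * u ∈ M := by
    intro r hr hrM
    have hr2 : r * r ∈ M := hNM (hsq r hr)
    have hrinv : r⁻¹ ∈ P := P.inv_mem hr
    let M' : Subgroup G :=
      { carrier := {x | x ∈ M ∨ r * x ∈ M}
        one_mem' := Or.inl M.one_mem
        mul_mem' := by
          rintro x y (hx | hx) (hy | hy)
          · exact Or.inl (M.mul_mem hx hy)
          · right
            have e : r * (x * y) = (r * x * r⁻¹) * (r * y) := by group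
            rw [e]; exact M.mul_mem (hnorm r hr x hx) hy
          · right
            have e : r * (x * y) = (r * x) * y := by group
            rw [e]; exact M.mul_mem hx hy
          · left
            have h1 : r⁻¹ * (r * x) * r⁻¹⁻¹ ∈ M := hnorm r⁻¹ hrinv _ hx
            have e : x * y = (r⁻¹ * (r * x) * r⁻¹⁻¹) * (r * r)⁻¹ * (r * y) := by group
            rw [e]; exact M.mul_mem (M.mul_mem h1 (M.inv_mem hr2)) hy
        inv_mem' := by
          rintro x (hx | hx)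
          · exact Or.inl (M.inv_mem hx)
          · right
            have h1 : r * (r * x)⁻¹ * r⁻¹ ∈ M := hnorm r hr _ (M.inv_mem hx)
            have e : r * x⁻¹ = (r * (r * x)⁻¹ * r⁻¹) * (r * r) := by group
            rw [e]; exact M.mul_mem h1 hr2 }
    have hMM' : M ≤ M' := fun x hx => Or.inl hx
    have hrM' : r ∈ M' := Or.inr hr2
    have hM'P : M' ≤ P := by
      rintro x (hx | hx)
      · exact hMP hx
      · have e : x = r⁻¹ * (r * x) := by group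
        rw [e]; exact P.mul_mem hrinv (hMP hx)
    by_contra hru
    have huM' : u ∉ M' := by
      rintro (h1 | h1)
      · exact huM h1
      · exact hru h1
    have hle := hmax M' ⟨hNM.trans hMM', hM'P, huM'⟩
    have heq : M = M' := Subgroup.eq_of_le_of_card_ge hMM' hle
    exact hrM (heq ▸ hrM')
  refine ⟨M, hNM, hMP, ?_, huM⟩
  rw [Subgroup.relIndex, Subgroup.index_eq_two_iff]
  refine ⟨⟨u, huP⟩, ?_⟩
  intro b
  by_cases hb : (b : G) ∈ M
  · right
    refine ⟨Subgroup.mem_subgroupOf.mpr hb, ?_⟩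
    intro h1
    have h2 : (b : G) * u ∈ M := Subgroup.mem_subgroupOf.mp h1
    apply huM
    have e : u = (b : G)⁻¹ * ((b : G) * u) := by group
    rw [e]; exact M.mul_mem (M.inv_mem hb) h2
  · left
    refine ⟨Subgroup.mem_subgroupOf.mpr (key b b.2 hb), ?_⟩
    intro h1
    exact hb (Subgroup.mem_subgroupOf.mp h1)

end Cfsg.Agent.Lib.Helper22.D8Cent
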