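import Mathlib
import Cfsg.Agent.Lib.Helper22.D8Cent
import Cfsg.Agent.S0215
import Cfsg.Agent.S0111

/-!
# Simple groups with an involution centralizer `R ∈ Syl₂` and `Φ(R) = ⟨z⟩`: `R ≅ D₈`
(helper22 library, used for S5435)
-/

set_option autoImplicit false

namespace Cfsg.Agent.Lib.Helper22.D8Cent

open Subgroup
open scoped Pointwise

variable {L : Type*} [Group L]

theorem d4_center : ∀ g : DihedralGroup 4, (∀ k : DihedralGroup 4, g * k = k * g) →
    g = 1 ∨ g = DihedralGroup.r 2 := by decide

/-- a nonabelian simple group has no normal subgroup of index two -/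
theorem no_index_two [Finite L] [IsSimpleGroup L] (hL : ¬ IsMulCommutative L) :
    ¬ ∃ M : Subgroup L, M.Normal ∧ M.index = 2 := by
  rintro ⟨M, hM, hidx⟩
  rcases hM.eq_bot_or_eq_top with h | h
  · rw [h, Subgroup.index_bot] at hidx
    apply hL
    rw [isMulCommutative_iff]
    have : Fact (Nat.Prime 2) := ⟨Nat.prime_two⟩
    have hcyc : IsCyclic L := isCyclic_of_prime_card (p := 2) hidx
    obtain ⟨g, hg⟩ := hcyc.exists_generator
    intro a b
    obtain ⟨i, rfl⟩ := Subgroup.mem_zpowers_iff.mp (hg a)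
    obtain ⟨j, rfl⟩ := Subgroup.mem_zpowers_iff.mp (hg b)
    rw [← zpow_add, ← zpow_add, add_comm]
  · rw [h, Subgroup.index_top] at hidx
    norm_num at hidx

theorem not_central [IsSimpleGroup L] (hL : ¬ IsMulCommutative L) {z : L} (hz : z ≠ 1) :
    ¬ ∀ g, z * g = g * z := by
  intro hc
  have hzc : z ∈ center L := by
    rw [Subgroup.mem_center_iff]; intro g; exact (hc g).symm
  rcases (inferInstance : (center L).Normal).eq_bot_or_eq_top with h | h
  · rw [h, Subgroup.mem_bot] at hzc; exact hz hzc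
  · apply hL
    rw [isMulCommutative_iff]
    intro a b
    have : a ∈ center L := by rw [h]; exact Subgroup.mem_top a
    exact (Subgroup.mem_center_iff.mp this b).symm

/-- by Glauberman's `Z*`-theorem `z` is fused to another element of `R` -/
theorem exists_fused [Finite L] [IsSimpleGroup L] (hL : ¬ IsMulCommutative L) {z : L}
    {R : Sylow 2 L} (h : Ctx z R) (hz : orderOf z = 2) :
    ∃ t, IsK z t ∧ t ≠ z ∧ z * t = t * z := by
  by_contra hcon
  push Not at hcon
  have hzR : z ∈ R := (h.mem z).mpr rfl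
  have hiso : ∀ g : L, g * z * g⁻¹ ∈ R → g * z * g⁻¹ = z := by
    intro g hg
    by_contra hne
    exact hcon (g * z * g⁻¹) ⟨g, rfl⟩ hne ((h.mem _).mp hg)
  obtain ⟨N, hN, hodd, hcomm⟩ := Cfsg.Agent.S0215.result R z hz hzR hiso
  rcases hN.eq_bot_or_eq_top with hb | ht
  · apply not_central hL h.ne
    intro g
    have := hcomm g
    rw [hb, Subgroup.mem_bot] at this
    calc z * g = (z * g * z⁻¹ * g⁻¹) * (g * z) := by group
      _ = g * z := by rw [this, one_mul]
  · rw [ht, Subgroup.card_top] at hodd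
    have h2 : 2 ∣ Nat.card L := by rw [← hz]; exact orderOf_dvd_natCard z
    exact (Nat.not_even_iff_odd.mpr hodd) (even_iff_two_dvd.mpr h2)


theorem main [Finite L] [IsSimpleGroup L] (hL : ¬ IsMulCommutative L) (z : L)
    (hz : orderOf z = 2) (R : Sylow 2 L)
    (hR : (R : Subgroup L) = centralizer ({z} : Set L))
    (hΦ : (frattini ↥(R : Subgroup L)).map (R : Subgroup L).subtype = zpowers z) :
    Nonempty (↥(R : Subgroup L) ≃* DihedralGroup 4) := by
  have : Fact (Nat.Prime 2) := ⟨Nat.prime_two⟩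
  have h : Ctx z R := Ctx.of_hyp z hz R hR hΦ
  have kz := isK_self z
  obtain ⟨t, kt, htz, hzt⟩ := exists_fused hL h hz
  obtain ⟨St, ct⟩ := kt.ctx h
  obtain ⟨a, haz, hat⟩ := exists_mover h kz kt htz hzt
  have hti : t⁻¹ = t := ct.inv_eq
  -- an involution of `R` outside `D = C(z) ∩ C(t)`
  have hw₀ : ∃ w₀, z * w₀ = w₀ * z ∧ w₀ * w₀ = 1 ∧ w₀ * t * w₀⁻¹ = z * t := by
    rcases h.pw a haz with ha2 | ha2
    · exact ⟨a, haz, ha2, hat⟩
    · refine ⟨a * t, ?_, ?_, ?_⟩
      · rw [← mul_assoc, haz, mul_assoc, hzt, mul_assoc]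
      · calc a * t * (a * t) = (a * t * a⁻¹) * (a * a) * t := by group
          _ = (z * t) * z * t := by rw [hat, ha2]
          _ = z * (t * z) * t := by group
          _ = z * (z * t) * t := by rw [hzt]
          _ = (z * z) * (t * t) := by group
          _ = 1 := by rw [h.sq, ct.sq, one_mul]
      · calc a * t * t * (a * t)⁻¹ = a * t * a⁻¹ := by group
          _ = z * t := hat
  -- the good involution
  have hw : ∃ w, z * w = w * z ∧ w * w = 1 ∧ w * t * w⁻¹ = z * t ∧
      ∀ z'', IsK z z'' → z * z'' = z'' * z → t * z'' ≠ z'' * t → w * z'' = z'' * w →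
        z'' = w ∨ z'' = z * w := by
    by_cases hII : ∃ w, IsK z w ∧ z * w = w * z ∧ t * w ≠ w * t
    · obtain ⟨w, kw, hzw, htw⟩ := hII
      obtain ⟨Sw, cw⟩ := kw.ctx h
      have hwz : w ≠ z := by
        rintro rfl
        exact htw hzt.symm
      refine ⟨w, hzw, cw.sq, ?_, ?_⟩
      · rcases h.cm w t hzw hzt with h1 | h1
        · exact absurd (comm_of_commutator_eq_one h1).symm htw
        · exact conj_of_commutator_eq h1
      · intro z'' kz'' hzz'' htz'' hwz''
        by_cases h1 : z'' = w
        · left; exact h1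
        · right
          have h2 : z'' ≠ z := by
            rintro rfl
            exact htz'' hzt.symm
          exact third h kz kw kz'' hwz h2 h1 hzw hzz'' hwz''
    · obtain ⟨w₀, h1, h2, h3⟩ := hw₀
      refine ⟨w₀, h1, h2, h3, ?_⟩
      intro z'' kz'' hzz'' htz'' _
      exact absurd ⟨z'', kz'', hzz'', htz''⟩ hII
  obtain ⟨w, hzw, hww, hwt, Hw⟩ := hw
  have hwi : w⁻¹ = w := inv_eq_of_mul_eq_one_left hww
  -- D = C(z) ∩ C(t)
  have sqD : ∀ f, z * f = f * z → t * f = f * t → f * f = 1 :=
    fun f h1 h2 => sq_of_comm h kz kt htz h1 h2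
  have cenD : ∀ v, z * v = v * z → t * v = v * t → w * v = v * w →
      ∀ y, z * y = y * z → v * y = y * v :=
    fun v h1 h2 h3 => central_of h kz kt htz hzt hzw hwt h1 h2 h3
  have DecD : ∀ d, z * d = d * z → t * d = d * t →
      ∃ c, (∀ y, z * y = y * z → c * y = y * c) ∧ (d = c ∨ d = t * c) := by
    intro d hd1 hd2
    rcases h.cm w d hzw hd1 with h1 | h1
    · exact ⟨d, cenD d hd1 hd2 (comm_of_commutator_eq_one h1), Or.inl rfl⟩
    · have h2 : w * d * w⁻¹ = z * d := conj_of_commutator_eq h1
      refine ⟨t * d, cenD (t * d) ?_ ?_ ?_, Or.inr ?_⟩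
      · rw [← mul_assoc, hzt, mul_assoc, hd1, mul_assoc]
      · rw [mul_assoc, hd2]
      · have h3 : w * (t * d) * w⁻¹ = t * d := by
          calc w * (t * d) * w⁻¹ = (w * t * w⁻¹) * (w * d * w⁻¹) := by group
            _ = (z * t) * (z * d) := by rw [hwt, h2]
            _ = z * (t * z) * d := by group
            _ = z * (z * t) * d := by rw [hzt]
            _ = (z * z) * (t * d) := by group
            _ = t * d := by rw [h.sq, one_mul]
        calc w * (t * d) = (w * (t * d) * w⁻¹) * w := by group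
          _ = (t * d) * w := by rw [h3]
      · calc d = (t * t) * d := by rw [ct.sq, one_mul]
          _ = t * (t * d) := by group
  have Dec : ∀ r, z * r = r * z → ∃ c, (∀ y, z * y = y * z → c * y = y * c) ∧
      (r = c ∨ r = t * c ∨ r = w * c ∨ r = w * t * c) := by
    intro r hr
    rcases decomp h hzt hwt hr with h1 | h1
    · obtain ⟨c, hc, h2 | h2⟩ := DecD r hr h1
      · exact ⟨c, hc, Or.inl h2⟩
      · exact ⟨c, hc, Or.inr (Or.inl h2)⟩
    · have hr' : z * (w⁻¹ * r) = (w⁻¹ * r) * z := by
        rw [hwi, ← mul_assoc, hzw, mul_assoc, hr, mul_assoc]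
      obtain ⟨c, hc, h2 | h2⟩ := DecD (w⁻¹ * r) hr' h1
      · refine ⟨c, hc, Or.inr (Or.inr (Or.inl ?_))⟩
        rw [← h2]; group
      · refine ⟨c, hc, Or.inr (Or.inr (Or.inr ?_))⟩
        calc r = w * (w⁻¹ * r) := by group
          _ = w * (t * c) := by rw [h2]
          _ = w * t * c := by group
  -- the dihedral subgroup `E = ⟨t, w⟩`
  have hx2 : (t * w) * (t * w) = z := by
    calc (t * w) * (t * w) = t * (w * t * w⁻¹) * (w * w) := by group
      _ = t * (z * t) := by rw [hwt, hww, mul_one]
      _ = (t * z) * t := by group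
      _ = (z * t) * t := by rw [hzt]
      _ = z * (t * t) := by group
      _ = z := by rw [ct.sq, mul_one]
  have htw : t * w ≠ w * t := by
    intro hc
    have h1 : w * t * w⁻¹ = t := by rw [← hc]; group
    rw [hwt] at h1
    apply h.ne
    calc z = (z * t) * t⁻¹ := by group
      _ = t * t⁻¹ := by rw [h1]
      _ = 1 := by group
  have hord : orderOf (t * w) = 4 := by
    have e2 : (t * w) ^ 2 = z := by rw [pow_two, hx2]
    have h1 : ¬ (t * w) ^ 2 ^ 1 = 1 := by rw [pow_one, e2]; exact h.ne
    have h2 : (t * w) ^ 2 ^ (1 + 1) = 1 := by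
      have e4 : (2 : ℕ) ^ (1 + 1) = 2 * 2 := by norm_num
      rw [e4, pow_mul, e2, pow_two, h.sq]
    have h3 := orderOf_eq_prime_pow h1 h2
    rw [h3]; norm_num
  have hinv : t * (t * w) * t⁻¹ = (t * w)⁻¹ := by
    rw [mul_inv_rev, hwi, hti]
    calc t * (t * w) * t = (t * t) * w * t := by group
      _ = w * t := by rw [ct.sq, one_mul]
  have hta : t ∉ zpowers (t * w) := by
    intro hmem
    obtain ⟨k, hk⟩ := mem_zpowers_iff.mp hmem
    have hc : Commute ((t * w) ^ k) (t * w) := (Commute.refl (t * w)).zpow_left k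
    rw [hk] at hc
    apply htw
    have h1 : t * (t * w) = t * (w * t) := by rw [hc.eq]; group
    exact mul_left_cancel h1
  obtain ⟨e⟩ := Cfsg.Agent.Lib.Helper10.nonempty_mulEquiv_dihedralGroup 4 t (t * w) hord ct.sq
    hinv hta
  set E : Subgroup L := zpowers t ⊔ zpowers (t * w) with hE
  have htE : t ∈ E := (le_sup_left : zpowers t ≤ E) (mem_zpowers t)
  have hxE : t * w ∈ E := (le_sup_right : zpowers (t * w) ≤ E) (mem_zpowers _)
  have hwE : w ∈ E := by
    have e1 : w = t⁻¹ * (t * w) := by group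
    rw [e1]; exact E.mul_mem (E.inv_mem htE) hxE
  have hzE : z ∈ E := by rw [← hx2]; exact E.mul_mem hxE hxE
  have hER : E ≤ (R : Subgroup L) := by
    apply sup_le
    · rw [zpowers_le]; exact (h.mem t).mpr hzt
    · rw [zpowers_le]; apply (h.mem _).mpr
      rw [← mul_assoc, hzt, mul_assoc, hzw, mul_assoc]
  -- all conjugates of `z` in `R` lie in `E`
  have Class : ∀ z'', IsK z z'' → z * z'' = z'' * z → z'' ∈ E := by
    intro z'' kz'' hzz''
    obtain ⟨S'', c''⟩ := kz''.ctx h
    by_cases h1 : z'' = z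
    · rw [h1]; exact hzE
    by_cases h2 : t * z'' = z'' * t
    · by_cases h3 : z'' = t
      · rw [h3]; exact htE
      · have h4 := third h kz kt kz'' htz h1 h3 hzt hzz'' h2
        rw [h4]; exact E.mul_mem hzE htE
    · obtain ⟨c, hc, h3 | h3 | h3 | h3⟩ := Dec z'' hzz''
      · exfalso; apply h2
        rw [h3]; exact (hc t hzt).symm
      · exfalso; apply h2
        rw [h3]
        have h4 := hc t hzt
        rw [mul_assoc, h4]
      · have hcw : c * w = w * c := hc w hzw
        have h4 : w * z'' = z'' * w := by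
          rw [h3, mul_assoc, hcw]
        rcases Hw z'' kz'' hzz'' h2 h4 with h5 | h5
        · rw [h5]; exact hwE
        · rw [h5]; exact E.mul_mem hzE hwE
      · exfalso
        have hcc : c * c = 1 := sqD c (hc z rfl).symm (hc t hzt).symm
        have hsq : z'' * z'' = z := by
          rw [h3]
          have hc1 : c * (w * t) = (w * t) * c :=
            hc (w * t) (by rw [← mul_assoc, hzw, mul_assoc, hzt, mul_assoc])
          calc w * t * c * (w * t * c) = (w * t) * (c * (w * t)) * c := by group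
            _ = (w * t) * ((w * t) * c) * c := by rw [hc1]
            _ = (w * t * w⁻¹) * (w * w) * t * (c * c) := by group
            _ = (z * t) * t := by rw [hwt, hww, hcc, mul_one, mul_one]
            _ = z * (t * t) := by group
            _ = z := by rw [ct.sq, mul_one]
        rw [c''.sq] at hsq
        exact h.ne hsq.symm
  -- the centre of `R` is `⟨z⟩`
  have Cen : ∀ u, (∀ y, z * y = y * z → u * y = y * u) → u = 1 ∨ u = z := by
    intro u hu
    by_contra hcon
    push Not at hcon
    obtain ⟨hu1, huz⟩ := hcon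
    have huR : u ∈ (R : Subgroup L) := (h.mem u).mpr (hu z rfl).symm
    have huu : u * u = 1 := sqD u (hu z rfl).symm (hu t hzt).symm
    have hord2 : orderOf u = 2 := orderOf_eq_prime (by rw [pow_two]; exact huu) hu1
    have huE : u ∉ E := by
      intro hmem
      have hcu : ∀ g : ↥E, (⟨u, hmem⟩ : ↥E) * g = g * ⟨u, hmem⟩ := by
        intro g
        apply Subtype.ext
        exact hu g ((h.mem _).mp (hER g.2))
      have hcz : ∀ g : ↥E, (⟨z, hzE⟩ : ↥E) * g = g * ⟨z, hzE⟩ := by
        intro g
        apply Subtype.ext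
        exact (h.mem _).mp (hER g.2)
      have hcu' : ∀ k : DihedralGroup 4, e ⟨u, hmem⟩ * k = k * e ⟨u, hmem⟩ := by
        intro k
        have h1 := congrArg e (hcu (e.symm k))
        simpa using h1
      have hcz' : ∀ k : DihedralGroup 4, e ⟨z, hzE⟩ * k = k * e ⟨z, hzE⟩ := by
        intro k
        have h1 := congrArg e (hcz (e.symm k))
        simpa using h1
      have hz' : e ⟨z, hzE⟩ = DihedralGroup.r 2 := by
        rcases d4_center _ hcz' with h1 | h1
        · exfalso
          have h2 : (⟨z, hzE⟩ : ↥E) = 1 := by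
            apply e.injective; rw [h1, map_one]
          exact h.ne (congrArg Subtype.val h2)
        · exact h1
      rcases d4_center _ hcu' with h1 | h1
      · have h2 : (⟨u, hmem⟩ : ↥E) = 1 := by
          apply e.injective; rw [h1, map_one]
        exact hu1 (congrArg Subtype.val h2)
      · have h2 : (⟨u, hmem⟩ : ↥E) = ⟨z, hzE⟩ := by
          apply e.injective; rw [h1, hz']
        exact huz (congrArg Subtype.val h2)
    obtain ⟨M, hEM, hMR, hidx, huM⟩ := exists_relIndex_two (R : Subgroup L) E hER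
      (fun x hx => by
        rcases h.pw x ((h.mem x).mp hx) with h1 | h1
        · rw [h1]; exact E.one_mem
        · rw [h1]; exact hzE)
      (fun x hx y hy => by
        rcases h.cm x y ((h.mem x).mp hx) ((h.mem y).mp hy) with h1 | h1
        · rw [h1]; exact E.one_mem
        · rw [h1]; exact hzE)
      u huR huE
    rcases Cfsg.Agent.S0111.result R M hMR hidx u hord2 huR huM with h1 | ⟨g, hg⟩
    · obtain ⟨M', hM'n, hM'i, _⟩ := h1
      exact no_index_two hL ⟨M', hM'n, hM'i⟩
    · have hgR : z * (g * u * g⁻¹) = (g * u * g⁻¹) * z := (h.mem _).mp (hMR hg)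
      rcases fusion_central h hu hgR with h2 | ⟨w', kw', _, hzw', h2⟩
      · rw [h2] at hg; exact huM hg
      · have hw'M : w' ∈ M := hEM (Class w' kw' hzw')
        apply huM
        have e1 : u = (g * u * g⁻¹) * w'⁻¹ := by rw [h2]; group
        rw [e1]; exact M.mul_mem hg (M.inv_mem hw'M)
  have hRE : (R : Subgroup L) = E := by
    apply le_antisymm _ hER
    intro r hr
    obtain ⟨c, hc, h3⟩ := Dec r ((h.mem r).mp hr)
    have hcE : c ∈ E := by
      rcases Cen c hc with h1 | h1
      · rw [h1]; exact E.one_mem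
      · rw [h1]; exact hzE
    rcases h3 with h3 | h3 | h3 | h3
    · rw [h3]; exact hcE
    · rw [h3]; exact E.mul_mem htE hcE
    · rw [h3]; exact E.mul_mem hwE hcE
    · rw [h3]; exact E.mul_mem (E.mul_mem hwE htE) hcE
  exact ⟨(MulEquiv.subgroupCongr hRE).trans e⟩

end Cfsg.Agent.Lib.Helper22.D8Cent
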