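import Cfsg.Agent.Lib.Helper22.SLCCChk
import Cfsg.Agent.Lib.Helper22.StCCBBTE78

set_option autoImplicit false
set_option maxRecDepth 100000

/-! Table fact `CanP` for `chevE7`: literal reference decompositions, adjacency checked in slices of rows by `decide +kernel`. -/

namespace Cfsg.Agent.Lib.Helper10.E8CC.Helper22

open Cfsg.Lie Cfsg.Agent.Lib.Helper8.Chev Cfsg.Agent.Lib.Helper14.StCC
open Cfsg.Agent.Lib.Helper14.StCC.B.Helper22

/-- reference decompositions of the roots of `chevE7` -/
def refsE7 : List (ℕ × ℕ) := [(1, 32), (0, 93), (0, 94), (0, 95), (0, 96), (0, 97), (0, 98), (0, 99), (0, 100), (0, 101), (0, 102), (0, 103), (0, 104), (0, 105), (0, 106), (0, 107), (0, 108), (0, 109), (0, 110), (0, 111), (0, 112), (0, 113), (0, 114), (0, 115), (0, 116), (0, 117), (0, 118), (0, 119), (0, 120), (0, 121), (0, 122), (0, 123), (0, 124), (1, 109), (1, 110), (1, 111), (1, 112), (1, 113), (1, 114), (1, 115), (1, 116), (1, 117), (1, 118), (2, 115), (2, 116), (2, 117), (2, 118), (3, 118), (1, 119), (1, 120), (1, 121), (1, 122), (1, 123),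 (2, 119), (2, 120), (2, 121), (2, 122), (3, 119), (3, 120), (3, 121), (4, 119), (4, 120), (5, 119), (6, 120), (5, 121), (6, 121), (4, 122), (5, 122), (6, 122), (3, 123), (4, 123), (5, 123), (6, 123), (2, 124), (3, 124), (4, 124), (5, 124), (6, 124), (7, 122), (7, 123), (8, 123), (9, 123), (10, 123), (7, 124), (8, 124), (9, 124), (10, 124), (11, 124), (12, 124), (13, 124), (14, 124), (15, 124), (16, 124), (1, 125), (2, 125), (3, 125), (4, 125), (5, 125), (6, 125), (7, 125), (8, 125), (9, 125), (10, 125), (11, 125), (12, 125), (13, 125), (14, 125), (15, 125), (16, 125), (17, 125), (18, 125), (19, 125), (20, 125), (21, 125), (22, 125), (23, 125), (24, 125), (25, 125), (26, 125), (27, 125), (28, 125), (29, 125), (30, 125), (31, 125), (32, 125), (93, 124)]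

theorem refB_E7 : refB chevE7 refsE7 = true := by decide +kernel

theorem cE7_0 : canRangeB chevE7 refsE7 0 14 = true := by decide +kernel
theorem cE7_1 : canRangeB chevE7 refsE7 14 28 = true := by decide +kernel
theorem cE7_2 : canRangeB chevE7 refsE7 28 42 = true := by decide +kernel
theorem cE7_3 : canRangeB chevE7 refsE7 42 56 = true := by decide +kernel
theorem cE7_4 : canRangeB chevE7 refsE7 56 70 = true := by decide +kernel
theorem cE7_5 : canRangeB chevE7 refsE7 70 84 = true := by decide +kernel
theorem cE7_6 : canRangeB chevE7 refsE7 84 98 = true := by decide +kernel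
theorem cE7_7 : canRangeB chevE7 refsE7 98 112 = true := by decide +kernel
theorem cE7_8 : canRangeB chevE7 refsE7 112 126 = true := by decide +kernel

theorem canRowB_E7 : ∀ a < chevE7.nroots, canRowB chevE7 refsE7 a = true := by
  intro a ha
  have ha' : a < 126 := ha
  by_cases h0 : a < 14
  · exact canRowB_of_range cE7_0 (by omega) h0
  by_cases h1 : a < 28
  · exact canRowB_of_range cE7_1 (by omega) h1
  by_cases h2 : a < 42
  · exact canRowB_of_range cE7_2 (by omega) h2
  by_cases h3 : a < 56
  · exact canRowB_of_range cE7_3 (by omega) h3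
  by_cases h4 : a < 70
  · exact canRowB_of_range cE7_4 (by omega) h4
  by_cases h5 : a < 84
  · exact canRowB_of_range cE7_5 (by omega) h5
  by_cases h6 : a < 98
  · exact canRowB_of_range cE7_6 (by omega) h6
  by_cases h7 : a < 112
  · exact canRowB_of_range cE7_7 (by omega) h7
  by_cases h8 : a < 126
  · exact canRowB_of_range cE7_8 (by omega) h8
  omega

theorem canP_E7 {q : ℕ} (hq : q < chevE7.nroots) : CanP chevE7 q :=
  canP_of slB_E7 refB_E7 canRowB_E7 hq

end Cfsg.Agent.Lib.Helper10.E8CC.Helper22
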