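import Cfsg.Agent.Lib.Helper22.E7CCDec
import Cfsg.Agent.Lib.Helper22.E7CCCan

set_option autoImplicit false

/-! S2105/S2106/S2400 farm (architects helper26, helper19; core helper10): the table facts
`dec1_E7`, `canP_E7` for `chevE7` (`|K| = 2`), under the official names. -/

namespace Cfsg.Agent.Lib.Helper10.E8CC

open Cfsg.Lie Cfsg.Agent.Lib.Helper8.Chev Cfsg.Agent.Lib.Helper14.StCC

/-- every commuting pair of `chevE7` has a decomposition (11592 pairs; certificate `(a, b)` per
pair) -/
theorem dec1_E7 {r s : ℕ} (hr : r < chevE7.nroots) (hs : s < chevE7.nroots) (h1 : s ≠ r)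
    (h2 : s ≠ chevE7.neg r) (h : chevE7.commTerms r s = []) : Dec1 chevE7 r s :=
  Helper22.dec1_E7 hr hs h1 h2 h

/-- reference decompositions and adjacency (126 roots, 32 decompositions each) -/
theorem canP_E7 {q : ℕ} (hq : q < chevE7.nroots) : CanP chevE7 q :=
  Helper22.canP_E7 hq

end Cfsg.Agent.Lib.Helper10.E8CC
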