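import Cfsg.Agent.Lib.Helper22.SLCCChk
import Cfsg.Agent.Lib.Helper22.StCCBBTE78

set_option autoImplicit false
set_option maxRecDepth 100000

/-! Table facts `SL1`, `Dec1` for `chevE7` (central closedness of the Steinberg group of type `E7` over every field): literal certificates, checked in slices of rows by `decide +kernel`. -/

namespace Cfsg.Agent.Lib.Helper10.E8CC.Helper22

open Cfsg.Lie Cfsg.Agent.Lib.Helper8.Chev Cfsg.Agent.Lib.Helper14.StCC
open Cfsg.Agent.Lib.Helper14.StCC.B.Helper22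

theorem unitB_E7 : unitB chevE7 = true := by decide +kernel

theorem dE7_0 : decRowsB chevE7 0 [
  [(0, 0), (2, 52), (1, 73), (1, 74), (1, 75), (1, 76), (1, 77), (1, 83), (1, 84), (1, 85), (1, 86), (1, 87), (1, 88), (1, 89), (1, 90), (1, 91), (1, 92), (2, 87), (2, 88), (2, 89), (2, 90), (2, 91), (2, 92), (3, 90), (3, 91), (3, 92), (4, 92), (7, 90), (7, 91), (7, 92), (8, 92), (11, 92), (17, 92), (34, 61), (33, 64), (33, 65), (33, 67), (33, 68), (34, 68), (33, 71), (33, 72), (34, 72), (36, 72), (33, 76), (33, 77), (34, 77), (36, 77), (39, 77), (33, 81), (33, 82), (34, 82), (36, 82), (39, 82), (33, 85), (33, 86), (34, 86), (36, 86), (33, 88), (33, 89), (34, 89), (33, 90), (33, 91), (34, 90), (35, 91), (34, 92), (35, 92), (36, 91), (36, 92), (37, 92), (39, 89), (39, 91), (39, 92), (40, 92), (43, 86), (43, 89), (43, 91), (43, 92), (44, 92), (48, 86), (48, 89), (48, 91), (48, 92), (49, 92), (53, 89), (53, 91), (53, 92), (54, 92), (57, 91), (57, 92), (58,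 92), (60, 92), (61, 92), (64, 91), (0, 0), (0, 0), (0, 0), (0, 0), (0, 0), (0, 0), (0, 0), (0, 0), (0, 0), (0, 0), (0, 0), (0, 0), (0, 0), (0, 0), (0, 0), (0, 0), (0, 0), (0, 0), (0, 0), (0, 0), (0, 0), (0, 0), (0, 0), (0, 0), (0, 0), (0, 0), (0, 0), (0, 0), (0, 0), (0, 0), (0, 0), (0, 0), (0, 0)],
  [(2, 31), (0, 0), (0, 94), (0, 95), (0, 96), (0, 97), (0, 98), (0, 99), (0, 100), (0, 101), (0, 102), (0, 103), (0, 104), (0, 105), (0, 106), (0, 107), (0, 108), (18, 61), (17, 64), (17, 65), (17, 67), (17, 68), (18, 68), (17, 71), (17, 72), (18, 72), (20, 72), (17, 81), (17, 82), (18, 82), (20, 82), (23, 82), (0, 0), (2, 103), (2, 104), (2, 105), (2, 106), (2, 107), (2, 108), (3, 106), (3, 107), (3, 108), (4, 108), (17, 97), (17, 98), (18, 98), (20, 98), (23, 98), (7, 106), (7, 107), (7, 108), (8, 108), (11, 108), (17, 101), (17, 102), (18, 102), (20, 102), (17, 104), (17, 105), (18, 105), (17, 106), (17, 107), (18, 106), (19, 107), (18, 108), (19, 108),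 (20, 107), (20, 108), (21, 108), (23, 105), (23, 107), (23, 108), (24, 108), (0, 0), (0, 0), (0, 0), (0, 0), (0, 0), (27, 102), (27, 105), (27, 107), (27, 108), (28, 108), (0, 0), (0, 0), (0, 0), (0, 0), (0, 0), (0, 0), (0, 0), (0, 0), (0, 0), (0, 0), (33, 108), (43, 102), (43, 105), (43, 107), (43, 108), (44, 108), (53, 105), (53, 107), (53, 108), (54, 108), (57, 107), (57, 108), (58, 108), (60, 108), (61, 108), (64, 107), (0, 0), (0, 0), (0, 0), (0, 0), (0, 0), (0, 0), (0, 0), (0, 0), (0, 0), (0, 0), (0, 0), (0, 0), (0, 0), (0, 0), (0, 0), (0, 0), (0, 0)],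
  [(1, 32), (0, 93), (0, 0), (0, 95), (0, 96), (0, 97), (0, 98), (0, 99), (0, 100), (0, 101), (0, 102), (12, 61), (11, 64), (11, 65), (11, 67), (11, 68), (12, 68), (0, 109), (0, 110), (0, 111), (0, 112), (0, 113), (0, 114), (11, 76), (11, 77), (12, 77), (14, 77), (11, 85), (11, 86), (12, 86), (14, 86), (0, 0), (23, 86), (1, 109), (1, 110), (1, 111), (1, 112), (1, 113), (1, 114), (11, 97), (11, 98), (12, 98), (14, 98), (3, 112), (3, 113), (3, 114), (4, 114), (23, 98), (11, 101), (11, 102), (12, 102), (14, 102), (0, 0), (7, 112), (7, 113), (7, 114), (8, 114), (11, 110), (11, 111), (12, 111), (11, 112), (11, 113), (12, 112), (13, 113), (12, 114), (13, 114), (14, 113), (14, 114), (15, 114), (0, 0), (0, 0), (0, 0), (0, 0), (17, 114), (23, 111), (23, 113), (23, 114), (24, 114), (27, 102), (0, 0), (0, 0), (0, 0), (0, 0), (27, 111), (27, 113), (27, 114), (28, 114), (0, 0), (0, 0), (0, 0), (0, 0), (0, 0), (0, 0), (39, 102), (33, 114), (39, 111), (39, 113),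 (39, 114), (40, 114), (48, 111), (48, 113), (48, 114), (49, 114), (0, 0), (0, 0), (0, 0), (0, 0), (0, 0), (0, 0), (57, 113), (57, 114), (58, 114), (60, 114), (61, 114), (64, 113), (0, 0), (0, 0), (0, 0), (0, 0), (0, 0), (0, 0), (0, 0), (0, 0), (0, 0), (0, 0), (0, 0)],
  [(1, 32), (0, 93), (0, 94), (0, 0), (0, 96), (0, 97), (0, 98), (0, 99), (9, 61), (8, 64), (8, 65), (0, 103), (0, 104), (0, 105), (8, 71), (8, 72), (9, 72), (0, 109), (0, 110), (0, 111), (8, 76), (8, 77), (9, 77), (0, 115), (0, 116), (0, 117), (14, 77), (8, 88), (8, 89), (9, 89), (0, 0), (14, 89), (20, 89), (1, 109), (1, 110), (1, 111), (8, 97), (8, 98), (9, 98), (1, 115), (1, 116), (1, 117), (14, 98), (2, 115), (2, 116), (2, 117), (20, 98), (4, 117), (8, 104), (8, 105), (9, 105), (0, 0), (14, 105), (8, 110), (8, 111), (9, 111), (0, 0), (7, 115), (7, 116), (7, 117), (8, 115), (8, 116), (9, 115), (10, 116), (9, 117), (10, 117), (0, 0), (0, 0), (0, 0), (11, 117), (14, 116), (14, 117),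 (15, 117), (20, 111), (17, 117), (20, 116), (20, 117), (21, 117), (0, 0), (27, 105), (0, 0), (0, 0), (0, 0), (27, 111), (0, 0), (0, 0), (0, 0), (27, 116), (27, 117), (28, 117), (0, 0), (0, 0), (0, 0), (36, 105), (36, 111), (33, 117), (36, 116), (36, 117), (37, 117), (48, 111), (0, 0), (0, 0), (0, 0), (48, 116), (48, 117), (49, 117), (0, 0), (0, 0), (0, 0), (53, 116), (53, 117), (54, 117), (0, 0), (0, 0), (0, 0), (60, 117), (61, 117), (64, 116), (0, 0), (0, 0), (0, 0), (0, 0), (0, 0), (0, 0), (0, 0), (0, 0)],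
  [(1, 32), (0, 93), (0, 94), (0, 95), (0, 0), (0, 97), (0, 98), (9, 58), (0, 100), (7, 67), (7, 68), (0, 103), (7, 71), (7, 72), (0, 106), (0, 107), (9, 72), (0, 109), (7, 76), (7, 77), (0, 112), (0, 113), (9, 77), (0, 115), (0, 116), (12, 77), (0, 118), (7, 90), (7, 91), (0, 0), (9, 91), (12, 91), (18, 91), (1, 109), (7, 97), (7, 98), (1, 112), (1, 113), (9, 98), (1, 115), (1, 116), (12, 98), (1, 118), (2, 115), (2, 116), (18, 98), (2, 118), (3, 118), (7, 106), (7, 107), (0, 0), (9, 107), (12, 107), (7, 112), (7, 113), (0, 0), (9, 113), (7, 115), (7, 116), (0, 0), (8, 115), (8, 116), (9, 115), (10, 116), (0, 0), (0, 0), (8, 118), (9, 118), (10, 118), (12, 116), (11, 118), (12, 118), (13, 118), (18, 113), (18, 116), (17, 118), (18, 118), (19, 118), (0, 0), (0, 0), (27, 107), (0, 0), (0, 0), (0, 0), (27, 113), (0, 0), (0, 0), (27, 116), (0, 0), (0, 0), (27, 118), (28, 118), (0, 0), (34, 107), (34, 113), (34, 116), (33, 118), (34, 118), (35, 118), (0,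 0), (48, 113), (0, 0), (0, 0), (48, 116), (0, 0), (0, 0), (48, 118), (49, 118), (0, 0), (53, 116), (0, 0), (0, 0), (53, 118), (54, 118), (0, 0), (57, 118), (58, 118), (0, 0), (67, 116), (0, 0), (0, 0), (0, 0), (0, 0), (0, 0), (0, 0), (0, 0)],
  [(1, 32), (0, 93), (0, 94), (0, 95), (0, 96), (0, 0), (0, 98), (8, 59), (7, 66), (0, 101), (7, 68), (7, 70), (0, 104), (7, 72), (0, 106), (8, 72), (0, 108), (7, 75), (0, 110), (7, 77), (0, 112), (8, 77), (0, 114), (0, 115), (11, 77), (0, 117), (0, 118), (7, 90), (0, 0), (7, 92), (8, 92), (11, 92), (17, 92), (7, 96), (1, 110), (7, 98), (1, 112), (8, 98), (1, 114), (1, 115), (11, 98), (1, 117), (1, 118), (2, 115), (17, 98), (2, 117), (2, 118), (3, 118), (7, 106), (0, 0), (7, 108), (8, 108), (11, 108), (7, 112), (0, 0), (7, 114), (8, 114), (7, 115), (0, 0), (7, 117), (8, 115), (0, 0), (9, 115), (0, 0), (9, 117), (10, 117), (8, 118), (9, 118), (10, 118), (11, 117), (11, 118), (12, 118), (13, 118), (17, 114), (17,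 117), (17, 118), (18, 118), (19, 118), (0, 0), (0, 0), (0, 0), (27, 108), (0, 0), (0, 0), (0, 0), (27, 114), (0, 0), (0, 0), (27, 117), (0, 0), (27, 118), (0, 0), (29, 118), (33, 108), (33, 114), (33, 117), (33, 118), (34, 118), (35, 118), (0, 0), (0, 0), (48, 114), (0, 0), (0, 0), (48, 117), (0, 0), (48, 118), (0, 0), (50, 118), (0, 0), (53, 117), (0, 0), (53, 118), (0, 0), (55, 118), (57, 118), (0, 0), (59, 118), (66, 117), (0, 0), (0, 0), (0, 0), (0, 0), (0, 0), (0, 0), (0, 0)],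
  [(1, 32), (0, 93), (0, 94), (0, 95), (0, 96), (0, 97), (0, 0), (8, 59), (7, 66), (7, 67), (0, 102), (7, 70), (7, 71), (0, 105), (8, 71), (0, 107), (0, 108), (7, 75), (7, 76), (0, 111), (8, 76), (0, 113), (0, 114), (11, 76), (0, 116), (0, 117), (0, 118), (0, 0), (7, 91), (7, 92), (8, 92), (11, 92), (17, 92), (7, 96), (7, 97), (1, 111), (8, 97), (1, 113), (1, 114), (11, 97), (1, 116), (1, 117), (1, 118), (17, 97), (2, 116), (2, 117), (2, 118), (3, 118), (0, 0), (7, 107), (7, 108), (8, 108), (11, 108), (0, 0), (7, 113), (7, 114), (8, 114), (0, 0), (7, 116), (7, 117), (0, 0), (8, 116), (0, 0), (10, 116), (9, 117), (10, 117), (8, 118), (9, 118), (10, 118), (11, 117), (11, 118), (12, 118), (13, 118), (17, 114), (17, 117), (17, 118), (18, 118), (19, 118), (0, 0), (0, 0), (0, 0), (0, 0), (28, 108), (0, 0), (0, 0), (0, 0), (28, 114), (0, 0), (0, 0), (28, 117), (0, 0), (28, 118), (29, 118), (33, 108), (33, 114), (33, 117), (33, 118), (34, 118), (35, 118),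 (0, 0), (0, 0), (0, 0), (49, 114), (0, 0), (0, 0), (49, 117), (0, 0), (49, 118), (50, 118), (0, 0), (0, 0), (54, 117), (0, 0), (54, 118), (55, 118), (0, 0), (58, 118), (59, 118), (66, 117), (0, 0), (0, 0), (0, 0), (0, 0), (0, 0), (0, 0), (0, 0)],
  [(1, 32), (0, 93), (0, 94), (0, 95), (5, 61), (4, 64), (4, 65), (0, 0), (0, 100), (0, 101), (0, 102), (0, 103), (0, 104), (0, 105), (4, 81), (4, 82), (5, 82), (0, 109), (0, 110), (0, 111), (4, 85), (4, 86), (5, 86), (4, 88), (4, 89), (5, 89), (0, 0), (0, 119), (0, 120), (0, 121), (14, 86), (14, 89), (20, 89), (1, 109), (1, 110), (1, 111), (4, 101), (4, 102), (5, 102), (4, 104), (4, 105), (5, 105), (0, 0), (4, 110), (4, 111), (5, 111), (0, 0), (0, 0), (1, 119), (1, 120), (1, 121), (14, 102), (14, 105), (2, 119), (2, 120), (2, 121), (20, 102), (3, 119), (3, 120), (3, 121), (4, 119), (4, 120), (5, 119), (6, 120), (5, 121), (6, 121), (0, 0), (0, 0), (0, 0), (23, 105), (0, 0), (0, 0), (0, 0), (20, 111), (23,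 111), (0, 0), (0, 0), (0, 0), (8, 121), (11, 121), (14, 120), (14, 121), (15, 121), (17, 121), (20, 120), (20, 121), (21, 121), (23, 120), (23, 121), (24, 121), (0, 0), (0, 0), (0, 0), (36, 105), (36, 111), (39, 111), (0, 0), (0, 0), (0, 0), (33, 121), (36, 120), (36, 121), (37, 121), (39, 120), (39, 121), (40, 121), (0, 0), (0, 0), (0, 0), (43, 120), (43, 121), (44, 121), (0, 0), (0, 0), (0, 0), (0, 0), (0, 0), (0, 0), (0, 0), (60, 121), (61, 121), (64, 120), (0, 0), (0, 0), (0, 0), (0, 0)],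
  [(1, 32), (0, 93), (0, 94), (5, 58), (0, 96), (3, 67), (3, 68), (0, 99), (0, 0), (0, 101), (0, 102), (0, 103), (3, 81), (3, 82), (0, 106), (0, 107), (5, 82), (0, 109), (3, 85), (3, 86), (0, 112), (0, 113), (5, 86), (3, 90), (3, 91), (0, 0), (5, 91), (0, 119), (0, 120), (12, 86), (0, 122), (12, 91), (18, 91), (1, 109), (3, 101), (3, 102), (1, 112), (1, 113), (5, 102), (3, 106), (3, 107), (0, 0), (5, 107), (3, 112), (3, 113), (0, 0), (5, 113), (0, 0), (1, 119), (1, 120), (12, 102), (1, 122), (12, 107), (2, 119), (2, 120), (18, 102), (2, 122), (3, 119), (3, 120), (0, 0), (4, 119), (4, 120), (5, 119), (6, 120), (0, 0), (0, 0), (4, 122), (5, 122), (6, 122), (0, 0), (23, 107), (0, 0), (0, 0), (18, 113), (0, 0), (23, 113), (0, 0), (0, 0), (7, 122), (12, 120), (11, 122), (12, 122), (13, 122), (18, 120), (17, 122), (18, 122), (19, 122), (23, 120), (0, 0), (0, 0), (23, 122), (24, 122), (0, 0), (34, 107), (34, 113), (0, 0), (39, 113), (0, 0), (0, 0), (34, 120),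 (33, 122), (34, 122), (35, 122), (39, 120), (0, 0), (0, 0), (39, 122), (40, 122), (0, 0), (43, 120), (0, 0), (0, 0), (43, 122), (44, 122), (0, 0), (0, 0), (0, 0), (0, 0), (0, 0), (57, 122), (58, 122), (0, 0), (67, 120), (0, 0), (0, 0), (0, 0)],
  [(1, 32), (0, 93), (0, 94), (4, 59), (3, 66), (0, 97), (3, 68), (0, 99), (0, 100), (0, 0), (0, 102), (3, 80), (0, 104), (3, 82), (0, 106), (4, 82), (0, 108), (3, 84), (0, 110), (3, 86), (0, 112), (4, 86), (0, 114), (3, 90), (0, 0), (3, 92), (4, 92), (0, 119), (11, 86), (0, 121), (0, 122), (11, 92), (17, 92), (3, 100), (1, 110), (3, 102), (1, 112), (4, 102), (1, 114), (3, 106), (0, 0), (3, 108), (4, 108), (3, 112), (0, 0), (3, 114), (4, 114), (0, 0), (1, 119), (11, 102), (1, 121), (1, 122), (11, 108), (2, 119), (17, 102), (2, 121), (2, 122), (3, 119), (0, 0), (3, 121), (4, 119), (0, 0), (5, 119), (0, 0), (5, 121), (6, 121), (4, 122), (5, 122), (6, 122), (0, 0), (0, 0), (23, 108), (0, 0), (17, 114), (0, 0),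 (0, 0), (23, 114), (0, 0), (7, 122), (11, 121), (11, 122), (12, 122), (13, 122), (17, 121), (17, 122), (18, 122), (19, 122), (0, 0), (23, 121), (0, 0), (23, 122), (0, 0), (25, 122), (33, 108), (33, 114), (0, 0), (0, 0), (39, 114), (0, 0), (33, 121), (33, 122), (34, 122), (35, 122), (0, 0), (39, 121), (0, 0), (39, 122), (0, 0), (41, 122), (0, 0), (43, 121), (0, 0), (43, 122), (0, 0), (45, 122), (0, 0), (0, 0), (0, 0), (0, 0), (57, 122), (0, 0), (59, 122), (66, 121), (0, 0), (0, 0), (0, 0)],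
  [(1, 32), (0, 93), (0, 94), (4, 59), (3, 66), (3, 67), (0, 98), (0, 99), (0, 100), (0, 101), (0, 0), (3, 80), (3, 81), (0, 105), (4, 81), (0, 107), (0, 108), (3, 84), (3, 85), (0, 111), (4, 85), (0, 113), (0, 114), (0, 0), (3, 91), (3, 92), (4, 92), (11, 85), (0, 120), (0, 121), (0, 122), (11, 92), (17, 92), (3, 100), (3, 101), (1, 111), (4, 101), (1, 113), (1, 114), (0, 0), (3, 107), (3, 108), (4, 108), (0, 0), (3, 113), (3, 114), (4, 114), (0, 0), (11, 101), (1, 120), (1, 121), (1, 122), (11, 108), (17, 101), (2, 120), (2, 121), (2, 122), (0, 0), (3, 120), (3, 121), (0, 0), (4, 120), (0, 0), (6, 120), (5, 121), (6, 121), (4, 122), (5, 122), (6, 122), (0, 0), (0, 0), (0, 0), (24, 108), (17, 114), (0, 0), (0, 0), (0, 0), (24, 114), (7, 122), (11, 121), (11, 122), (12, 122), (13, 122), (17, 121), (17, 122), (18, 122), (19, 122), (0, 0), (0, 0), (24, 121), (0, 0), (24, 122), (25, 122), (33, 108), (33, 114), (0, 0), (0, 0), (0, 0), (40, 114), (33, 121),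 (33, 122), (34, 122), (35, 122), (0, 0), (0, 0), (40, 121), (0, 0), (40, 122), (41, 122), (0, 0), (0, 0), (44, 121), (0, 0), (44, 122), (45, 122), (0, 0), (0, 0), (0, 0), (0, 0), (0, 0), (58, 122), (59, 122), (66, 121), (0, 0), (0, 0), (0, 0)],
  [(1, 32), (0, 93), (5, 54), (0, 95), (0, 96), (2, 71), (2, 72), (0, 99), (0, 100), (2, 81), (2, 82), (0, 0), (0, 104), (0, 105), (0, 106), (0, 107), (5, 82), (0, 109), (2, 88), (2, 89), (2, 90), (2, 91), (0, 0), (0, 115), (0, 116), (5, 89), (5, 91), (0, 119), (0, 120), (9, 89), (9, 91), (0, 123), (18, 91), (1, 109), (2, 104), (2, 105), (2, 106), (2, 107), (0, 0), (1, 115), (1, 116), (5, 105), (5, 107), (2, 115), (2, 116), (0, 0), (0, 0), (5, 116), (1, 119), (1, 120), (9, 105), (9, 107), (1, 123), (2, 119), (2, 120), (0, 0), (0, 0), (3, 119), (3, 120), (18, 105), (4, 119), (4, 120), (5, 119), (6, 120), (0, 0), (0, 0), (20, 107), (0, 0), (0, 0), (3, 123), (4, 123), (5, 123), (6, 123), (0, 0), (18, 116), (20,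 116), (0, 0), (0, 0), (9, 120), (7, 123), (8, 123), (9, 123), (10, 123), (18, 120), (20, 120), (0, 0), (0, 0), (17, 123), (18, 123), (19, 123), (20, 123), (21, 123), (0, 0), (34, 107), (0, 0), (34, 116), (36, 116), (0, 0), (0, 0), (34, 120), (36, 120), (0, 0), (0, 0), (33, 123), (34, 123), (35, 123), (36, 123), (37, 123), (0, 0), (43, 120), (0, 0), (0, 0), (0, 0), (0, 0), (0, 0), (43, 123), (44, 123), (0, 0), (0, 0), (53, 123), (54, 123), (0, 0), (0, 0), (71, 120), (0, 0), (0, 0)],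
  [(1, 32), (0, 93), (4, 55), (0, 95), (2, 70), (0, 97), (2, 72), (0, 99), (2, 80), (0, 101), (2, 82), (0, 103), (0, 0), (0, 105), (0, 106), (4, 82), (0, 108), (2, 87), (0, 110), (2, 89), (2, 90), (0, 0), (2, 92), (0, 115), (4, 89), (0, 117), (4, 92), (0, 119), (8, 89), (0, 121), (8, 92), (0, 123), (17, 92), (2, 103), (1, 110), (2, 105), (2, 106), (0, 0), (2, 108), (1, 115), (4, 105), (1, 117), (4, 108), (2, 115), (0, 0), (2, 117), (0, 0), (4, 117), (1, 119), (8, 105), (1, 121), (8, 108), (1, 123), (2, 119), (0, 0), (2, 121), (0, 0), (3, 119), (17, 105), (3, 121), (4, 119), (0, 0), (5, 119), (0, 0), (5, 121), (6, 121), (0, 0), (20, 108), (0, 0), (3, 123), (4, 123), (5, 123), (6, 123), (0, 0), (17, 117), (0, 0), (20, 117), (0, 0), (8, 121), (7, 123), (8, 123), (9, 123), (10, 123), (17, 121), (0, 0), (20, 121), (0, 0), (17, 123), (18, 123), (19, 123), (20, 123), (0, 0), (22, 123), (33, 108), (0, 0), (33, 117), (0, 0), (36, 117), (0, 0), (33, 121), (0,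 0), (36, 121), (0, 0), (33, 123), (34, 123), (35, 123), (36, 123), (0, 0), (38, 123), (0, 0), (43, 121), (0, 0), (0, 0), (0, 0), (0, 0), (43, 123), (0, 0), (45, 123), (0, 0), (53, 123), (0, 0), (55, 123), (0, 0), (70, 121), (0, 0), (0, 0)],
  [(1, 32), (0, 93), (4, 55), (0, 95), (2, 70), (2, 71), (0, 98), (0, 99), (2, 80), (2, 81), (0, 102), (0, 103), (0, 104), (0, 0), (4, 81), (0, 107), (0, 108), (2, 87), (2, 88), (0, 111), (0, 0), (2, 91), (2, 92), (4, 88), (0, 116), (0, 117), (4, 92), (8, 88), (0, 120), (0, 121), (8, 92), (0, 123), (17, 92), (2, 103), (2, 104), (1, 111), (0, 0), (2, 107), (2, 108), (4, 104), (1, 116), (1, 117), (4, 108), (0, 0), (2, 116), (2, 117), (0, 0), (4, 117), (8, 104), (1, 120), (1, 121), (8, 108), (1, 123), (0, 0), (2, 120), (2, 121), (0, 0), (17, 104), (3, 120), (3, 121), (0, 0), (4, 120), (0, 0), (6, 120), (5, 121), (6, 121), (0, 0), (0, 0), (21, 108), (3, 123), (4, 123), (5, 123), (6, 123), (0, 0), (17, 117), (0, 0),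 (0, 0), (21, 117), (8, 121), (7, 123), (8, 123), (9, 123), (10, 123), (17, 121), (0, 0), (0, 0), (21, 121), (17, 123), (18, 123), (19, 123), (0, 0), (21, 123), (22, 123), (33, 108), (0, 0), (33, 117), (0, 0), (0, 0), (37, 117), (33, 121), (0, 0), (0, 0), (37, 121), (33, 123), (34, 123), (35, 123), (0, 0), (37, 123), (38, 123), (0, 0), (0, 0), (44, 121), (0, 0), (0, 0), (0, 0), (0, 0), (44, 123), (45, 123), (0, 0), (0, 0), (54, 123), (55, 123), (0, 0), (70, 121), (0, 0), (0, 0)]] = true := by decide +kernel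

theorem dE7_1 : decRowsB chevE7 14 [
  [(1, 32), (0, 93), (3, 56), (2, 69), (0, 96), (0, 97), (2, 72), (2, 79), (0, 100), (0, 101), (2, 82), (0, 103), (0, 104), (3, 82), (0, 0), (0, 107), (0, 108), (2, 87), (2, 88), (0, 0), (0, 112), (2, 91), (2, 92), (0, 115), (3, 91), (3, 92), (0, 118), (0, 119), (7, 91), (7, 92), (0, 122), (0, 123), (17, 92), (2, 103), (2, 104), (0, 0), (1, 112), (2, 107), (2, 108), (1, 115), (3, 107), (3, 108), (1, 118), (2, 115), (0, 0), (0, 0), (2, 118), (3, 118), (1, 119), (7, 107), (7, 108), (1, 122), (1, 123), (2, 119), (0, 0), (0, 0), (2, 122), (3, 119), (0, 0), (0, 0), (4, 119), (17, 107), (5, 119), (0, 0), (18, 108), (0, 0), (4, 122), (5, 122), (6, 122), (3, 123), (4, 123), (5, 123), (6, 123), (0, 0), (0, 0), (17, 118), (18, 118), (0, 0), (7, 122), (7, 123), (8, 123), (9, 123), (10, 123), (0, 0), (17, 122), (18, 122), (0, 0), (17, 123), (18, 123), (0, 0), (20, 123), (21, 123), (22, 123), (33, 108), (0, 0), (0, 0), (33,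 118), (34, 118), (0, 0), (0, 0), (33, 122), (34, 122), (0, 0), (33, 123), (34, 123), (0, 0), (36, 123), (37, 123), (38, 123), (0, 0), (0, 0), (0, 0), (43, 122), (0, 0), (0, 0), (43, 123), (0, 0), (0, 0), (46, 123), (53, 123), (0, 0), (0, 0), (56, 123), (69, 122), (0, 0), (0, 0)],
  [(1, 32), (0, 93), (3, 56), (2, 69), (0, 96), (2, 71), (0, 98), (2, 79), (0, 100), (2, 81), (0, 102), (0, 103), (3, 81), (0, 105), (0, 106), (0, 0), (0, 108), (2, 87), (0, 0), (2, 89), (2, 90), (0, 113), (2, 92), (3, 90), (0, 116), (3, 92), (0, 118), (7, 90), (0, 120), (7, 92), (0, 122), (0, 123), (17, 92), (2, 103), (0, 0), (2, 105), (2, 106), (1, 113), (2, 108), (3, 106), (1, 116), (3, 108), (1, 118), (0, 0), (2, 116), (0, 0), (2, 118), (3, 118), (7, 106), (1, 120), (7, 108), (1, 122), (1, 123), (0, 0), (2, 120), (0, 0), (2, 122), (0, 0), (3, 120), (0, 0), (17, 106), (4, 120), (0, 0), (6, 120), (0, 0), (19, 108), (4, 122), (5, 122), (6, 122), (3, 123), (4, 123), (5, 123),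 (6, 123), (0, 0), (0, 0), (17, 118), (0, 0), (19, 118), (7, 122), (7, 123), (8, 123), (9, 123), (10, 123), (0, 0), (17, 122), (0, 0), (19, 122), (17, 123), (0, 0), (19, 123), (20, 123), (21, 123), (22, 123), (33, 108), (0, 0), (0, 0), (33, 118), (0, 0), (35, 118), (0, 0), (33, 122), (0, 0), (35, 122), (33, 123), (0, 0), (35, 123), (36, 123), (37, 123), (38, 123), (0, 0), (0, 0), (0, 0), (0, 0), (44, 122), (0, 0), (0, 0), (44, 123), (0, 0), (46, 123), (0, 0), (54, 123), (0, 0), (56, 123), (69, 122), (0, 0), (0, 0)],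
  [(1, 32), (0, 93), (3, 56), (2, 69), (2, 70), (0, 97), (0, 98), (2, 79), (2, 80), (0, 101), (0, 102), (3, 80), (0, 104), (0, 105), (0, 106), (0, 107), (0, 0), (0, 0), (2, 88), (2, 89), (2, 90), (2, 91), (0, 114), (3, 90), (3, 91), (0, 117), (0, 118), (7, 90), (7, 91), (0, 121), (0, 122), (0, 123), (18, 91), (0, 0), (2, 104), (2, 105), (2, 106), (2, 107), (1, 114), (3, 106), (3, 107), (1, 117), (1, 118), (0, 0), (0, 0), (2, 117), (2, 118), (3, 118), (7, 106), (7, 107), (1, 121), (1, 122), (1, 123), (0, 0), (0, 0), (2, 121), (2, 122), (0, 0), (0, 0), (3, 121), (0, 0), (0, 0), (18, 106), (19, 107), (5, 121), (6, 121), (4, 122), (5, 122), (6, 122), (3, 123), (4, 123), (5, 123), (6, 123), (0, 0), (0, 0), (0, 0), (18, 118), (19, 118), (7, 122), (7, 123), (8, 123), (9, 123), (10, 123), (0, 0), (0, 0), (18, 122), (19, 122), (0, 0), (18, 123), (19, 123), (20, 123), (21, 123), (22, 123), (34, 107), (0, 0), (0, 0), (0, 0), (34, 118), (35, 118), (0, 0), (0,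 0), (34, 122), (35, 122), (0, 0), (34, 123), (35, 123), (36, 123), (37, 123), (38, 123), (0, 0), (0, 0), (0, 0), (0, 0), (0, 0), (45, 122), (0, 0), (0, 0), (45, 123), (46, 123), (0, 0), (0, 0), (55, 123), (56, 123), (69, 122), (0, 0), (0, 0)],
  [(1, 32), (5, 49), (0, 94), (0, 95), (0, 96), (1, 76), (1, 77), (0, 99), (0, 100), (1, 85), (1, 86), (0, 103), (1, 88), (1, 89), (1, 90), (1, 91), (0, 0), (0, 0), (0, 110), (0, 111), (0, 112), (0, 113), (5, 86), (0, 115), (0, 116), (5, 89), (5, 91), (0, 119), (0, 120), (9, 89), (9, 91), (12, 91), (0, 124), (1, 109), (1, 110), (1, 111), (1, 112), (1, 113), (0, 0), (1, 115), (1, 116), (0, 0), (0, 0), (2, 115), (2, 116), (5, 111), (5, 113), (5, 116), (1, 119), (1, 120), (0, 0), (0, 0), (0, 0), (2, 119), (2, 120), (9, 111), (9, 113), (3, 119), (3, 120), (12, 111), (4, 119), (4, 120), (5, 119), (6, 120), (0, 0), (0, 0), (14, 113), (0, 0), (0, 0), (12, 116), (14, 116), (0, 0), (0, 0), (2, 124), (3, 124), (4, 124),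 (5, 124), (6, 124), (9, 120), (12, 120), (14, 120), (0, 0), (0, 0), (7, 124), (8, 124), (9, 124), (10, 124), (11, 124), (12, 124), (13, 124), (14, 124), (15, 124), (0, 0), (0, 0), (34, 113), (34, 116), (36, 116), (0, 0), (0, 0), (34, 120), (36, 120), (0, 0), (0, 0), (39, 120), (0, 0), (0, 0), (0, 0), (0, 0), (0, 0), (33, 124), (34, 124), (35, 124), (36, 124), (37, 124), (0, 0), (39, 124), (40, 124), (0, 0), (0, 0), (48, 124), (49, 124), (0, 0), (0, 0), (0, 0), (76, 120), (0, 0)],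
  [(1, 32), (4, 50), (0, 94), (0, 95), (1, 75), (0, 97), (1, 77), (0, 99), (1, 84), (0, 101), (1, 86), (1, 87), (0, 104), (1, 89), (1, 90), (0, 0), (1, 92), (0, 109), (0, 0), (0, 111), (0, 112), (4, 86), (0, 114), (0, 115), (4, 89), (0, 117), (4, 92), (0, 119), (8, 89), (0, 121), (8, 92), (11, 92), (0, 124), (1, 109), (1, 110), (1, 111), (1, 112), (0, 0), (1, 114), (1, 115), (0, 0), (1, 117), (0, 0), (2, 115), (4, 111), (2, 117), (4, 114), (4, 117), (1, 119), (0, 0), (1, 121), (0, 0), (0, 0), (2, 119), (8, 111), (2, 121), (8, 114), (3, 119), (11, 111), (3, 121), (4, 119), (0, 0), (5, 119), (0, 0), (5, 121), (6, 121), (0, 0), (14, 114), (0, 0), (11, 117), (0, 0), (14, 117), (0, 0), (2, 124), (3, 124), (4, 124), (5, 124), (6, 124), (8, 121), (11, 121), (0, 0), (14, 121), (0, 0), (7, 124), (8, 124), (9, 124), (10, 124), (11, 124), (12, 124), (13, 124), (14, 124), (0, 0), (16, 124), (0, 0), (33, 114), (33, 117), (0, 0), (36, 117), (0, 0), (33, 121), (0,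 0), (36, 121), (0, 0), (0, 0), (39, 121), (0, 0), (0, 0), (0, 0), (0, 0), (33, 124), (34, 124), (35, 124), (36, 124), (0, 0), (38, 124), (39, 124), (0, 0), (41, 124), (0, 0), (48, 124), (0, 0), (50, 124), (0, 0), (0, 0), (75, 121), (0, 0)],
  [(1, 32), (4, 50), (0, 94), (0, 95), (1, 75), (1, 76), (0, 98), (0, 99), (1, 84), (1, 85), (0, 102), (1, 87), (1, 88), (0, 105), (0, 0), (1, 91), (1, 92), (0, 109), (0, 110), (0, 0), (4, 85), (0, 113), (0, 114), (4, 88), (0, 116), (0, 117), (4, 92), (8, 88), (0, 120), (0, 121), (8, 92), (11, 92), (0, 124), (1, 109), (1, 110), (1, 111), (0, 0), (1, 113), (1, 114), (0, 0), (1, 116), (1, 117), (0, 0), (4, 110), (2, 116), (2, 117), (4, 114), (4, 117), (0, 0), (1, 120), (1, 121), (0, 0), (0, 0), (8, 110), (2, 120), (2, 121), (8, 114), (11, 110), (3, 120), (3, 121), (0, 0), (4, 120), (0, 0), (6, 120), (5, 121), (6, 121), (0, 0), (0, 0), (15, 114), (11, 117), (0, 0), (0, 0), (15, 117), (2, 124), (3, 124), (4, 124), (5,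 124), (6, 124), (8, 121), (11, 121), (0, 0), (0, 0), (15, 121), (7, 124), (8, 124), (9, 124), (10, 124), (11, 124), (12, 124), (13, 124), (0, 0), (15, 124), (16, 124), (0, 0), (33, 114), (33, 117), (0, 0), (0, 0), (37, 117), (33, 121), (0, 0), (0, 0), (37, 121), (0, 0), (0, 0), (40, 121), (0, 0), (0, 0), (0, 0), (33, 124), (34, 124), (35, 124), (0, 0), (37, 124), (38, 124), (0, 0), (40, 124), (41, 124), (0, 0), (0, 0), (49, 124), (50, 124), (0, 0), (0, 0), (75, 121), (0, 0)],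
  [(1, 32), (3, 51), (0, 94), (1, 74), (0, 96), (0, 97), (1, 77), (1, 83), (0, 100), (0, 101), (1, 86), (1, 87), (1, 88), (0, 0), (0, 106), (1, 91), (1, 92), (0, 109), (0, 110), (3, 86), (0, 0), (0, 113), (0, 114), (0, 115), (3, 91), (3, 92), (0, 118), (0, 119), (7, 91), (7, 92), (0, 122), (11, 92), (0, 124), (1, 109), (1, 110), (0, 0), (1, 112), (1, 113), (1, 114), (1, 115), (0, 0), (0, 0), (1, 118), (2, 115), (3, 113), (3, 114), (2, 118), (3, 118), (1, 119), (0, 0), (0, 0), (1, 122), (0, 0), (2, 119), (7, 113), (7, 114), (2, 122), (3, 119), (0, 0), (0, 0), (4, 119), (11, 113), (5, 119), (0, 0), (12, 114), (0, 0), (4, 122), (5, 122), (6, 122), (0, 0), (11, 118), (12, 118), (0, 0), (2, 124), (3, 124), (4, 124), (5, 124), (6, 124), (7, 122), (0, 0), (11, 122), (12, 122), (0, 0), (7, 124), (8, 124), (9, 124), (10, 124), (11, 124), (12, 124), (0, 0), (14, 124), (15, 124), (16, 124), (0, 0), (33, 114), (0, 0), (33, 118), (34, 118), (0, 0), (0, 0), (33,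 122), (34, 122), (0, 0), (0, 0), (0, 0), (0, 0), (39, 122), (0, 0), (0, 0), (33, 124), (34, 124), (0, 0), (36, 124), (37, 124), (38, 124), (39, 124), (0, 0), (0, 0), (42, 124), (48, 124), (0, 0), (0, 0), (51, 124), (0, 0), (74, 122), (0, 0)],
  [(1, 32), (3, 51), (0, 94), (1, 74), (0, 96), (1, 76), (0, 98), (1, 83), (0, 100), (1, 85), (0, 102), (1, 87), (0, 0), (1, 89), (1, 90), (0, 107), (1, 92), (0, 109), (3, 85), (0, 111), (0, 112), (0, 0), (0, 114), (3, 90), (0, 116), (3, 92), (0, 118), (7, 90), (0, 120), (7, 92), (0, 122), (11, 92), (0, 124), (1, 109), (0, 0), (1, 111), (1, 112), (1, 113), (1, 114), (0, 0), (1, 116), (0, 0), (1, 118), (3, 112), (2, 116), (3, 114), (2, 118), (3, 118), (0, 0), (1, 120), (0, 0), (1, 122), (0, 0), (7, 112), (2, 120), (7, 114), (2, 122), (0, 0), (3, 120), (0, 0), (11, 112), (4, 120), (0, 0), (6, 120), (0, 0), (13, 114), (4, 122), (5, 122), (6, 122), (0, 0), (11, 118), (0, 0), (13, 118), (2, 124), (3, 124), (4, 124),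 (5, 124), (6, 124), (7, 122), (0, 0), (11, 122), (0, 0), (13, 122), (7, 124), (8, 124), (9, 124), (10, 124), (11, 124), (0, 0), (13, 124), (14, 124), (15, 124), (16, 124), (0, 0), (33, 114), (0, 0), (33, 118), (0, 0), (35, 118), (0, 0), (33, 122), (0, 0), (35, 122), (0, 0), (0, 0), (0, 0), (0, 0), (40, 122), (0, 0), (33, 124), (0, 0), (35, 124), (36, 124), (37, 124), (38, 124), (0, 0), (40, 124), (0, 0), (42, 124), (0, 0), (49, 124), (0, 0), (51, 124), (0, 0), (74, 122), (0, 0)],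
  [(1, 32), (3, 51), (0, 94), (1, 74), (1, 75), (0, 97), (0, 98), (1, 83), (1, 84), (0, 101), (0, 102), (0, 0), (1, 88), (1, 89), (1, 90), (1, 91), (0, 108), (3, 84), (0, 110), (0, 111), (0, 112), (0, 113), (0, 0), (3, 90), (3, 91), (0, 117), (0, 118), (7, 90), (7, 91), (0, 121), (0, 122), (12, 91), (0, 124), (0, 0), (1, 110), (1, 111), (1, 112), (1, 113), (1, 114), (0, 0), (0, 0), (1, 117), (1, 118), (3, 112), (3, 113), (2, 117), (2, 118), (3, 118), (0, 0), (0, 0), (1, 121), (1, 122), (0, 0), (7, 112), (7, 113), (2, 121), (2, 122), (0, 0), (0, 0), (3, 121), (0, 0), (0, 0), (12, 112), (13, 113), (5, 121), (6, 121), (4, 122), (5, 122), (6, 122), (0, 0), (0, 0), (12, 118), (13, 118), (2, 124), (3, 124), (4, 124), (5, 124), (6, 124), (7, 122), (0, 0), (0, 0), (12, 122), (13, 122), (7, 124), (8, 124), (9, 124), (10, 124), (0, 0), (12, 124), (13, 124), (14, 124), (15, 124), (16, 124), (0, 0), (34, 113), (0, 0), (0, 0), (34, 118), (35, 118), (0, 0), (0,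 0), (34, 122), (35, 122), (0, 0), (0, 0), (0, 0), (0, 0), (0, 0), (41, 122), (0, 0), (34, 124), (35, 124), (36, 124), (37, 124), (38, 124), (0, 0), (0, 0), (41, 124), (42, 124), (0, 0), (0, 0), (50, 124), (51, 124), (0, 0), (74, 122), (0, 0)],
  [(1, 32), (2, 52), (1, 73), (0, 95), (0, 96), (0, 97), (1, 77), (1, 83), (1, 84), (1, 85), (0, 0), (0, 103), (0, 104), (1, 89), (0, 106), (1, 91), (1, 92), (0, 109), (0, 110), (2, 89), (0, 112), (2, 91), (2, 92), (0, 0), (0, 116), (0, 117), (0, 118), (0, 119), (7, 91), (7, 92), (8, 92), (0, 123), (0, 124), (1, 109), (1, 110), (0, 0), (1, 112), (0, 0), (0, 0), (1, 115), (1, 116), (1, 117), (1, 118), (2, 115), (2, 116), (2, 117), (2, 118), (3, 118), (1, 119), (0, 0), (0, 0), (0, 0), (1, 123), (2, 119), (0, 0), (0, 0), (0, 0), (3, 119), (7, 116), (7, 117), (4, 119), (8, 116), (5, 119), (0, 0), (9, 117), (0, 0), (8, 118), (9, 118), (0, 0), (3, 123), (4, 123), (5, 123), (6, 123), (2, 124), (3, 124), (4, 124), (5,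 124), (6, 124), (0, 0), (7, 123), (8, 123), (9, 123), (0, 0), (7, 124), (8, 124), (9, 124), (0, 0), (11, 124), (12, 124), (13, 124), (14, 124), (15, 124), (16, 124), (0, 0), (0, 0), (33, 117), (33, 118), (34, 118), (0, 0), (0, 0), (0, 0), (0, 0), (0, 0), (33, 123), (34, 123), (0, 0), (36, 123), (0, 0), (0, 0), (33, 124), (34, 124), (0, 0), (36, 124), (0, 0), (0, 0), (39, 124), (40, 124), (41, 124), (42, 124), (48, 124), (0, 0), (0, 0), (0, 0), (52, 124), (73, 123), (0, 0)],
  [(1, 32), (2, 52), (1, 73), (0, 95), (0, 96), (1, 76), (0, 98), (1, 83), (1, 84), (0, 0), (1, 86), (0, 103), (1, 88), (0, 105), (1, 90), (0, 107), (1, 92), (0, 109), (2, 88), (0, 111), (2, 90), (0, 113), (2, 92), (0, 115), (0, 0), (0, 117), (0, 118), (7, 90), (0, 120), (7, 92), (8, 92), (0, 123), (0, 124), (1, 109), (0, 0), (1, 111), (0, 0), (1, 113), (0, 0), (1, 115), (1, 116), (1, 117), (1, 118), (2, 115), (2, 116), (2, 117), (2, 118), (3, 118), (0, 0), (1, 120), (0, 0), (0,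 0), (1, 123), (0, 0), (2, 120), (0, 0), (0, 0), (7, 115), (3, 120), (7, 117), (8, 115), (4, 120), (0, 0), (6, 120), (0, 0), (10, 117), (8, 118), (0, 0), (10, 118), (3, 123), (4, 123), (5, 123), (6, 123), (2, 124), (3, 124), (4, 124), (5, 124), (6, 124), (0, 0), (7, 123), (8, 123), (0, 0), (10, 123), (7, 124), (8, 124), (0, 0), (10, 124), (11, 124), (12, 124), (13, 124), (14, 124), (15, 124), (16, 124), (0, 0), (0, 0), (33, 117), (33, 118), (0, 0), (35, 118), (0, 0), (0, 0), (0, 0), (0, 0), (33, 123), (0, 0), (35, 123), (0, 0), (37, 123), (0, 0), (33, 124), (0, 0), (35, 124), (0, 0), (37, 124), (0, 0), (39, 124), (40, 124), (41, 124), (42, 124), (0, 0), (49, 124), (0, 0), (0, 0), (52, 124), (73, 123), (0, 0)],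
  [(1, 32), (2, 52), (1, 73), (0, 95), (1, 75), (0, 97), (0, 98), (1, 83), (0, 0), (1, 85), (1, 86), (1, 87), (0, 104), (0, 105), (1, 90), (1, 91), (0, 108), (2, 87), (0, 110), (0, 111), (2, 90), (2, 91), (0, 114), (0, 115), (0, 116), (0, 0), (0, 118), (7, 90), (7, 91), (0, 121), (9, 91), (0, 123), (0, 124), (0, 0), (1, 110), (1, 111), (0, 0), (0, 0), (1, 114), (1, 115), (1, 116), (1, 117), (1, 118), (2, 115), (2, 116), (2, 117), (2, 118), (3, 118), (0, 0), (0, 0), (1, 121), (0, 0), (1, 123), (0, 0), (0, 0), (2, 121), (0, 0), (7, 115), (7, 116), (3, 121), (0, 0), (0, 0), (9, 115), (10, 116), (5, 121), (6, 121), (0, 0), (9, 118), (10, 118), (3, 123), (4, 123), (5, 123), (6, 123), (2, 124), (3, 124), (4, 124), (5, 124), (6, 124), (0, 0), (7, 123), (0, 0), (9, 123), (10, 123), (7, 124), (0, 0), (9, 124), (10, 124), (11, 124), (12, 124), (13, 124), (14, 124), (15, 124), (16, 124), (0, 0), (0, 0), (34, 116), (0, 0), (34, 118), (35, 118), (0, 0), (0, 0),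 (0, 0), (0, 0), (0, 0), (34, 123), (35, 123), (0, 0), (0, 0), (38, 123), (0, 0), (34, 124), (35, 124), (0, 0), (0, 0), (38, 124), (39, 124), (40, 124), (41, 124), (42, 124), (0, 0), (0, 0), (50, 124), (0, 0), (52, 124), (73, 123), (0, 0)],
  [(1, 32), (2, 52), (1, 73), (1, 74), (0, 96), (0, 97), (0, 98), (0, 0), (1, 84), (1, 85), (1, 86), (1, 87), (1, 88), (1, 89), (0, 106), (0, 107), (0, 108), (2, 87), (2, 88), (2, 89), (0, 112), (0, 113), (0, 114), (0, 115), (0, 116), (0, 117), (0, 0), (8, 88), (8, 89), (9, 89), (0, 122), (0, 123), (0, 124), (0, 0), (0, 0), (0, 0), (1, 112), (1, 113), (1, 114), (1, 115), (1, 116), (1, 117), (1, 118), (2, 115), (2, 116), (2, 117), (2, 118), (3, 118), (0, 0), (0, 0), (0, 0), (1, 122), (1, 123), (0, 0), (0, 0), (0, 0), (2, 122), (0, 0), (0, 0), (0, 0), (8, 115), (8, 116), (9, 115), (10, 116), (9, 117), (10, 117), (4, 122), (5, 122), (6, 122), (3, 123), (4, 123), (5, 123), (6, 123), (2, 124), (3, 124), (4, 124), (5,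 124), (6, 124), (0, 0), (0, 0), (8, 123), (9, 123), (10, 123), (0, 0), (8, 124), (9, 124), (10, 124), (11, 124), (12, 124), (13, 124), (14, 124), (15, 124), (16, 124), (0, 0), (0, 0), (0, 0), (36, 116), (36, 117), (37, 117), (0, 0), (0, 0), (0, 0), (0, 0), (0, 0), (0, 0), (0, 0), (36, 123), (37, 123), (38, 123), (0, 0), (0, 0), (0, 0), (36, 124), (37, 124), (38, 124), (39, 124), (40, 124), (41, 124), (42, 124), (0, 0), (0, 0), (0, 0), (51, 124), (52, 124), (73, 123), (0, 0)],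
  [(1, 32), (2, 52), (1, 73), (1, 74), (1, 75), (1, 76), (0, 0), (0, 99), (0, 100), (0, 101), (1, 86), (0, 103), (0, 104), (1, 89), (0, 106), (1, 91), (1, 92), (0, 109), (0, 110), (2, 89), (0, 112), (2, 91), (2, 92), (0, 115), (3, 91), (3, 92), (4, 92), (0, 0), (0, 120), (0, 121), (0, 122), (0, 123), (0, 124), (1, 109), (1, 110), (0, 0), (1, 112), (0, 0), (0, 0), (1, 115), (0, 0), (0, 0), (0, 0), (2, 115), (0, 0), (0, 0), (0, 0), (0, 0), (1, 119), (1, 120), (1, 121), (1, 122), (1, 123), (2, 119), (2, 120), (2, 121), (2, 122), (3, 119), (3, 120), (3, 121), (4, 119), (4, 120), (5, 119), (0, 0), (5, 121), (0, 0), (4, 122), (5, 122), (0, 0), (3, 123), (4, 123), (5, 123), (0, 0), (2, 124), (3, 124), (4, 124), (5, 124), (0, 0), (7, 122), (7, 123), (8, 123), (9, 123), (10, 123), (7, 124), (8, 124), (9, 124), (10, 124), (11, 124), (12, 124), (13, 124), (14, 124), (15, 124), (16, 124), (0, 0), (0, 0), (0, 0), (0, 0), (0, 0), (0, 0), (33, 121), (33, 122), (34,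 122), (0, 0), (33, 123), (34, 123), (0, 0), (36, 123), (0, 0), (0, 0), (33, 124), (34, 124), (0, 0), (36, 124), (0, 0), (0, 0), (39, 124), (0, 0), (0, 0), (0, 0), (48, 124), (49, 124), (50, 124), (51, 124), (52, 124), (73, 123), (0, 0)]] = true := by decide +kernel

theorem dE7_2 : decRowsB chevE7 28 [
  [(1, 32), (2, 52), (1, 73), (1, 74), (1, 75), (0, 0), (1, 77), (0, 99), (0, 100), (1, 85), (0, 102), (0, 103), (1, 88), (0, 105), (1, 90), (0, 107), (1, 92), (0, 109), (2, 88), (0, 111), (2, 90), (0, 113), (2, 92), (3, 90), (0, 116), (3, 92), (4, 92), (0, 119), (0, 0), (0, 121), (0, 122), (0, 123), (0, 124), (1, 109), (0, 0), (1, 111), (0, 0), (1, 113), (0, 0), (0, 0), (1, 116), (0, 0), (0, 0), (0, 0), (2, 116), (0, 0), (0, 0), (0, 0), (1, 119), (1, 120), (1, 121), (1, 122), (1, 123), (2, 119), (2, 120), (2, 121), (2, 122), (3, 119), (3, 120), (3, 121), (4, 119), (4, 120), (0, 0), (6, 120), (0, 0), (6, 121), (4, 122), (0, 0), (6, 122), (3, 123), (4,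 123), (0, 0), (6, 123), (2, 124), (3, 124), (4, 124), (0, 0), (6, 124), (7, 122), (7, 123), (8, 123), (9, 123), (10, 123), (7, 124), (8, 124), (9, 124), (10, 124), (11, 124), (12, 124), (13, 124), (14, 124), (15, 124), (16, 124), (0, 0), (0, 0), (0, 0), (0, 0), (0, 0), (0, 0), (33, 121), (33, 122), (0, 0), (35, 122), (33, 123), (0, 0), (35, 123), (0, 0), (37, 123), (0, 0), (33, 124), (0, 0), (35, 124), (0, 0), (37, 124), (0, 0), (0, 0), (40, 124), (0, 0), (0, 0), (48, 124), (49, 124), (50, 124), (51, 124), (52, 124), (73, 123), (0, 0)],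
  [(1, 32), (2, 52), (1, 73), (1, 74), (0, 0), (1, 76), (1, 77), (0, 99), (1, 84), (0, 101), (0, 102), (1, 87), (0, 104), (0, 105), (1, 90), (1, 91), (0, 108), (2, 87), (0, 110), (0, 111), (2, 90), (2, 91), (0, 114), (3, 90), (3, 91), (0, 117), (5, 91), (0, 119), (0, 120), (0, 0), (0, 122), (0, 123), (0, 124), (0, 0), (1, 110), (1, 111), (0, 0), (0, 0), (1, 114), (0, 0), (0, 0), (1, 117), (0, 0), (0, 0), (0, 0), (2, 117), (0, 0), (0, 0), (1, 119), (1, 120), (1, 121), (1, 122), (1, 123), (2, 119), (2, 120), (2, 121), (2, 122), (3, 119), (3, 120), (3, 121), (0, 0), (0, 0), (5, 119), (6, 120), (5, 121), (6, 121), (0, 0), (5, 122), (6, 122), (3, 123), (0, 0), (5, 123), (6, 123), (2, 124), (3, 124), (0, 0), (5, 124), (6, 124), (7, 122), (7, 123), (8, 123), (9, 123), (10, 123), (7, 124), (8, 124), (9, 124), (10, 124), (11, 124), (12, 124), (13, 124), (14, 124), (15, 124), (16, 124), (0, 0), (0, 0), (0, 0), (0, 0), (0, 0), (0, 0), (34, 120), (0, 0), (34,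 122), (35, 122), (0, 0), (34, 123), (35, 123), (0, 0), (0, 0), (38, 123), (0, 0), (34, 124), (35, 124), (0, 0), (0, 0), (38, 124), (0, 0), (0, 0), (41, 124), (0, 0), (48, 124), (49, 124), (50, 124), (51, 124), (52, 124), (73, 123), (0, 0)],
  [(1, 32), (2, 52), (1, 73), (0, 0), (1, 75), (1, 76), (1, 77), (1, 83), (0, 100), (0, 101), (0, 102), (1, 87), (1, 88), (1, 89), (0, 106), (0, 107), (0, 108), (2, 87), (2, 88), (2, 89), (0, 112), (0, 113), (0, 114), (4, 88), (4, 89), (5, 89), (0, 118), (0, 119), (0, 120), (0, 121), (0, 0), (0, 123), (0, 124), (0, 0), (0, 0), (0, 0), (1, 112), (1, 113), (1, 114), (0, 0), (0, 0), (0, 0), (1, 118), (0, 0), (0, 0), (0, 0), (2, 118), (0, 0), (1, 119), (1, 120), (1, 121), (1, 122), (1, 123), (2, 119), (2, 120), (2, 121), (2, 122), (0, 0), (0, 0), (0, 0), (4, 119), (4, 120), (5, 119), (6, 120), (5, 121), (6, 121), (4, 122), (5, 122), (6, 122), (0, 0), (4, 123), (5, 123), (6, 123), (2, 124), (0, 0), (4, 124), (5, 124),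 (6, 124), (7, 122), (7, 123), (8, 123), (9, 123), (10, 123), (7, 124), (8, 124), (9, 124), (10, 124), (11, 124), (12, 124), (13, 124), (14, 124), (15, 124), (16, 124), (0, 0), (0, 0), (0, 0), (0, 0), (0, 0), (0, 0), (0, 0), (36, 120), (36, 121), (37, 121), (0, 0), (0, 0), (0, 0), (36, 123), (37, 123), (38, 123), (0, 0), (0, 0), (0, 0), (36, 124), (37, 124), (38, 124), (0, 0), (0, 0), (0, 0), (42, 124), (48, 124), (49, 124), (50, 124), (51, 124), (52, 124), (73, 123), (0, 0)],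
  [(1, 32), (3, 51), (0, 0), (1, 74), (1, 75), (1, 76), (1, 77), (1, 83), (1, 84), (1, 85), (1, 86), (0, 103), (0, 104), (0, 105), (0, 106), (0, 107), (0, 108), (3, 84), (3, 85), (3, 86), (4, 85), (4, 86), (5, 86), (0, 115), (0, 116), (0, 117), (0, 118), (0, 119), (0, 120), (0, 121), (0, 122), (0, 0), (0, 124), (0, 0), (0, 0), (0, 0), (0, 0), (0, 0), (0, 0), (1, 115), (1, 116), (1, 117), (1, 118), (0, 0), (0, 0), (0, 0), (0, 0), (3, 118), (1, 119), (1, 120), (1, 121), (1, 122), (1, 123), (0, 0), (0, 0), (0, 0), (0, 0), (3, 119), (3, 120), (3, 121), (4, 119), (4, 120), (5, 119), (6, 120), (5, 121), (6, 121), (4, 122), (5, 122), (6, 122), (3, 123), (4, 123), (5, 123), (6, 123), (0, 0), (3, 124), (4, 124), (5, 124), (6, 124), (7, 122), (7, 123), (8, 123), (9, 123), (10, 123), (7, 124), (8, 124), (9, 124), (10, 124), (11, 124), (12, 124), (13, 124), (14, 124), (15, 124), (16, 124), (0, 0), (0, 0), (0, 0), (0, 0), (0, 0), (0, 0), (0, 0), (0, 0), (0, 0),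 (0, 0), (39, 120), (39, 121), (40, 121), (39, 122), (40, 122), (41, 122), (0, 0), (0, 0), (0, 0), (0, 0), (0, 0), (0, 0), (39, 124), (40, 124), (41, 124), (42, 124), (48, 124), (49, 124), (50, 124), (51, 124), (52, 124), (74, 122), (0, 0)],
  [(2, 31), (0, 0), (3, 56), (2, 69), (2, 70), (2, 71), (2, 72), (2, 79), (2, 80), (2, 81), (2, 82), (3, 80), (3, 81), (3, 82), (4, 81), (4, 82), (5, 82), (0, 109), (0, 110), (0, 111), (0, 112), (0, 113), (0, 114), (0, 115), (0, 116), (0, 117), (0, 118), (0, 119), (0, 120), (0, 121), (0, 122), (0, 123), (0, 0), (0, 0), (0, 0), (0, 0), (0, 0), (0, 0), (0, 0), (0, 0), (0, 0), (0, 0), (0, 0), (2, 115), (2, 116), (2, 117), (2, 118), (3, 118), (0, 0), (0, 0), (0, 0), (0, 0), (0, 0), (2, 119), (2, 120), (2, 121), (2, 122), (3, 119), (3, 120), (3, 121), (4, 119), (4, 120), (5, 119), (6, 120), (5, 121), (6, 121), (4, 122), (5, 122), (6, 122), (3, 123), (4, 123), (5, 123), (6, 123), (2, 124), (3, 124), (4, 124), (5, 124),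 (6, 124), (7, 122), (7, 123), (8, 123), (9, 123), (10, 123), (7, 124), (8, 124), (9, 124), (10, 124), (11, 124), (12, 124), (13, 124), (14, 124), (15, 124), (16, 124), (0, 0), (0, 0), (0, 0), (0, 0), (0, 0), (0, 0), (0, 0), (0, 0), (0, 0), (0, 0), (0, 0), (0, 0), (0, 0), (0, 0), (0, 0), (0, 0), (43, 120), (43, 121), (44, 121), (43, 122), (44, 122), (45, 122), (43, 123), (44, 123), (45, 123), (46, 123), (53, 123), (54, 123), (55, 123), (56, 123), (69, 122), (73, 123), (0, 0)],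
  [(5, 28), (0, 93), (0, 94), (0, 95), (0, 96), (0, 97), (0, 98), (0, 99), (0, 100), (0, 101), (0, 102), (0, 103), (0, 104), (0, 105), (0, 106), (0, 107), (0, 0), (0, 109), (0, 110), (0, 111), (0, 112), (0, 113), (0, 0), (0, 115), (0, 116), (0, 0), (0, 0), (0, 119), (0, 120), (0, 0), (0, 0), (0, 0), (0, 0), (0, 0), (1, 110), (1, 111), (1, 112), (1, 113), (5, 102), (1, 115), (1, 116), (5, 105), (5, 107), (2, 115), (2, 116), (5, 111), (5, 113), (5, 116), (1, 119), (1, 120), (9, 105), (9, 107), (12, 107), (2, 119), (2, 120), (9, 111), (9, 113), (3, 119), (3, 120), (12, 111), (4, 119), (4, 120), (5, 119), (6, 120), (0, 0), (0, 0), (14, 113), (0, 0), (0, 0), (12, 116), (14, 116), (0, 0), (0, 0), (18, 113), (18, 116), (20, 116), (0, 0), (0, 0), (9, 120), (12, 120), (14, 120), (0, 0), (0, 0), (18, 120), (20, 120), (0, 0), (0, 0), (23, 120), (0, 0), (0, 0), (0, 0), (0, 0), (0, 0), (1, 125), (2, 125), (3, 125), (4, 125), (5, 125), (6, 125), (7, 125), (8, 125),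 (9, 125), (10, 125), (11, 125), (12, 125), (13, 125), (14, 125), (15, 125), (0, 0), (17, 125), (18, 125), (19, 125), (20, 125), (21, 125), (0, 0), (23, 125), (24, 125), (0, 0), (0, 0), (27, 125), (28, 125), (0, 0), (0, 0), (0, 0), (0, 0), (97, 120)],
  [(4, 29), (0, 93), (0, 94), (0, 95), (0, 96), (0, 97), (0, 98), (0, 99), (0, 100), (0, 101), (0, 102), (0, 103), (0, 104), (0, 105), (0, 106), (0, 0), (0, 108), (0, 109), (0, 110), (0, 111), (0, 112), (0, 0), (0, 114), (0, 115), (0, 0), (0, 117), (0, 0), (0, 119), (0, 0), (0, 121), (0, 0), (0, 0), (0, 0), (1, 109), (0, 0), (1, 111), (1, 112), (4, 102), (1, 114), (1, 115), (4, 105), (1, 117), (4, 108), (2, 115), (4, 111), (2, 117), (4, 114), (4, 117), (1, 119), (8, 105), (1, 121), (8, 108), (11, 108), (2, 119), (8, 111), (2, 121), (8, 114), (3, 119), (11, 111), (3, 121), (4, 119), (0, 0), (5, 119), (0, 0), (5, 121), (6, 121), (0, 0), (14, 114), (0, 0), (11, 117), (0, 0), (14, 117), (0, 0), (17, 114),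 (17, 117), (0, 0), (20, 117), (0, 0), (8, 121), (11, 121), (0, 0), (14, 121), (0, 0), (17, 121), (0, 0), (20, 121), (0, 0), (0, 0), (23, 121), (0, 0), (0, 0), (0, 0), (0, 0), (1, 125), (2, 125), (3, 125), (4, 125), (5, 125), (6, 125), (7, 125), (8, 125), (9, 125), (10, 125), (11, 125), (12, 125), (13, 125), (14, 125), (0, 0), (16, 125), (17, 125), (18, 125), (19, 125), (20, 125), (0, 0), (22, 125), (23, 125), (0, 0), (25, 125), (0, 0), (27, 125), (0, 0), (29, 125), (0, 0), (0, 0), (0, 0), (96, 121)],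
  [(4, 29), (0, 93), (0, 94), (0, 95), (0, 96), (0, 97), (0, 98), (0, 99), (0, 100), (0, 101), (0, 102), (0, 103), (0, 104), (0, 105), (0, 0), (0, 107), (0, 108), (0, 109), (0, 110), (0, 111), (0, 0), (0, 113), (0, 114), (0, 0), (0, 116), (0, 117), (0, 0), (0, 0), (0, 120), (0, 121), (0, 0), (0, 0), (0, 0), (1, 109), (1, 110), (0, 0), (4, 101), (1, 113), (1, 114), (4, 104), (1, 116), (1, 117), (4, 108), (4, 110), (2, 116), (2, 117), (4, 114), (4, 117), (8, 104), (1, 120), (1, 121), (8, 108), (11, 108), (8, 110), (2, 120), (2, 121), (8, 114), (11, 110), (3, 120), (3, 121), (0, 0), (4, 120), (0, 0), (6, 120), (5, 121), (6, 121), (0, 0), (0, 0), (15, 114), (11, 117), (0, 0), (0, 0), (15, 117), (17, 114), (17, 117), (0, 0), (0, 0), (21, 117), (8, 121), (11, 121), (0, 0), (0, 0), (15, 121), (17, 121), (0, 0), (0, 0), (21, 121), (0, 0), (0, 0), (24, 121), (0, 0), (0, 0), (0, 0), (1, 125), (2, 125), (3, 125), (4, 125), (5, 125), (6, 125), (7, 125), (8, 125),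 (9, 125), (10, 125), (11, 125), (12, 125), (13, 125), (0, 0), (15, 125), (16, 125), (17, 125), (18, 125), (19, 125), (0, 0), (21, 125), (22, 125), (0, 0), (24, 125), (25, 125), (0, 0), (0, 0), (28, 125), (29, 125), (0, 0), (0, 0), (0, 0), (96, 121)],
  [(3, 30), (0, 93), (0, 94), (0, 95), (0, 96), (0, 97), (0, 98), (0, 99), (0, 100), (0, 101), (0, 102), (0, 103), (0, 104), (0, 0), (0, 106), (0, 107), (0, 108), (0, 109), (0, 110), (0, 0), (0, 112), (0, 113), (0, 114), (0, 115), (0, 0), (0, 0), (0, 118), (0, 119), (0, 0), (0, 0), (0, 122), (0, 0), (0, 0), (1, 109), (1, 110), (3, 102), (0, 0), (1, 113), (1, 114), (1, 115), (3, 107), (3, 108), (1, 118), (2, 115), (3, 113), (3, 114), (2, 118), (3, 118), (1, 119), (7, 107), (7, 108), (1, 122), (11, 108), (2, 119), (7, 113), (7, 114), (2, 122), (3, 119), (0, 0), (0, 0), (4, 119), (11, 113), (5, 119), (0, 0), (12, 114), (0, 0), (4, 122), (5, 122), (6, 122), (0, 0), (11, 118), (12, 118), (0, 0), (17, 114),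 (0, 0), (17, 118), (18, 118), (0, 0), (7, 122), (0, 0), (11, 122), (12, 122), (0, 0), (0, 0), (17, 122), (18, 122), (0, 0), (0, 0), (0, 0), (0, 0), (23, 122), (0, 0), (0, 0), (1, 125), (2, 125), (3, 125), (4, 125), (5, 125), (6, 125), (7, 125), (8, 125), (9, 125), (10, 125), (11, 125), (12, 125), (0, 0), (14, 125), (15, 125), (16, 125), (17, 125), (18, 125), (0, 0), (20, 125), (21, 125), (22, 125), (23, 125), (0, 0), (0, 0), (26, 125), (27, 125), (0, 0), (0, 0), (30, 125), (0, 0), (0, 0), (95, 122)],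
  [(3, 30), (0, 93), (0, 94), (0, 95), (0, 96), (0, 97), (0, 98), (0, 99), (0, 100), (0, 101), (0, 102), (0, 103), (0, 0), (0, 105), (0, 106), (0, 107), (0, 108), (0, 109), (0, 0), (0, 111), (0, 112), (0, 113), (0, 114), (0, 0), (0, 116), (0, 0), (0, 118), (0, 0), (0, 120), (0, 0), (0, 122), (0, 0), (0, 0), (1, 109), (3, 101), (1, 111), (1, 112), (0, 0), (1, 114), (3, 106), (1, 116), (3, 108), (1, 118), (3, 112), (2, 116), (3, 114), (2, 118), (3, 118), (7, 106), (1, 120), (7, 108), (1, 122), (11, 108), (7, 112), (2, 120), (7, 114), (2, 122), (0, 0), (3, 120), (0, 0), (11, 112), (4, 120), (0, 0), (6, 120), (0, 0), (13, 114), (4, 122), (5, 122), (6, 122), (0, 0), (11, 118), (0, 0), (13, 118), (17, 114), (0, 0), (17, 118), (0, 0), (19, 118), (7, 122), (0, 0), (11, 122), (0, 0), (13, 122), (0, 0), (17, 122), (0, 0), (19, 122), (0, 0), (0, 0), (0, 0), (0, 0), (24, 122), (0, 0), (1, 125), (2, 125), (3, 125), (4, 125), (5, 125), (6, 125), (7, 125), (8, 125),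 (9, 125), (10, 125), (11, 125), (0, 0), (13, 125), (14, 125), (15, 125), (16, 125), (17, 125), (0, 0), (19, 125), (20, 125), (21, 125), (22, 125), (0, 0), (24, 125), (0, 0), (26, 125), (0, 0), (28, 125), (0, 0), (30, 125), (0, 0), (0, 0), (95, 122)],
  [(3, 30), (0, 93), (0, 94), (0, 95), (0, 96), (0, 97), (0, 98), (0, 99), (0, 100), (0, 101), (0, 102), (0, 0), (0, 104), (0, 105), (0, 106), (0, 107), (0, 108), (0, 0), (0, 110), (0, 111), (0, 112), (0, 113), (0, 114), (0, 0), (0, 0), (0, 117), (0, 118), (0, 0), (0, 0), (0, 121), (0, 122), (0, 0), (0, 0), (3, 100), (1, 110), (1, 111), (1, 112), (1, 113), (0, 0), (3, 106), (3, 107), (1, 117), (1, 118), (3, 112), (3, 113), (2, 117), (2, 118), (3, 118), (7, 106), (7, 107), (1, 121), (1, 122), (12, 107), (7, 112), (7, 113), (2, 121), (2, 122), (0, 0), (0, 0), (3, 121), (0, 0), (0, 0), (12, 112), (13, 113), (5, 121), (6, 121), (4, 122), (5, 122), (6, 122), (0, 0), (0, 0), (12, 118), (13, 118), (18, 113),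 (0, 0), (0, 0), (18, 118), (19, 118), (7, 122), (0, 0), (0, 0), (12, 122), (13, 122), (0, 0), (0, 0), (18, 122), (19, 122), (0, 0), (0, 0), (0, 0), (0, 0), (0, 0), (25, 122), (1, 125), (2, 125), (3, 125), (4, 125), (5, 125), (6, 125), (7, 125), (8, 125), (9, 125), (10, 125), (0, 0), (12, 125), (13, 125), (14, 125), (15, 125), (16, 125), (0, 0), (18, 125), (19, 125), (20, 125), (21, 125), (22, 125), (0, 0), (0, 0), (25, 125), (26, 125), (0, 0), (0, 0), (29, 125), (30, 125), (0, 0), (0, 0), (95, 122)],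
  [(2, 31), (0, 93), (0, 94), (0, 95), (0, 96), (0, 97), (0, 98), (0, 99), (0, 100), (0, 101), (0, 0), (0, 103), (0, 104), (0, 105), (0, 106), (0, 107), (0, 108), (0, 109), (0, 110), (0, 0), (0, 112), (0, 0), (0, 0), (0, 115), (0, 116), (0, 117), (0, 118), (0, 119), (0, 0), (0, 0), (0, 0), (0, 123), (0, 0), (1, 109), (1, 110), (2, 105), (1, 112), (2, 107), (2, 108), (0, 0), (1, 116), (1, 117), (1, 118), (2, 115), (2, 116), (2, 117), (2, 118), (3, 118), (1, 119), (7, 107), (7, 108), (8, 108), (1, 123), (2, 119), (0, 0), (0, 0), (0, 0), (3, 119), (7, 116), (7, 117), (4, 119), (8, 116), (5, 119), (0, 0), (9, 117), (0, 0), (8, 118), (9, 118), (0, 0), (3, 123), (4, 123), (5, 123), (6, 123), (0, 0), (17, 117), (17, 118), (18, 118), (0, 0), (0, 0), (7, 123), (8, 123), (9, 123), (0, 0), (0, 0), (0, 0), (0, 0), (0, 0), (17, 123), (18, 123), (0, 0), (20, 123), (0, 0), (0, 0), (1, 125), (2, 125), (3, 125), (4, 125), (5, 125), (6, 125), (7, 125), (8, 125), (9,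 125), (0, 0), (11, 125), (12, 125), (13, 125), (14, 125), (15, 125), (16, 125), (17, 125), (18, 125), (0, 0), (20, 125), (0, 0), (0, 0), (23, 125), (24, 125), (25, 125), (26, 125), (27, 125), (0, 0), (0, 0), (0, 0), (31, 125), (0, 0), (94, 123)],
  [(2, 31), (0, 93), (0, 94), (0, 95), (0, 96), (0, 97), (0, 98), (0, 99), (0, 100), (0, 0), (0, 102), (0, 103), (0, 104), (0, 105), (0, 106), (0, 107), (0, 108), (0, 109), (0, 0), (0, 111), (0, 0), (0, 113), (0, 0), (0, 115), (0, 116), (0, 117), (0, 118), (0, 0), (0, 120), (0, 0), (0, 0), (0, 123), (0, 0), (1, 109), (2, 104), (1, 111), (2, 106), (1, 113), (2, 108), (1, 115), (0, 0), (1, 117), (1, 118), (2, 115), (2, 116), (2, 117), (2, 118), (3, 118), (7, 106), (1, 120), (7, 108), (8, 108), (1, 123), (0, 0), (2, 120), (0, 0), (0, 0), (7, 115), (3, 120), (7, 117), (8, 115), (4, 120), (0, 0), (6, 120), (0, 0), (10, 117), (8, 118), (0, 0), (10, 118), (3, 123), (4, 123), (5, 123), (6, 123), (0, 0), (17, 117),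 (17, 118), (0, 0), (19, 118), (0, 0), (7, 123), (8, 123), (0, 0), (10, 123), (0, 0), (0, 0), (0, 0), (0, 0), (17, 123), (0, 0), (19, 123), (0, 0), (21, 123), (0, 0), (1, 125), (2, 125), (3, 125), (4, 125), (5, 125), (6, 125), (7, 125), (8, 125), (0, 0), (10, 125), (11, 125), (12, 125), (13, 125), (14, 125), (15, 125), (16, 125), (17, 125), (0, 0), (19, 125), (0, 0), (21, 125), (0, 0), (23, 125), (24, 125), (25, 125), (26, 125), (0, 0), (28, 125), (0, 0), (0, 0), (31, 125), (0, 0), (94, 123)],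
  [(2, 31), (0, 93), (0, 94), (0, 95), (0, 96), (0, 97), (0, 98), (0, 99), (0, 0), (0, 101), (0, 102), (0, 103), (0, 104), (0, 105), (0, 106), (0, 107), (0, 108), (0, 0), (0, 110), (0, 111), (0, 0), (0, 0), (0, 114), (0, 115), (0, 116), (0, 117), (0, 118), (0, 0), (0, 0), (0, 121), (0, 0), (0, 123), (0, 0), (2, 103), (1, 110), (1, 111), (2, 106), (2, 107), (1, 114), (1, 115), (1, 116), (0, 0), (1, 118), (2, 115), (2, 116), (2, 117), (2, 118), (3, 118), (7, 106), (7, 107), (1, 121), (9, 107), (1, 123), (0, 0), (0, 0), (2, 121), (0, 0), (7, 115), (7, 116), (3, 121), (0, 0), (0, 0), (9, 115), (10, 116), (5, 121), (6, 121), (0, 0), (9, 118), (10, 118), (3, 123), (4, 123), (5, 123), (6, 123), (0, 0), (18, 116), (0, 0), (18, 118), (19, 118), (0, 0), (7, 123), (0, 0), (9, 123), (10, 123), (0, 0), (0, 0), (0, 0), (0, 0), (0, 0), (18, 123), (19, 123), (0, 0), (0, 0), (22, 123), (1, 125), (2, 125), (3, 125), (4, 125), (5, 125), (6, 125), (7, 125), (0, 0), (9,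 125), (10, 125), (11, 125), (12, 125), (13, 125), (14, 125), (15, 125), (16, 125), (0, 0), (18, 125), (19, 125), (0, 0), (0, 0), (22, 125), (23, 125), (24, 125), (25, 125), (26, 125), (0, 0), (0, 0), (29, 125), (0, 0), (31, 125), (0, 0), (94, 123)]] = true := by decide +kernel

theorem dE7_3 : decRowsB chevE7 42 [
  [(2, 31), (0, 93), (0, 94), (0, 95), (0, 96), (0, 97), (0, 98), (0, 0), (0, 100), (0, 101), (0, 102), (0, 103), (0, 104), (0, 105), (0, 106), (0, 107), (0, 108), (0, 0), (0, 0), (0, 0), (0, 112), (0, 113), (0, 114), (0, 115), (0, 116), (0, 117), (0, 118), (0, 0), (0, 0), (0, 0), (0, 122), (0, 123), (0, 0), (2, 103), (2, 104), (2, 105), (1, 112), (1, 113), (1, 114), (1, 115), (1, 116), (1, 117), (0, 0), (2, 115), (2, 116), (2, 117), (2, 118), (3, 118), (8, 104), (8, 105), (9, 105), (1, 122), (1, 123), (0, 0), (0, 0), (0, 0), (2, 122), (0, 0), (0, 0), (0, 0), (8, 115), (8, 116), (9, 115), (10, 116), (9, 117), (10, 117), (4, 122), (5, 122),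 (6, 122), (3, 123), (4, 123), (5, 123), (6, 123), (0, 0), (0, 0), (20, 116), (20, 117), (21, 117), (0, 0), (0, 0), (8, 123), (9, 123), (10, 123), (0, 0), (0, 0), (0, 0), (0, 0), (0, 0), (0, 0), (0, 0), (20, 123), (21, 123), (22, 123), (1, 125), (2, 125), (3, 125), (4, 125), (5, 125), (6, 125), (0, 0), (8, 125), (9, 125), (10, 125), (11, 125), (12, 125), (13, 125), (14, 125), (15, 125), (16, 125), (0, 0), (0, 0), (0, 0), (20, 125), (21, 125), (22, 125), (23, 125), (24, 125), (25, 125), (26, 125), (0, 0), (0, 0), (0, 0), (30, 125), (31, 125), (0, 0), (94, 123)],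
  [(1, 32), (0, 93), (0, 94), (0, 95), (0, 96), (0, 97), (0, 98), (0, 99), (0, 100), (0, 101), (0, 0), (0, 103), (0, 104), (0, 0), (0, 106), (0, 0), (0, 0), (0, 109), (0, 110), (0, 111), (0, 112), (0, 113), (0, 114), (0, 115), (0, 116), (0, 117), (0, 118), (0, 119), (0, 0), (0, 0), (0, 0), (0, 0), (0, 124), (1, 109), (1, 110), (1, 111), (1, 112), (1, 113), (1, 114), (1, 115), (1, 116), (1, 117), (1, 118), (0, 0), (2, 116), (2, 117), (2, 118), (3, 118), (1, 119), (0, 0), (0, 0), (0, 0), (0, 0), (2, 119), (7, 113), (7, 114), (8, 114), (3, 119), (7, 116), (7, 117), (4, 119), (8, 116), (5, 119), (0, 0), (9, 117), (0, 0), (8, 118), (9, 118), (0, 0), (11, 117), (11, 118), (12, 118), (0, 0), (2, 124), (3, 124), (4, 124), (5, 124), (6, 124), (0, 0), (0, 0), (0, 0), (0, 0), (0, 0), (7, 124), (8, 124), (9, 124), (0, 0), (11, 124), (12, 124), (0, 0), (14, 124), (0, 0), (0, 0), (1, 125), (2, 125), (3, 125), (4, 125), (5, 125), (6, 125), (7, 125), (8, 125), (9,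 125), (0, 0), (11, 125), (12, 125), (0, 0), (14, 125), (0, 0), (0, 0), (17, 125), (18, 125), (19, 125), (20, 125), (21, 125), (22, 125), (23, 125), (24, 125), (25, 125), (26, 125), (27, 125), (0, 0), (0, 0), (0, 0), (0, 0), (32, 125), (93, 124)],
  [(1, 32), (0, 93), (0, 94), (0, 95), (0, 96), (0, 97), (0, 98), (0, 99), (0, 100), (0, 0), (0, 102), (0, 103), (0, 0), (0, 105), (0, 0), (0, 107), (0, 0), (0, 109), (0, 110), (0, 111), (0, 112), (0, 113), (0, 114), (0, 115), (0, 116), (0, 117), (0, 118), (0, 0), (0, 120), (0, 0), (0, 0), (0, 0), (0, 124), (1, 109), (1, 110), (1, 111), (1, 112), (1, 113), (1, 114), (1, 115), (1, 116), (1, 117), (1, 118), (2, 115), (0, 0), (2, 117), (2, 118), (3, 118), (0, 0), (1, 120), (0, 0), (0, 0), (0, 0), (7, 112), (2, 120), (7, 114), (8, 114), (7, 115), (3, 120), (7, 117), (8, 115), (4, 120), (0, 0), (6, 120), (0, 0), (10, 117), (8, 118), (0, 0), (10, 118), (11, 117), (11, 118), (0, 0), (13, 118), (2, 124), (3, 124),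 (4, 124), (5, 124), (6, 124), (0, 0), (0, 0), (0, 0), (0, 0), (0, 0), (7, 124), (8, 124), (0, 0), (10, 124), (11, 124), (0, 0), (13, 124), (0, 0), (15, 124), (0, 0), (1, 125), (2, 125), (3, 125), (4, 125), (5, 125), (6, 125), (7, 125), (8, 125), (0, 0), (10, 125), (11, 125), (0, 0), (13, 125), (0, 0), (15, 125), (0, 0), (17, 125), (18, 125), (19, 125), (20, 125), (21, 125), (22, 125), (23, 125), (24, 125), (25, 125), (26, 125), (0, 0), (28, 125), (0, 0), (0, 0), (0, 0), (32, 125), (93, 124)],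
  [(1, 32), (0, 93), (0, 94), (0, 95), (0, 96), (0, 97), (0, 98), (0, 99), (0, 0), (0, 101), (0, 102), (0, 0), (0, 104), (0, 105), (0, 0), (0, 0), (0, 108), (0, 109), (0, 110), (0, 111), (0, 112), (0, 113), (0, 114), (0, 115), (0, 116), (0, 117), (0, 118), (0, 0), (0, 0), (0, 121), (0, 0), (0, 0), (0, 124), (1, 109), (1, 110), (1, 111), (1, 112), (1, 113), (1, 114), (1, 115), (1, 116), (1, 117), (1, 118), (2, 115), (2, 116), (0, 0), (2, 118), (3, 118), (0, 0), (0, 0), (1, 121), (0, 0), (0, 0), (7, 112), (7, 113), (2, 121), (9, 113), (7, 115), (7, 116), (3, 121), (0, 0), (0, 0), (9, 115), (10, 116), (5, 121), (6, 121), (0, 0), (9, 118), (10, 118), (12, 116), (0, 0), (12, 118), (13, 118), (2, 124), (3, 124), (4, 124), (5, 124), (6, 124), (0, 0), (0, 0), (0, 0), (0, 0), (0, 0), (7, 124), (0, 0), (9, 124), (10, 124), (0, 0), (12, 124), (13, 124), (0, 0), (0, 0), (16, 124), (1, 125), (2, 125), (3, 125), (4, 125), (5, 125), (6, 125), (7, 125), (0, 0), (9,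 125), (10, 125), (0, 0), (12, 125), (13, 125), (0, 0), (0, 0), (16, 125), (17, 125), (18, 125), (19, 125), (20, 125), (21, 125), (22, 125), (23, 125), (24, 125), (25, 125), (26, 125), (0, 0), (0, 0), (29, 125), (0, 0), (0, 0), (32, 125), (93, 124)],
  [(1, 32), (0, 93), (0, 94), (0, 95), (0, 96), (0, 97), (0, 98), (0, 0), (0, 100), (0, 101), (0, 102), (0, 0), (0, 0), (0, 0), (0, 106), (0, 107), (0, 108), (0, 109), (0, 110), (0, 111), (0, 112), (0, 113), (0, 114), (0, 115), (0, 116), (0, 117), (0, 118), (0, 0), (0, 0), (0, 0), (0, 122), (0, 0), (0, 124), (1, 109), (1, 110), (1, 111), (1, 112), (1, 113), (1, 114), (1, 115), (1, 116), (1, 117), (1, 118), (2, 115), (2, 116), (2, 117), (0, 0), (3, 118), (0, 0), (0, 0), (0, 0), (1, 122), (0, 0), (8, 110), (8, 111), (9, 111), (2, 122), (0, 0), (0, 0), (0, 0), (8, 115), (8, 116), (9, 115), (10, 116), (9, 117), (10, 117), (4, 122), (5, 122), (6, 122), (0, 0), (14, 116), (14, 117), (15, 117), (2, 124), (3, 124),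 (4, 124), (5, 124), (6, 124), (0, 0), (0, 0), (0, 0), (0, 0), (0, 0), (0, 0), (8, 124), (9, 124), (10, 124), (0, 0), (0, 0), (0, 0), (14, 124), (15, 124), (16, 124), (1, 125), (2, 125), (3, 125), (4, 125), (5, 125), (6, 125), (0, 0), (8, 125), (9, 125), (10, 125), (0, 0), (0, 0), (0, 0), (14, 125), (15, 125), (16, 125), (17, 125), (18, 125), (19, 125), (20, 125), (21, 125), (22, 125), (23, 125), (24, 125), (25, 125), (26, 125), (0, 0), (0, 0), (0, 0), (30, 125), (0, 0), (32, 125), (93, 124)],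
  [(1, 32), (0, 93), (0, 94), (0, 95), (0, 96), (0, 97), (0, 98), (0, 0), (0, 0), (0, 0), (0, 0), (0, 103), (0, 104), (0, 105), (0, 106), (0, 107), (0, 108), (0, 109), (0, 110), (0, 111), (0, 112), (0, 113), (0, 114), (0, 115), (0, 116), (0, 117), (0, 118), (0, 0), (0, 0), (0, 0), (0, 0), (0, 123), (0, 124), (1, 109), (1, 110), (1, 111), (1, 112), (1, 113), (1, 114), (1, 115), (1, 116), (1, 117), (1, 118), (2, 115), (2, 116), (2, 117), (2, 118), (0, 0), (0, 0), (0, 0), (0, 0), (0, 0), (1, 123), (0, 0), (0, 0), (0, 0), (0, 0), (11, 110), (11, 111), (12, 111), (11, 112), (11, 113), (12, 112), (13, 113), (12, 114), (13, 114), (14, 113), (14, 114), (15, 114), (3, 123), (4, 123), (5, 123), (6, 123), (2, 124), (3, 124), (4, 124), (5, 124), (6, 124), (0, 0), (0, 0), (0, 0), (0, 0), (0, 0), (0, 0), (0, 0), (0, 0), (0, 0), (11, 124), (12, 124), (13, 124), (14, 124), (15, 124), (16, 124), (1, 125), (2, 125), (3, 125), (4, 125), (5, 125), (6, 125), (0, 0), (0,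 0), (0, 0), (0, 0), (11, 125), (12, 125), (13, 125), (14, 125), (15, 125), (16, 125), (17, 125), (18, 125), (19, 125), (20, 125), (21, 125), (22, 125), (23, 125), (24, 125), (25, 125), (26, 125), (0, 0), (0, 0), (0, 0), (0, 0), (31, 125), (32, 125), (93, 124)],
  [(2, 31), (0, 93), (0, 94), (0, 95), (0, 96), (0, 97), (0, 0), (0, 99), (0, 100), (0, 101), (0, 102), (0, 103), (0, 104), (0, 105), (0, 106), (0, 107), (0, 108), (0, 109), (0, 110), (0, 0), (0, 112), (0, 0), (0, 0), (0, 115), (0, 0), (0, 0), (0, 0), (0, 119), (0, 120), (0, 121), (0, 122), (0, 123), (0, 0), (1, 109), (1, 110), (2, 105), (1, 112), (2, 107), (2, 108), (1, 115), (3, 107), (3, 108), (4, 108), (2, 115), (0, 0), (0, 0), (0, 0), (0, 0), (0, 0), (1, 120), (1, 121), (1, 122), (1, 123), (2, 119), (2, 120), (2, 121), (2, 122), (3, 119), (3, 120), (3, 121), (4, 119), (4, 120), (5, 119), (0, 0), (5, 121), (0, 0), (4, 122), (5, 122), (0, 0), (3, 123), (4, 123), (5, 123), (0, 0), (0, 0),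 (0, 0), (0, 0), (0, 0), (0, 0), (7, 122), (7, 123), (8, 123), (9, 123), (10, 123), (17, 121), (17, 122), (18, 122), (0, 0), (17, 123), (18, 123), (0, 0), (20, 123), (0, 0), (0, 0), (1, 125), (2, 125), (3, 125), (4, 125), (5, 125), (0, 0), (7, 125), (8, 125), (9, 125), (10, 125), (11, 125), (12, 125), (13, 125), (14, 125), (15, 125), (16, 125), (17, 125), (18, 125), (0, 0), (20, 125), (0, 0), (0, 0), (23, 125), (0, 0), (0, 0), (0, 0), (27, 125), (28, 125), (29, 125), (30, 125), (31, 125), (0, 0), (94, 123)],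
  [(2, 31), (0, 93), (0, 94), (0, 95), (0, 96), (0, 0), (0, 98), (0, 99), (0, 100), (0, 101), (0, 102), (0, 103), (0, 104), (0, 105), (0, 106), (0, 107), (0, 108), (0, 109), (0, 0), (0, 111), (0, 0), (0, 113), (0, 0), (0, 0), (0, 116), (0, 0), (0, 0), (0, 119), (0, 120), (0, 121), (0, 122), (0, 123), (0, 0), (1, 109), (2, 104), (1, 111), (2, 106), (1, 113), (2, 108), (3, 106), (1, 116), (3, 108), (4, 108), (0, 0), (2, 116), (0, 0), (0, 0), (0, 0), (1, 119), (0, 0), (1, 121), (1, 122), (1, 123), (2, 119), (2, 120), (2, 121), (2, 122), (3, 119), (3, 120), (3, 121), (4, 119), (4, 120), (0, 0), (6, 120), (0, 0), (6, 121), (4, 122), (0, 0), (6, 122), (3, 123), (4, 123), (0, 0), (6, 123), (0, 0), (0, 0), (0, 0), (0, 0), (0, 0), (7, 122), (7, 123), (8, 123), (9, 123), (10, 123), (17, 121), (17, 122), (0, 0), (19, 122), (17, 123), (0, 0), (19, 123), (0, 0), (21, 123), (0, 0), (1, 125), (2, 125), (3, 125), (4, 125), (0, 0), (6, 125), (7, 125), (8, 125), (9,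 125), (10, 125), (11, 125), (12, 125), (13, 125), (14, 125), (15, 125), (16, 125), (17, 125), (0, 0), (19, 125), (0, 0), (21, 125), (0, 0), (0, 0), (24, 125), (0, 0), (0, 0), (27, 125), (28, 125), (29, 125), (30, 125), (31, 125), (0, 0), (94, 123)],
  [(2, 31), (0, 93), (0, 94), (0, 95), (0, 0), (0, 97), (0, 98), (0, 99), (0, 100), (0, 101), (0, 102), (0, 103), (0, 104), (0, 105), (0, 106), (0, 107), (0, 108), (0, 0), (0, 110), (0, 111), (0, 0), (0, 0), (0, 114), (0, 0), (0, 0), (0, 117), (0, 0), (0, 119), (0, 120), (0, 121), (0, 122), (0, 123), (0, 0), (2, 103), (1, 110), (1, 111), (2, 106), (2, 107), (1, 114), (3, 106), (3, 107), (1, 117), (5, 107), (0, 0), (0, 0), (2, 117), (0, 0), (0, 0), (1, 119), (1, 120), (0, 0), (1, 122), (1, 123), (2, 119), (2, 120), (2, 121), (2, 122), (3, 119), (3, 120), (3, 121), (0, 0), (0, 0), (5, 119), (6, 120), (5, 121), (6, 121), (0, 0), (5, 122), (6, 122), (3, 123), (0, 0), (5, 123), (6, 123), (0, 0), (0, 0), (0,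 0), (0, 0), (0, 0), (7, 122), (7, 123), (8, 123), (9, 123), (10, 123), (18, 120), (0, 0), (18, 122), (19, 122), (0, 0), (18, 123), (19, 123), (0, 0), (0, 0), (22, 123), (1, 125), (2, 125), (3, 125), (0, 0), (5, 125), (6, 125), (7, 125), (8, 125), (9, 125), (10, 125), (11, 125), (12, 125), (13, 125), (14, 125), (15, 125), (16, 125), (0, 0), (18, 125), (19, 125), (0, 0), (0, 0), (22, 125), (0, 0), (0, 0), (25, 125), (0, 0), (27, 125), (28, 125), (29, 125), (30, 125), (31, 125), (0, 0), (94, 123)],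
  [(2, 31), (0, 93), (0, 94), (0, 0), (0, 96), (0, 97), (0, 98), (0, 99), (0, 100), (0, 101), (0, 102), (0, 103), (0, 104), (0, 105), (0, 106), (0, 107), (0, 108), (0, 0), (0, 0), (0, 0), (0, 112), (0, 113), (0, 114), (0, 0), (0, 0), (0, 0), (0, 118), (0, 119), (0, 120), (0, 121), (0, 122), (0, 123), (0, 0), (2, 103), (2, 104), (2, 105), (1, 112), (1, 113), (1, 114), (4, 104), (4, 105), (5, 105), (1, 118), (0, 0), (0, 0), (0, 0), (2, 118), (0, 0), (1, 119), (1, 120), (1, 121), (0, 0), (1, 123), (2, 119), (2, 120), (2, 121), (2, 122), (0, 0), (0, 0), (0, 0), (4, 119), (4, 120), (5, 119), (6, 120), (5, 121), (6, 121), (4, 122), (5, 122), (6, 122), (0, 0), (4, 123), (5, 123), (6, 123), (0, 0), (0, 0), (0, 0), (0, 0), (0, 0), (7, 122), (7, 123), (8, 123), (9, 123), (10, 123), (0, 0), (20, 120), (20, 121), (21, 121), (0, 0), (0, 0), (0, 0), (20, 123), (21, 123), (22, 123), (1, 125), (2, 125), (0, 0), (4, 125), (5, 125), (6, 125), (7, 125), (8, 125), (9,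 125), (10, 125), (11, 125), (12, 125), (13, 125), (14, 125), (15, 125), (16, 125), (0, 0), (0, 0), (0, 0), (20, 125), (21, 125), (22, 125), (0, 0), (0, 0), (0, 0), (26, 125), (27, 125), (28, 125), (29, 125), (30, 125), (31, 125), (0, 0), (94, 123)],
  [(3, 30), (0, 93), (0, 0), (0, 95), (0, 96), (0, 97), (0, 98), (0, 99), (0, 100), (0, 101), (0, 102), (0, 103), (0, 104), (0, 105), (0, 106), (0, 107), (0, 108), (0, 0), (0, 0), (0, 0), (0, 0), (0, 0), (0, 0), (0, 115), (0, 116), (0, 117), (0, 118), (0, 119), (0, 120), (0, 121), (0, 122), (0, 123), (0, 0), (3, 100), (3, 101), (3, 102), (4, 101), (4, 102), (5, 102), (1, 115), (1, 116), (1, 117), (1, 118), (0, 0), (0, 0), (0, 0), (0, 0), (3, 118), (1, 119), (1, 120), (1, 121), (1, 122), (0, 0), (0, 0), (0, 0), (0, 0), (0, 0), (3, 119), (3, 120), (3, 121), (4, 119), (4, 120), (5, 119), (6, 120), (5, 121), (6, 121), (4, 122), (5, 122), (6, 122), (3, 123), (4, 123), (5, 123), (6, 123), (0, 0), (0, 0), (0,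 0), (0, 0), (0, 0), (7, 122), (7, 123), (8, 123), (9, 123), (10, 123), (0, 0), (0, 0), (0, 0), (0, 0), (23, 120), (23, 121), (24, 121), (23, 122), (24, 122), (25, 122), (1, 125), (0, 0), (3, 125), (4, 125), (5, 125), (6, 125), (7, 125), (8, 125), (9, 125), (10, 125), (11, 125), (12, 125), (13, 125), (14, 125), (15, 125), (16, 125), (0, 0), (0, 0), (0, 0), (0, 0), (0, 0), (0, 0), (23, 125), (24, 125), (25, 125), (26, 125), (27, 125), (28, 125), (29, 125), (30, 125), (31, 125), (0, 0), (95, 122)],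
  [(1, 32), (0, 93), (0, 94), (0, 95), (0, 96), (0, 97), (0, 0), (0, 99), (0, 100), (0, 101), (0, 102), (0, 103), (0, 104), (0, 0), (0, 106), (0, 0), (0, 0), (0, 109), (0, 110), (0, 111), (0, 112), (0, 113), (0, 114), (0, 115), (0, 0), (0, 0), (0, 0), (0, 119), (0, 120), (0, 121), (0, 122), (0, 0), (0, 124), (1, 109), (1, 110), (1, 111), (1, 112), (1, 113), (1, 114), (1, 115), (0, 0), (0, 0), (0, 0), (2, 115), (3, 113), (3, 114), (4, 114), (0, 0), (1, 119), (1, 120), (1, 121), (1, 122), (0, 0), (0, 0), (2, 120), (2, 121), (2, 122), (3, 119), (3, 120), (3, 121), (4, 119), (4, 120), (5, 119), (0, 0), (5, 121), (0, 0), (4, 122), (5, 122), (0, 0), (0, 0), (0, 0), (0, 0), (0, 0), (2, 124), (3, 124), (4, 124), (5, 124), (0, 0), (7, 122), (11, 121), (11, 122), (12, 122), (0, 0), (7, 124), (8, 124), (9, 124), (10, 124), (11, 124), (12, 124), (0, 0), (14, 124), (0, 0), (0, 0), (1, 125), (2, 125), (3, 125), (4, 125), (5, 125), (0, 0), (7, 125), (8, 125), (9,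 125), (10, 125), (11, 125), (12, 125), (0, 0), (14, 125), (0, 0), (0, 0), (17, 125), (18, 125), (19, 125), (20, 125), (21, 125), (22, 125), (23, 125), (0, 0), (0, 0), (0, 0), (27, 125), (28, 125), (29, 125), (30, 125), (0, 0), (32, 125), (93, 124)],
  [(1, 32), (0, 93), (0, 94), (0, 95), (0, 96), (0, 0), (0, 98), (0, 99), (0, 100), (0, 101), (0, 102), (0, 103), (0, 0), (0, 105), (0, 0), (0, 107), (0, 0), (0, 109), (0, 110), (0, 111), (0, 112), (0, 113), (0, 114), (0, 0), (0, 116), (0, 0), (0, 0), (0, 119), (0, 120), (0, 121), (0, 122), (0, 0), (0, 124), (1, 109), (1, 110), (1, 111), (1, 112), (1, 113), (1, 114), (0, 0), (1, 116), (0, 0), (0, 0), (3, 112), (2, 116), (3, 114), (4, 114), (0, 0), (1, 119), (1, 120), (1, 121), (1, 122), (0, 0), (2, 119), (0, 0), (2, 121), (2, 122), (3, 119), (3, 120), (3, 121), (4, 119), (4, 120), (0, 0), (6, 120), (0, 0), (6, 121), (4, 122), (0, 0), (6, 122), (0, 0), (0, 0), (0, 0), (0, 0), (2, 124), (3, 124), (4, 124),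 (0, 0), (6, 124), (7, 122), (11, 121), (11, 122), (0, 0), (13, 122), (7, 124), (8, 124), (9, 124), (10, 124), (11, 124), (0, 0), (13, 124), (0, 0), (15, 124), (0, 0), (1, 125), (2, 125), (3, 125), (4, 125), (0, 0), (6, 125), (7, 125), (8, 125), (9, 125), (10, 125), (11, 125), (0, 0), (13, 125), (0, 0), (15, 125), (0, 0), (17, 125), (18, 125), (19, 125), (20, 125), (21, 125), (22, 125), (0, 0), (24, 125), (0, 0), (0, 0), (27, 125), (28, 125), (29, 125), (30, 125), (0, 0), (32, 125), (93, 124)],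
  [(1, 32), (0, 93), (0, 94), (0, 95), (0, 0), (0, 97), (0, 98), (0, 99), (0, 100), (0, 101), (0, 102), (0, 0), (0, 104), (0, 105), (0, 0), (0, 0), (0, 108), (0, 109), (0, 110), (0, 111), (0, 112), (0, 113), (0, 114), (0, 0), (0, 0), (0, 117), (0, 0), (0, 119), (0, 120), (0, 121), (0, 122), (0, 0), (0, 124), (1, 109), (1, 110), (1, 111), (1, 112), (1, 113), (1, 114), (0, 0), (0, 0), (1, 117), (0, 0), (3, 112), (3, 113), (2, 117), (5, 113), (0, 0), (1, 119), (1, 120), (1, 121), (1, 122), (0, 0), (2, 119), (2, 120), (0, 0), (2, 122), (3, 119), (3, 120), (3, 121), (0, 0), (0, 0), (5, 119), (6, 120), (5, 121), (6, 121), (0, 0), (5, 122), (6, 122), (0, 0), (0, 0), (0, 0), (0, 0), (2, 124), (3, 124), (0, 0), (5, 124), (6, 124), (7, 122), (12, 120), (0, 0), (12, 122), (13, 122), (7, 124), (8, 124), (9, 124), (10, 124), (0, 0), (12, 124), (13, 124), (0, 0), (0, 0), (16, 124), (1, 125), (2, 125), (3, 125), (0, 0), (5, 125), (6, 125), (7, 125), (8, 125), (9,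 125), (10, 125), (0, 0), (12, 125), (13, 125), (0, 0), (0, 0), (16, 125), (17, 125), (18, 125), (19, 125), (20, 125), (21, 125), (22, 125), (0, 0), (0, 0), (25, 125), (0, 0), (27, 125), (28, 125), (29, 125), (30, 125), (0, 0), (32, 125), (93, 124)]] = true := by decide +kernel

theorem dE7_4 : decRowsB chevE7 56 [
  [(1, 32), (0, 93), (0, 94), (0, 0), (0, 96), (0, 97), (0, 98), (0, 99), (0, 100), (0, 101), (0, 102), (0, 0), (0, 0), (0, 0), (0, 106), (0, 107), (0, 108), (0, 109), (0, 110), (0, 111), (0, 112), (0, 113), (0, 114), (0, 0), (0, 0), (0, 0), (0, 118), (0, 119), (0, 120), (0, 121), (0, 122), (0, 0), (0, 124), (1, 109), (1, 110), (1, 111), (1, 112), (1, 113), (1, 114), (0, 0), (0, 0), (0, 0), (1, 118), (4, 110), (4, 111), (5, 111), (2, 118), (0, 0), (1, 119), (1, 120), (1, 121), (1, 122), (0, 0), (2, 119), (2, 120), (2, 121), (0, 0), (0, 0), (0, 0), (0, 0), (4, 119), (4, 120), (5, 119), (6, 120), (5, 121), (6, 121), (4, 122), (5, 122), (6,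 122), (0, 0), (0, 0), (0, 0), (0, 0), (2, 124), (0, 0), (4, 124), (5, 124), (6, 124), (7, 122), (0, 0), (14, 120), (14, 121), (15, 121), (7, 124), (8, 124), (9, 124), (10, 124), (0, 0), (0, 0), (0, 0), (14, 124), (15, 124), (16, 124), (1, 125), (2, 125), (0, 0), (4, 125), (5, 125), (6, 125), (7, 125), (8, 125), (9, 125), (10, 125), (0, 0), (0, 0), (0, 0), (14, 125), (15, 125), (16, 125), (17, 125), (18, 125), (19, 125), (20, 125), (21, 125), (22, 125), (0, 0), (0, 0), (0, 0), (26, 125), (27, 125), (28, 125), (29, 125), (30, 125), (0, 0), (32, 125), (93, 124)],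
  [(1, 32), (0, 93), (0, 94), (0, 95), (0, 96), (0, 97), (0, 0), (0, 99), (0, 100), (0, 101), (0, 0), (0, 103), (0, 104), (0, 105), (0, 106), (0, 0), (0, 0), (0, 109), (0, 110), (0, 111), (0, 112), (0, 0), (0, 0), (0, 115), (0, 116), (0, 117), (0, 0), (0, 119), (0, 120), (0, 121), (0, 0), (0, 123), (0, 124), (1, 109), (1, 110), (1, 111), (1, 112), (0, 0), (0, 0), (1, 115), (1, 116), (1, 117), (0, 0), (2, 115), (2, 116), (2, 117), (0, 0), (4, 117), (1, 119), (1, 120), (1, 121), (0, 0), (1, 123), (2, 119), (2, 120), (2, 121), (0, 0), (0, 0), (3, 120), (3, 121), (4, 119), (4, 120), (5, 119), (0, 0), (5, 121), (0, 0), (0, 0), (0, 0), (0, 0), (3, 123), (4, 123), (5, 123), (0, 0), (2, 124), (3, 124), (4, 124), (5, 124), (0, 0), (8, 121), (7, 123), (8, 123), (9, 123), (0, 0), (7, 124), (8, 124), (9, 124), (0, 0), (11, 124), (12, 124), (13, 124), (14, 124), (0, 0), (0, 0), (1, 125), (2, 125), (3, 125), (4, 125), (5, 125), (0, 0), (7, 125), (8, 125), (9, 125),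 (0, 0), (11, 125), (12, 125), (13, 125), (14, 125), (0, 0), (0, 0), (17, 125), (18, 125), (19, 125), (20, 125), (0, 0), (0, 0), (23, 125), (24, 125), (25, 125), (0, 0), (27, 125), (28, 125), (29, 125), (0, 0), (31, 125), (32, 125), (93, 124)],
  [(1, 32), (0, 93), (0, 94), (0, 95), (0, 96), (0, 0), (0, 98), (0, 99), (0, 100), (0, 0), (0, 102), (0, 103), (0, 104), (0, 105), (0, 0), (0, 107), (0, 0), (0, 109), (0, 110), (0, 111), (0, 0), (0, 113), (0, 0), (0, 115), (0, 116), (0, 117), (0, 0), (0, 119), (0, 120), (0, 121), (0, 0), (0, 123), (0, 124), (1, 109), (1, 110), (1, 111), (0, 0), (1, 113), (0, 0), (1, 115), (1, 116), (1, 117), (0, 0), (2, 115), (2, 116), (2, 117), (0, 0), (4, 117), (1, 119), (1, 120), (1, 121), (0, 0), (1, 123), (2, 119), (2, 120), (2, 121), (0, 0), (3, 119), (0, 0), (3, 121), (4, 119), (4, 120), (0, 0), (6, 120), (0, 0), (6, 121), (0, 0), (0, 0), (0, 0), (3, 123), (4, 123), (0, 0), (6, 123), (2, 124), (3, 124), (4, 124), (0,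 0), (6, 124), (8, 121), (7, 123), (8, 123), (0, 0), (10, 123), (7, 124), (8, 124), (0, 0), (10, 124), (11, 124), (12, 124), (13, 124), (0, 0), (15, 124), (0, 0), (1, 125), (2, 125), (3, 125), (4, 125), (0, 0), (6, 125), (7, 125), (8, 125), (0, 0), (10, 125), (11, 125), (12, 125), (13, 125), (0, 0), (15, 125), (0, 0), (17, 125), (18, 125), (19, 125), (0, 0), (21, 125), (0, 0), (23, 125), (24, 125), (25, 125), (0, 0), (27, 125), (28, 125), (29, 125), (0, 0), (31, 125), (32, 125), (93, 124)],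
  [(1, 32), (0, 93), (0, 94), (0, 95), (0, 0), (0, 97), (0, 98), (0, 99), (0, 0), (0, 101), (0, 102), (0, 103), (0, 104), (0, 105), (0, 0), (0, 0), (0, 108), (0, 109), (0, 110), (0, 111), (0, 0), (0, 0), (0, 114), (0, 115), (0, 116), (0, 117), (0, 0), (0, 119), (0, 120), (0, 121), (0, 0), (0, 123), (0, 124), (1, 109), (1, 110), (1, 111), (0, 0), (0, 0), (1, 114), (1, 115), (1, 116), (1, 117), (0, 0), (2, 115), (2, 116), (2, 117), (0, 0), (5, 116), (1, 119), (1, 120), (1, 121), (0, 0), (1, 123), (2, 119), (2, 120), (2, 121), (0, 0), (3, 119), (3, 120), (0, 0), (0, 0), (0, 0), (5, 119), (6, 120), (5, 121), (6, 121), (0, 0), (0, 0), (0, 0), (3, 123), (0, 0), (5, 123), (6, 123), (2, 124), (3, 124), (0, 0), (5, 124), (6, 124), (9, 120), (7, 123), (0, 0), (9, 123), (10, 123), (7, 124), (0, 0), (9, 124), (10, 124), (11, 124), (12, 124), (13, 124), (0, 0), (0, 0), (16, 124), (1, 125), (2, 125), (3, 125), (0, 0), (5, 125), (6, 125), (7, 125), (0, 0), (9, 125),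 (10, 125), (11, 125), (12, 125), (13, 125), (0, 0), (0, 0), (16, 125), (17, 125), (18, 125), (19, 125), (0, 0), (0, 0), (22, 125), (23, 125), (24, 125), (25, 125), (0, 0), (27, 125), (28, 125), (29, 125), (0, 0), (31, 125), (32, 125), (93, 124)],
  [(1, 32), (0, 93), (0, 94), (0, 95), (0, 96), (0, 97), (0, 0), (0, 99), (0, 100), (0, 101), (0, 0), (0, 103), (0, 104), (0, 0), (0, 106), (0, 107), (0, 0), (0, 109), (0, 110), (0, 0), (0, 112), (0, 113), (0, 0), (0, 115), (0, 116), (0, 0), (0, 118), (0, 119), (0, 120), (0, 0), (0, 122), (0, 123), (0, 124), (1, 109), (1, 110), (0, 0), (1, 112), (1, 113), (0, 0), (1, 115), (1, 116), (0, 0), (1, 118), (2, 115), (2, 116), (0, 0), (2, 118), (3, 118), (1, 119), (1, 120), (0, 0), (1, 122), (1, 123), (2, 119), (2, 120), (0, 0), (2, 122), (3, 119), (3, 120), (0, 0), (0, 0), (4, 120), (5, 119), (0, 0), (0, 0), (0, 0), (4, 122), (5, 122), (0, 0), (3, 123), (4, 123), (5, 123), (0, 0), (2, 124), (3, 124), (4, 124), (5,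 124), (0, 0), (7, 122), (7, 123), (8, 123), (9, 123), (0, 0), (7, 124), (8, 124), (9, 124), (0, 0), (11, 124), (12, 124), (0, 0), (14, 124), (15, 124), (0, 0), (1, 125), (2, 125), (3, 125), (4, 125), (5, 125), (0, 0), (7, 125), (8, 125), (9, 125), (0, 0), (11, 125), (12, 125), (0, 0), (14, 125), (15, 125), (0, 0), (17, 125), (18, 125), (0, 0), (20, 125), (21, 125), (0, 0), (23, 125), (24, 125), (0, 0), (26, 125), (27, 125), (28, 125), (0, 0), (30, 125), (31, 125), (32, 125), (93, 124)],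
  [(1, 32), (0, 93), (0, 94), (0, 95), (0, 96), (0, 0), (0, 98), (0, 99), (0, 100), (0, 0), (0, 102), (0, 103), (0, 0), (0, 105), (0, 106), (0, 107), (0, 0), (0, 109), (0, 0), (0, 111), (0, 112), (0, 113), (0, 0), (0, 115), (0, 116), (0, 0), (0, 118), (0, 119), (0, 120), (0, 0), (0, 122), (0, 123), (0, 124), (1, 109), (0, 0), (1, 111), (1, 112), (1, 113), (0, 0), (1, 115), (1, 116), (0, 0), (1, 118), (2, 115), (2, 116), (0, 0), (2, 118), (3, 118), (1, 119), (1, 120), (0, 0), (1, 122), (1, 123), (2, 119), (2, 120), (0, 0), (2, 122), (3, 119), (3, 120), (0, 0), (4, 119), (0, 0), (0, 0), (6, 120), (0, 0), (0, 0), (4, 122), (0, 0), (6, 122), (3, 123), (4, 123), (0, 0), (6, 123), (2, 124), (3, 124), (4, 124), (0, 0), (6, 124), (7, 122), (7, 123), (8, 123), (0, 0), (10, 123), (7, 124), (8, 124), (0, 0), (10, 124), (11, 124), (0, 0), (13, 124), (14, 124), (15, 124), (0, 0), (1, 125), (2, 125), (3, 125), (4, 125), (0, 0), (6, 125), (7, 125), (8, 125), (0,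 0), (10, 125), (11, 125), (0, 0), (13, 125), (14, 125), (15, 125), (0, 0), (17, 125), (0, 0), (19, 125), (20, 125), (21, 125), (0, 0), (23, 125), (24, 125), (0, 0), (26, 125), (27, 125), (28, 125), (0, 0), (30, 125), (31, 125), (32, 125), (93, 124)],
  [(1, 32), (0, 93), (0, 94), (0, 95), (0, 96), (0, 97), (0, 0), (0, 99), (0, 100), (0, 101), (0, 0), (0, 103), (0, 104), (0, 0), (0, 106), (0, 0), (0, 108), (0, 109), (0, 110), (0, 0), (0, 112), (0, 0), (0, 114), (0, 115), (0, 0), (0, 117), (0, 118), (0, 119), (0, 0), (0, 121), (0, 122), (0, 123), (0, 124), (1, 109), (1, 110), (0, 0), (1, 112), (0, 0), (1, 114), (1, 115), (0, 0), (1, 117), (1, 118), (2, 115), (0, 0), (2, 117), (2, 118), (3, 118), (1, 119), (0, 0), (1, 121), (1, 122), (1, 123), (2, 119), (0, 0), (2, 121), (2, 122), (3, 119), (0, 0), (3, 121), (4, 119), (0, 0), (0, 0), (0, 0), (5, 121), (0, 0), (4, 122), (5, 122), (0, 0), (3, 123), (4, 123), (5, 123), (0, 0), (2, 124), (3, 124), (4, 124),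 (5, 124), (0, 0), (7, 122), (7, 123), (8, 123), (9, 123), (0, 0), (7, 124), (8, 124), (9, 124), (0, 0), (11, 124), (12, 124), (0, 0), (14, 124), (0, 0), (16, 124), (1, 125), (2, 125), (3, 125), (4, 125), (5, 125), (0, 0), (7, 125), (8, 125), (9, 125), (0, 0), (11, 125), (12, 125), (0, 0), (14, 125), (0, 0), (16, 125), (17, 125), (18, 125), (0, 0), (20, 125), (0, 0), (22, 125), (23, 125), (0, 0), (25, 125), (26, 125), (27, 125), (0, 0), (29, 125), (30, 125), (31, 125), (32, 125), (93, 124)],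
  [(1, 32), (0, 93), (0, 94), (0, 95), (0, 96), (0, 0), (0, 98), (0, 99), (0, 100), (0, 0), (0, 102), (0, 103), (0, 0), (0, 105), (0, 0), (0, 107), (0, 108), (0, 109), (0, 0), (0, 111), (0, 0), (0, 113), (0, 114), (0, 0), (0, 116), (0, 117), (0, 118), (0, 0), (0, 120), (0, 121), (0, 122), (0, 123), (0, 124), (1, 109), (0, 0), (1, 111), (0, 0), (1, 113), (1, 114), (0, 0), (1, 116), (1, 117), (1, 118), (0, 0), (2, 116), (2, 117), (2, 118), (3, 118), (0, 0), (1, 120), (1, 121), (1, 122), (1, 123), (0, 0), (2, 120), (2, 121), (2, 122), (0, 0), (3, 120), (3, 121), (0, 0), (4, 120), (0, 0), (0, 0), (0, 0), (6, 121), (4, 122), (0, 0), (6, 122), (3, 123), (4, 123), (0, 0), (6, 123), (2, 124), (3, 124), (4, 124), (0, 0), (6, 124), (7, 122), (7, 123), (8, 123), (0, 0), (10, 123), (7, 124), (8, 124), (0, 0), (10, 124), (11, 124), (0, 0), (13, 124), (0, 0), (15, 124), (16, 124), (1, 125), (2, 125), (3, 125), (4, 125), (0, 0), (6, 125), (7, 125), (8, 125), (0,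 0), (10, 125), (11, 125), (0, 0), (13, 125), (0, 0), (15, 125), (16, 125), (17, 125), (0, 0), (19, 125), (0, 0), (21, 125), (22, 125), (0, 0), (24, 125), (25, 125), (26, 125), (0, 0), (28, 125), (29, 125), (30, 125), (31, 125), (32, 125), (93, 124)],
  [(1, 32), (0, 93), (0, 94), (0, 95), (0, 0), (0, 97), (0, 98), (0, 99), (0, 0), (0, 101), (0, 102), (0, 0), (0, 104), (0, 105), (0, 106), (0, 0), (0, 108), (0, 0), (0, 110), (0, 111), (0, 112), (0, 0), (0, 114), (0, 115), (0, 0), (0, 117), (0, 118), (0, 119), (0, 0), (0, 121), (0, 122), (0, 123), (0, 124), (0, 0), (1, 110), (1, 111), (1, 112), (0, 0), (1, 114), (1, 115), (0, 0), (1, 117), (1, 118), (2, 115), (0, 0), (2, 117), (2, 118), (3, 118), (1, 119), (0, 0), (1, 121), (1, 122), (1, 123), (2, 119), (0, 0), (2, 121), (2, 122), (3, 119), (0, 0), (3, 121), (0, 0), (0, 0), (5, 119), (0, 0), (0, 0), (6, 121), (0, 0), (5, 122), (6, 122), (3, 123), (0, 0), (5, 123), (6, 123), (2, 124), (3, 124), (0, 0),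 (5, 124), (6, 124), (7, 122), (7, 123), (0, 0), (9, 123), (10, 123), (7, 124), (0, 0), (9, 124), (10, 124), (0, 0), (12, 124), (13, 124), (14, 124), (0, 0), (16, 124), (1, 125), (2, 125), (3, 125), (0, 0), (5, 125), (6, 125), (7, 125), (0, 0), (9, 125), (10, 125), (0, 0), (12, 125), (13, 125), (14, 125), (0, 0), (16, 125), (0, 0), (18, 125), (19, 125), (20, 125), (0, 0), (22, 125), (23, 125), (0, 0), (25, 125), (26, 125), (27, 125), (0, 0), (29, 125), (30, 125), (31, 125), (32, 125), (93, 124)],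
  [(1, 32), (0, 93), (0, 94), (0, 95), (0, 0), (0, 97), (0, 98), (0, 99), (0, 0), (0, 101), (0, 102), (0, 0), (0, 104), (0, 105), (0, 0), (0, 107), (0, 108), (0, 0), (0, 110), (0, 111), (0, 0), (0, 113), (0, 114), (0, 0), (0, 116), (0, 117), (0, 118), (0, 0), (0, 120), (0, 121), (0, 122), (0, 123), (0, 124), (0, 0), (1, 110), (1, 111), (0, 0), (1, 113), (1, 114), (0, 0), (1, 116), (1, 117), (1, 118), (0, 0), (2, 116), (2, 117), (2, 118), (3, 118), (0, 0), (1, 120), (1, 121), (1, 122), (1, 123), (0, 0), (2, 120), (2, 121), (2, 122), (0, 0), (3, 120), (3, 121), (0, 0), (0, 0), (0, 0), (6, 120), (5, 121), (0, 0), (0, 0), (5, 122), (6, 122), (3, 123), (0, 0), (5, 123), (6, 123), (2, 124), (3, 124), (0, 0), (5, 124), (6, 124), (7, 122), (7, 123), (0, 0), (9, 123), (10, 123), (7, 124), (0, 0), (9, 124), (10, 124), (0, 0), (12, 124), (13, 124), (0, 0), (15, 124), (16, 124), (1, 125), (2, 125), (3, 125), (0, 0), (5, 125), (6, 125), (7, 125), (0, 0), (9, 125),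 (10, 125), (0, 0), (12, 125), (13, 125), (0, 0), (15, 125), (16, 125), (0, 0), (18, 125), (19, 125), (0, 0), (21, 125), (22, 125), (0, 0), (24, 125), (25, 125), (26, 125), (0, 0), (28, 125), (29, 125), (30, 125), (31, 125), (32, 125), (93, 124)],
  [(1, 32), (0, 93), (0, 94), (0, 0), (0, 96), (0, 97), (0, 98), (0, 0), (0, 100), (0, 101), (0, 102), (0, 103), (0, 0), (0, 0), (0, 106), (0, 107), (0, 108), (0, 109), (0, 0), (0, 0), (0, 112), (0, 113), (0, 114), (0, 115), (0, 116), (0, 0), (0, 118), (0, 119), (0, 120), (0, 0), (0, 122), (0, 123), (0, 124), (1, 109), (0, 0), (0, 0), (1, 112), (1, 113), (1, 114), (1, 115), (1, 116), (0, 0), (1, 118), (2, 115), (2, 116), (0, 0), (2, 118), (5, 116), (1, 119), (1, 120), (0, 0), (1, 122), (1, 123), (2, 119), (2, 120), (0, 0), (2, 122), (0, 0), (0, 0), (0, 0), (4, 119), (4, 120), (5, 119), (6, 120), (0, 0), (0, 0), (0, 0), (5, 122), (6, 122), (0, 0), (4, 123), (5, 123), (6, 123), (2, 124), (0, 0), (4, 124), (5,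 124), (6, 124), (9, 120), (0, 0), (8, 123), (9, 123), (10, 123), (0, 0), (8, 124), (9, 124), (10, 124), (11, 124), (0, 0), (0, 0), (14, 124), (15, 124), (16, 124), (1, 125), (2, 125), (0, 0), (4, 125), (5, 125), (6, 125), (0, 0), (8, 125), (9, 125), (10, 125), (11, 125), (0, 0), (0, 0), (14, 125), (15, 125), (16, 125), (17, 125), (0, 0), (0, 0), (20, 125), (21, 125), (22, 125), (23, 125), (24, 125), (0, 0), (26, 125), (27, 125), (28, 125), (0, 0), (30, 125), (31, 125), (32, 125), (93, 124)],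
  [(1, 32), (0, 93), (0, 94), (0, 0), (0, 96), (0, 97), (0, 98), (0, 0), (0, 100), (0, 101), (0, 102), (0, 0), (0, 104), (0, 0), (0, 106), (0, 107), (0, 108), (0, 0), (0, 110), (0, 0), (0, 112), (0, 113), (0, 114), (0, 115), (0, 0), (0, 117), (0, 118), (0, 119), (0, 0), (0, 121), (0, 122), (0, 123), (0, 124), (0, 0), (1, 110), (0, 0), (1, 112), (1, 113), (1, 114), (1, 115), (0, 0), (1, 117), (1, 118), (2, 115), (0, 0), (2, 117), (2, 118), (4, 117), (1, 119), (0, 0), (1, 121), (1, 122), (1, 123), (2, 119), (0, 0), (2, 121), (2, 122), (0, 0), (0, 0), (0, 0), (4, 119), (0, 0), (5, 119), (0, 0), (5, 121), (6, 121), (4, 122), (0, 0), (6, 122), (0, 0), (4, 123), (5, 123), (6, 123), (2, 124), (0, 0), (4, 124), (5, 124), (6, 124), (8, 121), (0, 0), (8, 123), (9, 123), (10, 123), (0, 0), (8, 124), (9, 124), (10, 124), (0, 0), (12, 124), (0, 0), (14, 124), (15, 124), (16, 124), (1, 125), (2, 125), (0, 0), (4, 125), (5, 125), (6, 125), (0, 0), (8, 125), (9, 125),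 (10, 125), (0, 0), (12, 125), (0, 0), (14, 125), (15, 125), (16, 125), (0, 0), (18, 125), (0, 0), (20, 125), (21, 125), (22, 125), (23, 125), (0, 0), (25, 125), (26, 125), (27, 125), (0, 0), (29, 125), (30, 125), (31, 125), (32, 125), (93, 124)],
  [(1, 32), (0, 93), (0, 94), (0, 0), (0, 96), (0, 97), (0, 98), (0, 0), (0, 100), (0, 101), (0, 102), (0, 0), (0, 0), (0, 105), (0, 106), (0, 107), (0, 108), (0, 0), (0, 0), (0, 111), (0, 112), (0, 113), (0, 114), (0, 0), (0, 116), (0, 117), (0, 118), (0, 0), (0, 120), (0, 121), (0, 122), (0, 123), (0, 124), (0, 0), (0, 0), (1, 111), (1, 112), (1, 113), (1, 114), (0, 0), (1, 116), (1, 117), (1, 118), (0, 0), (2, 116), (2, 117), (2, 118), (4, 117), (0, 0), (1, 120), (1, 121), (1, 122), (1, 123), (0, 0), (2, 120), (2, 121), (2, 122), (0, 0), (0, 0), (0, 0), (0, 0), (4, 120), (0, 0), (6, 120), (5, 121), (6, 121), (4, 122), (5, 122), (0, 0), (0, 0), (4, 123), (5, 123), (6, 123), (2, 124), (0, 0), (4, 124), (5,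 124), (6, 124), (8, 121), (0, 0), (8, 123), (9, 123), (10, 123), (0, 0), (8, 124), (9, 124), (10, 124), (0, 0), (0, 0), (13, 124), (14, 124), (15, 124), (16, 124), (1, 125), (2, 125), (0, 0), (4, 125), (5, 125), (6, 125), (0, 0), (8, 125), (9, 125), (10, 125), (0, 0), (0, 0), (13, 125), (14, 125), (15, 125), (16, 125), (0, 0), (0, 0), (19, 125), (20, 125), (21, 125), (22, 125), (0, 0), (24, 125), (25, 125), (26, 125), (0, 0), (28, 125), (29, 125), (30, 125), (31, 125), (32, 125), (93, 124)],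
  [(1, 32), (0, 93), (0, 0), (0, 95), (0, 96), (0, 97), (0, 98), (0, 99), (0, 0), (0, 0), (0, 0), (0, 103), (0, 104), (0, 105), (0, 106), (0, 107), (0, 108), (0, 109), (0, 110), (0, 111), (0, 0), (0, 0), (0, 0), (0, 115), (0, 116), (0, 117), (0, 118), (0, 119), (0, 120), (0, 121), (0, 0), (0, 123), (0, 124), (1, 109), (1, 110), (1, 111), (0, 0), (0, 0), (0, 0), (1, 115), (1, 116), (1, 117), (1, 118), (4, 110), (4, 111), (5, 111), (0, 0), (3, 118), (1, 119), (1, 120), (1, 121), (0, 0), (1, 123), (0, 0), (0, 0), (0, 0), (0, 0), (3, 119), (3, 120), (3, 121), (4, 119), (4, 120), (5, 119), (6, 120), (5, 121), (6, 121), (0, 0), (0, 0), (0, 0), (0, 0), (4, 123), (5, 123), (6, 123), (0, 0), (3, 124), (4, 124), (5, 124), (6, 124), (0, 0), (7, 123), (14, 120), (14, 121), (15, 121), (7, 124), (0, 0), (0, 0), (0, 0), (11, 124), (12, 124), (13, 124), (14, 124), (15, 124), (16, 124), (1, 125), (0, 0), (3, 125), (4, 125), (5, 125), (6, 125), (7, 125), (0, 0), (0,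 0), (0, 0), (11, 125), (12, 125), (13, 125), (14, 125), (15, 125), (16, 125), (17, 125), (18, 125), (19, 125), (0, 0), (0, 0), (0, 0), (23, 125), (24, 125), (25, 125), (26, 125), (27, 125), (28, 125), (29, 125), (0, 0), (31, 125), (32, 125), (93, 124)]] = true := by decide +kernel

theorem dE7_5 : decRowsB chevE7 70 [
  [(1, 32), (0, 93), (0, 0), (0, 95), (0, 96), (0, 97), (0, 98), (0, 0), (0, 100), (0, 0), (0, 0), (0, 103), (0, 104), (0, 105), (0, 106), (0, 107), (0, 108), (0, 109), (0, 0), (0, 0), (0, 112), (0, 113), (0, 0), (0, 115), (0, 116), (0, 117), (0, 118), (0, 119), (0, 120), (0, 0), (0, 122), (0, 123), (0, 124), (1, 109), (0, 0), (0, 0), (1, 112), (1, 113), (0, 0), (1, 115), (1, 116), (1, 117), (1, 118), (3, 112), (3, 113), (0, 0), (5, 113), (3, 118), (1, 119), (1, 120), (0, 0), (1, 122), (1, 123), (0, 0), (0, 0), (0, 0), (0, 0), (3, 119), (3, 120), (0, 0), (4, 119), (4, 120), (5, 119), (6, 120), (0, 0), (0, 0), (4, 122), (5, 122), (6, 122),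 (3, 123), (0, 0), (5, 123), (6, 123), (0, 0), (3, 124), (4, 124), (5, 124), (6, 124), (0, 0), (12, 120), (8, 123), (12, 122), (13, 122), (0, 0), (8, 124), (0, 0), (0, 0), (11, 124), (12, 124), (13, 124), (14, 124), (15, 124), (16, 124), (1, 125), (0, 0), (3, 125), (4, 125), (5, 125), (6, 125), (0, 0), (8, 125), (0, 0), (0, 0), (11, 125), (12, 125), (13, 125), (14, 125), (15, 125), (16, 125), (17, 125), (0, 0), (0, 0), (20, 125), (21, 125), (0, 0), (23, 125), (24, 125), (25, 125), (26, 125), (27, 125), (28, 125), (0, 0), (30, 125), (31, 125), (32, 125), (93, 124)],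
  [(1, 32), (0, 93), (0, 0), (0, 95), (0, 96), (0, 97), (0, 98), (0, 0), (0, 0), (0, 101), (0, 0), (0, 103), (0, 104), (0, 105), (0, 106), (0, 107), (0, 108), (0, 0), (0, 110), (0, 0), (0, 112), (0, 0), (0, 114), (0, 115), (0, 116), (0, 117), (0, 118), (0, 119), (0, 0), (0, 121), (0, 122), (0, 123), (0, 124), (0, 0), (1, 110), (0, 0), (1, 112), (0, 0), (1, 114), (1, 115), (1, 116), (1, 117), (1, 118), (3, 112), (0, 0), (3, 114), (4, 114), (3, 118), (1, 119), (0, 0), (1, 121), (1, 122), (1, 123), (0, 0), (0, 0), (0, 0), (0, 0), (3, 119), (0, 0), (3, 121), (4, 119), (0, 0), (5, 119), (0, 0), (5, 121), (6, 121), (4, 122), (5, 122), (6, 122), (3, 123), (4, 123), (0, 0), (6, 123), (0, 0), (3, 124), (4, 124), (5, 124), (6, 124), (0, 0), (11, 121), (11, 122), (9, 123), (13, 122), (0, 0), (0, 0), (9, 124), (0, 0), (11, 124), (12, 124), (13, 124), (14, 124), (15, 124), (16, 124), (1, 125), (0, 0), (3, 125), (4, 125), (5, 125), (6, 125), (0, 0), (0, 0), (9,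 125), (0, 0), (11, 125), (12, 125), (13, 125), (14, 125), (15, 125), (16, 125), (0, 0), (18, 125), (0, 0), (20, 125), (0, 0), (22, 125), (23, 125), (24, 125), (25, 125), (26, 125), (27, 125), (0, 0), (29, 125), (30, 125), (31, 125), (32, 125), (93, 124)],
  [(1, 32), (0, 93), (0, 0), (0, 95), (0, 96), (0, 97), (0, 98), (0, 0), (0, 0), (0, 0), (0, 102), (0, 103), (0, 104), (0, 105), (0, 106), (0, 107), (0, 108), (0, 0), (0, 0), (0, 111), (0, 0), (0, 113), (0, 114), (0, 115), (0, 116), (0, 117), (0, 118), (0, 0), (0, 120), (0, 121), (0, 122), (0, 123), (0, 124), (0, 0), (0, 0), (1, 111), (0, 0), (1, 113), (1, 114), (1, 115), (1, 116), (1, 117), (1, 118), (0, 0), (3, 113), (3, 114), (4, 114), (3, 118), (0, 0), (1, 120), (1, 121), (1, 122), (1, 123), (0, 0), (0, 0), (0, 0), (0, 0), (0, 0), (3, 120), (3, 121), (0, 0), (4, 120), (0, 0), (6, 120), (5, 121), (6, 121), (4, 122), (5, 122), (6, 122), (3, 123), (4, 123), (5, 123), (0, 0), (0, 0), (3, 124), (4,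 124), (5, 124), (6, 124), (0, 0), (11, 121), (11, 122), (12, 122), (10, 123), (0, 0), (0, 0), (0, 0), (10, 124), (11, 124), (12, 124), (13, 124), (14, 124), (15, 124), (16, 124), (1, 125), (0, 0), (3, 125), (4, 125), (5, 125), (6, 125), (0, 0), (0, 0), (0, 0), (10, 125), (11, 125), (12, 125), (13, 125), (14, 125), (15, 125), (16, 125), (0, 0), (0, 0), (19, 125), (0, 0), (21, 125), (22, 125), (23, 125), (24, 125), (25, 125), (26, 125), (0, 0), (28, 125), (29, 125), (30, 125), (31, 125), (32, 125), (93, 124)],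
  [(3, 30), (0, 0), (0, 94), (0, 95), (0, 96), (0, 97), (0, 98), (0, 99), (0, 100), (0, 101), (0, 102), (0, 0), (0, 0), (0, 0), (0, 0), (0, 0), (0, 0), (0, 109), (0, 110), (0, 111), (0, 112), (0, 113), (0, 114), (0, 115), (0, 116), (0, 117), (0, 118), (0, 119), (0, 120), (0, 121), (0, 122), (0, 0), (0, 124), (3, 100), (3, 101), (3, 102), (4, 101), (4, 102), (5, 102), (0, 0), (0, 0), (0, 0), (0, 0), (2, 115), (2, 116), (2, 117), (2, 118), (3, 118), (0, 0), (0, 0), (0, 0), (0, 0), (0, 0), (2, 119), (2, 120), (2, 121), (2, 122), (3, 119), (3, 120), (3, 121), (4, 119), (4, 120), (5, 119), (6, 120), (5, 121), (6, 121), (4, 122), (5, 122), (6, 122), (0, 0), (0, 0), (0, 0), (0, 0), (0, 0), (3, 124), (4, 124), (5, 124), (6, 124), (7, 122), (0, 0), (0, 0), (0, 0), (0, 0), (7, 124), (8, 124), (9, 124), (10, 124), (23, 120), (23, 121), (24, 121), (23, 122), (24, 122), (25, 122), (0, 0), (2, 125), (3, 125), (4, 125), (5, 125), (6, 125), (7, 125), (8, 125), (9,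 125), (10, 125), (0, 0), (0, 0), (0, 0), (0, 0), (0, 0), (0, 0), (17, 125), (18, 125), (19, 125), (20, 125), (21, 125), (22, 125), (23, 125), (24, 125), (25, 125), (26, 125), (27, 125), (28, 125), (29, 125), (30, 125), (0, 0), (32, 125), (95, 122)],
  [(2, 31), (0, 0), (0, 94), (0, 95), (0, 96), (0, 97), (0, 98), (0, 99), (0, 0), (0, 0), (0, 0), (0, 103), (0, 104), (0, 105), (0, 0), (0, 0), (0, 0), (0, 109), (0, 110), (0, 111), (0, 112), (0, 113), (0, 114), (0, 115), (0, 116), (0, 117), (0, 118), (0, 119), (0, 120), (0, 121), (0, 0), (0, 123), (0, 124), (2, 103), (2, 104), (2, 105), (0, 0), (0, 0), (0, 0), (4, 104), (4, 105), (5, 105), (0, 0), (2, 115), (2, 116), (2, 117), (2, 118), (3, 118), (0, 0), (0, 0), (0, 0), (0, 0), (0, 0), (2, 119), (2, 120), (2, 121), (0, 0), (3, 119), (3, 120), (3, 121), (4, 119), (4, 120), (5, 119), (6, 120), (5, 121), (6, 121), (0, 0), (0, 0), (0, 0), (3, 123), (4, 123), (5, 123), (6, 123), (2, 124), (0, 0), (4, 124),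 (5, 124), (6, 124), (0, 0), (7, 123), (0, 0), (0, 0), (0, 0), (7, 124), (20, 120), (20, 121), (21, 121), (11, 124), (12, 124), (13, 124), (20, 123), (21, 123), (22, 123), (0, 0), (2, 125), (3, 125), (4, 125), (5, 125), (6, 125), (7, 125), (0, 0), (0, 0), (0, 0), (11, 125), (12, 125), (13, 125), (0, 0), (0, 0), (0, 0), (17, 125), (18, 125), (19, 125), (20, 125), (21, 125), (22, 125), (23, 125), (24, 125), (25, 125), (26, 125), (27, 125), (28, 125), (29, 125), (0, 0), (31, 125), (32, 125), (94, 123)],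
  [(2, 31), (0, 0), (0, 94), (0, 95), (0, 96), (0, 97), (0, 98), (0, 0), (0, 100), (0, 0), (0, 0), (0, 103), (0, 0), (0, 0), (0, 106), (0, 107), (0, 0), (0, 109), (0, 110), (0, 111), (0, 112), (0, 113), (0, 114), (0, 115), (0, 116), (0, 117), (0, 118), (0, 119), (0, 120), (0, 0), (0, 122), (0, 123), (0, 124), (2, 103), (0, 0), (0, 0), (2, 106), (2, 107), (0, 0), (3, 106), (3, 107), (0, 0), (5, 107), (2, 115), (2, 116), (2, 117), (2, 118), (3, 118), (0, 0), (0, 0), (0, 0), (0, 0), (0, 0), (2, 119), (2, 120), (0, 0), (2, 122), (3, 119), (3, 120), (0, 0), (4, 119), (4, 120), (5, 119), (6, 120), (0, 0), (0, 0), (4, 122), (5, 122), (6, 122), (3, 123), (4, 123), (5, 123), (6, 123), (2, 124), (3, 124), (0, 0), (5, 124), (6, 124), (0, 0), (0, 0), (8, 123), (0, 0), (0, 0), (18, 120), (8, 124), (18, 122), (19, 122), (11, 124), (18, 123), (19, 123), (14, 124), (15, 124), (22, 123), (0, 0), (2, 125), (3, 125), (4, 125), (5, 125), (6, 125), (0, 0), (8, 125), (0,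 0), (0, 0), (11, 125), (0, 0), (0, 0), (14, 125), (15, 125), (0, 0), (17, 125), (18, 125), (19, 125), (20, 125), (21, 125), (22, 125), (23, 125), (24, 125), (25, 125), (26, 125), (27, 125), (28, 125), (0, 0), (30, 125), (31, 125), (32, 125), (94, 123)],
  [(2, 31), (0, 0), (0, 94), (0, 95), (0, 96), (0, 97), (0, 98), (0, 0), (0, 0), (0, 101), (0, 0), (0, 0), (0, 104), (0, 0), (0, 106), (0, 0), (0, 108), (0, 109), (0, 110), (0, 111), (0, 112), (0, 113), (0, 114), (0, 115), (0, 116), (0, 117), (0, 118), (0, 119), (0, 0), (0, 121), (0, 122), (0, 123), (0, 124), (0, 0), (2, 104), (0, 0), (2, 106), (0, 0), (2, 108), (3, 106), (0, 0), (3, 108), (4, 108), (2, 115), (2, 116), (2, 117), (2, 118), (3, 118), (0, 0), (0, 0), (0, 0), (0, 0), (0, 0), (2, 119), (0, 0), (2, 121), (2, 122), (3, 119), (0, 0), (3, 121), (4, 119), (0, 0), (5, 119), (0, 0), (5, 121), (6, 121), (4, 122), (5, 122), (6, 122), (3, 123), (4, 123), (5, 123), (6, 123), (2, 124), (3, 124), (4,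 124), (0, 0), (6, 124), (0, 0), (0, 0), (0, 0), (9, 123), (0, 0), (17, 121), (17, 122), (9, 124), (19, 122), (17, 123), (12, 124), (19, 123), (14, 124), (21, 123), (16, 124), (0, 0), (2, 125), (3, 125), (4, 125), (5, 125), (6, 125), (0, 0), (0, 0), (9, 125), (0, 0), (0, 0), (12, 125), (0, 0), (14, 125), (0, 0), (16, 125), (17, 125), (18, 125), (19, 125), (20, 125), (21, 125), (22, 125), (23, 125), (24, 125), (25, 125), (26, 125), (27, 125), (0, 0), (29, 125), (30, 125), (31, 125), (32, 125), (94, 123)],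
  [(2, 31), (0, 0), (0, 94), (0, 95), (0, 96), (0, 97), (0, 98), (0, 0), (0, 0), (0, 0), (0, 102), (0, 0), (0, 0), (0, 105), (0, 0), (0, 107), (0, 108), (0, 109), (0, 110), (0, 111), (0, 112), (0, 113), (0, 114), (0, 115), (0, 116), (0, 117), (0, 118), (0, 0), (0, 120), (0, 121), (0, 122), (0, 123), (0, 124), (0, 0), (0, 0), (2, 105), (0, 0), (2, 107), (2, 108), (0, 0), (3, 107), (3, 108), (4, 108), (2, 115), (2, 116), (2, 117), (2, 118), (3, 118), (0, 0), (0, 0), (0, 0), (0, 0), (0, 0), (0, 0), (2, 120), (2, 121), (2, 122), (0, 0), (3, 120), (3, 121), (0, 0), (4, 120), (0, 0), (6, 120), (5, 121), (6, 121), (4, 122), (5, 122), (6, 122), (3, 123), (4, 123), (5, 123), (6, 123), (2, 124), (3, 124), (4, 124), (5, 124), (0, 0), (0, 0), (0, 0), (0, 0), (0, 0), (10, 123), (17, 121), (17, 122), (18, 122), (10, 124), (17, 123), (18, 123), (13, 124), (20, 123), (15, 124), (16, 124), (0, 0), (2, 125), (3, 125), (4, 125), (5, 125), (6, 125), (0, 0), (0, 0), (0,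 0), (10, 125), (0, 0), (0, 0), (13, 125), (0, 0), (15, 125), (16, 125), (17, 125), (18, 125), (19, 125), (20, 125), (21, 125), (22, 125), (23, 125), (24, 125), (25, 125), (26, 125), (0, 0), (28, 125), (29, 125), (30, 125), (31, 125), (32, 125), (94, 123)],
  [(1, 32), (0, 93), (0, 94), (0, 0), (0, 0), (0, 0), (0, 0), (0, 99), (0, 100), (0, 101), (0, 102), (0, 103), (0, 104), (0, 105), (0, 106), (0, 107), (0, 108), (0, 109), (0, 110), (0, 111), (0, 112), (0, 113), (0, 114), (0, 0), (0, 0), (0, 0), (0, 0), (0, 119), (0, 120), (0, 121), (0, 122), (0, 123), (0, 124), (1, 109), (1, 110), (1, 111), (1, 112), (1, 113), (1, 114), (0, 0), (0, 0), (0, 0), (0, 0), (0, 0), (0, 0), (0, 0), (0, 0), (0, 0), (1, 119), (1, 120), (1, 121), (1, 122), (1, 123), (2, 119), (2, 120), (2, 121), (2, 122), (11, 110), (11, 111), (12, 111), (11, 112), (11, 113), (12, 112), (13, 113), (12, 114), (13, 114), (14, 113), (14, 114), (15, 114), (0, 0), (0, 0), (0, 0), (0, 0), (2, 124),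 (0, 0), (0, 0), (0, 0), (0, 0), (0, 0), (7, 123), (8, 123), (9, 123), (10, 123), (7, 124), (8, 124), (9, 124), (10, 124), (11, 124), (12, 124), (13, 124), (14, 124), (15, 124), (16, 124), (1, 125), (2, 125), (0, 0), (0, 0), (0, 0), (0, 0), (7, 125), (8, 125), (9, 125), (10, 125), (11, 125), (12, 125), (13, 125), (14, 125), (15, 125), (16, 125), (17, 125), (18, 125), (19, 125), (20, 125), (21, 125), (22, 125), (0, 0), (0, 0), (0, 0), (0, 0), (27, 125), (28, 125), (29, 125), (30, 125), (31, 125), (32, 125), (93, 124)],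
  [(1, 32), (0, 93), (0, 0), (0, 95), (0, 0), (0, 0), (0, 0), (0, 99), (0, 100), (0, 101), (0, 102), (0, 103), (0, 104), (0, 105), (0, 106), (0, 107), (0, 108), (0, 109), (0, 110), (0, 111), (0, 0), (0, 0), (0, 0), (0, 115), (0, 116), (0, 117), (0, 0), (0, 119), (0, 120), (0, 121), (0, 122), (0, 123), (0, 124), (1, 109), (1, 110), (1, 111), (0, 0), (0, 0), (0, 0), (1, 115), (1, 116), (1, 117), (0, 0), (0, 0), (0, 0), (0, 0), (0, 0), (0, 0), (1, 119), (1, 120), (1, 121), (1, 122), (1, 123), (8, 110), (8, 111), (9, 111), (0, 0), (3, 119), (3, 120), (3, 121), (8, 115), (8, 116), (9, 115), (10, 116), (9, 117), (10, 117), (0, 0), (0, 0), (0, 0), (3, 123), (14, 116), (14, 117), (15, 117), (0, 0), (3, 124), (0, 0), (0, 0), (0, 0), (7, 122), (0, 0), (8, 123), (9, 123), (10, 123), (7, 124), (8, 124), (9, 124), (10, 124), (11, 124), (12, 124), (13, 124), (14, 124), (15, 124), (16, 124), (1, 125), (0, 0), (3, 125), (0, 0), (0, 0), (0, 0), (7, 125), (8, 125),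 (9, 125), (10, 125), (11, 125), (12, 125), (13, 125), (14, 125), (15, 125), (16, 125), (17, 125), (18, 125), (19, 125), (0, 0), (0, 0), (0, 0), (23, 125), (24, 125), (25, 125), (0, 0), (27, 125), (28, 125), (29, 125), (30, 125), (31, 125), (32, 125), (93, 124)],
  [(1, 32), (0, 93), (0, 0), (0, 0), (0, 96), (0, 0), (0, 0), (0, 99), (0, 100), (0, 101), (0, 102), (0, 103), (0, 104), (0, 105), (0, 106), (0, 107), (0, 108), (0, 109), (0, 0), (0, 0), (0, 112), (0, 113), (0, 0), (0, 115), (0, 116), (0, 0), (0, 118), (0, 119), (0, 120), (0, 121), (0, 122), (0, 123), (0, 124), (1, 109), (0, 0), (0, 0), (1, 112), (1, 113), (0, 0), (1, 115), (1, 116), (0, 0), (1, 118), (0, 0), (0, 0), (0, 0), (0, 0), (0, 0), (1, 119), (1, 120), (1, 121), (1, 122), (1, 123), (7, 112), (7, 113), (0, 0), (9, 113), (7, 115), (7, 116), (0, 0), (4, 119), (4, 120), (9, 115), (10, 116), (0, 0), (0, 0), (4, 122), (9, 118), (10, 118), (12, 116), (4, 123), (12, 118), (13, 118), (0, 0),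 (0, 0), (4, 124), (0, 0), (0, 0), (7, 122), (7, 123), (0, 0), (9, 123), (10, 123), (7, 124), (8, 124), (9, 124), (10, 124), (11, 124), (12, 124), (13, 124), (14, 124), (15, 124), (16, 124), (1, 125), (0, 0), (0, 0), (4, 125), (0, 0), (0, 0), (7, 125), (8, 125), (9, 125), (10, 125), (11, 125), (12, 125), (13, 125), (14, 125), (15, 125), (16, 125), (17, 125), (0, 0), (0, 0), (20, 125), (21, 125), (0, 0), (23, 125), (24, 125), (0, 0), (26, 125), (27, 125), (28, 125), (29, 125), (30, 125), (31, 125), (32, 125), (93, 124)],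
  [(1, 32), (0, 93), (0, 0), (0, 0), (0, 0), (0, 97), (0, 0), (0, 99), (0, 100), (0, 101), (0, 102), (0, 103), (0, 104), (0, 105), (0, 106), (0, 107), (0, 108), (0, 0), (0, 110), (0, 0), (0, 112), (0, 0), (0, 114), (0, 115), (0, 0), (0, 117), (0, 118), (0, 119), (0, 120), (0, 121), (0, 122), (0, 123), (0, 124), (0, 0), (1, 110), (0, 0), (1, 112), (0, 0), (1, 114), (1, 115), (0, 0), (1, 117), (1, 118), (0, 0), (0, 0), (0, 0), (0, 0), (0, 0), (1, 119), (1, 120), (1, 121), (1, 122), (1, 123), (7, 112), (0, 0), (7, 114), (8, 114), (7, 115), (0, 0), (7, 117), (8, 115), (0, 0), (5, 119), (0, 0), (5, 121), (10, 117), (8, 118), (5, 122), (10, 118), (11, 117), (11, 118), (5, 123), (13, 118), (0, 0), (0, 0), (0, 0), (5, 124), (0, 0), (7, 122), (7, 123), (8, 123), (0, 0), (10, 123), (7, 124), (8, 124), (9, 124), (10, 124), (11, 124), (12, 124), (13, 124), (14, 124), (15, 124), (16, 124), (1, 125), (0, 0), (0, 0), (0, 0), (5, 125), (0, 0), (7, 125), (8, 125),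 (9, 125), (10, 125), (11, 125), (12, 125), (13, 125), (14, 125), (15, 125), (16, 125), (0, 0), (18, 125), (0, 0), (20, 125), (0, 0), (22, 125), (23, 125), (0, 0), (25, 125), (26, 125), (27, 125), (28, 125), (29, 125), (30, 125), (31, 125), (32, 125), (93, 124)],
  [(1, 32), (0, 93), (0, 0), (0, 0), (0, 0), (0, 0), (0, 98), (0, 99), (0, 100), (0, 101), (0, 102), (0, 103), (0, 104), (0, 105), (0, 106), (0, 107), (0, 108), (0, 0), (0, 0), (0, 111), (0, 0), (0, 113), (0, 114), (0, 0), (0, 116), (0, 117), (0, 118), (0, 119), (0, 120), (0, 121), (0, 122), (0, 123), (0, 124), (0, 0), (0, 0), (1, 111), (0, 0), (1, 113), (1, 114), (0, 0), (1, 116), (1, 117), (1, 118), (0, 0), (0, 0), (0, 0), (0, 0), (0, 0), (1, 119), (1, 120), (1, 121), (1, 122), (1, 123), (0, 0), (7, 113), (7, 114), (8, 114), (0, 0), (7, 116), (7, 117), (0, 0), (8, 116), (0, 0), (6, 120), (9, 117), (6, 121), (8, 118), (9, 118), (6, 122), (11, 117), (11, 118), (12, 118), (6, 123), (0, 0), (0,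 0), (0, 0), (0, 0), (6, 124), (7, 122), (7, 123), (8, 123), (9, 123), (0, 0), (7, 124), (8, 124), (9, 124), (10, 124), (11, 124), (12, 124), (13, 124), (14, 124), (15, 124), (16, 124), (1, 125), (0, 0), (0, 0), (0, 0), (0, 0), (6, 125), (7, 125), (8, 125), (9, 125), (10, 125), (11, 125), (12, 125), (13, 125), (14, 125), (15, 125), (16, 125), (0, 0), (0, 0), (19, 125), (0, 0), (21, 125), (22, 125), (0, 0), (24, 125), (25, 125), (26, 125), (27, 125), (28, 125), (29, 125), (30, 125), (31, 125), (32, 125), (93, 124)],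
  [(2, 31), (0, 0), (0, 94), (0, 95), (0, 0), (0, 0), (0, 0), (0, 99), (0, 100), (0, 101), (0, 102), (0, 103), (0, 104), (0, 105), (0, 0), (0, 0), (0, 0), (0, 109), (0, 110), (0, 111), (0, 112), (0, 113), (0, 114), (0, 115), (0, 116), (0, 117), (0, 0), (0, 119), (0, 120), (0, 121), (0, 122), (0, 123), (0, 124), (2, 103), (2, 104), (2, 105), (0, 0), (0, 0), (0, 0), (0, 0), (0, 0), (0, 0), (0, 0), (2, 115), (2, 116), (2, 117), (0, 0), (0, 0), (8, 104), (8, 105), (9, 105), (0, 0), (0, 0), (2, 119), (2, 120), (2, 121), (2, 122), (3, 119), (3, 120), (3, 121), (8, 115), (8, 116), (9, 115), (10, 116), (9, 117), (10, 117), (0, 0), (0, 0), (0, 0), (3, 123), (0, 0), (0, 0), (0, 0), (2, 124), (3, 124), (20, 116), (20, 117), (21, 117), (7, 122), (7, 123), (8, 123), (9, 123), (10, 123), (0, 0), (8, 124), (9, 124), (10, 124), (11, 124), (12, 124), (13, 124), (20, 123), (21, 123), (22, 123), (0, 0), (2, 125), (3, 125), (0, 0), (0, 0), (0, 0), (7, 125), (8, 125),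 (9, 125), (10, 125), (11, 125), (12, 125), (13, 125), (0, 0), (0, 0), (0, 0), (17, 125), (18, 125), (19, 125), (20, 125), (21, 125), (22, 125), (23, 125), (24, 125), (25, 125), (0, 0), (27, 125), (28, 125), (29, 125), (30, 125), (31, 125), (32, 125), (94, 123)]] = true := by decide +kernel

theorem dE7_6 : decRowsB chevE7 84 [
  [(2, 31), (0, 0), (0, 94), (0, 0), (0, 96), (0, 0), (0, 0), (0, 99), (0, 100), (0, 101), (0, 102), (0, 103), (0, 0), (0, 0), (0, 106), (0, 107), (0, 0), (0, 109), (0, 110), (0, 111), (0, 112), (0, 113), (0, 114), (0, 115), (0, 116), (0, 0), (0, 118), (0, 119), (0, 120), (0, 121), (0, 122), (0, 123), (0, 124), (2, 103), (0, 0), (0, 0), (2, 106), (2, 107), (0, 0), (0, 0), (0, 0), (0, 0), (0, 0), (2, 115), (2, 116), (0, 0), (2, 118), (0, 0), (7, 106), (7, 107), (0, 0), (9, 107), (0, 0), (2, 119), (2, 120), (2, 121), (2, 122), (7, 115), (7, 116), (0, 0), (4, 119), (4, 120), (9, 115), (10, 116), (0, 0), (0, 0), (4, 122), (9, 118),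 (10, 118), (0, 0), (4, 123), (0, 0), (0, 0), (2, 124), (18, 116), (4, 124), (18, 118), (19, 118), (7, 122), (7, 123), (8, 123), (9, 123), (10, 123), (7, 124), (0, 0), (9, 124), (10, 124), (11, 124), (18, 123), (19, 123), (14, 124), (15, 124), (22, 123), (0, 0), (2, 125), (0, 0), (4, 125), (0, 0), (0, 0), (7, 125), (8, 125), (9, 125), (10, 125), (11, 125), (0, 0), (0, 0), (14, 125), (15, 125), (0, 0), (17, 125), (18, 125), (19, 125), (20, 125), (21, 125), (22, 125), (23, 125), (24, 125), (0, 0), (26, 125), (27, 125), (28, 125), (29, 125), (30, 125), (31, 125), (32, 125), (94, 123)],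
  [(2, 31), (0, 0), (0, 94), (0, 0), (0, 0), (0, 97), (0, 0), (0, 99), (0, 100), (0, 101), (0, 102), (0, 0), (0, 104), (0, 0), (0, 106), (0, 0), (0, 108), (0, 109), (0, 110), (0, 111), (0, 112), (0, 113), (0, 114), (0, 115), (0, 0), (0, 117), (0, 118), (0, 119), (0, 120), (0, 121), (0, 122), (0, 123), (0, 124), (0, 0), (2, 104), (0, 0), (2, 106), (0, 0), (2, 108), (0, 0), (0, 0), (0, 0), (0, 0), (2, 115), (0, 0), (2, 117), (2, 118), (0, 0), (7, 106), (0, 0), (7, 108), (8, 108), (0, 0), (2, 119), (2, 120), (2, 121), (2, 122), (7, 115), (0, 0), (7, 117), (8, 115), (0, 0), (5, 119), (0, 0), (5, 121), (10, 117), (8, 118), (5, 122), (10, 118), (0, 0), (0, 0), (5, 123), (0, 0), (2, 124), (17, 117), (17, 118), (5, 124), (19, 118), (7, 122), (7, 123), (8, 123), (9, 123), (10, 123), (7, 124), (8, 124), (0, 0), (10, 124), (17, 123), (12, 124), (19, 123), (14, 124), (21, 123), (16, 124), (0, 0), (2, 125), (0, 0), (0, 0), (5, 125), (0, 0), (7, 125), (8, 125),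 (9, 125), (10, 125), (0, 0), (12, 125), (0, 0), (14, 125), (0, 0), (16, 125), (17, 125), (18, 125), (19, 125), (20, 125), (21, 125), (22, 125), (23, 125), (0, 0), (25, 125), (26, 125), (27, 125), (28, 125), (29, 125), (30, 125), (31, 125), (32, 125), (94, 123)],
  [(2, 31), (0, 0), (0, 94), (0, 0), (0, 0), (0, 0), (0, 98), (0, 99), (0, 100), (0, 101), (0, 102), (0, 0), (0, 0), (0, 105), (0, 0), (0, 107), (0, 108), (0, 109), (0, 110), (0, 111), (0, 112), (0, 113), (0, 114), (0, 0), (0, 116), (0, 117), (0, 118), (0, 119), (0, 120), (0, 121), (0, 122), (0, 123), (0, 124), (0, 0), (0, 0), (2, 105), (0, 0), (2, 107), (2, 108), (0, 0), (0, 0), (0, 0), (0, 0), (0, 0), (2, 116), (2, 117), (2, 118), (0, 0), (0, 0), (7, 107), (7, 108), (8, 108), (0, 0), (2, 119), (2, 120), (2, 121), (2, 122), (0, 0), (7, 116), (7, 117), (0, 0), (8, 116), (0, 0), (6, 120), (9, 117), (6, 121), (8, 118), (9, 118), (6, 122), (0, 0), (0, 0), (0, 0), (6, 123), (2, 124), (17, 117),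 (17, 118), (18, 118), (6, 124), (7, 122), (7, 123), (8, 123), (9, 123), (10, 123), (7, 124), (8, 124), (9, 124), (0, 0), (17, 123), (18, 123), (13, 124), (20, 123), (15, 124), (16, 124), (0, 0), (2, 125), (0, 0), (0, 0), (0, 0), (6, 125), (7, 125), (8, 125), (9, 125), (10, 125), (0, 0), (0, 0), (13, 125), (0, 0), (15, 125), (16, 125), (17, 125), (18, 125), (19, 125), (20, 125), (21, 125), (22, 125), (0, 0), (24, 125), (25, 125), (26, 125), (27, 125), (28, 125), (29, 125), (30, 125), (31, 125), (32, 125), (94, 123)],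
  [(3, 30), (0, 0), (0, 0), (0, 95), (0, 96), (0, 0), (0, 0), (0, 99), (0, 100), (0, 0), (0, 0), (0, 103), (0, 104), (0, 105), (0, 106), (0, 107), (0, 0), (0, 109), (0, 110), (0, 111), (0, 112), (0, 113), (0, 0), (0, 115), (0, 116), (0, 117), (0, 118), (0, 119), (0, 120), (0, 121), (0, 122), (0, 123), (0, 124), (3, 100), (0, 0), (0, 0), (0, 0), (0, 0), (0, 0), (3, 106), (3, 107), (0, 0), (0, 0), (3, 112), (3, 113), (0, 0), (0, 0), (3, 118), (7, 106), (7, 107), (0, 0), (0, 0), (12, 107), (7, 112), (7, 113), (0, 0), (0, 0), (3, 119), (3, 120), (3, 121), (4, 119), (4, 120), (12, 112), (13, 113), (0, 0), (0, 0), (4, 122), (0, 0), (0, 0), (3, 123), (4, 123), (12, 118), (13, 118), (18, 113), (3, 124), (4, 124), (18, 118), (19, 118), (7, 122), (7, 123), (8, 123), (12, 122), (13, 122), (7, 124), (8, 124), (18, 122), (19, 122), (0, 0), (12, 124), (13, 124), (14, 124), (15, 124), (25, 122), (0, 0), (0, 0), (3, 125), (4, 125), (0, 0), (0, 0), (7, 125), (8, 125),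 (0, 0), (0, 0), (11, 125), (12, 125), (13, 125), (14, 125), (15, 125), (0, 0), (17, 125), (18, 125), (19, 125), (20, 125), (21, 125), (0, 0), (23, 125), (24, 125), (25, 125), (26, 125), (27, 125), (28, 125), (29, 125), (30, 125), (31, 125), (32, 125), (95, 122)],
  [(3, 30), (0, 0), (0, 0), (0, 95), (0, 0), (0, 97), (0, 0), (0, 99), (0, 0), (0, 101), (0, 0), (0, 103), (0, 104), (0, 105), (0, 106), (0, 0), (0, 108), (0, 109), (0, 110), (0, 111), (0, 112), (0, 0), (0, 114), (0, 115), (0, 116), (0, 117), (0, 118), (0, 119), (0, 120), (0, 121), (0, 122), (0, 123), (0, 124), (0, 0), (3, 101), (0, 0), (0, 0), (0, 0), (0, 0), (3, 106), (0, 0), (3, 108), (0, 0), (3, 112), (0, 0), (3, 114), (0, 0), (3, 118), (7, 106), (0, 0), (7, 108), (0, 0), (11, 108), (7, 112), (0, 0), (7, 114), (0, 0), (3, 119), (3, 120), (3, 121), (11, 112), (0, 0), (5, 119), (0, 0), (5, 121), (13, 114), (0, 0), (5, 122), (0, 0), (3, 123), (11, 118), (5, 123), (13, 118), (17, 114), (3,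 124), (17, 118), (5, 124), (19, 118), (7, 122), (7, 123), (11, 122), (9, 123), (13, 122), (7, 124), (17, 122), (9, 124), (19, 122), (11, 124), (0, 0), (13, 124), (14, 124), (24, 122), (16, 124), (0, 0), (0, 0), (3, 125), (0, 0), (5, 125), (0, 0), (7, 125), (0, 0), (9, 125), (0, 0), (11, 125), (12, 125), (13, 125), (14, 125), (0, 0), (16, 125), (17, 125), (18, 125), (19, 125), (20, 125), (0, 0), (22, 125), (23, 125), (24, 125), (25, 125), (26, 125), (27, 125), (28, 125), (29, 125), (30, 125), (31, 125), (32, 125), (95, 122)],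
  [(3, 30), (0, 0), (0, 0), (0, 95), (0, 0), (0, 0), (0, 98), (0, 99), (0, 0), (0, 0), (0, 102), (0, 103), (0, 104), (0, 105), (0, 0), (0, 107), (0, 108), (0, 109), (0, 110), (0, 111), (0, 0), (0, 113), (0, 114), (0, 115), (0, 116), (0, 117), (0, 118), (0, 119), (0, 120), (0, 121), (0, 122), (0, 123), (0, 124), (0, 0), (0, 0), (3, 102), (0, 0), (0, 0), (0, 0), (0, 0), (3, 107), (3, 108), (0, 0), (0, 0), (3, 113), (3, 114), (0, 0), (3, 118), (0, 0), (7, 107), (7, 108), (0, 0), (11, 108), (0, 0), (7, 113), (7, 114), (0, 0), (3, 119), (3, 120), (3, 121), (0, 0), (11, 113), (0, 0), (6, 120), (12, 114), (6, 121), (0, 0), (0, 0), (6, 122), (3, 123), (11, 118), (12, 118), (6, 123), (17, 114), (3, 124), (17, 118), (18, 118), (6, 124), (7, 122), (7, 123), (11, 122), (12, 122), (10, 123), (7, 124), (17, 122), (18, 122), (10, 124), (11, 124), (12, 124), (0, 0), (23, 122), (15, 124), (16, 124), (0, 0), (0, 0), (3, 125), (0, 0), (0, 0), (6, 125), (7, 125), (0,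 0), (0, 0), (10, 125), (11, 125), (12, 125), (13, 125), (0, 0), (15, 125), (16, 125), (17, 125), (18, 125), (19, 125), (0, 0), (21, 125), (22, 125), (23, 125), (24, 125), (25, 125), (26, 125), (27, 125), (28, 125), (29, 125), (30, 125), (31, 125), (32, 125), (95, 122)],
  [(4, 29), (0, 0), (0, 0), (0, 0), (0, 96), (0, 97), (0, 0), (0, 0), (0, 100), (0, 101), (0, 0), (0, 103), (0, 104), (0, 0), (0, 106), (0, 107), (0, 108), (0, 109), (0, 110), (0, 0), (0, 112), (0, 113), (0, 114), (0, 115), (0, 116), (0, 117), (0, 118), (0, 119), (0, 120), (0, 121), (0, 122), (0, 123), (0, 124), (0, 0), (0, 0), (0, 0), (4, 101), (0, 0), (0, 0), (4, 104), (0, 0), (0, 0), (4, 108), (4, 110), (0, 0), (0, 0), (4, 114), (4, 117), (8, 104), (0, 0), (0, 0), (8, 108), (11, 108), (8, 110), (0, 0), (0, 0), (8, 114), (11, 110), (0, 0), (0, 0), (4, 119), (4, 120), (5, 119), (0, 0), (5, 121), (0, 0), (4, 122), (5, 122), (15, 114), (11, 117), (4, 123), (5, 123), (15, 117), (17, 114),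 (17, 117), (4, 124), (5, 124), (21, 117), (8, 121), (11, 121), (8, 123), (9, 123), (15, 121), (17, 121), (8, 124), (9, 124), (21, 121), (11, 124), (12, 124), (24, 121), (0, 0), (15, 124), (16, 124), (0, 0), (0, 0), (0, 0), (4, 125), (5, 125), (0, 0), (0, 0), (8, 125), (9, 125), (0, 0), (11, 125), (12, 125), (0, 0), (14, 125), (15, 125), (16, 125), (17, 125), (18, 125), (0, 0), (20, 125), (21, 125), (22, 125), (23, 125), (24, 125), (25, 125), (26, 125), (27, 125), (28, 125), (29, 125), (30, 125), (31, 125), (32, 125), (96, 121)],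
  [(4, 29), (0, 0), (0, 0), (0, 0), (0, 96), (0, 0), (0, 98), (0, 0), (0, 100), (0, 0), (0, 102), (0, 103), (0, 0), (0, 105), (0, 106), (0, 107), (0, 108), (0, 109), (0, 0), (0, 111), (0, 112), (0, 113), (0, 114), (0, 115), (0, 116), (0, 117), (0, 118), (0, 119), (0, 120), (0, 121), (0, 122), (0, 123), (0, 124), (0, 0), (0, 0), (0, 0), (0, 0), (4, 102), (0, 0), (0, 0), (4, 105), (0, 0), (4, 108), (0, 0), (4, 111), (0, 0), (4, 114), (4, 117), (0, 0), (8, 105), (0, 0), (8, 108), (11, 108), (0, 0), (8, 111), (0, 0), (8, 114), (0, 0), (11, 111), (0, 0), (4, 119), (4, 120), (0, 0), (6, 120), (0, 0), (6, 121), (4, 122), (14, 114), (6, 122), (11, 117), (4, 123), (14, 117), (6, 123), (17, 114), (17, 117), (4, 124), (20, 117), (6, 124), (8, 121), (11, 121), (8, 123), (14, 121), (10, 123), (17, 121), (8, 124), (20, 121), (10, 124), (11, 124), (23, 121), (13, 124), (14, 124), (0, 0), (16, 124), (0, 0), (0, 0), (0, 0), (4, 125), (0, 0), (6, 125), (0, 0), (8, 125),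 (0, 0), (10, 125), (11, 125), (0, 0), (13, 125), (14, 125), (15, 125), (16, 125), (17, 125), (0, 0), (19, 125), (20, 125), (21, 125), (22, 125), (23, 125), (24, 125), (25, 125), (26, 125), (27, 125), (28, 125), (29, 125), (30, 125), (31, 125), (32, 125), (96, 121)],
  [(5, 28), (0, 0), (0, 0), (0, 0), (0, 0), (0, 97), (0, 98), (0, 0), (0, 0), (0, 101), (0, 102), (0, 0), (0, 104), (0, 105), (0, 106), (0, 107), (0, 108), (0, 0), (0, 110), (0, 111), (0, 112), (0, 113), (0, 114), (0, 115), (0, 116), (0, 117), (0, 118), (0, 119), (0, 120), (0, 121), (0, 122), (0, 123), (0, 124), (0, 0), (0, 0), (0, 0), (0, 0), (0, 0), (5, 102), (0, 0), (0, 0), (5, 105), (5, 107), (0, 0), (0, 0), (5, 111), (5, 113), (5, 116), (0, 0), (0, 0), (9, 105), (9, 107), (12, 107), (0, 0), (0, 0), (9, 111), (9, 113), (0, 0), (0, 0), (12, 111), (0, 0), (0, 0), (5, 119), (6, 120), (5, 121), (6, 121), (14, 113), (5, 122), (6, 122), (12, 116), (14, 116), (5, 123), (6, 123), (18, 113),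 (18, 116), (20, 116), (5, 124), (6, 124), (9, 120), (12, 120), (14, 120), (9, 123), (10, 123), (18, 120), (20, 120), (9, 124), (10, 124), (23, 120), (12, 124), (13, 124), (14, 124), (15, 124), (0, 0), (0, 0), (0, 0), (0, 0), (0, 0), (5, 125), (6, 125), (0, 0), (0, 0), (9, 125), (10, 125), (0, 0), (12, 125), (13, 125), (14, 125), (15, 125), (16, 125), (0, 0), (18, 125), (19, 125), (20, 125), (21, 125), (22, 125), (23, 125), (24, 125), (25, 125), (26, 125), (27, 125), (28, 125), (29, 125), (30, 125), (31, 125), (32, 125), (97, 120)],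
  [(0, 0), (2, 52), (3, 56), (2, 69), (2, 70), (2, 71), (2, 72), (2, 79), (2, 80), (2, 81), (2, 82), (3, 80), (3, 81), (3, 82), (4, 81), (4, 82), (5, 82), (0, 0), (0, 0), (0, 0), (0, 0), (0, 0), (0, 0), (0, 0), (0, 0), (0, 0), (0, 0), (0, 0), (0, 0), (0, 0), (0, 0), (0, 0), (0, 0), (1, 109), (1, 110), (1, 111), (1, 112), (1, 113), (1, 114), (1, 115), (1, 116), (1, 117), (1, 118), (2, 115), (2, 116), (2, 117), (2, 118), (3, 118), (1, 119), (1, 120), (1, 121), (1, 122), (1, 123), (2, 119), (2, 120), (2, 121), (2, 122), (3, 119), (3, 120), (3, 121), (4, 119), (4, 120), (5, 119), (6, 120), (5, 121), (6, 121), (4, 122), (5, 122), (6, 122), (3, 123), (4, 123), (5, 123), (6, 123), (0, 0), (0, 0), (0, 0), (0, 0), (0, 0), (7, 122), (7, 123), (8, 123), (9, 123), (10, 123), (0, 0), (0, 0), (0, 0), (0, 0), (0, 0), (0, 0), (0, 0), (0, 0), (0, 0), (0, 0), (0, 0), (2, 125), (3, 125), (4, 125), (5, 125), (6, 125), (7, 125), (8, 125), (9, 125), (10, 125), (11, 125),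 (12, 125), (13, 125), (14, 125), (15, 125), (16, 125), (43, 120), (43, 121), (44, 121), (43, 122), (44, 122), (45, 122), (43, 123), (44, 123), (45, 123), (46, 123), (53, 123), (54, 123), (55, 123), (56, 123), (69, 122), (0, 0), (94, 123)],
  [(0, 0), (3, 51), (1, 73), (1, 74), (1, 75), (1, 76), (1, 77), (1, 83), (1, 84), (1, 85), (1, 86), (0, 0), (0, 0), (0, 0), (0, 0), (0, 0), (0, 0), (3, 84), (3, 85), (3, 86), (4, 85), (4, 86), (5, 86), (0, 0), (0, 0), (0, 0), (0, 0), (0, 0), (0, 0), (0, 0), (0, 0), (0, 0), (0, 0), (1, 109), (1, 110), (1, 111), (1, 112), (1, 113), (1, 114), (1, 115), (1, 116), (1, 117), (1, 118), (2, 115), (2, 116), (2, 117), (2, 118), (3, 118), (1, 119), (1, 120), (1, 121), (1, 122), (0, 0), (2, 119), (2, 120), (2, 121), (2, 122), (3, 119), (3, 120), (3, 121), (4, 119), (4, 120), (5, 119), (6, 120), (5, 121), (6, 121), (4, 122), (5, 122), (6, 122), (0, 0), (0, 0), (0, 0), (0, 0), (2, 124), (3, 124), (4, 124), (5, 124), (6, 124),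 (7, 122), (0, 0), (0, 0), (0, 0), (0, 0), (7, 124), (8, 124), (9, 124), (10, 124), (0, 0), (0, 0), (0, 0), (0, 0), (0, 0), (0, 0), (1, 125), (0, 0), (3, 125), (4, 125), (5, 125), (6, 125), (7, 125), (8, 125), (9, 125), (10, 125), (39, 120), (39, 121), (40, 121), (39, 122), (40, 122), (41, 122), (17, 125), (18, 125), (19, 125), (20, 125), (21, 125), (22, 125), (39, 124), (40, 124), (41, 124), (42, 124), (48, 124), (49, 124), (50, 124), (51, 124), (0, 0), (74, 122), (93, 124)],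
  [(0, 0), (2, 52), (1, 73), (1, 74), (1, 75), (1, 76), (1, 77), (1, 83), (0, 0), (0, 0), (0, 0), (1, 87), (1, 88), (1, 89), (0, 0), (0, 0), (0, 0), (2, 87), (2, 88), (2, 89), (0, 0), (0, 0), (0, 0), (4, 88), (4, 89), (5, 89), (0, 0), (0, 0), (0, 0), (0, 0), (0, 0), (0, 0), (0, 0), (1, 109), (1, 110), (1, 111), (1, 112), (1, 113), (1, 114), (1, 115), (1, 116), (1, 117), (1, 118), (2, 115), (2, 116), (2, 117), (2, 118), (3, 118), (1, 119), (1, 120), (1, 121), (0, 0), (1, 123), (2, 119), (2, 120), (2, 121), (0, 0), (3, 119), (3, 120), (3, 121), (4, 119), (4, 120), (5, 119), (6, 120), (5, 121), (6, 121), (0, 0), (0, 0), (0, 0), (3, 123), (4, 123), (5, 123), (6, 123), (2, 124), (3, 124), (4, 124), (5, 124), (6, 124), (0, 0), (7, 123), (0, 0), (0, 0), (0, 0), (7, 124), (0, 0), (0, 0), (0, 0), (11, 124), (12, 124), (13, 124), (0, 0), (0, 0), (0, 0), (1, 125), (2, 125), (0, 0), (4, 125), (5, 125), (6, 125), (7, 125), (36, 120), (36, 121), (37, 121), (11,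 125), (12, 125), (13, 125), (36, 123), (37, 123), (38, 123), (17, 125), (18, 125), (19, 125), (36, 124), (37, 124), (38, 124), (23, 125), (24, 125), (25, 125), (42, 124), (48, 124), (49, 124), (50, 124), (0, 0), (52, 124), (73, 123), (93, 124)],
  [(0, 0), (2, 52), (1, 73), (1, 74), (1, 75), (1, 76), (1, 77), (0, 0), (1, 84), (0, 0), (0, 0), (1, 87), (0, 0), (0, 0), (1, 90), (1, 91), (0, 0), (2, 87), (0, 0), (0, 0), (2, 90), (2, 91), (0, 0), (3, 90), (3, 91), (0, 0), (5, 91), (0, 0), (0, 0), (0, 0), (0, 0), (0, 0), (0, 0), (1, 109), (1, 110), (1, 111), (1, 112), (1, 113), (1, 114), (1, 115), (1, 116), (1, 117), (1, 118), (2, 115), (2, 116), (2, 117), (2, 118), (3, 118), (1, 119), (1, 120), (0, 0), (1, 122), (1, 123), (2, 119), (2, 120), (0, 0), (2, 122), (3, 119), (3, 120), (0, 0), (4, 119), (4, 120), (5, 119), (6, 120), (0, 0), (0, 0), (4, 122), (5, 122), (6, 122), (3, 123), (4, 123), (5, 123), (6, 123), (2, 124), (3, 124), (4, 124), (5, 124), (6,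 124), (0, 0), (0, 0), (8, 123), (0, 0), (0, 0), (0, 0), (8, 124), (0, 0), (0, 0), (11, 124), (0, 0), (0, 0), (14, 124), (15, 124), (0, 0), (1, 125), (2, 125), (3, 125), (0, 0), (5, 125), (6, 125), (34, 120), (8, 125), (34, 122), (35, 122), (11, 125), (34, 123), (35, 123), (14, 125), (15, 125), (38, 123), (17, 125), (34, 124), (35, 124), (20, 125), (21, 125), (38, 124), (23, 125), (24, 125), (41, 124), (26, 125), (48, 124), (49, 124), (0, 0), (51, 124), (52, 124), (73, 123), (93, 124)],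
  [(0, 0), (2, 52), (1, 73), (1, 74), (1, 75), (1, 76), (1, 77), (0, 0), (0, 0), (1, 85), (0, 0), (0, 0), (1, 88), (0, 0), (1, 90), (0, 0), (1, 92), (0, 0), (2, 88), (0, 0), (2, 90), (0, 0), (2, 92), (3, 90), (0, 0), (3, 92), (4, 92), (0, 0), (0, 0), (0, 0), (0, 0), (0, 0), (0, 0), (1, 109), (1, 110), (1, 111), (1, 112), (1, 113), (1, 114), (1, 115), (1, 116), (1, 117), (1, 118), (2, 115), (2, 116), (2, 117), (2, 118), (3, 118), (1, 119), (0, 0), (1, 121), (1, 122), (1, 123), (2, 119), (0, 0), (2, 121), (2, 122), (3, 119), (0, 0), (3, 121), (4, 119), (0, 0), (5, 119), (0, 0), (5, 121), (6, 121), (4, 122), (5, 122), (6, 122), (3, 123), (4, 123), (5, 123), (6, 123), (2, 124), (3, 124), (4, 124), (5, 124), (6, 124), (0, 0), (0, 0), (0, 0), (9, 123), (0, 0), (0, 0), (0, 0), (9, 124), (0, 0), (0, 0), (12, 124), (0, 0), (14, 124), (0, 0), (16, 124), (1, 125), (2, 125), (3, 125), (4, 125), (0, 0), (6, 125), (33, 121), (33, 122), (9, 125), (35, 122), (33,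 123), (12, 125), (35, 123), (14, 125), (37, 123), (16, 125), (33, 124), (18, 125), (35, 124), (20, 125), (37, 124), (22, 125), (23, 125), (40, 124), (25, 125), (26, 125), (48, 124), (0, 0), (50, 124), (51, 124), (52, 124), (73, 123), (93, 124)]] = true := by decide +kernel

theorem dE7_7 : decRowsB chevE7 98 [
  [(0, 0), (2, 52), (1, 73), (1, 74), (1, 75), (1, 76), (1, 77), (0, 0), (0, 0), (0, 0), (1, 86), (0, 0), (0, 0), (1, 89), (0, 0), (1, 91), (1, 92), (0, 0), (0, 0), (2, 89), (0, 0), (2, 91), (2, 92), (0, 0), (3, 91), (3, 92), (4, 92), (0, 0), (0, 0), (0, 0), (0, 0), (0, 0), (0, 0), (1, 109), (1, 110), (1, 111), (1, 112), (1, 113), (1, 114), (1, 115), (1, 116), (1, 117), (1, 118), (2, 115), (2, 116), (2, 117), (2, 118), (3, 118), (0, 0), (1, 120), (1, 121), (1, 122), (1, 123), (0, 0), (2, 120), (2, 121), (2, 122), (0, 0), (3, 120), (3, 121), (0, 0), (4, 120), (0, 0), (6, 120), (5, 121), (6, 121), (4, 122), (5, 122), (6, 122), (3, 123), (4, 123),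 (5, 123), (6, 123), (2, 124), (3, 124), (4, 124), (5, 124), (6, 124), (0, 0), (0, 0), (0, 0), (0, 0), (10, 123), (0, 0), (0, 0), (0, 0), (10, 124), (0, 0), (0, 0), (13, 124), (0, 0), (15, 124), (16, 124), (1, 125), (2, 125), (3, 125), (4, 125), (5, 125), (0, 0), (33, 121), (33, 122), (34, 122), (10, 125), (33, 123), (34, 123), (13, 125), (36, 123), (15, 125), (16, 125), (33, 124), (34, 124), (19, 125), (36, 124), (21, 125), (22, 125), (39, 124), (24, 125), (25, 125), (26, 125), (0, 0), (49, 124), (50, 124), (51, 124), (52, 124), (73, 123), (93, 124)],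
  [(0, 0), (2, 52), (1, 73), (1, 74), (0, 0), (0, 0), (0, 0), (1, 83), (1, 84), (1, 85), (1, 86), (1, 87), (1, 88), (1, 89), (0, 0), (0, 0), (0, 0), (2, 87), (2, 88), (2, 89), (0, 0), (0, 0), (0, 0), (0, 0), (0, 0), (0, 0), (0, 0), (8, 88), (8, 89), (9, 89), (0, 0), (0, 0), (0, 0), (1, 109), (1, 110), (1, 111), (1, 112), (1, 113), (1, 114), (1, 115), (1, 116), (1, 117), (0, 0), (2, 115), (2, 116), (2, 117), (0, 0), (0, 0), (1, 119), (1, 120), (1, 121), (1, 122), (1, 123), (2, 119), (2, 120), (2, 121), (2, 122), (3, 119), (3, 120), (3, 121), (8, 115), (8, 116), (9, 115), (10, 116), (9, 117), (10, 117), (0, 0), (0, 0), (0, 0), (3, 123), (0, 0), (0, 0), (0, 0), (2, 124), (3, 124), (0, 0), (0, 0), (0, 0), (7, 122), (7, 123), (8, 123), (9, 123), (10, 123), (7, 124), (8, 124), (9, 124), (10, 124), (11, 124), (12, 124), (13, 124), (0, 0), (0, 0), (0, 0), (1, 125), (2, 125), (3, 125), (36, 116), (36, 117), (37, 117), (0, 0), (8, 125), (9, 125), (10, 125),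 (11, 125), (12, 125), (13, 125), (36, 123), (37, 123), (38, 123), (17, 125), (18, 125), (19, 125), (36, 124), (37, 124), (38, 124), (39, 124), (40, 124), (41, 124), (0, 0), (27, 125), (28, 125), (29, 125), (51, 124), (52, 124), (73, 123), (93, 124)],
  [(0, 0), (2, 52), (1, 73), (0, 0), (1, 75), (0, 0), (0, 0), (1, 83), (1, 84), (1, 85), (1, 86), (1, 87), (0, 0), (0, 0), (1, 90), (1, 91), (0, 0), (2, 87), (0, 0), (0, 0), (2, 90), (2, 91), (0, 0), (0, 0), (0, 0), (0, 0), (0, 0), (7, 90), (7, 91), (0, 0), (9, 91), (0, 0), (0, 0), (1, 109), (1, 110), (1, 111), (1, 112), (1, 113), (1, 114), (1, 115), (1, 116), (0, 0), (1, 118), (2, 115), (2, 116), (0, 0), (2, 118), (0, 0), (1, 119), (1, 120), (1, 121), (1, 122), (1, 123), (2, 119), (2, 120), (2, 121), (2, 122), (7, 115), (7, 116), (0, 0), (4, 119), (4, 120), (9, 115), (10, 116), (0, 0), (0, 0), (4, 122), (9, 118), (10, 118), (0, 0), (4, 123), (0, 0), (0, 0), (2, 124), (0, 0), (4, 124), (0, 0), (0, 0),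 (7, 122), (7, 123), (8, 123), (9, 123), (10, 123), (7, 124), (8, 124), (9, 124), (10, 124), (11, 124), (0, 0), (0, 0), (14, 124), (15, 124), (0, 0), (1, 125), (2, 125), (34, 116), (4, 125), (34, 118), (35, 118), (7, 125), (0, 0), (9, 125), (10, 125), (11, 125), (34, 123), (35, 123), (14, 125), (15, 125), (38, 123), (17, 125), (34, 124), (35, 124), (20, 125), (21, 125), (38, 124), (39, 124), (40, 124), (0, 0), (42, 124), (27, 125), (28, 125), (50, 124), (30, 125), (52, 124), (73, 123), (93, 124)],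
  [(0, 0), (2, 52), (1, 73), (0, 0), (0, 0), (1, 76), (0, 0), (1, 83), (1, 84), (1, 85), (1, 86), (0, 0), (1, 88), (0, 0), (1, 90), (0, 0), (1, 92), (0, 0), (2, 88), (0, 0), (2, 90), (0, 0), (2, 92), (0, 0), (0, 0), (0, 0), (0, 0), (7, 90), (0, 0), (7, 92), (8, 92), (0, 0), (0, 0), (1, 109), (1, 110), (1, 111), (1, 112), (1, 113), (1, 114), (1, 115), (0, 0), (1, 117), (1, 118), (2, 115), (0, 0), (2, 117), (2, 118), (0, 0), (1, 119), (1, 120), (1, 121), (1, 122), (1, 123), (2, 119), (2, 120), (2, 121), (2, 122), (7, 115), (0, 0), (7, 117), (8, 115), (0, 0), (5, 119), (0, 0), (5, 121), (10, 117), (8, 118), (5, 122), (10, 118), (0, 0), (0, 0), (5, 123), (0, 0), (2, 124), (0, 0), (0, 0), (5, 124), (0, 0), (7, 122), (7, 123), (8, 123), (9, 123), (10, 123), (7, 124), (8, 124), (9, 124), (10, 124), (0, 0), (12, 124), (0, 0), (14, 124), (0, 0), (16, 124), (1, 125), (2, 125), (33, 117), (33, 118), (5, 125), (35, 118), (7, 125), (8, 125), (0, 0), (10, 125),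 (33, 123), (12, 125), (35, 123), (14, 125), (37, 123), (16, 125), (33, 124), (18, 125), (35, 124), (20, 125), (37, 124), (22, 125), (39, 124), (0, 0), (41, 124), (42, 124), (27, 125), (49, 124), (29, 125), (30, 125), (52, 124), (73, 123), (93, 124)],
  [(0, 0), (2, 52), (1, 73), (0, 0), (0, 0), (0, 0), (1, 77), (1, 83), (1, 84), (1, 85), (1, 86), (0, 0), (0, 0), (1, 89), (0, 0), (1, 91), (1, 92), (0, 0), (0, 0), (2, 89), (0, 0), (2, 91), (2, 92), (0, 0), (0, 0), (0, 0), (0, 0), (0, 0), (7, 91), (7, 92), (8, 92), (0, 0), (0, 0), (1, 109), (1, 110), (1, 111), (1, 112), (1, 113), (1, 114), (0, 0), (1, 116), (1, 117), (1, 118), (0, 0), (2, 116), (2, 117), (2, 118), (0, 0), (1, 119), (1, 120), (1, 121), (1, 122), (1, 123), (2, 119), (2, 120), (2, 121), (2, 122), (0, 0), (7, 116), (7, 117), (0, 0), (8, 116), (0, 0), (6, 120), (9, 117), (6, 121), (8, 118), (9, 118), (6, 122), (0, 0), (0, 0), (0, 0), (6, 123), (2, 124), (0, 0), (0, 0), (0, 0), (6, 124), (7,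 122), (7, 123), (8, 123), (9, 123), (10, 123), (7, 124), (8, 124), (9, 124), (10, 124), (0, 0), (0, 0), (13, 124), (0, 0), (15, 124), (16, 124), (1, 125), (2, 125), (33, 117), (33, 118), (34, 118), (6, 125), (7, 125), (8, 125), (9, 125), (0, 0), (33, 123), (34, 123), (13, 125), (36, 123), (15, 125), (16, 125), (33, 124), (34, 124), (19, 125), (36, 124), (21, 125), (22, 125), (0, 0), (40, 124), (41, 124), (42, 124), (48, 124), (28, 125), (29, 125), (30, 125), (52, 124), (73, 123), (93, 124)],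
  [(0, 0), (3, 51), (0, 0), (1, 74), (1, 75), (0, 0), (0, 0), (1, 83), (1, 84), (0, 0), (0, 0), (1, 87), (1, 88), (1, 89), (1, 90), (1, 91), (0, 0), (3, 84), (0, 0), (0, 0), (0, 0), (0, 0), (0, 0), (3, 90), (3, 91), (0, 0), (0, 0), (7, 90), (7, 91), (0, 0), (0, 0), (12, 91), (0, 0), (1, 109), (1, 110), (1, 111), (1, 112), (1, 113), (0, 0), (1, 115), (1, 116), (1, 117), (1, 118), (3, 112), (3, 113), (0, 0), (0, 0), (3, 118), (1, 119), (1, 120), (1, 121), (1, 122), (1, 123), (7, 112), (7, 113), (0, 0), (0, 0), (3, 119), (3, 120), (3, 121), (4, 119), (4, 120), (12, 112), (13, 113), (0, 0), (0, 0), (4, 122), (0, 0), (0, 0), (3, 123), (4, 123), (12, 118), (13, 118), (0, 0), (3, 124), (4, 124), (0, 0), (0, 0), (7, 122), (7, 123), (8, 123), (12, 122), (13, 122), (7, 124), (8, 124), (0, 0), (0, 0), (11, 124), (12, 124), (13, 124), (14, 124), (15, 124), (0, 0), (1, 125), (34, 113), (3, 125), (4, 125), (34, 118), (35, 118), (7, 125), (8, 125), (34, 122), (35,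 122), (0, 0), (12, 125), (13, 125), (14, 125), (15, 125), (41, 122), (17, 125), (34, 124), (35, 124), (36, 124), (37, 124), (0, 0), (23, 125), (24, 125), (41, 124), (42, 124), (27, 125), (28, 125), (50, 124), (51, 124), (31, 125), (74, 122), (93, 124)],
  [(0, 0), (3, 51), (0, 0), (1, 74), (0, 0), (1, 76), (0, 0), (1, 83), (0, 0), (1, 85), (0, 0), (1, 87), (1, 88), (1, 89), (1, 90), (0, 0), (1, 92), (0, 0), (3, 85), (0, 0), (0, 0), (0, 0), (0, 0), (3, 90), (0, 0), (3, 92), (0, 0), (7, 90), (0, 0), (7, 92), (0, 0), (11, 92), (0, 0), (1, 109), (1, 110), (1, 111), (1, 112), (0, 0), (1, 114), (1, 115), (1, 116), (1, 117), (1, 118), (3, 112), (0, 0), (3, 114), (0, 0), (3, 118), (1, 119), (1, 120), (1, 121), (1, 122), (1, 123), (7, 112), (0, 0), (7, 114), (0, 0), (3, 119), (3, 120), (3, 121), (11, 112), (0, 0), (5, 119), (0, 0), (5, 121), (13, 114), (0, 0), (5, 122), (0, 0), (3, 123), (11, 118), (5, 123), (13, 118), (0, 0), (3, 124), (0, 0), (5, 124), (0,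 0), (7, 122), (7, 123), (11, 122), (9, 123), (13, 122), (7, 124), (0, 0), (9, 124), (0, 0), (11, 124), (12, 124), (13, 124), (14, 124), (0, 0), (16, 124), (1, 125), (33, 114), (3, 125), (33, 118), (5, 125), (35, 118), (7, 125), (33, 122), (9, 125), (35, 122), (11, 125), (0, 0), (13, 125), (14, 125), (40, 122), (16, 125), (33, 124), (18, 125), (35, 124), (36, 124), (0, 0), (38, 124), (23, 125), (40, 124), (25, 125), (42, 124), (27, 125), (49, 124), (29, 125), (51, 124), (31, 125), (74, 122), (93, 124)],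
  [(0, 0), (3, 51), (0, 0), (1, 74), (0, 0), (0, 0), (1, 77), (1, 83), (0, 0), (0, 0), (1, 86), (1, 87), (1, 88), (1, 89), (0, 0), (1, 91), (1, 92), (0, 0), (0, 0), (3, 86), (0, 0), (0, 0), (0, 0), (0, 0), (3, 91), (3, 92), (0, 0), (0, 0), (7, 91), (7, 92), (0, 0), (11, 92), (0, 0), (1, 109), (1, 110), (1, 111), (0, 0), (1, 113), (1, 114), (1, 115), (1, 116), (1, 117), (1, 118), (0, 0), (3, 113), (3, 114), (0, 0), (3, 118), (1, 119), (1, 120), (1, 121), (1, 122), (1, 123), (0, 0), (7, 113), (7, 114), (0, 0), (3, 119), (3, 120), (3, 121), (0, 0), (11, 113), (0, 0), (6, 120), (12, 114), (6, 121), (0, 0), (0, 0), (6, 122), (3, 123), (11, 118), (12, 118), (6, 123), (0, 0), (3, 124), (0, 0), (0, 0), (6, 124), (7, 122), (7, 123), (11, 122), (12, 122), (10, 123), (7, 124), (0, 0), (0, 0), (10, 124), (11, 124), (12, 124), (13, 124), (0, 0), (15, 124), (16, 124), (1, 125), (33, 114), (3, 125), (33, 118), (34, 118), (6, 125), (7, 125), (33, 122), (34, 122),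 (10, 125), (11, 125), (12, 125), (0, 0), (39, 122), (15, 125), (16, 125), (33, 124), (34, 124), (19, 125), (0, 0), (37, 124), (38, 124), (39, 124), (24, 125), (25, 125), (42, 124), (48, 124), (28, 125), (29, 125), (51, 124), (31, 125), (74, 122), (93, 124)],
  [(0, 0), (4, 50), (0, 0), (0, 0), (1, 75), (1, 76), (0, 0), (0, 0), (1, 84), (1, 85), (0, 0), (1, 87), (1, 88), (0, 0), (1, 90), (1, 91), (1, 92), (0, 0), (0, 0), (0, 0), (4, 85), (0, 0), (0, 0), (4, 88), (0, 0), (0, 0), (4, 92), (8, 88), (0, 0), (0, 0), (8, 92), (11, 92), (0, 0), (1, 109), (1, 110), (0, 0), (1, 112), (1, 113), (1, 114), (1, 115), (1, 116), (1, 117), (1, 118), (4, 110), (0, 0), (0, 0), (4, 114), (4, 117), (1, 119), (1, 120), (1, 121), (1, 122), (1, 123), (8, 110), (0, 0), (0, 0), (8, 114), (11, 110), (0, 0), (0, 0), (4, 119), (4, 120), (5, 119), (0, 0), (5, 121), (0, 0), (4, 122), (5, 122), (15, 114), (11, 117), (4, 123), (5, 123), (15, 117), (0, 0), (0, 0), (4, 124), (5, 124),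 (0, 0), (8, 121), (11, 121), (8, 123), (9, 123), (15, 121), (0, 0), (8, 124), (9, 124), (0, 0), (11, 124), (12, 124), (0, 0), (14, 124), (15, 124), (16, 124), (1, 125), (33, 114), (33, 117), (4, 125), (5, 125), (37, 117), (33, 121), (8, 125), (9, 125), (37, 121), (11, 125), (12, 125), (40, 121), (0, 0), (15, 125), (16, 125), (33, 124), (34, 124), (0, 0), (20, 125), (37, 124), (38, 124), (23, 125), (40, 124), (41, 124), (26, 125), (27, 125), (49, 124), (50, 124), (30, 125), (31, 125), (75, 121), (93, 124)],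
  [(0, 0), (4, 50), (0, 0), (0, 0), (1, 75), (0, 0), (1, 77), (0, 0), (1, 84), (0, 0), (1, 86), (1, 87), (0, 0), (1, 89), (1, 90), (1, 91), (1, 92), (0, 0), (0, 0), (0, 0), (0, 0), (4, 86), (0, 0), (0, 0), (4, 89), (0, 0), (4, 92), (0, 0), (8, 89), (0, 0), (8, 92), (11, 92), (0, 0), (1, 109), (0, 0), (1, 111), (1, 112), (1, 113), (1, 114), (1, 115), (1, 116), (1, 117), (1, 118), (0, 0), (4, 111), (0, 0), (4, 114), (4, 117), (1, 119), (1, 120), (1, 121), (1, 122), (1, 123), (0, 0), (8, 111), (0, 0), (8, 114), (0, 0), (11, 111), (0, 0), (4, 119), (4, 120), (0, 0), (6, 120), (0, 0), (6, 121), (4, 122), (14, 114), (6, 122), (11, 117), (4, 123), (14, 117), (6, 123), (0, 0), (0, 0), (4, 124), (0, 0), (6, 124), (8, 121), (11, 121), (8, 123), (14, 121), (10, 123), (0, 0), (8, 124), (0, 0), (10, 124), (11, 124), (0, 0), (13, 124), (14, 124), (15, 124), (16, 124), (1, 125), (33, 114), (33, 117), (4, 125), (36, 117), (6, 125), (33, 121), (8, 125), (36, 121),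 (10, 125), (11, 125), (39, 121), (13, 125), (14, 125), (0, 0), (16, 125), (33, 124), (0, 0), (35, 124), (36, 124), (21, 125), (38, 124), (39, 124), (24, 125), (41, 124), (26, 125), (48, 124), (28, 125), (50, 124), (30, 125), (31, 125), (75, 121), (93, 124)],
  [(0, 0), (5, 49), (0, 0), (0, 0), (0, 0), (1, 76), (1, 77), (0, 0), (0, 0), (1, 85), (1, 86), (0, 0), (1, 88), (1, 89), (1, 90), (1, 91), (1, 92), (0, 0), (0, 0), (0, 0), (0, 0), (0, 0), (5, 86), (0, 0), (0, 0), (5, 89), (5, 91), (0, 0), (0, 0), (9, 89), (9, 91), (12, 91), (0, 0), (0, 0), (1, 110), (1, 111), (1, 112), (1, 113), (1, 114), (1, 115), (1, 116), (1, 117), (1, 118), (0, 0), (0, 0), (5, 111), (5, 113), (5, 116), (1, 119), (1, 120), (1, 121), (1, 122), (1, 123), (0, 0), (0, 0), (9, 111), (9, 113), (0, 0), (0, 0), (12, 111), (0, 0), (0, 0), (5, 119), (6, 120), (5, 121), (6, 121), (14, 113), (5, 122), (6, 122), (12, 116), (14, 116), (5, 123), (6, 123), (0, 0), (0, 0), (0, 0), (5, 124),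 (6, 124), (9, 120), (12, 120), (14, 120), (9, 123), (10, 123), (0, 0), (0, 0), (9, 124), (10, 124), (0, 0), (12, 124), (13, 124), (14, 124), (15, 124), (16, 124), (1, 125), (34, 113), (34, 116), (36, 116), (5, 125), (6, 125), (34, 120), (36, 120), (9, 125), (10, 125), (39, 120), (12, 125), (13, 125), (14, 125), (15, 125), (0, 0), (0, 0), (34, 124), (35, 124), (36, 124), (37, 124), (22, 125), (39, 124), (40, 124), (25, 125), (26, 125), (48, 124), (49, 124), (29, 125), (30, 125), (31, 125), (76, 120), (93, 124)],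
  [(0, 0), (0, 0), (3, 56), (2, 69), (2, 70), (0, 0), (0, 0), (2, 79), (2, 80), (0, 0), (0, 0), (3, 80), (0, 0), (0, 0), (0, 0), (0, 0), (0, 0), (2, 87), (2, 88), (2, 89), (2, 90), (2, 91), (0, 0), (3, 90), (3, 91), (0, 0), (0, 0), (7, 90), (7, 91), (0, 0), (0, 0), (0, 0), (18, 91), (2, 103), (2, 104), (2, 105), (2, 106), (2, 107), (0, 0), (3, 106), (3, 107), (0, 0), (0, 0), (2, 115), (2, 116), (2, 117), (2, 118), (3, 118), (7, 106), (7, 107), (0, 0), (0, 0), (0, 0), (2, 119), (2, 120), (2, 121), (2, 122), (3, 119), (3, 120), (3, 121), (4, 119), (4, 120), (18, 106), (19, 107), (0, 0), (0, 0), (4, 122), (0, 0), (0, 0), (3, 123), (4, 123), (0, 0), (0, 0), (2, 124), (3, 124), (4, 124), (18, 118), (19, 118), (7, 122), (7, 123), (8, 123), (0, 0), (0, 0), (7, 124), (8, 124), (18, 122), (19, 122), (11, 124), (18, 123), (19, 123), (20, 123), (21, 123), (0, 0), (34, 107), (2, 125), (3, 125), (4, 125), (34, 118), (35, 118), (7, 125), (8, 125), (34, 122), (35,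 122), (11, 125), (34, 123), (35, 123), (36, 123), (37, 123), (0, 0), (0, 0), (18, 125), (19, 125), (20, 125), (21, 125), (45, 122), (23, 125), (24, 125), (45, 123), (46, 123), (27, 125), (28, 125), (55, 123), (56, 123), (69, 122), (32, 125), (93, 124)],
  [(0, 0), (0, 0), (3, 56), (2, 69), (0, 0), (2, 71), (0, 0), (2, 79), (0, 0), (2, 81), (0, 0), (0, 0), (3, 81), (0, 0), (0, 0), (0, 0), (0, 0), (2, 87), (2, 88), (2, 89), (2, 90), (0, 0), (2, 92), (3, 90), (0, 0), (3, 92), (0, 0), (7, 90), (0, 0), (7, 92), (0, 0), (0, 0), (17, 92), (2, 103), (2, 104), (2, 105), (2, 106), (0, 0), (2, 108), (3, 106), (0, 0), (3, 108), (0, 0), (2, 115), (2, 116), (2, 117), (2, 118), (3, 118), (7, 106), (0, 0), (7, 108), (0, 0), (0, 0), (2, 119), (2, 120), (2, 121), (2, 122), (3, 119), (3, 120), (3, 121), (17, 106), (0, 0), (5, 119), (0, 0), (5, 121), (19, 108), (0, 0), (5, 122), (0, 0), (3, 123), (0, 0), (5, 123), (0, 0), (2, 124), (3, 124), (17, 118), (5, 124), (19,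 118), (7, 122), (7, 123), (0, 0), (9, 123), (0, 0), (7, 124), (17, 122), (9, 124), (19, 122), (17, 123), (12, 124), (19, 123), (20, 123), (0, 0), (22, 123), (33, 108), (2, 125), (3, 125), (33, 118), (5, 125), (35, 118), (7, 125), (33, 122), (9, 125), (35, 122), (33, 123), (12, 125), (35, 123), (36, 123), (0, 0), (38, 123), (17, 125), (0, 0), (19, 125), (20, 125), (44, 122), (22, 125), (23, 125), (44, 123), (25, 125), (46, 123), (27, 125), (54, 123), (29, 125), (56, 123), (69, 122), (32, 125), (93, 124)],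
  [(0, 0), (0, 0), (3, 56), (2, 69), (0, 0), (0, 0), (2, 72), (2, 79), (0, 0), (0, 0), (2, 82), (0, 0), (0, 0), (3, 82), (0, 0), (0, 0), (0, 0), (2, 87), (2, 88), (2, 89), (0, 0), (2, 91), (2, 92), (0, 0), (3, 91), (3, 92), (0, 0), (0, 0), (7, 91), (7, 92), (0, 0), (0, 0), (17, 92), (2, 103), (2, 104), (2, 105), (0, 0), (2, 107), (2, 108), (0, 0), (3, 107), (3, 108), (0, 0), (2, 115), (2, 116), (2, 117), (2, 118), (3, 118), (0, 0), (7, 107), (7, 108), (0, 0), (0, 0), (2, 119), (2, 120), (2, 121), (2, 122), (3, 119), (3, 120), (3, 121), (0, 0), (17, 107), (0, 0), (6, 120), (18, 108), (6, 121), (0, 0), (0, 0), (6, 122), (3, 123), (0, 0), (0, 0), (6, 123), (2, 124), (3, 124), (17, 118), (18, 118), (6, 124), (7, 122), (7, 123), (0, 0), (0, 0), (10, 123), (7, 124), (17, 122), (18, 122), (10, 124), (17, 123), (18, 123), (13, 124), (0, 0), (21, 123), (22, 123), (33, 108), (2, 125), (3, 125), (33, 118), (34, 118), (6, 125), (7, 125), (33, 122), (34, 122),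 (10, 125), (33, 123), (34, 123), (13, 125), (0, 0), (37, 123), (38, 123), (17, 125), (18, 125), (0, 0), (43, 122), (21, 125), (22, 125), (43, 123), (24, 125), (25, 125), (46, 123), (53, 123), (28, 125), (29, 125), (56, 123), (69, 122), (32, 125), (93, 124)]] = true := by decide +kernel

theorem dE7_8 : decRowsB chevE7 112 [
  [(0, 0), (0, 0), (4, 55), (0, 0), (2, 70), (2, 71), (0, 0), (0, 0), (2, 80), (2, 81), (0, 0), (0, 0), (0, 0), (0, 0), (4, 81), (0, 0), (0, 0), (2, 87), (2, 88), (0, 0), (2, 90), (2, 91), (2, 92), (4, 88), (0, 0), (0, 0), (4, 92), (8, 88), (0, 0), (0, 0), (8, 92), (0, 0), (17, 92), (2, 103), (2, 104), (0, 0), (2, 106), (2, 107), (2, 108), (4, 104), (0, 0), (0, 0), (4, 108), (2, 115), (2, 116), (2, 117), (2, 118), (4, 117), (8, 104), (0, 0), (0, 0), (8, 108), (0, 0), (2, 119), (2, 120), (2, 121), (2, 122), (17, 104), (0, 0), (0, 0), (4, 119), (4, 120), (5, 119), (0, 0), (5, 121), (0, 0), (4, 122), (5, 122), (21, 108), (0, 0), (4,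 123), (5, 123), (0, 0), (2, 124), (17, 117), (4, 124), (5, 124), (21, 117), (8, 121), (0, 0), (8, 123), (9, 123), (0, 0), (17, 121), (8, 124), (9, 124), (21, 121), (17, 123), (18, 123), (0, 0), (14, 124), (21, 123), (22, 123), (33, 108), (2, 125), (33, 117), (4, 125), (5, 125), (37, 117), (33, 121), (8, 125), (9, 125), (37, 121), (33, 123), (34, 123), (0, 0), (14, 125), (37, 123), (38, 123), (17, 125), (18, 125), (44, 121), (0, 0), (21, 125), (22, 125), (23, 125), (44, 123), (45, 123), (26, 125), (27, 125), (54, 123), (55, 123), (30, 125), (70, 121), (32, 125), (93, 124)],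
  [(0, 0), (0, 0), (4, 55), (0, 0), (2, 70), (0, 0), (2, 72), (0, 0), (2, 80), (0, 0), (2, 82), (0, 0), (0, 0), (0, 0), (0, 0), (4, 82), (0, 0), (2, 87), (0, 0), (2, 89), (2, 90), (2, 91), (2, 92), (0, 0), (4, 89), (0, 0), (4, 92), (0, 0), (8, 89), (0, 0), (8, 92), (0, 0), (17, 92), (2, 103), (0, 0), (2, 105), (2, 106), (2, 107), (2, 108), (0, 0), (4, 105), (0, 0), (4, 108), (2, 115), (2, 116), (2, 117), (2, 118), (4, 117), (0, 0), (8, 105), (0, 0), (8, 108), (0, 0), (2, 119), (2, 120), (2, 121), (2, 122), (0, 0), (17, 105), (0, 0), (4, 119), (4, 120), (0, 0), (6, 120), (0, 0), (6, 121), (4, 122), (20, 108), (6, 122), (0, 0), (4, 123), (0, 0), (6, 123), (2, 124), (17, 117), (4, 124), (20, 117), (6, 124), (8, 121), (0, 0), (8, 123), (0, 0), (10, 123), (17, 121), (8, 124), (20, 121), (10, 124), (17, 123), (0, 0), (19, 123), (20, 123), (15, 124), (22, 123), (33, 108), (2, 125), (33, 117), (4, 125), (36, 117), (6, 125), (33, 121), (8, 125), (36, 121),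 (10, 125), (33, 123), (0, 0), (35, 123), (36, 123), (15, 125), (38, 123), (17, 125), (43, 121), (19, 125), (20, 125), (0, 0), (22, 125), (43, 123), (24, 125), (45, 123), (26, 125), (53, 123), (28, 125), (55, 123), (30, 125), (70, 121), (32, 125), (93, 124)],
  [(0, 0), (0, 0), (5, 54), (0, 0), (0, 0), (2, 71), (2, 72), (0, 0), (0, 0), (2, 81), (2, 82), (0, 0), (0, 0), (0, 0), (0, 0), (0, 0), (5, 82), (0, 0), (2, 88), (2, 89), (2, 90), (2, 91), (2, 92), (0, 0), (0, 0), (5, 89), (5, 91), (0, 0), (0, 0), (9, 89), (9, 91), (0, 0), (18, 91), (0, 0), (2, 104), (2, 105), (2, 106), (2, 107), (2, 108), (0, 0), (0, 0), (5, 105), (5, 107), (2, 115), (2, 116), (2, 117), (2, 118), (5, 116), (0, 0), (0, 0), (9, 105), (9, 107), (0, 0), (2, 119), (2, 120), (2, 121), (2, 122), (0, 0), (0, 0), (18, 105), (0, 0), (0, 0), (5, 119), (6, 120), (5, 121), (6, 121), (20, 107), (5, 122), (6, 122), (0, 0), (0, 0), (5, 123), (6, 123), (2, 124), (18, 116), (20, 116), (5, 124),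 (6, 124), (9, 120), (0, 0), (0, 0), (9, 123), (10, 123), (18, 120), (20, 120), (9, 124), (10, 124), (0, 0), (18, 123), (19, 123), (20, 123), (21, 123), (16, 124), (34, 107), (2, 125), (34, 116), (36, 116), (5, 125), (6, 125), (34, 120), (36, 120), (9, 125), (10, 125), (0, 0), (34, 123), (35, 123), (36, 123), (37, 123), (16, 125), (43, 120), (18, 125), (19, 125), (20, 125), (21, 125), (0, 0), (43, 123), (44, 123), (25, 125), (26, 125), (53, 123), (54, 123), (29, 125), (30, 125), (71, 120), (32, 125), (93, 124)],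
  [(0, 0), (0, 0), (0, 0), (4, 59), (3, 66), (3, 67), (0, 0), (0, 0), (0, 0), (0, 0), (0, 0), (3, 80), (3, 81), (0, 0), (4, 81), (0, 0), (0, 0), (3, 84), (3, 85), (0, 0), (4, 85), (0, 0), (0, 0), (3, 90), (3, 91), (3, 92), (4, 92), (11, 85), (0, 0), (0, 0), (0, 0), (11, 92), (17, 92), (3, 100), (3, 101), (0, 0), (4, 101), (0, 0), (0, 0), (3, 106), (3, 107), (3, 108), (4, 108), (3, 112), (3, 113), (3, 114), (4, 114), (3, 118), (11, 101), (0, 0), (0, 0), (0, 0), (11, 108), (17, 101), (0, 0), (0, 0), (0, 0), (3, 119), (3, 120), (3, 121), (4, 119), (4, 120), (5, 119), (0, 0), (5, 121), (0, 0), (4, 122), (5, 122), (0, 0), (3, 123), (4, 123), (5, 123), (24, 108), (17, 114), (3, 124), (4, 124), (5, 124), (24, 114), (0, 0), (11, 121), (11, 122), (12, 122), (0, 0), (17, 121), (17, 122), (18, 122), (0, 0), (11, 124), (12, 124), (24, 121), (14, 124), (24, 122), (25, 122), (33, 108), (33, 114), (3, 125), (4, 125), (5, 125), (40, 114), (33, 121), (33, 122), (34,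 122), (0, 0), (11, 125), (12, 125), (40, 121), (14, 125), (40, 122), (41, 122), (17, 125), (18, 125), (44, 121), (20, 125), (44, 122), (45, 122), (0, 0), (24, 125), (25, 125), (26, 125), (27, 125), (58, 122), (59, 122), (66, 121), (31, 125), (32, 125), (93, 124)],
  [(0, 0), (0, 0), (0, 0), (4, 59), (3, 66), (0, 0), (3, 68), (0, 0), (0, 0), (0, 0), (0, 0), (3, 80), (0, 0), (3, 82), (0, 0), (4, 82), (0, 0), (3, 84), (0, 0), (3, 86), (0, 0), (4, 86), (0, 0), (3, 90), (3, 91), (3, 92), (4, 92), (0, 0), (11, 86), (0, 0), (0, 0), (11, 92), (17, 92), (3, 100), (0, 0), (3, 102), (0, 0), (4, 102), (0, 0), (3, 106), (3, 107), (3, 108), (4, 108), (3, 112), (3, 113), (3, 114), (4, 114), (3, 118), (0, 0), (11, 102), (0, 0), (0, 0), (11, 108), (0, 0), (17, 102), (0, 0), (0, 0), (3, 119), (3, 120), (3, 121), (4, 119), (4, 120), (0, 0), (6, 120), (0, 0), (6, 121), (4, 122), (0, 0), (6, 122), (3, 123), (4, 123), (23, 108), (6, 123), (17, 114), (3, 124), (4, 124),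 (23, 114), (6, 124), (0, 0), (11, 121), (11, 122), (0, 0), (13, 122), (17, 121), (17, 122), (0, 0), (19, 122), (11, 124), (23, 121), (13, 124), (23, 122), (15, 124), (25, 122), (33, 108), (33, 114), (3, 125), (4, 125), (39, 114), (6, 125), (33, 121), (33, 122), (0, 0), (35, 122), (11, 125), (39, 121), (13, 125), (39, 122), (15, 125), (41, 122), (17, 125), (43, 121), (19, 125), (43, 122), (21, 125), (45, 122), (23, 125), (0, 0), (25, 125), (26, 125), (57, 122), (28, 125), (59, 122), (66, 121), (31, 125), (32, 125), (93, 124)],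
  [(0, 0), (0, 0), (0, 0), (5, 58), (0, 0), (3, 67), (3, 68), (0, 0), (0, 0), (0, 0), (0, 0), (0, 0), (3, 81), (3, 82), (0, 0), (0, 0), (5, 82), (0, 0), (3, 85), (3, 86), (0, 0), (0, 0), (5, 86), (3, 90), (3, 91), (3, 92), (5, 91), (0, 0), (0, 0), (12, 86), (0, 0), (12, 91), (18, 91), (0, 0), (3, 101), (3, 102), (0, 0), (0, 0), (5, 102), (3, 106), (3, 107), (3, 108), (5, 107), (3, 112), (3, 113), (3, 114), (5, 113), (3, 118), (0, 0), (0, 0), (12, 102), (0, 0), (12, 107), (0, 0), (0, 0), (18, 102), (0, 0), (3, 119), (3, 120), (3, 121), (0, 0), (0, 0), (5, 119), (6, 120), (5, 121), (6, 121), (0, 0), (5, 122), (6, 122), (3, 123), (23, 107), (5, 123), (6, 123), (18, 113), (3, 124), (23, 113), (5, 124), (6, 124), (0, 0), (12, 120), (0, 0), (12, 122), (13, 122), (18, 120), (0, 0), (18, 122), (19, 122), (23, 120), (12, 124), (13, 124), (23, 122), (24, 122), (16, 124), (34, 107), (34, 113), (3, 125), (39, 113), (5, 125), (6, 125), (34, 120), (0, 0), (34, 122),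 (35, 122), (39, 120), (12, 125), (13, 125), (39, 122), (40, 122), (16, 125), (43, 120), (18, 125), (19, 125), (43, 122), (44, 122), (22, 125), (23, 125), (24, 125), (0, 0), (26, 125), (57, 122), (58, 122), (29, 125), (67, 120), (31, 125), (32, 125), (93, 124)],
  [(0, 0), (0, 0), (0, 0), (0, 0), (5, 61), (4, 64), (4, 65), (0, 0), (0, 0), (0, 0), (0, 0), (0, 0), (0, 0), (0, 0), (4, 81), (4, 82), (5, 82), (0, 0), (0, 0), (0, 0), (4, 85), (4, 86), (5, 86), (4, 88), (4, 89), (5, 89), (4, 92), (0, 0), (0, 0), (0, 0), (14, 86), (14, 89), (20, 89), (0, 0), (0, 0), (0, 0), (4, 101), (4, 102), (5, 102), (4, 104), (4, 105), (5, 105), (4, 108), (4, 110), (4, 111), (5, 111), (4, 114), (4, 117), (0, 0), (0, 0), (0, 0), (14, 102), (14, 105), (0, 0), (0, 0), (0, 0), (20, 102), (0, 0), (0, 0), (0, 0), (4, 119), (4, 120), (5, 119), (6, 120), (5, 121), (6, 121), (4, 122), (5, 122), (6, 122), (23, 105), (4, 123), (5, 123), (6, 123), (20, 111), (23, 111), (4, 124), (5,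 124), (6, 124), (0, 0), (0, 0), (14, 120), (14, 121), (15, 121), (0, 0), (20, 120), (20, 121), (21, 121), (23, 120), (23, 121), (24, 121), (14, 124), (15, 124), (16, 124), (36, 105), (36, 111), (39, 111), (4, 125), (5, 125), (6, 125), (0, 0), (36, 120), (36, 121), (37, 121), (39, 120), (39, 121), (40, 121), (14, 125), (15, 125), (16, 125), (43, 120), (43, 121), (44, 121), (20, 125), (21, 125), (22, 125), (23, 125), (24, 125), (25, 125), (0, 0), (60, 121), (61, 121), (64, 120), (30, 125), (31, 125), (32, 125), (93, 124)],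
  [(0, 0), (0, 0), (0, 0), (0, 0), (0, 0), (0, 0), (0, 0), (8, 59), (7, 66), (7, 67), (0, 0), (7, 70), (7, 71), (0, 0), (8, 71), (0, 0), (0, 0), (7, 75), (7, 76), (0, 0), (8, 76), (0, 0), (0, 0), (11, 76), (0, 0), (0, 0), (0, 0), (7, 90), (7, 91), (7, 92), (8, 92), (11, 92), (17, 92), (7, 96), (7, 97), (0, 0), (8, 97), (0, 0), (0, 0), (11, 97), (0, 0), (0, 0), (0, 0), (17, 97), (0, 0), (0, 0), (0, 0), (0, 0), (7, 106), (7, 107), (7, 108), (8, 108), (11, 108), (7, 112), (7, 113), (7, 114), (8, 114), (7, 115), (7, 116), (7, 117), (8, 115), (8, 116), (9, 115), (0, 0), (9, 117), (0, 0), (8, 118), (9, 118), (0, 0), (11, 117), (11, 118), (12, 118), (0, 0), (17, 114), (17, 117), (17, 118), (18, 118), (0, 0), (7, 122), (7, 123), (8, 123), (9, 123), (28, 108), (7, 124), (8, 124), (9, 124), (28, 114), (11, 124), (12, 124), (28, 117), (14, 124), (28, 118), (29, 118), (33, 108), (33, 114), (33, 117), (33, 118), (34, 118), (0, 0), (7, 125), (8, 125), (9, 125),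 (49, 114), (11, 125), (12, 125), (49, 117), (14, 125), (49, 118), (50, 118), (17, 125), (18, 125), (54, 117), (20, 125), (54, 118), (55, 118), (23, 125), (58, 118), (59, 118), (66, 117), (0, 0), (28, 125), (29, 125), (30, 125), (31, 125), (32, 125), (93, 124)],
  [(0, 0), (0, 0), (0, 0), (0, 0), (0, 0), (0, 0), (0, 0), (8, 59), (7, 66), (0, 0), (7, 68), (7, 70), (0, 0), (7, 72), (0, 0), (8, 72), (0, 0), (7, 75), (0, 0), (7, 77), (0, 0), (8, 77), (0, 0), (0, 0), (11, 77), (0, 0), (0, 0), (7, 90), (7, 91), (7, 92), (8, 92), (11, 92), (17, 92), (7, 96), (0, 0), (7, 98), (0, 0), (8, 98), (0, 0), (0, 0), (11, 98), (0, 0), (0, 0), (0, 0), (17, 98), (0, 0), (0, 0), (0, 0), (7, 106), (7, 107), (7, 108), (8, 108), (11, 108), (7, 112), (7, 113), (7, 114), (8, 114), (7, 115), (7, 116), (7, 117), (8, 115), (8, 116), (0, 0), (10, 116), (0, 0), (10, 117), (8, 118), (0, 0), (10, 118), (11, 117), (11, 118), (0, 0), (13, 118), (17, 114), (17, 117), (17, 118), (0, 0),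 (19, 118), (7, 122), (7, 123), (8, 123), (27, 108), (10, 123), (7, 124), (8, 124), (27, 114), (10, 124), (11, 124), (27, 117), (13, 124), (27, 118), (15, 124), (29, 118), (33, 108), (33, 114), (33, 117), (33, 118), (0, 0), (35, 118), (7, 125), (8, 125), (48, 114), (10, 125), (11, 125), (48, 117), (13, 125), (48, 118), (15, 125), (50, 118), (17, 125), (53, 117), (19, 125), (53, 118), (21, 125), (55, 118), (57, 118), (24, 125), (59, 118), (66, 117), (27, 125), (0, 0), (29, 125), (30, 125), (31, 125), (32, 125), (93, 124)],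
  [(0, 0), (0, 0), (0, 0), (0, 0), (0, 0), (0, 0), (0, 0), (9, 58), (0, 0), (7, 67), (7, 68), (0, 0), (7, 71), (7, 72), (0, 0), (0, 0), (9, 72), (0, 0), (7, 76), (7, 77), (0, 0), (0, 0), (9, 77), (0, 0), (0, 0), (12, 77), (0, 0), (7, 90), (7, 91), (7, 92), (9, 91), (12, 91), (18, 91), (0, 0), (7, 97), (7, 98), (0, 0), (0, 0), (9, 98), (0, 0), (0, 0), (12, 98), (0, 0), (0, 0), (0, 0), (18, 98), (0, 0), (0, 0), (7, 106), (7, 107), (7, 108), (9, 107), (12, 107), (7, 112), (7, 113), (7, 114), (9, 113), (7, 115), (7, 116), (7, 117), (0, 0), (0, 0), (9, 115), (10, 116), (9, 117), (10, 117), (0, 0), (9, 118), (10, 118), (12, 116), (0, 0), (12, 118), (13, 118), (18, 113), (18, 116), (0, 0), (18, 118), (19, 118), (7, 122), (7, 123), (27, 107), (9, 123), (10, 123), (7, 124), (27, 113), (9, 124), (10, 124), (27, 116), (12, 124), (13, 124), (27, 118), (28, 118), (16, 124), (34, 107), (34, 113), (34, 116), (0, 0), (34, 118), (35, 118), (7, 125), (48, 113), (9,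 125), (10, 125), (48, 116), (12, 125), (13, 125), (48, 118), (49, 118), (16, 125), (53, 116), (18, 125), (19, 125), (53, 118), (54, 118), (22, 125), (57, 118), (58, 118), (25, 125), (67, 116), (27, 125), (28, 125), (0, 0), (30, 125), (31, 125), (32, 125), (93, 124)],
  [(0, 0), (0, 0), (0, 0), (0, 0), (0, 0), (0, 0), (0, 0), (0, 0), (9, 61), (8, 64), (8, 65), (0, 0), (0, 0), (0, 0), (8, 71), (8, 72), (9, 72), (0, 0), (0, 0), (0, 0), (8, 76), (8, 77), (9, 77), (0, 0), (0, 0), (0, 0), (14, 77), (8, 88), (8, 89), (9, 89), (8, 92), (14, 89), (20, 89), (0, 0), (0, 0), (0, 0), (8, 97), (8, 98), (9, 98), (0, 0), (0, 0), (0, 0), (14, 98), (0, 0), (0, 0), (0, 0), (20, 98), (0, 0), (8, 104), (8, 105), (9, 105), (8, 108), (14, 105), (8, 110), (8, 111), (9, 111), (8, 114), (0, 0), (0, 0), (0, 0), (8, 115), (8, 116), (9, 115), (10, 116), (9, 117), (10, 117), (8, 118), (9, 118), (10, 118), (0, 0), (14, 116), (14, 117), (15, 117), (20, 111), (0, 0), (20, 116), (20,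 117), (21, 117), (8, 121), (27, 105), (8, 123), (9, 123), (10, 123), (27, 111), (8, 124), (9, 124), (10, 124), (27, 116), (27, 117), (28, 117), (14, 124), (15, 124), (16, 124), (36, 105), (36, 111), (0, 0), (36, 116), (36, 117), (37, 117), (48, 111), (8, 125), (9, 125), (10, 125), (48, 116), (48, 117), (49, 117), (14, 125), (15, 125), (16, 125), (53, 116), (53, 117), (54, 117), (20, 125), (21, 125), (22, 125), (60, 117), (61, 117), (64, 116), (26, 125), (27, 125), (28, 125), (29, 125), (0, 0), (31, 125), (32, 125), (93, 124)],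
  [(0, 0), (0, 0), (0, 0), (0, 0), (0, 0), (0, 0), (0, 0), (0, 0), (0, 0), (0, 0), (0, 0), (12, 61), (11, 64), (11, 65), (11, 67), (11, 68), (12, 68), (0, 0), (0, 0), (0, 0), (0, 0), (0, 0), (0, 0), (11, 76), (11, 77), (12, 77), (14, 77), (11, 85), (11, 86), (12, 86), (14, 86), (11, 92), (23, 86), (0, 0), (0, 0), (0, 0), (0, 0), (0, 0), (0, 0), (11, 97), (11, 98), (12, 98), (14, 98), (0, 0), (0, 0), (0, 0), (0, 0), (23, 98), (11, 101), (11, 102), (12, 102), (14, 102), (11, 108), (0, 0), (0, 0), (0, 0), (0, 0), (11, 110), (11, 111), (12, 111), (11, 112), (11, 113), (12, 112), (13, 113), (12, 114), (13, 114), (14, 113), (14, 114), (15, 114), (11, 117), (11, 118), (12, 118), (13, 118), (0, 0), (23, 111), (23, 113), (23, 114), (24, 114), (27, 102), (11, 121), (11, 122), (12, 122), (13, 122), (27, 111), (27, 113), (27, 114), (28, 114), (11, 124), (12, 124), (13, 124), (14, 124), (15, 124), (16, 124), (39, 102), (0, 0), (39, 111), (39, 113), (39, 114), (40,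 114), (48, 111), (48, 113), (48, 114), (49, 114), (11, 125), (12, 125), (13, 125), (14, 125), (15, 125), (16, 125), (57, 113), (57, 114), (58, 114), (60, 114), (61, 114), (64, 113), (23, 125), (24, 125), (25, 125), (26, 125), (27, 125), (28, 125), (29, 125), (30, 125), (0, 0), (32, 125), (93, 124)],
  [(0, 0), (0, 0), (0, 0), (0, 0), (0, 0), (0, 0), (0, 0), (0, 0), (0, 0), (0, 0), (0, 0), (0, 0), (0, 0), (0, 0), (0, 0), (0, 0), (0, 0), (18, 61), (17, 64), (17, 65), (17, 67), (17, 68), (18, 68), (17, 71), (17, 72), (18, 72), (20, 72), (17, 81), (17, 82), (18, 82), (20, 82), (23, 82), (17, 92), (0, 0), (0, 0), (0, 0), (0, 0), (0, 0), (0, 0), (0, 0), (0, 0), (0, 0), (0, 0), (17, 97), (17, 98), (18, 98), (20, 98), (23, 98), (0, 0), (0, 0), (0, 0), (0, 0), (0, 0), (17, 101), (17, 102), (18, 102), (20, 102), (17, 104), (17, 105), (18, 105), (17, 106), (17, 107), (18, 106), (19, 107), (18, 108), (19, 108), (20, 107), (20, 108), (21, 108), (23, 105), (23,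 107), (23, 108), (24, 108), (17, 114), (17, 117), (17, 118), (18, 118), (19, 118), (27, 102), (27, 105), (27, 107), (27, 108), (28, 108), (17, 121), (17, 122), (18, 122), (19, 122), (17, 123), (18, 123), (19, 123), (20, 123), (21, 123), (22, 123), (0, 0), (43, 102), (43, 105), (43, 107), (43, 108), (44, 108), (53, 105), (53, 107), (53, 108), (54, 108), (57, 107), (57, 108), (58, 108), (60, 108), (61, 108), (64, 107), (17, 125), (18, 125), (19, 125), (20, 125), (21, 125), (22, 125), (23, 125), (24, 125), (25, 125), (26, 125), (27, 125), (28, 125), (29, 125), (30, 125), (31, 125), (0, 0), (94, 123)],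
  [(0, 0), (0, 0), (0, 0), (0, 0), (0, 0), (0, 0), (0, 0), (0, 0), (0, 0), (0, 0), (0, 0), (0, 0), (0, 0), (0, 0), (0, 0), (0, 0), (0, 0), (0, 0), (0, 0), (0, 0), (0, 0), (0, 0), (0, 0), (0, 0), (0, 0), (0, 0), (0, 0), (0, 0), (0, 0), (0, 0), (0, 0), (0, 0), (0, 0), (34, 61), (33, 64), (33, 65), (33, 67), (33, 68), (34, 68), (33, 71), (33, 72), (34, 72), (36, 72), (33, 76), (33, 77), (34, 77), (36, 77), (39, 77), (33, 81), (33, 82), (34, 82), (36, 82), (39, 82), (33, 85), (33, 86), (34, 86), (36, 86), (33, 88), (33, 89), (34, 89), (33, 90), (33, 91), (34, 90), (35, 91), (34, 92), (35, 92), (36, 91), (36, 92), (37, 92), (39, 89), (39, 91), (39, 92), (40, 92), (43, 86), (43, 89), (43, 91), (43, 92), (44, 92), (48, 86), (48, 89), (48, 91), (48, 92), (49, 92), (53, 89), (53, 91), (53, 92), (54, 92), (57, 91), (57, 92), (58, 92), (60, 92), (61, 92), (64, 91), (33, 108), (33, 114), (33, 117), (33, 118), (34, 118), (35, 118), (33, 121), (33, 122), (34, 122),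 (35, 122), (33, 123), (34, 123), (35, 123), (36, 123), (37, 123), (38, 123), (33, 124), (34, 124), (35, 124), (36, 124), (37, 124), (38, 124), (39, 124), (40, 124), (41, 124), (42, 124), (48, 124), (49, 124), (50, 124), (51, 124), (52, 124), (73, 123), (0, 0)]] = true := by decide +kernel

theorem sl1_E7 {r s : ℕ} (_hr : r < chevE7.nroots) (_hs : s < chevE7.nroots) (_h1 : s ≠ r)
    (_h2 : s ≠ chevE7.neg r) : SL1 chevE7 r s :=
  sl1_of slB_E7 unitB_E7 r s

theorem dec1_E7 {r s : ℕ} (hr : r < chevE7.nroots) (hs : s < chevE7.nroots) (h1 : s ≠ r)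
    (h2 : s ≠ chevE7.neg r) (h : chevE7.commTerms r s = []) : Dec1 chevE7 r s := by
  have hr' : r < 126 := hr
  by_cases g0 : r < 14
  · exact dec1_of_decRowsB slB_E7 dE7_0 (by omega) (by simp only [List.length_cons, List.length_nil]; omega) hs h1 h2 h
  by_cases g1 : r < 28
  · exact dec1_of_decRowsB slB_E7 dE7_1 (by omega) (by simp only [List.length_cons, List.length_nil]; omega) hs h1 h2 h
  by_cases g2 : r < 42
  · exact dec1_of_decRowsB slB_E7 dE7_2 (by omega) (by simp only [List.length_cons, List.length_nil]; omega) hs h1 h2 h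
  by_cases g3 : r < 56
  · exact dec1_of_decRowsB slB_E7 dE7_3 (by omega) (by simp only [List.length_cons, List.length_nil]; omega) hs h1 h2 h
  by_cases g4 : r < 70
  · exact dec1_of_decRowsB slB_E7 dE7_4 (by omega) (by simp only [List.length_cons, List.length_nil]; omega) hs h1 h2 h
  by_cases g5 : r < 84
  · exact dec1_of_decRowsB slB_E7 dE7_5 (by omega) (by simp only [List.length_cons, List.length_nil]; omega) hs h1 h2 h
  by_cases g6 : r < 98
  · exact dec1_of_decRowsB slB_E7 dE7_6 (by omega) (by simp only [List.length_cons, List.length_nil]; omega) hs h1 h2 h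
  by_cases g7 : r < 112
  · exact dec1_of_decRowsB slB_E7 dE7_7 (by omega) (by simp only [List.length_cons, List.length_nil]; omega) hs h1 h2 h
  by_cases g8 : r < 126
  · exact dec1_of_decRowsB slB_E7 dE7_8 (by omega) (by simp only [List.length_cons, List.length_nil]; omega) hs h1 h2 h
  omega

end Cfsg.Agent.Lib.Helper10.E8CC.Helper22
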