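import Cfsg.Agent.Lib.Helper10.E8CC.Defs
import Cfsg.Agent.Lib.Helper20.F4CCFT1

set_option autoImplicit false

/-! S2105/S2106 farm (architect helper26), table piece `commData1_E7`: the Part A table of type
`E7` (`|K| ≥ 3`), a kernel-checked certificate for helper20's checker `checkCD1`. -/

namespace Cfsg.Agent.Lib.Helper10.E8CC

open Cfsg.Lie Cfsg.Agent.Lib.Helper8.Chev Cfsg.Agent.Lib.Helper14.StCC

namespace Helper22

/-- the certificate `(a, b, ε)` per root of `E7` -/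
def tabCDE7 : List (ℕ × ℕ × ℤ) :=
  [(1, 32, 1), (0, 93, 1), (0, 94, -1), (0, 95, 1), (0, 96, -1), (0, 97, 1), (0, 98, -1),
   (0, 99, -1), (0, 100, 1), (0, 101, -1), (0, 102, 1), (0, 103, -1), (0, 104, 1), (0, 105, -1),
   (0, 106, -1), (0, 107, 1), (0, 108, -1), (0, 109, 1), (0, 110, -1), (0, 111, 1), (0, 112, 1),
   (0, 113, -1), (0, 114, 1), (0, 115, -1), (0, 116, 1), (0, 117, -1), (0, 118, 1), (0, 119, 1),
   (0, 120, -1), (0, 121, 1), (0, 122, -1), (0, 123, 1), (0, 124, -1), (1, 109, -1), (1, 110, 1),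
   (1, 111, -1), (1, 112, -1), (1, 113, 1), (1, 114, -1), (1, 115, 1), (1, 116, -1), (1, 117, 1),
   (1, 118, -1), (2, 115, 1), (2, 116, -1), (2, 117, 1), (2, 118, -1), (3, 118, -1), (1, 119, -1),
   (1, 120, 1), (1, 121, -1), (1, 122, 1), (1, 123, -1), (2, 119, 1), (2, 120, -1), (2, 121, 1),
   (2, 122, -1), (3, 119, -1), (3, 120, 1), (3, 121, -1), (4, 119, 1), (4, 120, -1), (5, 119, -1),
   (6, 120, -1), (5, 121, -1), (6, 121, 1), (4, 122, -1), (5, 122, 1), (6, 122, -1), (3, 123, -1),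
   (4, 123, 1), (5, 123, -1), (6, 123, 1), (2, 124, -1), (3, 124, 1), (4, 124, -1), (5, 124, 1),
   (6, 124, -1), (7, 122, -1), (7, 123, -1), (8, 123, 1), (9, 123, -1), (10, 123, 1), (7, 124, -1),
   (8, 124, 1), (9, 124, -1), (10, 124, 1), (11, 124, -1), (12, 124, 1), (13, 124, -1), (14, 124, -1),
   (15, 124, 1), (16, 124, -1), (1, 125, -1), (2, 125, 1), (3, 125, -1), (4, 125, 1), (5, 125, -1),
   (6, 125, 1), (7, 125, 1), (8, 125, -1), (9, 125, 1), (10, 125, -1), (11, 125, 1), (12, 125, -1),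
   (13, 125, 1), (14, 125, 1), (15, 125, -1), (16, 125, 1), (17, 125, -1), (18, 125, 1), (19, 125, -1),
   (20, 125, -1), (21, 125, 1), (22, 125, -1), (23, 125, 1), (24, 125, -1), (25, 125, 1), (26, 125, -1),
   (27, 125, -1), (28, 125, 1), (29, 125, -1), (30, 125, 1), (31, 125, -1), (32, 125, 1), (93, 124, 1)]

set_option maxRecDepth 1000000 in
theorem checkCD_E7 : Cfsg.Agent.Lib.Helper16.F4CC.Helper20.checkCD1 chevE7 tabCDE7 = true := by
  decide +kernel

end Helper22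

/-- table for Part A (`|K| ≥ 3`), type `E7` (126 roots) -/
theorem commData1_E7 {r : ℕ} (hr : r < chevE7.nroots) :
    (∃ m : ℕ → ℤ, wt chevE7 m r = 1) ∧ Cfsg.Agent.Lib.Helper16.F4CC.CommData1 chevE7 r := by
  refine ⟨?_, Cfsg.Agent.Lib.Helper16.F4CC.Helper20.checkCD1_spec Helper22.checkCD_E7 hr⟩
  refine Cfsg.Agent.Lib.Helper14.StCC.A.Helper27.exists_wt_one (by simp) hr ?_
  intro h
  exact absurd (congrArg ChevalleyDatum.nroots h) (by decide)

end Cfsg.Agent.Lib.Helper10.E8CC
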