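import Cfsg.Agent.Lib.Helper12.E8CCT2Defs
import Cfsg.Agent.Lib.Helper13.StCCBBME7

set_option autoImplicit false
set_option Elab.async false

/-! S2105/S2106/S2400 farm, table piece `perp1_E7` (Part B, `|K| ≥ 3`): for every admissible pair
`(r, s)` of roots of `chevE7` a coweight orthogonal to `r` with value `±1` on `s`.  Certificate per
root `r`: a few coroot vectors of roots orthogonal to `r`; checker `checkRows1` and soundness lemma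
`perp1_of_rows` of helper12, table `tabE7` of helper13. -/

namespace Cfsg.Agent.Lib.Helper10.E8CC

open Cfsg.Lie Cfsg.Agent.Lib.Helper8.Chev Cfsg.Agent.Lib.Helper14.StCC
open Cfsg.Agent.Lib.Helper14.StCC.B.Helper13

namespace Helper22

/-- certificate rows 0..20 -/
def pE7_0 : List (List (List ℤ)) :=
  [[[0, -1, -1, -2, -2, -2, -1], [0, -1, -1, -2, -2, -1, -1], [0, -1, -1, -2, -2, -1, 0], [0, -1, -1, -2, -1, -1, -1], [0, -1, -1, -1, -1, -1, -1]],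
  [[-1, -1, -1, -2, -2, -2, -1], [-1, -1, -1, -2, -2, -1, -1], [-1, -1, -1, -2, -2, -1, 0], [-1, -1, -1, -2, -1, -1, -1], [-1, -1, -1, -1, -1, -1, -1]],
  [[-1, -1, -2, -2, -2, -2, -1], [-1, -1, -2, -2, -2, -1, -1], [-1, -1, -2, -2, -2, -1, 0], [-1, -1, -2, -2, -1, -1, -1], [-1, -1, -1, -1, -1, -1, -1]],
  [[-1, -1, -2, -3, -2, -2, -1], [-1, -1, -2, -3, -2, -1, -1], [-1, -1, -2, -3, -2, -1, 0], [-1, -1, -2, -2, -1, -1, -1], [-1, -1, -1, -2, -1, -1, -1]],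
  [[-1, -1, -2, -3, -3, -2, -1], [-1, -1, -2, -3, -2, -1, -1], [-1, -1, -2, -3, -2, -1, 0], [-1, -1, -2, -2, -2, -1, -1], [-1, -1, -1, -2, -2, -1, -1]],
  [[-1, -1, -2, -3, -3, -2, -1], [-1, -1, -2, -3, -2, -2, -1], [-1, -1, -2, -3, -2, -1, 0], [-1, -1, -2, -2, -2, -2, -1], [-1, -1, -1, -2, -2, -2, -1]],
  [[-1, -1, -2, -3, -3, -2, -1], [-1, -1, -2, -3, -2, -2, -1], [-1, -1, -2, -3, -2, -1, -1], [-1, -1, -2, -2, -2, -2, -1], [-1, -1, -1, -2, -2, -2, -1]],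
  [[-1, -2, -2, -3, -2, -2, -1], [-1, -2, -2, -3, -2, -1, -1], [-1, -2, -2, -3, -2, -1, 0], [-1, -1, -2, -2, -1, -1, -1], [-1, -1, -1, -2, -1, -1, -1]],
  [[-1, -2, -2, -3, -3, -2, -1], [-1, -2, -2, -3, -2, -1, -1], [-1, -2, -2, -3, -2, -1, 0], [-1, -1, -2, -2, -2, -1, -1], [-1, -1, -1, -2, -2, -1, -1]],
  [[-1, -2, -2, -3, -3, -2, -1], [-1, -2, -2, -3, -2, -2, -1], [-1, -2, -2, -3, -2, -1, 0], [-1, -1, -2, -2, -2, -2, -1], [-1, -1, -1, -2, -2, -2, -1]],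
  [[-1, -2, -2, -3, -3, -2, -1], [-1, -2, -2, -3, -2, -2, -1], [-1, -2, -2, -3, -2, -1, -1], [-1, -1, -2, -2, -2, -2, -1], [-1, -1, -1, -2, -2, -2, -1]],
  [[-1, -2, -2, -4, -3, -2, -1], [-1, -2, -2, -3, -2, -1, -1], [-1, -2, -2, -3, -2, -1, 0], [-1, -1, -2, -3, -2, -1, -1], [-1, -1, -1, -2, -2, -1, -1]],
  [[-1, -2, -2, -4, -3, -2, -1], [-1, -2, -2, -3, -2, -2, -1], [-1, -2, -2, -3, -2, -1, 0], [-1, -1, -2, -3, -2, -2, -1], [-1, -1, -1, -2, -2, -2, -1]],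
  [[-1, -2, -2, -4, -3, -2, -1], [-1, -2, -2, -3, -2, -2, -1], [-1, -2, -2, -3, -2, -1, -1], [-1, -1, -2, -3, -2, -2, -1], [-1, -1, -1, -2, -2, -2, -1]],
  [[-1, -2, -2, -4, -3, -2, -1], [-1, -2, -2, -3, -3, -2, -1], [-1, -2, -2, -3, -2, -1, 0], [-1, -1, -2, -3, -3, -2, -1], [-1, -1, -1, -2, -2, -2, -1]],
  [[-1, -2, -2, -4, -3, -2, -1], [-1, -2, -2, -3, -3, -2, -1], [-1, -2, -2, -3, -2, -1, -1], [-1, -1, -2, -3, -3, -2, -1], [-1, -1, -1, -2, -2, -2, -1]],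
  [[-1, -2, -2, -4, -3, -2, -1], [-1, -2, -2, -3, -3, -2, -1], [-1, -2, -2, -3, -2, -2, -1], [-1, -1, -2, -3, -3, -2, -1], [-1, -1, -1, -2, -2, -1, -1]],
  [[-1, -2, -3, -4, -3, -2, -1], [-1, -2, -2, -3, -2, -1, -1], [-1, -2, -2, -3, -2, -1, 0], [-1, -1, -2, -3, -2, -1, -1], [-1, -1, -2, -2, -2, -1, -1]],
  [[-1, -2, -3, -4, -3, -2, -1], [-1, -2, -2, -3, -2, -2, -1], [-1, -2, -2, -3, -2, -1, 0], [-1, -1, -2, -3, -2, -2, -1], [-1, -1, -2, -2, -2, -2, -1]],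
  [[-1, -2, -3, -4, -3, -2, -1], [-1, -2, -2, -3, -2, -2, -1], [-1, -2, -2, -3, -2, -1, -1], [-1, -1, -2, -3, -2, -2, -1], [-1, -1, -2, -2, -2, -2, -1]],
  [[-1, -2, -3, -4, -3, -2, -1], [-1, -2, -2, -3, -3, -2, -1], [-1, -2, -2, -3, -2, -1, 0], [-1, -1, -2, -3, -3, -2, -1], [-1, -1, -2, -2, -2, -2, -1]]]

theorem pE7_0_len : pE7_0.length = 21 := rfl

set_option maxRecDepth 1000000 in
theorem rowsPE7_0 : Helper12.checkRows1 chevE7.nroots tabE7 0 pE7_0 = true := by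
  decide +kernel

/-- certificate rows 21..41 -/
def pE7_1 : List (List (List ℤ)) :=
  [[[-1, -2, -3, -4, -3, -2, -1], [-1, -2, -2, -3, -3, -2, -1], [-1, -2, -2, -3, -2, -1, -1], [-1, -1, -2, -3, -3, -2, -1], [-1, -1, -2, -2, -2, -2, -1]],
  [[-1, -2, -3, -4, -3, -2, -1], [-1, -2, -2, -3, -3, -2, -1], [-1, -2, -2, -3, -2, -2, -1], [-1, -1, -2, -3, -3, -2, -1], [-1, -1, -2, -2, -2, -1, -1]],
  [[-1, -2, -3, -4, -3, -2, -1], [-1, -2, -2, -4, -3, -2, -1], [-1, -2, -2, -3, -2, -1, 0], [-1, -1, -2, -3, -3, -2, -1], [-1, -1, -2, -3, -2, -2, -1]],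
  [[-1, -2, -3, -4, -3, -2, -1], [-1, -2, -2, -4, -3, -2, -1], [-1, -2, -2, -3, -2, -1, -1], [-1, -1, -2, -3, -3, -2, -1], [-1, -1, -2, -3, -2, -2, -1]],
  [[-1, -2, -3, -4, -3, -2, -1], [-1, -2, -2, -4, -3, -2, -1], [-1, -2, -2, -3, -2, -2, -1], [-1, -1, -2, -3, -3, -2, -1], [-1, -1, -2, -3, -2, -1, -1]],
  [[-1, -2, -3, -4, -3, -2, -1], [-1, -2, -2, -4, -3, -2, -1], [-1, -2, -2, -3, -3, -2, -1], [-1, -1, -2, -3, -2, -2, -1], [-1, -1, -2, -3, -2, -1, -1]],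
  [[-1, -2, -3, -4, -3, -2, -1], [-1, -2, -2, -4, -3, -2, -1], [-1, -2, -2, -3, -3, -2, -1], [-1, -2, -2, -3, -2, -2, -1], [-1, -2, -2, -3, -2, -1, -1]],
  [[-1, -2, -3, -4, -3, -2, -1], [-1, -2, -2, -4, -3, -2, -1], [-1, -2, -2, -3, -3, -2, -1], [-1, -2, -2, -3, -2, -2, -1], [-1, -2, -2, -3, -2, -1, 0]],
  [[-1, -2, -3, -4, -3, -2, -1], [-1, -2, -2, -4, -3, -2, -1], [-1, -2, -2, -3, -3, -2, -1], [-1, -2, -2, -3, -2, -1, -1], [-1, -2, -2, -3, -2, -1, 0]],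
  [[-1, -2, -3, -4, -3, -2, -1], [-1, -2, -2, -4, -3, -2, -1], [-1, -2, -2, -3, -2, -2, -1], [-1, -2, -2, -3, -2, -1, -1], [-1, -2, -2, -3, -2, -1, 0]],
  [[-1, -2, -3, -4, -3, -2, -1], [-1, -2, -2, -3, -3, -2, -1], [-1, -2, -2, -3, -2, -2, -1], [-1, -2, -2, -3, -2, -1, -1], [-1, -2, -2, -3, -2, -1, 0]],
  [[-1, -2, -2, -4, -3, -2, -1], [-1, -2, -2, -3, -3, -2, -1], [-1, -2, -2, -3, -2, -2, -1], [-1, -2, -2, -3, -2, -1, -1], [-1, -2, -2, -3, -2, -1, 0]],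
  [[-2, -2, -3, -4, -3, -2, -1], [-1, -2, -2, -3, -2, -1, -1], [-1, -2, -2, -3, -2, -1, 0], [-1, -1, -2, -3, -2, -1, -1], [-1, -1, -2, -2, -2, -1, -1]],
  [[-2, -2, -3, -4, -3, -2, -1], [-1, -2, -2, -3, -2, -2, -1], [-1, -2, -2, -3, -2, -1, 0], [-1, -1, -2, -3, -2, -2, -1], [-1, -1, -2, -2, -2, -2, -1]],
  [[-2, -2, -3, -4, -3, -2, -1], [-1, -2, -2, -3, -2, -2, -1], [-1, -2, -2, -3, -2, -1, -1], [-1, -1, -2, -3, -2, -2, -1], [-1, -1, -2, -2, -2, -2, -1]],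
  [[-2, -2, -3, -4, -3, -2, -1], [-1, -2, -2, -3, -3, -2, -1], [-1, -2, -2, -3, -2, -1, 0], [-1, -1, -2, -3, -3, -2, -1], [-1, -1, -2, -2, -2, -2, -1]],
  [[-2, -2, -3, -4, -3, -2, -1], [-1, -2, -2, -3, -3, -2, -1], [-1, -2, -2, -3, -2, -1, -1], [-1, -1, -2, -3, -3, -2, -1], [-1, -1, -2, -2, -2, -2, -1]],
  [[-2, -2, -3, -4, -3, -2, -1], [-1, -2, -2, -3, -3, -2, -1], [-1, -2, -2, -3, -2, -2, -1], [-1, -1, -2, -3, -3, -2, -1], [-1, -1, -2, -2, -2, -1, -1]],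
  [[-2, -2, -3, -4, -3, -2, -1], [-1, -2, -2, -4, -3, -2, -1], [-1, -2, -2, -3, -2, -1, 0], [-1, -1, -2, -3, -3, -2, -1], [-1, -1, -2, -3, -2, -2, -1]],
  [[-2, -2, -3, -4, -3, -2, -1], [-1, -2, -2, -4, -3, -2, -1], [-1, -2, -2, -3, -2, -1, -1], [-1, -1, -2, -3, -3, -2, -1], [-1, -1, -2, -3, -2, -2, -1]],
  [[-2, -2, -3, -4, -3, -2, -1], [-1, -2, -2, -4, -3, -2, -1], [-1, -2, -2, -3, -2, -2, -1], [-1, -1, -2, -3, -3, -2, -1], [-1, -1, -2, -3, -2, -1, -1]]]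

theorem pE7_1_len : pE7_1.length = 21 := rfl

set_option maxRecDepth 1000000 in
theorem rowsPE7_1 : Helper12.checkRows1 chevE7.nroots tabE7 21 pE7_1 = true := by
  decide +kernel

/-- certificate rows 42..62 -/
def pE7_2 : List (List (List ℤ)) :=
  [[[-2, -2, -3, -4, -3, -2, -1], [-1, -2, -2, -4, -3, -2, -1], [-1, -2, -2, -3, -3, -2, -1], [-1, -1, -2, -3, -2, -2, -1], [-1, -1, -2, -3, -2, -1, -1]],
  [[-2, -2, -3, -4, -3, -2, -1], [-1, -2, -3, -4, -3, -2, -1], [-1, -2, -2, -3, -2, -1, 0], [-1, -1, -2, -3, -3, -2, -1], [-1, -1, -2, -3, -2, -2, -1]],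
  [[-2, -2, -3, -4, -3, -2, -1], [-1, -2, -3, -4, -3, -2, -1], [-1, -2, -2, -3, -2, -1, -1], [-1, -1, -2, -3, -3, -2, -1], [-1, -1, -2, -3, -2, -2, -1]],
  [[-2, -2, -3, -4, -3, -2, -1], [-1, -2, -3, -4, -3, -2, -1], [-1, -2, -2, -3, -2, -2, -1], [-1, -1, -2, -3, -3, -2, -1], [-1, -1, -2, -3, -2, -1, -1]],
  [[-2, -2, -3, -4, -3, -2, -1], [-1, -2, -3, -4, -3, -2, -1], [-1, -2, -2, -3, -3, -2, -1], [-1, -1, -2, -3, -2, -2, -1], [-1, -1, -2, -3, -2, -1, -1]],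
  [[-2, -2, -3, -4, -3, -2, -1], [-1, -2, -3, -4, -3, -2, -1], [-1, -2, -2, -4, -3, -2, -1], [-1, -1, -2, -2, -2, -2, -1], [-1, -1, -2, -2, -2, -1, -1]],
  [[-2, -2, -3, -4, -3, -2, -1], [-1, -2, -2, -4, -3, -2, -1], [-1, -2, -2, -3, -3, -2, -1], [-1, -2, -2, -3, -2, -2, -1], [-1, -2, -2, -3, -2, -1, -1]],
  [[-2, -2, -3, -4, -3, -2, -1], [-1, -2, -2, -4, -3, -2, -1], [-1, -2, -2, -3, -3, -2, -1], [-1, -2, -2, -3, -2, -2, -1], [-1, -2, -2, -3, -2, -1, 0]],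
  [[-2, -2, -3, -4, -3, -2, -1], [-1, -2, -2, -4, -3, -2, -1], [-1, -2, -2, -3, -3, -2, -1], [-1, -2, -2, -3, -2, -1, -1], [-1, -2, -2, -3, -2, -1, 0]],
  [[-2, -2, -3, -4, -3, -2, -1], [-1, -2, -2, -4, -3, -2, -1], [-1, -2, -2, -3, -2, -2, -1], [-1, -2, -2, -3, -2, -1, -1], [-1, -2, -2, -3, -2, -1, 0]],
  [[-2, -2, -3, -4, -3, -2, -1], [-1, -2, -2, -3, -3, -2, -1], [-1, -2, -2, -3, -2, -2, -1], [-1, -2, -2, -3, -2, -1, -1], [-1, -2, -2, -3, -2, -1, 0]],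
  [[-2, -2, -3, -4, -3, -2, -1], [-1, -2, -3, -4, -3, -2, -1], [-1, -2, -2, -3, -3, -2, -1], [-1, -2, -2, -3, -2, -2, -1], [-1, -2, -2, -3, -2, -1, -1]],
  [[-2, -2, -3, -4, -3, -2, -1], [-1, -2, -3, -4, -3, -2, -1], [-1, -2, -2, -3, -3, -2, -1], [-1, -2, -2, -3, -2, -2, -1], [-1, -2, -2, -3, -2, -1, 0]],
  [[-2, -2, -3, -4, -3, -2, -1], [-1, -2, -3, -4, -3, -2, -1], [-1, -2, -2, -3, -3, -2, -1], [-1, -2, -2, -3, -2, -1, -1], [-1, -2, -2, -3, -2, -1, 0]],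
  [[-2, -2, -3, -4, -3, -2, -1], [-1, -2, -3, -4, -3, -2, -1], [-1, -2, -2, -3, -2, -2, -1], [-1, -2, -2, -3, -2, -1, -1], [-1, -2, -2, -3, -2, -1, 0]],
  [[-2, -2, -3, -4, -3, -2, -1], [-1, -2, -3, -4, -3, -2, -1], [-1, -2, -2, -4, -3, -2, -1], [-1, -2, -2, -3, -2, -2, -1], [-1, -2, -2, -3, -2, -1, -1]],
  [[-2, -2, -3, -4, -3, -2, -1], [-1, -2, -3, -4, -3, -2, -1], [-1, -2, -2, -4, -3, -2, -1], [-1, -2, -2, -3, -2, -2, -1], [-1, -2, -2, -3, -2, -1, 0]],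
  [[-2, -2, -3, -4, -3, -2, -1], [-1, -2, -3, -4, -3, -2, -1], [-1, -2, -2, -4, -3, -2, -1], [-1, -2, -2, -3, -2, -1, -1], [-1, -2, -2, -3, -2, -1, 0]],
  [[-2, -2, -3, -4, -3, -2, -1], [-1, -2, -3, -4, -3, -2, -1], [-1, -2, -2, -4, -3, -2, -1], [-1, -2, -2, -3, -3, -2, -1], [-1, -2, -2, -3, -2, -1, -1]],
  [[-2, -2, -3, -4, -3, -2, -1], [-1, -2, -3, -4, -3, -2, -1], [-1, -2, -2, -4, -3, -2, -1], [-1, -2, -2, -3, -3, -2, -1], [-1, -2, -2, -3, -2, -1, 0]],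
  [[-2, -2, -3, -4, -3, -2, -1], [-1, -2, -3, -4, -3, -2, -1], [-1, -2, -2, -4, -3, -2, -1], [-1, -2, -2, -3, -3, -2, -1], [-1, -2, -2, -3, -2, -2, -1]]]

theorem pE7_2_len : pE7_2.length = 21 := rfl

set_option maxRecDepth 1000000 in
theorem rowsPE7_2 : Helper12.checkRows1 chevE7.nroots tabE7 42 pE7_2 = true := by
  decide +kernel

/-- certificate rows 63..83 -/
def pE7_3 : List (List (List ℤ)) :=
  [[[-2, -2, -3, -4, -3, -2, -1], [-1, -2, -3, -4, -3, -2, -1], [-1, -2, -2, -4, -3, -2, -1], [-1, -2, -2, -3, -3, -2, -1], [-1, -2, -2, -3, -2, -2, -1]],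
  [[-2, -2, -3, -4, -3, -2, -1], [-1, -2, -3, -4, -3, -2, -1], [-1, -2, -2, -4, -3, -2, -1], [-1, -2, -2, -3, -3, -2, -1], [-1, -2, -2, -3, -2, -1, 0]],
  [[-2, -2, -3, -4, -3, -2, -1], [-1, -2, -3, -4, -3, -2, -1], [-1, -2, -2, -4, -3, -2, -1], [-1, -2, -2, -3, -3, -2, -1], [-1, -2, -2, -3, -2, -1, -1]],
  [[-2, -2, -3, -4, -3, -2, -1], [-1, -2, -3, -4, -3, -2, -1], [-1, -2, -2, -4, -3, -2, -1], [-1, -2, -2, -3, -2, -1, -1], [-1, -2, -2, -3, -2, -1, 0]],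
  [[-2, -2, -3, -4, -3, -2, -1], [-1, -2, -3, -4, -3, -2, -1], [-1, -2, -2, -4, -3, -2, -1], [-1, -2, -2, -3, -2, -2, -1], [-1, -2, -2, -3, -2, -1, 0]],
  [[-2, -2, -3, -4, -3, -2, -1], [-1, -2, -3, -4, -3, -2, -1], [-1, -2, -2, -4, -3, -2, -1], [-1, -2, -2, -3, -2, -2, -1], [-1, -2, -2, -3, -2, -1, -1]],
  [[-2, -2, -3, -4, -3, -2, -1], [-1, -2, -3, -4, -3, -2, -1], [-1, -2, -2, -3, -2, -2, -1], [-1, -2, -2, -3, -2, -1, -1], [-1, -2, -2, -3, -2, -1, 0]],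
  [[-2, -2, -3, -4, -3, -2, -1], [-1, -2, -3, -4, -3, -2, -1], [-1, -2, -2, -3, -3, -2, -1], [-1, -2, -2, -3, -2, -1, -1], [-1, -2, -2, -3, -2, -1, 0]],
  [[-2, -2, -3, -4, -3, -2, -1], [-1, -2, -3, -4, -3, -2, -1], [-1, -2, -2, -3, -3, -2, -1], [-1, -2, -2, -3, -2, -2, -1], [-1, -2, -2, -3, -2, -1, 0]],
  [[-2, -2, -3, -4, -3, -2, -1], [-1, -2, -3, -4, -3, -2, -1], [-1, -2, -2, -3, -3, -2, -1], [-1, -2, -2, -3, -2, -2, -1], [-1, -2, -2, -3, -2, -1, -1]],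
  [[-2, -2, -3, -4, -3, -2, -1], [-1, -2, -2, -3, -3, -2, -1], [-1, -2, -2, -3, -2, -2, -1], [-1, -2, -2, -3, -2, -1, -1], [-1, -2, -2, -3, -2, -1, 0]],
  [[-2, -2, -3, -4, -3, -2, -1], [-1, -2, -2, -4, -3, -2, -1], [-1, -2, -2, -3, -2, -2, -1], [-1, -2, -2, -3, -2, -1, -1], [-1, -2, -2, -3, -2, -1, 0]],
  [[-2, -2, -3, -4, -3, -2, -1], [-1, -2, -2, -4, -3, -2, -1], [-1, -2, -2, -3, -3, -2, -1], [-1, -2, -2, -3, -2, -1, -1], [-1, -2, -2, -3, -2, -1, 0]],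
  [[-2, -2, -3, -4, -3, -2, -1], [-1, -2, -2, -4, -3, -2, -1], [-1, -2, -2, -3, -3, -2, -1], [-1, -2, -2, -3, -2, -2, -1], [-1, -2, -2, -3, -2, -1, 0]],
  [[-2, -2, -3, -4, -3, -2, -1], [-1, -2, -2, -4, -3, -2, -1], [-1, -2, -2, -3, -3, -2, -1], [-1, -2, -2, -3, -2, -2, -1], [-1, -2, -2, -3, -2, -1, -1]],
  [[-2, -2, -3, -4, -3, -2, -1], [-1, -2, -3, -4, -3, -2, -1], [-1, -2, -2, -4, -3, -2, -1], [-1, -1, -2, -2, -2, -2, -1], [-1, -1, -2, -2, -2, -1, -1]],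
  [[-2, -2, -3, -4, -3, -2, -1], [-1, -2, -3, -4, -3, -2, -1], [-1, -2, -2, -3, -3, -2, -1], [-1, -1, -2, -3, -2, -2, -1], [-1, -1, -2, -3, -2, -1, -1]],
  [[-2, -2, -3, -4, -3, -2, -1], [-1, -2, -3, -4, -3, -2, -1], [-1, -2, -2, -3, -2, -2, -1], [-1, -1, -2, -3, -3, -2, -1], [-1, -1, -2, -3, -2, -1, -1]],
  [[-2, -2, -3, -4, -3, -2, -1], [-1, -2, -3, -4, -3, -2, -1], [-1, -2, -2, -3, -2, -1, -1], [-1, -1, -2, -3, -3, -2, -1], [-1, -1, -2, -3, -2, -2, -1]],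
  [[-2, -2, -3, -4, -3, -2, -1], [-1, -2, -3, -4, -3, -2, -1], [-1, -2, -2, -3, -2, -1, 0], [-1, -1, -2, -3, -3, -2, -1], [-1, -1, -2, -3, -2, -2, -1]],
  [[-2, -2, -3, -4, -3, -2, -1], [-1, -2, -2, -4, -3, -2, -1], [-1, -2, -2, -3, -3, -2, -1], [-1, -1, -2, -3, -2, -2, -1], [-1, -1, -2, -3, -2, -1, -1]]]

theorem pE7_3_len : pE7_3.length = 21 := rfl

set_option maxRecDepth 1000000 in
theorem rowsPE7_3 : Helper12.checkRows1 chevE7.nroots tabE7 63 pE7_3 = true := by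
  decide +kernel

/-- certificate rows 84..104 -/
def pE7_4 : List (List (List ℤ)) :=
  [[[-2, -2, -3, -4, -3, -2, -1], [-1, -2, -2, -4, -3, -2, -1], [-1, -2, -2, -3, -2, -2, -1], [-1, -1, -2, -3, -3, -2, -1], [-1, -1, -2, -3, -2, -1, -1]],
  [[-2, -2, -3, -4, -3, -2, -1], [-1, -2, -2, -4, -3, -2, -1], [-1, -2, -2, -3, -2, -1, -1], [-1, -1, -2, -3, -3, -2, -1], [-1, -1, -2, -3, -2, -2, -1]],
  [[-2, -2, -3, -4, -3, -2, -1], [-1, -2, -2, -4, -3, -2, -1], [-1, -2, -2, -3, -2, -1, 0], [-1, -1, -2, -3, -3, -2, -1], [-1, -1, -2, -3, -2, -2, -1]],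
  [[-2, -2, -3, -4, -3, -2, -1], [-1, -2, -2, -3, -3, -2, -1], [-1, -2, -2, -3, -2, -2, -1], [-1, -1, -2, -3, -3, -2, -1], [-1, -1, -2, -2, -2, -1, -1]],
  [[-2, -2, -3, -4, -3, -2, -1], [-1, -2, -2, -3, -3, -2, -1], [-1, -2, -2, -3, -2, -1, -1], [-1, -1, -2, -3, -3, -2, -1], [-1, -1, -2, -2, -2, -2, -1]],
  [[-2, -2, -3, -4, -3, -2, -1], [-1, -2, -2, -3, -3, -2, -1], [-1, -2, -2, -3, -2, -1, 0], [-1, -1, -2, -3, -3, -2, -1], [-1, -1, -2, -2, -2, -2, -1]],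
  [[-2, -2, -3, -4, -3, -2, -1], [-1, -2, -2, -3, -2, -2, -1], [-1, -2, -2, -3, -2, -1, -1], [-1, -1, -2, -3, -2, -2, -1], [-1, -1, -2, -2, -2, -2, -1]],
  [[-2, -2, -3, -4, -3, -2, -1], [-1, -2, -2, -3, -2, -2, -1], [-1, -2, -2, -3, -2, -1, 0], [-1, -1, -2, -3, -2, -2, -1], [-1, -1, -2, -2, -2, -2, -1]],
  [[-2, -2, -3, -4, -3, -2, -1], [-1, -2, -2, -3, -2, -1, -1], [-1, -2, -2, -3, -2, -1, 0], [-1, -1, -2, -3, -2, -1, -1], [-1, -1, -2, -2, -2, -1, -1]],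
  [[-1, -2, -2, -4, -3, -2, -1], [-1, -2, -2, -3, -3, -2, -1], [-1, -2, -2, -3, -2, -2, -1], [-1, -2, -2, -3, -2, -1, -1], [-1, -2, -2, -3, -2, -1, 0]],
  [[-1, -2, -3, -4, -3, -2, -1], [-1, -2, -2, -3, -3, -2, -1], [-1, -2, -2, -3, -2, -2, -1], [-1, -2, -2, -3, -2, -1, -1], [-1, -2, -2, -3, -2, -1, 0]],
  [[-1, -2, -3, -4, -3, -2, -1], [-1, -2, -2, -4, -3, -2, -1], [-1, -2, -2, -3, -2, -2, -1], [-1, -2, -2, -3, -2, -1, -1], [-1, -2, -2, -3, -2, -1, 0]],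
  [[-1, -2, -3, -4, -3, -2, -1], [-1, -2, -2, -4, -3, -2, -1], [-1, -2, -2, -3, -3, -2, -1], [-1, -2, -2, -3, -2, -1, -1], [-1, -2, -2, -3, -2, -1, 0]],
  [[-1, -2, -3, -4, -3, -2, -1], [-1, -2, -2, -4, -3, -2, -1], [-1, -2, -2, -3, -3, -2, -1], [-1, -2, -2, -3, -2, -2, -1], [-1, -2, -2, -3, -2, -1, 0]],
  [[-1, -2, -3, -4, -3, -2, -1], [-1, -2, -2, -4, -3, -2, -1], [-1, -2, -2, -3, -3, -2, -1], [-1, -2, -2, -3, -2, -2, -1], [-1, -2, -2, -3, -2, -1, -1]],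
  [[-1, -2, -3, -4, -3, -2, -1], [-1, -2, -2, -4, -3, -2, -1], [-1, -2, -2, -3, -3, -2, -1], [-1, -1, -2, -3, -2, -2, -1], [-1, -1, -2, -3, -2, -1, -1]],
  [[-1, -2, -3, -4, -3, -2, -1], [-1, -2, -2, -4, -3, -2, -1], [-1, -2, -2, -3, -2, -2, -1], [-1, -1, -2, -3, -3, -2, -1], [-1, -1, -2, -3, -2, -1, -1]],
  [[-1, -2, -3, -4, -3, -2, -1], [-1, -2, -2, -4, -3, -2, -1], [-1, -2, -2, -3, -2, -1, -1], [-1, -1, -2, -3, -3, -2, -1], [-1, -1, -2, -3, -2, -2, -1]],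
  [[-1, -2, -3, -4, -3, -2, -1], [-1, -2, -2, -4, -3, -2, -1], [-1, -2, -2, -3, -2, -1, 0], [-1, -1, -2, -3, -3, -2, -1], [-1, -1, -2, -3, -2, -2, -1]],
  [[-1, -2, -3, -4, -3, -2, -1], [-1, -2, -2, -3, -3, -2, -1], [-1, -2, -2, -3, -2, -2, -1], [-1, -1, -2, -3, -3, -2, -1], [-1, -1, -2, -2, -2, -1, -1]],
  [[-1, -2, -3, -4, -3, -2, -1], [-1, -2, -2, -3, -3, -2, -1], [-1, -2, -2, -3, -2, -1, -1], [-1, -1, -2, -3, -3, -2, -1], [-1, -1, -2, -2, -2, -2, -1]]]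

theorem pE7_4_len : pE7_4.length = 21 := rfl

set_option maxRecDepth 1000000 in
theorem rowsPE7_4 : Helper12.checkRows1 chevE7.nroots tabE7 84 pE7_4 = true := by
  decide +kernel

/-- certificate rows 105..125 -/
def pE7_5 : List (List (List ℤ)) :=
  [[[-1, -2, -3, -4, -3, -2, -1], [-1, -2, -2, -3, -3, -2, -1], [-1, -2, -2, -3, -2, -1, 0], [-1, -1, -2, -3, -3, -2, -1], [-1, -1, -2, -2, -2, -2, -1]],
  [[-1, -2, -3, -4, -3, -2, -1], [-1, -2, -2, -3, -2, -2, -1], [-1, -2, -2, -3, -2, -1, -1], [-1, -1, -2, -3, -2, -2, -1], [-1, -1, -2, -2, -2, -2, -1]],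
  [[-1, -2, -3, -4, -3, -2, -1], [-1, -2, -2, -3, -2, -2, -1], [-1, -2, -2, -3, -2, -1, 0], [-1, -1, -2, -3, -2, -2, -1], [-1, -1, -2, -2, -2, -2, -1]],
  [[-1, -2, -3, -4, -3, -2, -1], [-1, -2, -2, -3, -2, -1, -1], [-1, -2, -2, -3, -2, -1, 0], [-1, -1, -2, -3, -2, -1, -1], [-1, -1, -2, -2, -2, -1, -1]],
  [[-1, -2, -2, -4, -3, -2, -1], [-1, -2, -2, -3, -3, -2, -1], [-1, -2, -2, -3, -2, -2, -1], [-1, -1, -2, -3, -3, -2, -1], [-1, -1, -1, -2, -2, -1, -1]],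
  [[-1, -2, -2, -4, -3, -2, -1], [-1, -2, -2, -3, -3, -2, -1], [-1, -2, -2, -3, -2, -1, -1], [-1, -1, -2, -3, -3, -2, -1], [-1, -1, -1, -2, -2, -2, -1]],
  [[-1, -2, -2, -4, -3, -2, -1], [-1, -2, -2, -3, -3, -2, -1], [-1, -2, -2, -3, -2, -1, 0], [-1, -1, -2, -3, -3, -2, -1], [-1, -1, -1, -2, -2, -2, -1]],
  [[-1, -2, -2, -4, -3, -2, -1], [-1, -2, -2, -3, -2, -2, -1], [-1, -2, -2, -3, -2, -1, -1], [-1, -1, -2, -3, -2, -2, -1], [-1, -1, -1, -2, -2, -2, -1]],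
  [[-1, -2, -2, -4, -3, -2, -1], [-1, -2, -2, -3, -2, -2, -1], [-1, -2, -2, -3, -2, -1, 0], [-1, -1, -2, -3, -2, -2, -1], [-1, -1, -1, -2, -2, -2, -1]],
  [[-1, -2, -2, -4, -3, -2, -1], [-1, -2, -2, -3, -2, -1, -1], [-1, -2, -2, -3, -2, -1, 0], [-1, -1, -2, -3, -2, -1, -1], [-1, -1, -1, -2, -2, -1, -1]],
  [[-1, -2, -2, -3, -3, -2, -1], [-1, -2, -2, -3, -2, -2, -1], [-1, -2, -2, -3, -2, -1, -1], [-1, -1, -2, -2, -2, -2, -1], [-1, -1, -1, -2, -2, -2, -1]],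
  [[-1, -2, -2, -3, -3, -2, -1], [-1, -2, -2, -3, -2, -2, -1], [-1, -2, -2, -3, -2, -1, 0], [-1, -1, -2, -2, -2, -2, -1], [-1, -1, -1, -2, -2, -2, -1]],
  [[-1, -2, -2, -3, -3, -2, -1], [-1, -2, -2, -3, -2, -1, -1], [-1, -2, -2, -3, -2, -1, 0], [-1, -1, -2, -2, -2, -1, -1], [-1, -1, -1, -2, -2, -1, -1]],
  [[-1, -2, -2, -3, -2, -2, -1], [-1, -2, -2, -3, -2, -1, -1], [-1, -2, -2, -3, -2, -1, 0], [-1, -1, -2, -2, -1, -1, -1], [-1, -1, -1, -2, -1, -1, -1]],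
  [[-1, -1, -2, -3, -3, -2, -1], [-1, -1, -2, -3, -2, -2, -1], [-1, -1, -2, -3, -2, -1, -1], [-1, -1, -2, -2, -2, -2, -1], [-1, -1, -1, -2, -2, -2, -1]],
  [[-1, -1, -2, -3, -3, -2, -1], [-1, -1, -2, -3, -2, -2, -1], [-1, -1, -2, -3, -2, -1, 0], [-1, -1, -2, -2, -2, -2, -1], [-1, -1, -1, -2, -2, -2, -1]],
  [[-1, -1, -2, -3, -3, -2, -1], [-1, -1, -2, -3, -2, -1, -1], [-1, -1, -2, -3, -2, -1, 0], [-1, -1, -2, -2, -2, -1, -1], [-1, -1, -1, -2, -2, -1, -1]],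
  [[-1, -1, -2, -3, -2, -2, -1], [-1, -1, -2, -3, -2, -1, -1], [-1, -1, -2, -3, -2, -1, 0], [-1, -1, -2, -2, -1, -1, -1], [-1, -1, -1, -2, -1, -1, -1]],
  [[-1, -1, -2, -2, -2, -2, -1], [-1, -1, -2, -2, -2, -1, -1], [-1, -1, -2, -2, -2, -1, 0], [-1, -1, -2, -2, -1, -1, -1], [-1, -1, -1, -1, -1, -1, -1]],
  [[-1, -1, -1, -2, -2, -2, -1], [-1, -1, -1, -2, -2, -1, -1], [-1, -1, -1, -2, -2, -1, 0], [-1, -1, -1, -2, -1, -1, -1], [-1, -1, -1, -1, -1, -1, -1]],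
  [[0, -1, -1, -2, -2, -2, -1], [0, -1, -1, -2, -2, -1, -1], [0, -1, -1, -2, -2, -1, 0], [0, -1, -1, -2, -1, -1, -1], [0, -1, -1, -1, -1, -1, -1]]]

theorem pE7_5_len : pE7_5.length = 21 := rfl

set_option maxRecDepth 1000000 in
theorem rowsPE7_5 : Helper12.checkRows1 chevE7.nroots tabE7 105 pE7_5 = true := by
  decide +kernel

end Helper22

/-- table for Part B (`|K| ≥ 3`), type `E7`: a coweight orthogonal to `r` with value `±1`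
on `s` -/
theorem perp1_E7 {r s : ℕ} (hr : r < chevE7.nroots) (hs : s < chevE7.nroots) (h1 : s ≠ r)
    (h2 : s ≠ chevE7.neg r) :
    ∃ m : ℕ → ℤ, wt chevE7 m r = 0 ∧ (wt chevE7 m s = 1 ∨ wt chevE7 m s = -1) := by
  have V : Valid0 chevE7 := valid0_of_mem (by simp)
  have hn : chevE7.nroots = 126 := by decide
  have hr' : r < 126 := hn ▸ hr
  by_cases g0 : r < 21
  · exact Helper12.perp1_of_rows V B.Helper13.checkTab_E7 Helper22.rowsPE7_0 (by omega)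
      (by rw [Helper22.pE7_0_len]; omega) hr hs h1 h2
  by_cases g1 : r < 42
  · exact Helper12.perp1_of_rows V B.Helper13.checkTab_E7 Helper22.rowsPE7_1 (by omega)
      (by rw [Helper22.pE7_1_len]; omega) hr hs h1 h2
  by_cases g2 : r < 63
  · exact Helper12.perp1_of_rows V B.Helper13.checkTab_E7 Helper22.rowsPE7_2 (by omega)
      (by rw [Helper22.pE7_2_len]; omega) hr hs h1 h2
  by_cases g3 : r < 84
  · exact Helper12.perp1_of_rows V B.Helper13.checkTab_E7 Helper22.rowsPE7_3 (by omega)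
      (by rw [Helper22.pE7_3_len]; omega) hr hs h1 h2
  by_cases g4 : r < 105
  · exact Helper12.perp1_of_rows V B.Helper13.checkTab_E7 Helper22.rowsPE7_4 (by omega)
      (by rw [Helper22.pE7_4_len]; omega) hr hs h1 h2
  by_cases g5 : r < 126
  · exact Helper12.perp1_of_rows V B.Helper13.checkTab_E7 Helper22.rowsPE7_5 (by omega)
      (by rw [Helper22.pE7_5_len]; omega) hr hs h1 h2
  omega

end Cfsg.Agent.Lib.Helper10.E8CC
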