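import Mathlib
import Cfsg.Agent.Lib.Helper1.Critical

/-!
# 2-groups of symplectic type with centre of order 4 and exponent 4 (abstract part)

If `G` is a finite 2-group with `g ^ 4 = 1` for all `g`, centre of order 4, and every
characteristic abelian subgroup cyclic, then there is a central `z₀` with `z₀² = 1` such that all
squares lie in `{1, z₀}` and all commutators lie in `{1, z₀}`.
-/

set_option autoImplicit false

namespace Cfsg.Agent.Lib.Helper22.ES64

open scoped commutatorElement

section abstract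

variable {G : Type*} [Group G]

/-- class two, from Thompson's critical subgroup and the three subgroups lemma -/
theorem commutator_mem_center [Finite G] (hG : IsPGroup 2 G)
    (hchar : ∀ A : Subgroup G, A.Characteristic → IsMulCommutative A → IsCyclic A)
    (hexp : ∀ g : G, g ^ 4 = 1) (hZ : Nat.card (Subgroup.center G) = 4) (g h : G) :
    ⁅g, h⁆ ∈ Subgroup.center G := by
  have : Fact (Nat.Prime 2) := ⟨Nat.prime_two⟩
  obtain ⟨H, hHchar, -, hcomm, hcent⟩ := Cfsg.Agent.Lib.Helper1.exists_critical_subgroup hG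
  have := hHchar
  set C := Subgroup.centralizer (H : Set G) with hC
  have hCchar : C.Characteristic := inferInstance
  have hCcomm : IsMulCommutative C := by
    refine ⟨⟨?_⟩⟩
    rintro ⟨x, hx⟩ ⟨y, hy⟩
    apply Subtype.ext
    exact ((Subgroup.mem_centralizer_iff.mp hy) x (hcent hx))
  have hCcyc : IsCyclic C := hchar C hCchar hCcomm
  have hCcard : Nat.card C ∣ 4 := by
    have := hCcyc
    rw [← IsCyclic.exponent_eq_card]
    apply Monoid.exponent_dvd_of_forall_pow_eq_one
    intro x
    apply Subtype.ext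
    rw [Subgroup.coe_pow, hexp, Subgroup.coe_one]
  have hle : Subgroup.center G ≤ C := Subgroup.center_le_centralizer _
  have hCeq : Subgroup.center G = C := by
    apply Subgroup.eq_of_le_of_card_ge hle
    rw [hZ]
    exact Nat.le_of_dvd (by norm_num) hCcard
  have h1 : ⁅H, (⊤ : Subgroup G)⁆ ≤ Subgroup.center G := by
    rw [hCeq]
    exact hcomm.trans inf_le_right
  have h2 : ⁅⁅H, (⊤ : Subgroup G)⁆, (⊤ : Subgroup G)⁆ = ⊥ := by
    rw [Subgroup.commutator_eq_bot_iff_le_centralizer, Subgroup.coe_top, Subgroup.centralizer_univ]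
    exact h1
  have h3 : ⁅⁅(⊤ : Subgroup G), H⁆, (⊤ : Subgroup G)⁆ = ⊥ := by
    rw [Subgroup.commutator_comm ⊤ H]
    exact h2
  have h4 : ⁅⁅(⊤ : Subgroup G), (⊤ : Subgroup G)⁆, H⁆ = ⊥ :=
    Subgroup.commutator_commutator_eq_bot_of_rotate h3 h2
  rw [Subgroup.commutator_eq_bot_iff_le_centralizer] at h4
  rw [hCeq]
  exact h4 (Subgroup.commutator_mem_commutator (Subgroup.mem_top g) (Subgroup.mem_top h))

/-- in class two, `g² h = c² h g²` for the central commutator `c = [g, h]` -/
theorem sq_mul_of_central {g h c : G} (hc : ∀ x : G, c * x = x * c) (hgh : g * h = c * (h * g)) :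
    (g * g) * h = (c * c) * (h * (g * g)) := by
  calc (g * g) * h = g * (g * h) := by group
    _ = g * (c * (h * g)) := by rw [hgh]
    _ = c * ((g * h) * g) := by rw [← mul_assoc g c, ← hc g]; group
    _ = c * ((c * (h * g)) * g) := by rw [hgh]
    _ = (c * c) * (h * (g * g)) := by group

theorem sq_comm_of_central {g h c : G} (hc : ∀ x : G, c * x = x * c) (hgh : g * h = c * (h * g))
    (hc4 : c ^ 4 = 1) : (g * g) * (h * h) = (h * h) * (g * g) := by
  have h1 := sq_mul_of_central hc hgh
  have hcc : ∀ x : G, (c * c) * x = x * (c * c) := by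
    intro x
    rw [mul_assoc, hc x, ← mul_assoc, hc x, mul_assoc]
  calc (g * g) * (h * h) = ((g * g) * h) * h := by group
    _ = ((c * c) * (h * (g * g))) * h := by rw [h1]
    _ = (c * c) * (h * ((g * g) * h)) := by group
    _ = (c * c) * (h * ((c * c) * (h * (g * g)))) := by rw [h1]
    _ = (c * c) * ((h * (c * c)) * (h * (g * g))) := by group
    _ = (c * c) * (((c * c) * h) * (h * (g * g))) := by rw [hcc h]
    _ = (c * c * c * c) * ((h * h) * (g * g)) := by group
    _ = (h * h) * (g * g) := by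
      have : c * c * c * c = c ^ 4 := by simp [pow_succ, mul_assoc]
      rw [this, hc4, one_mul]

/-- the structure theorem -/
theorem structure_thm [Finite G] (hG : IsPGroup 2 G)
    (hchar : ∀ A : Subgroup G, A.Characteristic → IsMulCommutative A → IsCyclic A)
    (hexp : ∀ g : G, g ^ 4 = 1) (hZ : Nat.card (Subgroup.center G) = 4) :
    ∃ z₀ : G, z₀ ∈ Subgroup.center G ∧ z₀ * z₀ = 1 ∧ (∀ g : G, g * g = 1 ∨ g * g = z₀) ∧
      (∀ g h : G, g * h = h * g ∨ g * h = z₀ * (h * g)) := by
  classical
  have hcl2 := commutator_mem_center hG hchar hexp hZ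
  have hcomm_rel : ∀ g h : G, g * h = ⁅g, h⁆ * (h * g) := by
    intro g h
    rw [commutatorElement_def]
    group
  have hcen : ∀ g h x : G, ⁅g, h⁆ * x = x * ⁅g, h⁆ := by
    intro g h x
    exact ((Subgroup.mem_center_iff.mp (hcl2 g h)) x).symm
  -- squares commute
  have hsqcomm : ∀ g h : G, (g * g) * (h * h) = (h * h) * (g * g) := by
    intro g h
    exact sq_comm_of_central (hcen g h) (hcomm_rel g h) (hexp _)
  -- the subgroup generated by squares
  set S : Set G := Set.range (fun g : G => g * g) with hS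
  set K : Subgroup G := Subgroup.closure S with hK
  have hKchar : K.Characteristic := by
    rw [Subgroup.characteristic_iff_map_le]
    intro φ
    rw [hK, MonoidHom.map_closure, Subgroup.closure_le]
    rintro _ ⟨_, ⟨g, rfl⟩, rfl⟩
    apply Subgroup.subset_closure
    exact ⟨φ g, by simp⟩
  have hKcomm : IsMulCommutative K := by
    refine ⟨⟨?_⟩⟩
    rintro ⟨x, hx⟩ ⟨y, hy⟩
    apply Subtype.ext
    show x * y = y * x
    have hcent : K ≤ Subgroup.centralizer S := by
      rw [hK, Subgroup.closure_le]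
      rintro _ ⟨g, rfl⟩
      rw [SetLike.mem_coe, Subgroup.mem_centralizer_iff]
      rintro _ ⟨h, rfl⟩
      exact hsqcomm h g
    have h1 : K ≤ Subgroup.centralizer ({x} : Set G) := by
      rw [hK, Subgroup.closure_le]
      intro s hs
      rw [SetLike.mem_coe, Subgroup.mem_centralizer_iff]
      intro a ha
      rw [Set.mem_singleton_iff] at ha
      subst ha
      exact ((Subgroup.mem_centralizer_iff.mp (hcent hx)) s hs).symm
    exact ((Subgroup.mem_centralizer_iff.mp (h1 hy)) x rfl)
  have hKcyc : IsCyclic K := hchar K hKchar hKcomm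
  -- involutions of `K`
  have : Fintype K := Fintype.ofFinite K
  have hcard2 : (Finset.univ.filter (fun a : K => a ^ 2 = 1)).card ≤ 2 := by
    have := hKcyc
    exact IsCyclic.card_pow_eq_one_le (by norm_num)
  have hsqK : ∀ g : G, g * g ∈ K := fun g => Subgroup.subset_closure ⟨g, rfl⟩
  have hsq2 : ∀ g : G, ((⟨g * g, hsqK g⟩ : K)) ^ 2 = 1 := by
    intro g
    apply Subtype.ext
    rw [Subgroup.coe_pow, Subgroup.coe_one]
    show (g * g) ^ 2 = 1
    rw [← hexp g]
    simp [pow_succ, mul_assoc]
  -- all squares in `{1, z₀}`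
  obtain ⟨z₀, hz₀sq, hall⟩ : ∃ z₀ : G, (∃ g₀ : G, g₀ * g₀ = z₀) ∧ ∀ g : G, g * g = 1 ∨ g * g = z₀ := by
    by_cases hex : ∃ g₀ : G, g₀ * g₀ ≠ 1
    · obtain ⟨g₀, hg₀⟩ := hex
      refine ⟨g₀ * g₀, ⟨g₀, rfl⟩, fun g => ?_⟩
      by_contra hcon
      push Not at hcon
      have hsub : ({(1 : K), ⟨g₀ * g₀, hsqK g₀⟩, ⟨g * g, hsqK g⟩} : Finset K) ⊆
          Finset.univ.filter (fun a : K => a ^ 2 = 1) := by
        intro a ha
        rw [Finset.mem_filter]
        refine ⟨Finset.mem_univ _, ?_⟩
        simp only [Finset.mem_insert, Finset.mem_singleton] at ha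
        rcases ha with rfl | rfl | rfl
        · exact one_pow 2
        · exact hsq2 g₀
        · exact hsq2 g
      have h3 : ({(1 : K), ⟨g₀ * g₀, hsqK g₀⟩, ⟨g * g, hsqK g⟩} : Finset K).card = 3 := by
        rw [Finset.card_insert_of_notMem, Finset.card_insert_of_notMem, Finset.card_singleton]
        · simp only [Finset.mem_singleton]
          intro h
          exact hcon.2 (congrArg Subtype.val h).symm
        · simp only [Finset.mem_insert, Finset.mem_singleton, not_or]
          refine ⟨fun h => hg₀ (congrArg Subtype.val h).symm, fun h => hcon.1 (congrArg Subtype.val h).symm⟩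
      have := Finset.card_le_card hsub
      omega
    · push Not at hex
      exact ⟨1, ⟨1, by group⟩, fun g => Or.inl (hex g)⟩
  obtain ⟨g₀, hg₀⟩ := hz₀sq
  have hz₀z₀ : z₀ * z₀ = 1 := by
    rw [← hg₀, ← hexp g₀]
    simp [pow_succ, mul_assoc]
  have hz₀cen : z₀ ∈ Subgroup.center G := by
    rw [Subgroup.mem_center_iff]
    intro x
    by_cases h1 : z₀ = 1
    · rw [h1, mul_one, one_mul]
    · have h2 : (x * g₀ * x⁻¹) * (x * g₀ * x⁻¹) = x * z₀ * x⁻¹ := by
        rw [← hg₀]; group
      rcases hall (x * g₀ * x⁻¹) with h3 | h3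
      · exfalso
        rw [h2] at h3
        apply h1
        have : z₀ = x⁻¹ * (x * z₀ * x⁻¹) * x := by group
        rw [this, h3]; group
      · rw [h2] at h3
        calc x * z₀ = (x * z₀ * x⁻¹) * x := by group
          _ = z₀ * x := by rw [h3]
  refine ⟨z₀, hz₀cen, hz₀z₀, hall, fun g h => ?_⟩
  -- commutators are products of squares
  have hc : ⁅g, h⁆ = (g * g) * ((g⁻¹ * h) * (g⁻¹ * h)) * (h⁻¹ * h⁻¹) := by
    rw [commutatorElement_def]; group
  have hc' : ⁅g, h⁆ = 1 ∨ ⁅g, h⁆ = z₀ := by
    rw [hc]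
    rcases hall g with h1 | h1 <;> rcases hall (g⁻¹ * h) with h2 | h2 <;>
      rcases hall h⁻¹ with h3 | h3 <;> rw [h1, h2, h3] <;>
      simp only [one_mul, mul_one, hz₀z₀, true_or, or_true]
  rcases hc' with h1 | h1
  · left
    rw [hcomm_rel g h, h1, one_mul]
  · right
    rw [hcomm_rel g h, h1]

end abstract

end Cfsg.Agent.Lib.Helper22.ES64
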