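import Mathlib
import Cfsg.Prelude.Def_GeometricClasses
import Cfsg.Agent.Lib.Helper22.ES64A

/-!
# The group `4 ∘ 2^{1+4}` inside `GL_4(F)`: matrix form of the structure theorem
-/

set_option autoImplicit false
open scoped MatrixGroups

namespace Cfsg.Agent.Lib.Helper22.ES64

variable {F : Type*} [Field F]

/-- The facts about an absolutely irreducible subgroup `R` of `GL_4(F)` of type `4 ∘ 2^{1+4}` that
are used later: `ζ` is a scalar of order 4 in `R`, squares are `±1`, elements commute up to sign,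
and matrices commuting with `R` are scalar. -/
structure Data (R : Subgroup (GL (Fin 4) F)) (ζ : F) : Prop where
  zeta : ζ * ζ = -1
  two : (2 : F) ≠ 0
  card : Nat.card R = 64
  scal : ∃ zg ∈ R, (zg : Matrix (Fin 4) (Fin 4) F) = ζ • (1 : Matrix (Fin 4) (Fin 4) F)
  sq : ∀ g ∈ R, (g : Matrix (Fin 4) (Fin 4) F) * (g : Matrix (Fin 4) (Fin 4) F) = 1 ∨
    (g : Matrix (Fin 4) (Fin 4) F) * (g : Matrix (Fin 4) (Fin 4) F) = -1
  comm : ∀ g ∈ R, ∀ h ∈ R,
    (g : Matrix (Fin 4) (Fin 4) F) * (h : Matrix (Fin 4) (Fin 4) F) =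
        (h : Matrix (Fin 4) (Fin 4) F) * (g : Matrix (Fin 4) (Fin 4) F) ∨
    (g : Matrix (Fin 4) (Fin 4) F) * (h : Matrix (Fin 4) (Fin 4) F) =
        -((h : Matrix (Fin 4) (Fin 4) F) * (g : Matrix (Fin 4) (Fin 4) F))
  irr : ∀ M : Matrix (Fin 4) (Fin 4) F,
    (∀ s ∈ R, M * (s : Matrix (Fin 4) (Fin 4) F) = (s : Matrix (Fin 4) (Fin 4) F) * M) →
      ∃ c : F, M = c • (1 : Matrix (Fin 4) (Fin 4) F)

theorem smul_one_injective : Function.Injective
    (fun c : F => c • (1 : Matrix (Fin 4) (Fin 4) F)) := by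
  intro a b h
  have := congrFun (congrFun h 0) 0
  simpa using this

theorem data_of_hyp [Fintype F] (R : Subgroup (GL (Fin 4) F))
    (hR : Cfsg.Geo.IsLinearSymplecticTypeData 2 R) (hR6 : Nat.card R = 2 ^ 6) :
    ∃ ζ : F, Data R ζ := by
  classical
  -- the centre has order 4
  have hZ : Nat.card (Subgroup.center R) = 4 := by
    obtain ⟨p', e, -, -, h⟩ := hR.field
    rcases h with h | h | h
    · exact absurd h.1 (by decide)
    · exact h.2.2.1
    · have := h.2.2.1
      simp at this
  have hfin : Finite R := Nat.finite_of_card_ne_zero (by rw [hR6]; norm_num)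
  have hP : IsPGroup 2 R := hR.symplecticType.pGroup
  have hexp : ∀ g : R, g ^ 4 = 1 := by
    intro g
    have h := hR.symplecticType.exponent_eq
    have h4 : Monoid.exponent R = 4 := by rw [h]; rfl
    have := Monoid.pow_exponent_eq_one g
    rwa [h4] at this
  obtain ⟨z₀, hz₀c, hz₀2, hsq, hcomm⟩ :=
    structure_thm hP hR.symplecticType.cyclic_of_characteristic hexp hZ
  have hirr := hR.absIrred.2
  have hirr' : ∀ M : Matrix (Fin 4) (Fin 4) F,
      (∀ s ∈ R, M * (s : Matrix (Fin 4) (Fin 4) F) = (s : Matrix (Fin 4) (Fin 4) F) * M) →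
        ∃ c : F, M = c • (1 : Matrix (Fin 4) (Fin 4) F) := by
    intro M hM
    apply hirr M
    rintro _ ⟨s, hs, rfl⟩
    exact hM s hs
  -- central elements are scalar
  have hcs : ∀ g : R, g ∈ Subgroup.center R →
      ∃ c : F, ((g : GL (Fin 4) F) : Matrix (Fin 4) (Fin 4) F) = c • 1 := by
    intro g hg
    apply hirr'
    intro s hs
    have := (Subgroup.mem_center_iff.mp hg) ⟨s, hs⟩
    have h2 := congrArg (fun x : R => ((x : GL (Fin 4) F) : Matrix (Fin 4) (Fin 4) F)) this
    simp only [Subgroup.coe_mul, Units.val_mul] at h2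
    exact h2.symm
  have hpow4 : ∀ g : R, (((g : GL (Fin 4) F) : Matrix (Fin 4) (Fin 4) F)) ^ 4 = 1 := by
    intro g
    have := congrArg (fun x : R => ((x : GL (Fin 4) F) : Matrix (Fin 4) (Fin 4) F)) (hexp g)
    simpa using this
  -- `z₀` is `-1`
  obtain ⟨c₀, hc₀⟩ := hcs z₀ hz₀c
  have hz₀ne : z₀ ≠ 1 := by
    intro h1
    -- then `R` is abelian
    have hab : ∀ g h : R, g * h = h * g := by
      intro g h
      rcases hcomm g h with h2 | h2
      · exact h2
      · rw [h2, h1, one_mul]
    have htop : Subgroup.center R = ⊤ := by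
      rw [eq_top_iff]
      intro g _
      rw [Subgroup.mem_center_iff]
      intro h
      exact hab h g
    rw [htop, Subgroup.card_top, hR6] at hZ
    norm_num at hZ
  have hc₀sq : c₀ * c₀ = 1 := by
    have := congrArg (fun x : R => ((x : GL (Fin 4) F) : Matrix (Fin 4) (Fin 4) F)) hz₀2
    simp only [Subgroup.coe_mul, Units.val_mul, hc₀, Subgroup.coe_one, Units.val_one] at this
    rw [Matrix.smul_mul, Matrix.one_mul, smul_smul] at this
    have h1 : (c₀ * c₀) • (1 : Matrix (Fin 4) (Fin 4) F) = (1 : F) • 1 := by rw [this, one_smul]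
    exact smul_one_injective h1
  have hc₀ne : c₀ ≠ 1 := by
    intro h1
    apply hz₀ne
    apply Subtype.ext
    apply Units.ext
    rw [hc₀, h1, one_smul]
    rfl
  have hc₀neg : c₀ = -1 := by
    have : (c₀ - 1) * (c₀ + 1) = 0 := by ring_nf; rw [← sub_eq_zero] at hc₀sq; linear_combination hc₀sq
    rcases mul_eq_zero.mp this with h | h
    · exact absurd (sub_eq_zero.mp h) hc₀ne
    · exact eq_neg_of_add_eq_zero_left h
  have htwo : (2 : F) ≠ 0 := by
    intro h2
    apply hc₀ne
    rw [hc₀neg]
    have : (-1 : F) = 1 - 2 := by ring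
    rw [this, h2, sub_zero]
  have hz₀M : ((z₀ : GL (Fin 4) F) : Matrix (Fin 4) (Fin 4) F) = -1 := by
    rw [hc₀, hc₀neg, neg_smul, one_smul]
  -- a central element whose scalar is not `±1`
  obtain ⟨g, hg, c, hc, hc1, hc2⟩ : ∃ g : R, g ∈ Subgroup.center R ∧ ∃ c : F,
      ((g : GL (Fin 4) F) : Matrix (Fin 4) (Fin 4) F) = c • 1 ∧ c ≠ 1 ∧ c ≠ -1 := by
    by_contra hcon
    push Not at hcon
    -- then the centre injects into `{1, -1}`
    have hinj : ∀ g : R, g ∈ Subgroup.center R → g = 1 ∨ g = z₀ := by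
      intro g hg
      obtain ⟨c, hc⟩ := hcs g hg
      by_cases h1 : c = 1
      · left
        apply Subtype.ext
        apply Units.ext
        rw [hc, h1, one_smul]
        rfl
      · right
        have := hcon g hg c hc h1
        apply Subtype.ext
        apply Units.ext
        rw [hc, this, hz₀M, neg_smul, one_smul]
    have hle : Nat.card (Subgroup.center R) ≤ 2 := by
      have hsub : ((Subgroup.center R : Subgroup R) : Set R) ⊆ ({1, z₀} : Set R) := by
        intro g hg
        rcases hinj g hg with h | h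
        · left; exact h
        · right; exact h
      have hfin2 : ({1, z₀} : Set R).Finite := Set.toFinite _
      have h1 := Set.ncard_le_ncard hsub hfin2
      have h2 : ({1, z₀} : Set R).ncard ≤ 2 := Set.ncard_insert_le _ _ |>.trans (by simp)
      have h3 : Nat.card (Subgroup.center R) = ((Subgroup.center R : Subgroup R) : Set R).ncard :=
        (_root_.Nat.card_coe_set_eq _)
      omega
    omega
  have hc4 : c ^ 4 = 1 := by
    have h1 := hpow4 g
    rw [hc, smul_pow, one_pow] at h1
    have h2 : (c ^ 4) • (1 : Matrix (Fin 4) (Fin 4) F) = (1 : F) • 1 := by rw [h1, one_smul]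
    exact smul_one_injective h2
  have hcc : c * c = -1 := by
    have h1 : (c * c - 1) * (c * c + 1) = 0 := by linear_combination hc4
    rcases mul_eq_zero.mp h1 with h | h
    · exfalso
      have h2 : (c - 1) * (c + 1) = 0 := by linear_combination h
      rcases mul_eq_zero.mp h2 with h3 | h3
      · exact hc1 (sub_eq_zero.mp h3)
      · exact hc2 (eq_neg_of_add_eq_zero_left h3)
    · exact eq_neg_of_add_eq_zero_left h
  refine ⟨c, hcc, htwo, by rw [hR6]; norm_num, ⟨(g : GL (Fin 4) F), g.2, hc⟩, ?_, ?_, hirr'⟩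
  · intro a ha
    rcases hsq ⟨a, ha⟩ with h | h
    · left
      have := congrArg (fun x : R => ((x : GL (Fin 4) F) : Matrix (Fin 4) (Fin 4) F)) h
      simpa using this
    · right
      have := congrArg (fun x : R => ((x : GL (Fin 4) F) : Matrix (Fin 4) (Fin 4) F)) h
      simp only [Subgroup.coe_mul, Units.val_mul, hz₀M] at this
      exact this
  · intro a ha b hb
    rcases hcomm ⟨a, ha⟩ ⟨b, hb⟩ with h | h
    · left
      have := congrArg (fun x : R => ((x : GL (Fin 4) F) : Matrix (Fin 4) (Fin 4) F)) h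
      simpa using this
    · right
      have := congrArg (fun x : R => ((x : GL (Fin 4) F) : Matrix (Fin 4) (Fin 4) F)) h
      simp only [Subgroup.coe_mul, Units.val_mul, hz₀M] at this
      rw [this, neg_mul, one_mul]

end Cfsg.Agent.Lib.Helper22.ES64
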