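import Mathlib
import Cfsg.Agent.Lib.Helper22.ES64B

/-!
# `4 ∘ 2^{1+4}` in `GL_4(F)`: group form of the data, index-two lemma, symplectic basis
-/

set_option autoImplicit false
open scoped MatrixGroups

namespace Cfsg.Agent.Lib.Helper22.ES64

section index2

variable {G : Type*} [Group G] [HasDistribNeg G]

/-- If every element of `S` commutes or anticommutes with `h`, and some element anticommutes,
the centralizer of `h` in `S` has index 2. -/
theorem card_eq_two_mul (S : Subgroup G) [Finite S] (h : G)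
    (hS : ∀ s ∈ S, s * h = h * s ∨ s * h = -(h * s)) (hne : (-1 : G) ≠ 1)
    (b : G) (hb : b ∈ S) (hbh : b * h = -(h * b)) :
    Nat.card S = 2 * Nat.card (S ⊓ Subgroup.centralizer ({h} : Set G) : Subgroup G) := by
  set C : Subgroup G := S ⊓ Subgroup.centralizer ({h} : Set G) with hC
  have hCS : C ≤ S := inf_le_left
  have hmemC : ∀ s : G, s ∈ C ↔ s ∈ S ∧ s * h = h * s := by
    intro s
    rw [hC, Subgroup.mem_inf, Subgroup.mem_centralizer_iff]
    constructor
    · rintro ⟨h1, h2⟩
      exact ⟨h1, (h2 h rfl).symm⟩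
    · rintro ⟨h1, h2⟩
      refine ⟨h1, fun x hx => ?_⟩
      rw [Set.mem_singleton_iff] at hx
      subst hx
      exact h2.symm
  have hnn : ∀ x : G, -x ≠ x := by
    intro x hx
    apply hne
    have : (-1 : G) * x = 1 * x := by rw [neg_one_mul, one_mul, hx]
    exact mul_right_cancel this
  have hidx : (C.subgroupOf S).index = 2 := by
    rw [Subgroup.index_eq_two_iff]
    refine ⟨⟨b, hb⟩, fun s => ?_⟩
    rw [Subgroup.mem_subgroupOf, Subgroup.mem_subgroupOf, Subgroup.coe_mul, hmemC, hmemC]
    rcases hS s s.2 with h1 | h1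
    · -- s commutes
      refine Or.inr ⟨⟨s.2, h1⟩, ?_⟩
      rintro ⟨-, h2⟩
      have : (s : G) * b * h = -(h * (s * b)) := by
        rw [mul_assoc, hbh, mul_neg, ← mul_assoc, h1, mul_assoc]
      rw [this] at h2
      exact hnn _ h2
    · refine Or.inl ⟨⟨S.mul_mem s.2 hb, ?_⟩, ?_⟩
      · rw [mul_assoc, hbh, mul_neg, ← mul_assoc, h1, neg_mul, neg_neg, mul_assoc]
      · rintro ⟨-, h2⟩
        rw [h2] at h1
        exact hnn _ h1.symm
  have h1 := (C.subgroupOf S).card_mul_index
  rw [hidx] at h1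
  have h2 : Nat.card (C.subgroupOf S) = Nat.card C :=
    Nat.card_congr (Subgroup.subgroupOfEquivOfLe hCS).toEquiv
  rw [h2] at h1
  omega

end index2

section grp

variable {F : Type*} [Field F]

/-- group form of `Data` -/
structure GData (R : Subgroup (GL (Fin 4) F)) (ζ : F) (zg : GL (Fin 4) F) : Prop where
  data : Data R ζ
  zg_mem : zg ∈ R
  zg_val : (zg : Matrix (Fin 4) (Fin 4) F) = ζ • (1 : Matrix (Fin 4) (Fin 4) F)
  neg_mem : (-1 : GL (Fin 4) F) ∈ R
  neg_ne : (-1 : GL (Fin 4) F) ≠ 1
  zg_sq : zg * zg = -1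
  zg_comm : ∀ g : GL (Fin 4) F, zg * g = g * zg
  sq : ∀ g ∈ R, g * g = 1 ∨ g * g = -1
  comm : ∀ g ∈ R, ∀ h ∈ R, g * h = h * g ∨ g * h = -(h * g)
  fin : Finite R

theorem gdata_of_data {R : Subgroup (GL (Fin 4) F)} {ζ : F} (d : Data R ζ) :
    ∃ zg : GL (Fin 4) F, GData R ζ zg := by
  obtain ⟨zg, hzg, hval⟩ := d.scal
  have hsq : zg * zg = -1 := by
    apply Units.ext
    rw [Units.val_mul, hval, Units.val_neg, Units.val_one, Matrix.smul_mul, Matrix.one_mul,
      smul_smul, d.zeta, neg_smul, one_smul]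
  have hnm : (-1 : GL (Fin 4) F) ∈ R := by
    rw [← hsq]; exact R.mul_mem hzg hzg
  have hne : (-1 : GL (Fin 4) F) ≠ 1 := by
    intro h
    have h1 := congrArg (fun x : GL (Fin 4) F => (x : Matrix (Fin 4) (Fin 4) F) 0 0) h
    simp only [Units.val_neg, Units.val_one, Matrix.neg_apply, Matrix.one_apply_eq] at h1
    apply d.two
    linear_combination -h1
  refine ⟨zg, d, hzg, hval, hnm, hne, hsq, ?_, ?_, ?_, ?_⟩
  · intro g
    apply Units.ext
    rw [Units.val_mul, Units.val_mul, hval, Matrix.smul_mul, Matrix.one_mul, Matrix.mul_smul,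
      Matrix.mul_one]
  · intro g hg
    rcases d.sq g hg with h | h
    · left; apply Units.ext; rw [Units.val_mul, h, Units.val_one]
    · right; apply Units.ext; rw [Units.val_mul, h, Units.val_neg, Units.val_one]
  · intro g hg h hh
    rcases d.comm g hg h hh with h1 | h1
    · left; apply Units.ext; rw [Units.val_mul, Units.val_mul, h1]
    · right; apply Units.ext; rw [Units.val_mul, Units.val_neg, Units.val_mul, h1]
  · exact Nat.finite_of_card_ne_zero (by rw [d.card]; norm_num)

variable {R : Subgroup (GL (Fin 4) F)} {ζ : F} {zg : GL (Fin 4) F}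

/-- a central element of `R` is a scalar matrix -/
theorem GData.scalar_of_central (d : GData R ζ zg) {g : GL (Fin 4) F}
    (hc : ∀ s ∈ R, g * s = s * g) : ∃ c : F, (g : Matrix (Fin 4) (Fin 4) F) = c • 1 := by
  apply d.data.irr
  intro s hs
  have := congrArg (fun x : GL (Fin 4) F => (x : Matrix (Fin 4) (Fin 4) F)) (hc s hs)
  simpa using this

/-- scalars in `R` are powers of `zg` -/
theorem GData.scalar_mem (d : GData R ζ zg) {g : GL (Fin 4) F} (hg : g ∈ R) {c : F}
    (hc : (g : Matrix (Fin 4) (Fin 4) F) = c • 1) : g = 1 ∨ g = -1 ∨ g = zg ∨ g = -zg := by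
  have h4 : c ^ 4 = 1 := by
    have h1 : ((g * g) * (g * g) : GL (Fin 4) F) = 1 := by
      rcases d.sq g hg with h | h <;> rw [h] <;> simp
    have h2 := congrArg (fun x : GL (Fin 4) F => (x : Matrix (Fin 4) (Fin 4) F)) h1
    simp only [Units.val_mul, hc, Units.val_one, Matrix.smul_mul, Matrix.one_mul, smul_smul] at h2
    have h3 : (c * (c * (c * c))) • (1 : Matrix (Fin 4) (Fin 4) F) = (1 : F) • 1 := by
      rw [one_smul, ← h2]
      congr 1
      ring
    have := smul_one_injective h3
    rw [← this]; ring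
  have hz := d.data.zeta
  have hf : (c - 1) * (c + 1) * (c - ζ) * (c + ζ) = 0 := by
    linear_combination h4 - (c * c - 1) * hz
  have key : ∀ c' : F, c = c' → ∀ g' : GL (Fin 4) F,
      (g' : Matrix (Fin 4) (Fin 4) F) = c' • 1 → g = g' := by
    intro c' h1 g' h2
    apply Units.ext
    rw [hc, h2, h1]
  rcases mul_eq_zero.mp hf with h | h
  · rcases mul_eq_zero.mp h with h | h
    · rcases mul_eq_zero.mp h with h | h
      · left
        exact key 1 (sub_eq_zero.mp h) 1 (by simp)
      · right; left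
        exact key (-1) (eq_neg_of_add_eq_zero_left h) (-1) (by simp)
    · right; right; left
      exact key ζ (sub_eq_zero.mp h) zg d.zg_val
  · right; right; right
    refine key (-ζ) (eq_neg_of_add_eq_zero_left h) (-zg) ?_
    rw [Units.val_neg, d.zg_val, neg_smul]

end grp

end Cfsg.Agent.Lib.Helper22.ES64
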