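import Mathlib
import Cfsg.Agent.Lib.Helper22.ES64C

/-!
# `4 ∘ 2^{1+4}` in `GL_4(F)`: a symplectic basis of involutions
-/

set_option autoImplicit false
open scoped MatrixGroups

namespace Cfsg.Agent.Lib.Helper22.ES64

variable {F : Type*} [Field F]
variable {R : Subgroup (GL (Fin 4) F)} {ζ : F} {zg : GL (Fin 4) F}

/-- non-scalar -/
def NS (g : GL (Fin 4) F) : Prop := ¬ ∃ c : F, (g : Matrix (Fin 4) (Fin 4) F) = c • 1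

theorem GData.exists_ns (d : GData R ζ zg) : ∃ g ∈ R, NS g := by
  by_contra hcon
  push Not at hcon
  have hall : ∀ g ∈ R, ∃ c : F, (g : Matrix (Fin 4) (Fin 4) F) = c • 1 := by
    intro g hg
    have := hcon g hg
    unfold NS at this
    push Not at this
    exact this
  obtain ⟨c, hc⟩ := d.data.irr (Matrix.single 0 1 1) (by
    intro s hs
    obtain ⟨c, hc⟩ := hall s hs
    rw [hc, Matrix.mul_smul, Matrix.mul_one, Matrix.smul_mul, Matrix.one_mul])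
  have h1 := congrFun (congrFun hc 0) 1
  simp at h1

theorem GData.zg_ns_iff (d : GData R ζ zg) (g : GL (Fin 4) F) : NS (zg * g) ↔ NS g := by
  have hz : ζ ≠ 0 := by
    intro h
    have := d.data.zeta
    rw [h, mul_zero] at this
    have h2 : (1 : F) = 0 := by linear_combination this
    exact one_ne_zero h2
  unfold NS
  rw [not_iff_not]
  constructor
  · rintro ⟨c, hc⟩
    refine ⟨ζ⁻¹ * c, ?_⟩
    rw [Units.val_mul, d.zg_val, Matrix.smul_mul, Matrix.one_mul] at hc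
    rw [mul_smul, ← hc, smul_smul, inv_mul_cancel₀ hz, one_smul]
  · rintro ⟨c, hc⟩
    refine ⟨ζ * c, ?_⟩
    rw [Units.val_mul, d.zg_val, Matrix.smul_mul, Matrix.one_mul, hc, smul_smul]

/-- replace an element by an involution in the same coset of the centre -/
theorem GData.exists_invol (d : GData R ζ zg) {g : GL (Fin 4) F} (hg : g ∈ R) :
    ∃ g' ∈ R, g' * g' = 1 ∧ (g' = g ∨ g' = zg * g) := by
  rcases d.sq g hg with h | h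
  · exact ⟨g, hg, h, Or.inl rfl⟩
  · refine ⟨zg * g, R.mul_mem d.zg_mem hg, ?_, Or.inr rfl⟩
    calc zg * g * (zg * g) = zg * (g * zg) * g := by group
      _ = zg * (zg * g) * g := by rw [d.zg_comm g]
      _ = (zg * zg) * (g * g) := by group
      _ = 1 := by rw [d.zg_sq, h, neg_mul_neg, one_mul]

theorem GData.exists_anti (d : GData R ζ zg) {g : GL (Fin 4) F} (hg : g ∈ R) (hns : NS g) :
    ∃ h ∈ R, g * h = -(h * g) := by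
  by_contra hcon
  push Not at hcon
  apply hns
  apply d.scalar_of_central
  intro s hs
  rcases d.comm g hg s hs with h | h
  · exact h
  · exact absurd h (hcon s hs)

theorem GData.anti_zg (d : GData R ζ zg) {a h : GL (Fin 4) F} (hah : a * h = -(h * a)) :
    a * (zg * h) = -(zg * h * a) := by
  calc a * (zg * h) = (a * zg) * h := by group
    _ = (zg * a) * h := by rw [d.zg_comm a]
    _ = zg * (a * h) := by group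
    _ = zg * -(h * a) := by rw [hah]
    _ = -(zg * h * a) := by rw [mul_neg, mul_assoc]

/-- the symplectic basis -/
structure Basis (R : Subgroup (GL (Fin 4) F)) (ζ : F) (zg a₁ b₁ a₂ b₂ : GL (Fin 4) F) : Prop where
  gd : GData R ζ zg
  ha₁ : a₁ ∈ R
  hb₁ : b₁ ∈ R
  ha₂ : a₂ ∈ R
  hb₂ : b₂ ∈ R
  a₁_sq : a₁ * a₁ = 1
  b₁_sq : b₁ * b₁ = 1
  a₂_sq : a₂ * a₂ = 1
  b₂_sq : b₂ * b₂ = 1
  anti₁ : a₁ * b₁ = -(b₁ * a₁)
  anti₂ : a₂ * b₂ = -(b₂ * a₂)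
  a₁a₂ : a₁ * a₂ = a₂ * a₁
  a₁b₂ : a₁ * b₂ = b₂ * a₁
  b₁a₂ : b₁ * a₂ = a₂ * b₁
  b₁b₂ : b₁ * b₂ = b₂ * b₁
  nf : ∀ g ∈ R, ∃ s : GL (Fin 4) F, (s = 1 ∨ s = -1 ∨ s = zg ∨ s = -zg) ∧
    ∃ e₁ e₂ e₃ e₄ : ℕ, g = s * (a₂ ^ e₃ * b₂ ^ e₄ * a₁ ^ e₁ * b₁ ^ e₂)

/-- if `h` commutes or anticommutes with `a`, then `h` or `h * b` commutes with `a`, where `b`
anticommutes with `a` -/
theorem fix_comm {a b h : GL (Fin 4) F} (hab : a * b = -(b * a))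
    (hh : h * a = a * h ∨ h * a = -(a * h)) :
    ∃ e : ℕ, (h * b ^ e) * a = a * (h * b ^ e) := by
  rcases hh with h1 | h1
  · exact ⟨0, by rw [pow_zero, mul_one, h1]⟩
  · refine ⟨1, ?_⟩
    rw [pow_one]
    have hba : b * a = -(a * b) := by rw [hab, neg_neg]
    calc h * b * a = h * (b * a) := by group
      _ = -(h * a * b) := by rw [hba, mul_neg, mul_assoc]
      _ = a * (h * b) := by rw [h1, neg_mul, neg_neg, mul_assoc]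

theorem comm_pow_of_comm {a x : GL (Fin 4) F} (h : x * a = a * x) (e : ℕ) :
    x ^ e * a = a * x ^ e := by
  have : Commute x a := h
  exact (this.pow_left e)

theorem finite_of_le {S : Subgroup (GL (Fin 4) F)} (hfin : Finite R) (hS : S ≤ R) : Finite S :=
  Finite.of_injective (Subgroup.inclusion hS) (Subgroup.inclusion_injective hS)

theorem mem_inf_centralizer {S : Subgroup (GL (Fin 4) F)} {a g : GL (Fin 4) F} :
    g ∈ S ⊓ Subgroup.centralizer ({a} : Set (GL (Fin 4) F)) ↔ g ∈ S ∧ g * a = a * g := by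
  rw [Subgroup.mem_inf, Subgroup.mem_centralizer_iff]
  constructor
  · rintro ⟨h1, h2⟩
    exact ⟨h1, (h2 a rfl).symm⟩
  · rintro ⟨h1, h2⟩
    refine ⟨h1, fun x hx => ?_⟩
    rw [Set.mem_singleton_iff] at hx
    subst hx
    exact h2.symm

theorem GData.four_distinct (d : GData R ζ zg) :
    ({1, -1, zg, -zg} : Set (GL (Fin 4) F)).ncard = 4 := by
  have h1 : (1 : GL (Fin 4) F) ≠ -1 := fun h => d.neg_ne h.symm
  have hzz : zg * zg ≠ 1 := by rw [d.zg_sq]; exact d.neg_ne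
  have h2 : zg ≠ 1 := by
    intro h; apply hzz; rw [h, one_mul]
  have h3 : zg ≠ -1 := by
    intro h; apply hzz; rw [h, neg_mul_neg, one_mul]
  have h4 : -zg ≠ zg := by
    intro h
    apply d.neg_ne
    have : (-1 : GL (Fin 4) F) * zg = 1 * zg := by rw [neg_one_mul, one_mul, h]
    exact mul_right_cancel this
  have h5 : -zg ≠ 1 := by
    intro h; apply h3; rw [← h, neg_neg]
  have h6 : -zg ≠ -1 := by
    intro h; apply h2; exact neg_injective h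
  rw [Set.ncard_insert_of_notMem, Set.ncard_insert_of_notMem, Set.ncard_pair]
  · exact h4.symm
  · simp only [Set.mem_insert_iff, Set.mem_singleton_iff, not_or]
    exact ⟨h3.symm, h6.symm⟩
  · simp only [Set.mem_insert_iff, Set.mem_singleton_iff, not_or]
    exact ⟨h1, h2.symm, h5.symm⟩

theorem GData.scalars_mem (d : GData R ζ zg) {s : GL (Fin 4) F}
    (hs : s = 1 ∨ s = -1 ∨ s = zg ∨ s = -zg) : s ∈ R ∧ ∀ g : GL (Fin 4) F, s * g = g * s := by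
  rcases hs with rfl | rfl | rfl | rfl
  · exact ⟨R.one_mem, fun g => by rw [one_mul, mul_one]⟩
  · exact ⟨d.neg_mem, fun g => by rw [neg_one_mul, mul_neg_one]⟩
  · exact ⟨d.zg_mem, d.zg_comm⟩
  · refine ⟨?_, fun g => by rw [neg_mul, mul_neg, d.zg_comm]⟩
    have : -zg = (-1) * zg := by rw [neg_one_mul]
    rw [this]
    exact R.mul_mem d.neg_mem d.zg_mem

theorem exists_basis (d : GData R ζ zg) : ∃ a₁ b₁ a₂ b₂ : GL (Fin 4) F, Basis R ζ zg a₁ b₁ a₂ b₂ := by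
  classical
  have hfin := d.fin
  -- a₁
  obtain ⟨g₀, hg₀, hns₀⟩ := d.exists_ns
  obtain ⟨a₁, ha₁, ha₁sq, ha₁g⟩ := d.exists_invol hg₀
  have hnsa₁ : NS a₁ := by
    rcases ha₁g with rfl | rfl
    · exact hns₀
    · exact (d.zg_ns_iff g₀).mpr hns₀
  -- b₁
  obtain ⟨h₀, hh₀, hanti₀⟩ := d.exists_anti ha₁ hnsa₁
  obtain ⟨b₁, hb₁, hb₁sq, hb₁h⟩ := d.exists_invol hh₀
  have anti₁ : a₁ * b₁ = -(b₁ * a₁) := by
    rcases hb₁h with rfl | rfl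
    · exact hanti₀
    · exact d.anti_zg hanti₀
  have hb₁a₁ : b₁ * a₁ = -(a₁ * b₁) := by rw [anti₁, neg_neg]
  -- the chain of centralizers
  set C₁ : Subgroup (GL (Fin 4) F) := R ⊓ Subgroup.centralizer ({a₁} : Set (GL (Fin 4) F)) with hC₁
  set D : Subgroup (GL (Fin 4) F) := C₁ ⊓ Subgroup.centralizer ({b₁} : Set (GL (Fin 4) F)) with hD
  have hC₁R : C₁ ≤ R := inf_le_left
  have hDC₁ : D ≤ C₁ := inf_le_left
  have hDR : D ≤ R := hDC₁.trans hC₁R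
  have hfinC₁ : Finite C₁ := finite_of_le hfin hC₁R
  have hfinD : Finite D := finite_of_le hfin hDR
  have hcardC₁ : Nat.card R = 2 * Nat.card C₁ :=
    card_eq_two_mul R a₁ (fun s hs => d.comm s hs a₁ ha₁) d.neg_ne b₁ hb₁ hb₁a₁
  have ha₁C₁ : a₁ ∈ C₁ := mem_inf_centralizer.mpr ⟨ha₁, rfl⟩
  have hcardD : Nat.card C₁ = 2 * Nat.card D :=
    card_eq_two_mul C₁ b₁ (fun s hs => d.comm s (hC₁R hs) b₁ hb₁) d.neg_ne a₁ ha₁C₁ anti₁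
  have hDcard : Nat.card D = 16 := by
    have := d.data.card
    omega
  have hmemD : ∀ g : GL (Fin 4) F, g ∈ D ↔ g ∈ R ∧ g * a₁ = a₁ * g ∧ g * b₁ = b₁ * g := by
    intro g
    rw [hD, mem_inf_centralizer, hC₁, mem_inf_centralizer, and_assoc]
  -- a nonscalar element of D
  obtain ⟨d₀, hd₀, hnsd₀⟩ : ∃ d₀ ∈ D, NS d₀ := by
    by_contra hcon
    push Not at hcon
    have hsub : (D : Set (GL (Fin 4) F)) ⊆ ({1, -1, zg, -zg} : Set (GL (Fin 4) F)) := by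
      intro g hg
      have := hcon g hg
      unfold NS at this
      push Not at this
      obtain ⟨c, hc⟩ := this
      have := d.scalar_mem (hDR hg) hc
      simpa using this
    have h1 := Set.ncard_le_ncard hsub (Set.toFinite _)
    rw [d.four_distinct] at h1
    have h2 : Nat.card D = (D : Set (GL (Fin 4) F)).ncard := (_root_.Nat.card_coe_set_eq _)
    omega
  have hzgD : zg ∈ D := (hmemD zg).mpr ⟨d.zg_mem, d.zg_comm a₁, d.zg_comm b₁⟩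
  obtain ⟨a₂, ha₂R, ha₂sq, ha₂g⟩ := d.exists_invol (hDR hd₀)
  have ha₂D : a₂ ∈ D := by
    rcases ha₂g with rfl | rfl
    · exact hd₀
    · exact D.mul_mem hzgD hd₀
  have hnsa₂ : NS a₂ := by
    rcases ha₂g with rfl | rfl
    · exact hnsd₀
    · exact (d.zg_ns_iff d₀).mpr hnsd₀
  obtain ⟨-, ha₂a₁, ha₂b₁⟩ := (hmemD a₂).mp ha₂D
  -- b₂
  obtain ⟨h₁, hh₁, hanti₁⟩ := d.exists_anti ha₂R hnsa₂
  -- move h₁ into D
  obtain ⟨e, he⟩ := fix_comm anti₁ (d.comm h₁ hh₁ a₁ ha₁)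
  have hh₂R : h₁ * b₁ ^ e ∈ R := R.mul_mem hh₁ (R.pow_mem hb₁ e)
  obtain ⟨e', he'⟩ := fix_comm hb₁a₁ (d.comm (h₁ * b₁ ^ e) hh₂R b₁ hb₁)
  set h₃ := h₁ * b₁ ^ e * a₁ ^ e' with hh₃
  have hh₃R : h₃ ∈ R := R.mul_mem hh₂R (R.pow_mem ha₁ e')
  have hh₃a₁ : h₃ * a₁ = a₁ * h₃ := by
    calc h₃ * a₁ = h₁ * b₁ ^ e * (a₁ ^ e' * a₁) := by rw [hh₃]; group
      _ = h₁ * b₁ ^ e * (a₁ * a₁ ^ e') := by rw [← pow_succ, ← pow_succ']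
      _ = (h₁ * b₁ ^ e * a₁) * a₁ ^ e' := by group
      _ = a₁ * (h₁ * b₁ ^ e) * a₁ ^ e' := by rw [he]
      _ = a₁ * h₃ := by rw [hh₃]; group
  have hh₃D : h₃ ∈ D := (hmemD h₃).mpr ⟨hh₃R, hh₃a₁, he'⟩
  have hanti₃ : a₂ * h₃ = -(h₃ * a₂) := by
    have hb : b₁ ^ e * a₂ = a₂ * b₁ ^ e := comm_pow_of_comm ha₂b₁.symm e
    have ha : a₁ ^ e' * a₂ = a₂ * a₁ ^ e' := comm_pow_of_comm ha₂a₁.symm e'
    rw [hh₃]
    calc a₂ * (h₁ * b₁ ^ e * a₁ ^ e') = (a₂ * h₁) * b₁ ^ e * a₁ ^ e' := by group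
      _ = -(h₁ * (a₂ * b₁ ^ e) * a₁ ^ e') := by rw [hanti₁]; simp only [neg_mul, mul_assoc]
      _ = -(h₁ * b₁ ^ e * (a₂ * a₁ ^ e')) := by rw [← hb]; simp only [mul_assoc]
      _ = -(h₁ * b₁ ^ e * a₁ ^ e' * a₂) := by rw [← ha]; simp only [mul_assoc]
  obtain ⟨b₂, hb₂R, hb₂sq, hb₂h⟩ := d.exists_invol hh₃R
  have hb₂D : b₂ ∈ D := by
    rcases hb₂h with rfl | rfl
    · exact hh₃D
    · exact D.mul_mem hzgD hh₃D
  have anti₂ : a₂ * b₂ = -(b₂ * a₂) := by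
    rcases hb₂h with rfl | rfl
    · exact hanti₃
    · exact d.anti_zg hanti₃
  have hb₂a₂ : b₂ * a₂ = -(a₂ * b₂) := by rw [anti₂, neg_neg]
  obtain ⟨-, hb₂a₁, hb₂b₁⟩ := (hmemD b₂).mp hb₂D
  -- the rest of the chain
  set D₂ : Subgroup (GL (Fin 4) F) := D ⊓ Subgroup.centralizer ({a₂} : Set (GL (Fin 4) F)) with hD₂
  set D₃ : Subgroup (GL (Fin 4) F) := D₂ ⊓ Subgroup.centralizer ({b₂} : Set (GL (Fin 4) F)) with hD₃
  have hD₂D : D₂ ≤ D := inf_le_left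
  have hD₃D₂ : D₃ ≤ D₂ := inf_le_left
  have hfinD₂ : Finite D₂ := finite_of_le hfin (hD₂D.trans hDR)
  have hcardD₂ : Nat.card D = 2 * Nat.card D₂ :=
    card_eq_two_mul D a₂ (fun s hs => d.comm s (hDR hs) a₂ ha₂R) d.neg_ne b₂ hb₂D hb₂a₂
  have ha₂D₂ : a₂ ∈ D₂ := mem_inf_centralizer.mpr ⟨ha₂D, rfl⟩
  have hcardD₃ : Nat.card D₂ = 2 * Nat.card D₃ :=
    card_eq_two_mul D₂ b₂ (fun s hs => d.comm s (hDR (hD₂D hs)) b₂ hb₂R) d.neg_ne a₂ ha₂D₂ anti₂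
  have hD₃card : Nat.card D₃ = 4 := by omega
  have hmemD₃ : ∀ g : GL (Fin 4) F, g ∈ D₃ ↔ g ∈ D ∧ g * a₂ = a₂ * g ∧ g * b₂ = b₂ * g := by
    intro g
    rw [hD₃, mem_inf_centralizer, hD₂, mem_inf_centralizer, and_assoc]
  have hD₃eq : ∀ g ∈ D₃, g = 1 ∨ g = -1 ∨ g = zg ∨ g = -zg := by
    have hsub : ({1, -1, zg, -zg} : Set (GL (Fin 4) F)) ⊆ (D₃ : Set (GL (Fin 4) F)) := by
      intro s hs
      have hs' : s = 1 ∨ s = -1 ∨ s = zg ∨ s = -zg := by simpa using hs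
      obtain ⟨h1, h2⟩ := d.scalars_mem hs'
      exact (hmemD₃ s).mpr ⟨(hmemD s).mpr ⟨h1, h2 a₁, h2 b₁⟩, h2 a₂, h2 b₂⟩
    have hfinD₃ : (D₃ : Set (GL (Fin 4) F)).Finite :=
      Set.Finite.subset (Set.toFinite (R : Set (GL (Fin 4) F))) (hD₃D₂.trans (hD₂D.trans hDR))
    have h2 : Nat.card D₃ = (D₃ : Set (GL (Fin 4) F)).ncard := (_root_.Nat.card_coe_set_eq _)
    have heq := Set.eq_of_subset_of_ncard_le hsub (by rw [d.four_distinct, ← h2, hD₃card]) hfinD₃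
    intro g hg
    have : g ∈ ({1, -1, zg, -zg} : Set (GL (Fin 4) F)) := by rw [heq]; exact hg
    simpa using this
  refine ⟨a₁, b₁, a₂, b₂, d, ha₁, hb₁, ha₂R, hb₂R, ha₁sq, hb₁sq, ha₂sq, hb₂sq, anti₁, anti₂,
    ha₂a₁.symm, hb₂a₁.symm, ha₂b₁.symm, hb₂b₁.symm, ?_⟩
  -- normal form
  intro g hg
  obtain ⟨e₁, he₁⟩ := fix_comm anti₁ (d.comm g hg a₁ ha₁)
  have hg₁R : g * b₁ ^ e₁ ∈ R := R.mul_mem hg (R.pow_mem hb₁ e₁)
  obtain ⟨e₂, he₂⟩ := fix_comm hb₁a₁ (d.comm (g * b₁ ^ e₁) hg₁R b₁ hb₁)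
  set g₂ := g * b₁ ^ e₁ * a₁ ^ e₂ with hg₂
  have hg₂R : g₂ ∈ R := R.mul_mem hg₁R (R.pow_mem ha₁ e₂)
  have hg₂a₁ : g₂ * a₁ = a₁ * g₂ := by
    calc g₂ * a₁ = g * b₁ ^ e₁ * (a₁ ^ e₂ * a₁) := by rw [hg₂]; group
      _ = g * b₁ ^ e₁ * (a₁ * a₁ ^ e₂) := by rw [← pow_succ, ← pow_succ']
      _ = (g * b₁ ^ e₁ * a₁) * a₁ ^ e₂ := by group
      _ = a₁ * (g * b₁ ^ e₁) * a₁ ^ e₂ := by rw [he₁]
      _ = a₁ * g₂ := by rw [hg₂]; group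
  have hg₂D : g₂ ∈ D := (hmemD g₂).mpr ⟨hg₂R, hg₂a₁, he₂⟩
  obtain ⟨e₃, he₃⟩ := fix_comm anti₂ (d.comm g₂ hg₂R a₂ ha₂R)
  have hg₃R : g₂ * b₂ ^ e₃ ∈ R := R.mul_mem hg₂R (R.pow_mem hb₂R e₃)
  obtain ⟨e₄, he₄⟩ := fix_comm hb₂a₂ (d.comm (g₂ * b₂ ^ e₃) hg₃R b₂ hb₂R)
  set g₄ := g₂ * b₂ ^ e₃ * a₂ ^ e₄ with hg₄
  have hg₄D : g₄ ∈ D := D.mul_mem (D.mul_mem hg₂D (D.pow_mem hb₂D e₃)) (D.pow_mem ha₂D e₄)
  have hg₄a₂ : g₄ * a₂ = a₂ * g₄ := by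
    calc g₄ * a₂ = g₂ * b₂ ^ e₃ * (a₂ ^ e₄ * a₂) := by rw [hg₄]; group
      _ = g₂ * b₂ ^ e₃ * (a₂ * a₂ ^ e₄) := by rw [← pow_succ, ← pow_succ']
      _ = (g₂ * b₂ ^ e₃ * a₂) * a₂ ^ e₄ := by group
      _ = a₂ * (g₂ * b₂ ^ e₃) * a₂ ^ e₄ := by rw [he₃]
      _ = a₂ * g₄ := by rw [hg₄]; group
  have hg₄D₃ : g₄ ∈ D₃ := (hmemD₃ g₄).mpr ⟨hg₄D, hg₄a₂, he₄⟩
  have hs := hD₃eq g₄ hg₄D₃
  refine ⟨g₄, hs, e₂, e₁, e₄, e₃, ?_⟩
  -- g = g₄ * (a₂^e₄ * b₂^e₃ * a₁^e₂ * b₁^e₁), using involutions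
  have hinv : ∀ (x : GL (Fin 4) F), x * x = 1 → ∀ e : ℕ, x ^ e * x ^ e = 1 := by
    intro x hx e
    rw [← pow_add, ← two_mul, pow_mul, pow_two, hx, one_pow]
  have h1 : g₄ * (a₂ ^ e₄ * b₂ ^ e₃ * a₁ ^ e₂ * b₁ ^ e₁) =
      g * (b₁ ^ e₁ * (a₁ ^ e₂ * (b₂ ^ e₃ * (a₂ ^ e₄ * a₂ ^ e₄) * b₂ ^ e₃) * a₁ ^ e₂) * b₁ ^ e₁) := by
    rw [hg₄, hg₂]
    have hc1 : b₂ ^ e₃ * a₁ ^ e₂ = a₁ ^ e₂ * b₂ ^ e₃ := by
      have h : Commute b₂ a₁ := hb₂a₁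
      exact (h.pow_pow e₃ e₂)
    have hc2 : a₂ ^ e₄ * a₁ ^ e₂ = a₁ ^ e₂ * a₂ ^ e₄ := by
      have h : Commute a₂ a₁ := ha₂a₁
      exact (h.pow_pow e₄ e₂)
    have hc3 : b₂ ^ e₃ * b₁ ^ e₁ = b₁ ^ e₁ * b₂ ^ e₃ := by
      have h : Commute b₂ b₁ := hb₂b₁
      exact (h.pow_pow e₃ e₁)
    have hc4 : a₂ ^ e₄ * b₁ ^ e₁ = b₁ ^ e₁ * a₂ ^ e₄ := by
      have h : Commute a₂ b₁ := ha₂b₁
      exact (h.pow_pow e₄ e₁)
    rw [hinv a₂ ha₂sq e₄, mul_one, hinv b₂ hb₂sq e₃, mul_one, hinv a₁ ha₁sq e₂, mul_one,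
      hinv b₁ hb₁sq e₁, mul_one]
    calc g * b₁ ^ e₁ * a₁ ^ e₂ * b₂ ^ e₃ * a₂ ^ e₄ * (a₂ ^ e₄ * b₂ ^ e₃ * a₁ ^ e₂ * b₁ ^ e₁)
        = g * b₁ ^ e₁ * a₁ ^ e₂ * b₂ ^ e₃ * (a₂ ^ e₄ * a₂ ^ e₄) * b₂ ^ e₃ * a₁ ^ e₂ * b₁ ^ e₁ := by
          group
      _ = g * b₁ ^ e₁ * a₁ ^ e₂ * (b₂ ^ e₃ * b₂ ^ e₃) * a₁ ^ e₂ * b₁ ^ e₁ := by
          rw [hinv a₂ ha₂sq e₄]; group
      _ = g * b₁ ^ e₁ * (a₁ ^ e₂ * a₁ ^ e₂) * b₁ ^ e₁ := by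
          rw [hinv b₂ hb₂sq e₃]; group
      _ = g * (b₁ ^ e₁ * b₁ ^ e₁) := by
          rw [hinv a₁ ha₁sq e₂]; group
      _ = g := by rw [hinv b₁ hb₁sq e₁, mul_one]
  rw [h1, hinv a₂ ha₂sq e₄, mul_one, hinv b₂ hb₂sq e₃, mul_one, hinv a₁ ha₁sq e₂, mul_one,
    hinv b₁ hb₁sq e₁, mul_one]

end Cfsg.Agent.Lib.Helper22.ES64
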