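import Mathlib
import Cfsg.Agent.Lib.Helper22.ES64D

/-!
# `4 ∘ 2^{1+4}` in `GL_4(F)`: Schur relation, trace identity and fixed point counting
-/

set_option autoImplicit false
open scoped MatrixGroups

namespace Cfsg.Agent.Lib.Helper22.ES64

section count

variable {G : Type*} [Group G]

/-- fixed point congruence for the conjugation action of `y` (with `y ^ r` centralizing `S`) on a
finite subgroup `S` normalized by `y` -/
theorem card_modEq_card_centralizer (S : Subgroup G) [Finite S] (y : G)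
    (hy : ∀ s ∈ S, y * s * y⁻¹ ∈ S) (r : ℕ) [hr : Fact r.Prime]
    (hyr : ∀ s ∈ S, y ^ r * s = s * y ^ r) :
    Nat.card S ≡ Nat.card (S ⊓ Subgroup.centralizer ({y} : Set G) : Subgroup G) [MOD r] := by
  classical
  have : Fintype S := Fintype.ofFinite S
  -- the permutation
  have hyinv : ∀ s ∈ S, y⁻¹ * s * y ∈ S := by
    -- conjugation by `y` is injective on the finite set `S`, hence surjective
    have hinj : Function.Injective (fun s : S => (⟨y * s * y⁻¹, hy s s.2⟩ : S)) := by
      intro s t hst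
      have := congrArg Subtype.val hst
      simp only [mul_left_inj, mul_right_inj] at this
      exact Subtype.ext this
    have hsurj := Finite.surjective_of_injective hinj
    intro s hs
    obtain ⟨t, ht⟩ := hsurj ⟨s, hs⟩
    have h1 : y * t * y⁻¹ = s := congrArg Subtype.val ht
    have h2 : y⁻¹ * s * y = t := by rw [← h1]; group
    rw [h2]; exact t.2
  let σ : Equiv.Perm S :=
    { toFun := fun s => ⟨y * s * y⁻¹, hy s s.2⟩
      invFun := fun s => ⟨y⁻¹ * s * y, hyinv s s.2⟩
      left_inv := fun s => by apply Subtype.ext; simp only; group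
      right_inv := fun s => by apply Subtype.ext; simp only; group }
  have hσpow : ∀ (n : ℕ) (s : S), ((σ ^ n) s : G) = y ^ n * s * (y ^ n)⁻¹ := by
    intro n
    induction n with
    | zero => intro s; simp
    | succ n ih =>
      intro s
      rw [pow_succ', Equiv.Perm.mul_apply]
      show y * ((σ ^ n) s : G) * y⁻¹ = _
      rw [ih s, pow_succ']
      group
  have hσ : σ ^ r ^ 1 = 1 := by
    rw [pow_one]
    ext s
    rw [hσpow r s, hyr s s.2, Equiv.Perm.one_apply]
    group
  have h1 := Equiv.Perm.card_compl_support_modEq hσ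
  have h2 : (σ.supportᶜ).card = Nat.card (S ⊓ Subgroup.centralizer ({y} : Set G) : Subgroup G) := by
    rw [← Nat.card_eq_finsetCard]
    apply Nat.card_congr
    refine
      { toFun := fun s => ⟨(s.1 : G), ?_⟩
        invFun := fun c => ⟨⟨c.1, (Subgroup.mem_inf.mp c.2).1⟩, ?_⟩
        left_inv := fun s => rfl
        right_inv := fun c => rfl }
    · have hs := s.2
      rw [Finset.mem_compl, Equiv.Perm.mem_support, not_not] at hs
      have h3 : y * (s.1 : G) * y⁻¹ = (s.1 : G) := congrArg Subtype.val hs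
      rw [Subgroup.mem_inf, Subgroup.mem_centralizer_iff]
      refine ⟨s.1.2, fun x hx => ?_⟩
      rw [Set.mem_singleton_iff] at hx
      subst hx
      calc x * (s.1 : G) = (x * (s.1 : G) * x⁻¹) * x := by group
        _ = (s.1 : G) * x := by rw [h3]
    · rw [Finset.mem_compl, Equiv.Perm.mem_support, not_not]
      apply Subtype.ext
      show y * c.1 * y⁻¹ = c.1
      have h3 := (Subgroup.mem_centralizer_iff.mp (Subgroup.mem_inf.mp c.2).2) y rfl
      rw [h3]; group
  rw [h2, ← Nat.card_eq_fintype_card] at h1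
  exact h1.symm

end count

section trace

variable {F : Type*} [Field F]
variable {R : Subgroup (GL (Fin 4) F)} {ζ : F} {zg : GL (Fin 4) F}

theorem GData.trace_eq_zero (d : GData R ζ zg) {g : GL (Fin 4) F} (hg : g ∈ R) (hns : NS g) :
    Matrix.trace (g : Matrix (Fin 4) (Fin 4) F) = 0 := by
  obtain ⟨h, hh, hanti⟩ := d.exists_anti hg hns
  have h1 : g = -(h * g * h⁻¹) := by
    calc g = (g * h) * h⁻¹ := by group
      _ = (-(h * g)) * h⁻¹ := by rw [hanti]
      _ = -(h * g * h⁻¹) := by rw [neg_mul]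
  have h2 := congrArg (fun x : GL (Fin 4) F => Matrix.trace (x : Matrix (Fin 4) (Fin 4) F)) h1
  simp only [Units.val_neg, Units.val_mul, Matrix.trace_neg] at h2
  rw [Matrix.trace_units_conj] at h2
  have h3 : (2 : F) * Matrix.trace (g : Matrix (Fin 4) (Fin 4) F) = 0 := by linear_combination h2
  rcases mul_eq_zero.mp h3 with h4 | h4
  · exact absurd h4 d.data.two
  · exact h4

/-- Schur's relation -/
theorem GData.schur (d : GData R ζ zg) [Fintype R] (X : Matrix (Fin 4) (Fin 4) F) :
    ∑ s : R, ((s : GL (Fin 4) F) : Matrix (Fin 4) (Fin 4) F) * X *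
        (((s : GL (Fin 4) F)⁻¹ : GL (Fin 4) F) : Matrix (Fin 4) (Fin 4) F) =
      (16 * Matrix.trace X) • (1 : Matrix (Fin 4) (Fin 4) F) := by
  classical
  set T : Matrix (Fin 4) (Fin 4) F := ∑ s : R, ((s : GL (Fin 4) F) : Matrix (Fin 4) (Fin 4) F) * X *
        (((s : GL (Fin 4) F)⁻¹ : GL (Fin 4) F) : Matrix (Fin 4) (Fin 4) F) with hT
  have hcomm : ∀ t ∈ R, T * (t : Matrix (Fin 4) (Fin 4) F) = (t : Matrix (Fin 4) (Fin 4) F) * T := by
    intro t ht
    -- t * T * t⁻¹ = T
    have h1 : (t : Matrix (Fin 4) (Fin 4) F) * T * ((t⁻¹ : GL (Fin 4) F) : Matrix (Fin 4) (Fin 4) F) = T := by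
      rw [hT, Finset.mul_sum, Finset.sum_mul]
      refine Fintype.sum_equiv (Equiv.mulLeft (⟨t, ht⟩ : R)) _ _ (fun s => ?_)
      simp only [Equiv.coe_mulLeft, Subgroup.coe_mul, mul_inv_rev, Units.val_mul]
      simp only [Matrix.mul_assoc]
    calc T * (t : Matrix (Fin 4) (Fin 4) F)
        = ((t : Matrix (Fin 4) (Fin 4) F) * T * ((t⁻¹ : GL (Fin 4) F) : Matrix (Fin 4) (Fin 4) F)) *
            (t : Matrix (Fin 4) (Fin 4) F) := by rw [h1]
      _ = (t : Matrix (Fin 4) (Fin 4) F) * T := by
        rw [Matrix.mul_assoc, ← Units.val_mul, inv_mul_cancel, Units.val_one, Matrix.mul_one]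
  obtain ⟨c, hc⟩ := d.data.irr T hcomm
  have htr : Matrix.trace T = 64 * Matrix.trace X := by
    rw [hT, Matrix.trace_sum]
    have : ∀ s : R, Matrix.trace (((s : GL (Fin 4) F) : Matrix (Fin 4) (Fin 4) F) * X *
        (((s : GL (Fin 4) F)⁻¹ : GL (Fin 4) F) : Matrix (Fin 4) (Fin 4) F)) = Matrix.trace X :=
      fun s => Matrix.trace_units_conj _ _
    rw [Finset.sum_congr rfl (fun s _ => this s), Finset.sum_const, Finset.card_univ,
      ← Nat.card_eq_fintype_card, d.data.card]
    simp
  rw [hc, Matrix.trace_smul, Matrix.trace_one, Fintype.card_fin, smul_eq_mul] at htr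
  have h4 : (4 : F) ≠ 0 := by
    have : (4 : F) = 2 * 2 := by norm_num
    rw [this]
    exact mul_ne_zero d.data.two d.data.two
  have hc' : c = 16 * Matrix.trace X := by
    have : (4 : F) * c = 4 * (16 * Matrix.trace X) := by
      push_cast at htr
      linear_combination htr
    exact mul_left_cancel₀ h4 this
  rw [hc, hc']


theorem scalar_comm {y : GL (Fin 4) F} {z : F}
    (hy : (y : Matrix (Fin 4) (Fin 4) F) = z • 1) (g : GL (Fin 4) F) : y * g = g * y := by
  apply Units.ext
  rw [Units.val_mul, Units.val_mul, hy, Matrix.smul_mul, Matrix.one_mul, Matrix.mul_smul,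
    Matrix.mul_one]

/-- the number of elements of `R` commuting with `y`, as a filter -/
theorem card_inf_centralizer_eq (R : Subgroup (GL (Fin 4) F)) [Fintype R] [DecidableEq (GL (Fin 4) F)]
    (y : GL (Fin 4) F) :
    Nat.card (R ⊓ Subgroup.centralizer ({y} : Set (GL (Fin 4) F)) : Subgroup (GL (Fin 4) F)) =
      (Finset.univ.filter (fun s : R => (s : GL (Fin 4) F) * y = y * s)).card := by
  rw [← Nat.card_eq_finsetCard]
  apply Nat.card_congr
  refine
    { toFun := fun c => ⟨⟨c.1, (mem_inf_centralizer.mp c.2).1⟩, ?_⟩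
      invFun := fun s => ⟨(s.1 : GL (Fin 4) F), ?_⟩
      left_inv := fun c => rfl
      right_inv := fun s => rfl }
  · rw [Finset.mem_filter]
    exact ⟨Finset.mem_univ _, (mem_inf_centralizer.mp c.2).2⟩
  · have := s.2
    rw [Finset.mem_filter] at this
    exact mem_inf_centralizer.mpr ⟨s.1.2, this.2⟩

/-- **Trace identity** for an element of the normalizer of `R` of odd order modulo scalars. -/
theorem GData.trace_identity (d : GData R ζ zg) {y : GL (Fin 4) F}
    (hy : y ∈ Subgroup.normalizer (R : Set (GL (Fin 4) F))) {r : ℕ} (hr : Odd r) {z : F}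
    (hyr : ((y ^ r : GL (Fin 4) F) : Matrix (Fin 4) (Fin 4) F) = z • 1) :
    4 * Matrix.trace (y : Matrix (Fin 4) (Fin 4) F) *
        Matrix.trace ((y⁻¹ : GL (Fin 4) F) : Matrix (Fin 4) (Fin 4) F) =
      ((Nat.card (R ⊓ Subgroup.centralizer ({y} : Set (GL (Fin 4) F)) :
        Subgroup (GL (Fin 4) F)) : ℕ) : F) := by
  classical
  have hfin := d.fin
  have : Fintype R := Fintype.ofFinite R
  have hsch := d.schur (y : Matrix (Fin 4) (Fin 4) F)
  have hyrc : ∀ g : GL (Fin 4) F, y ^ r * g = g * y ^ r := scalar_comm hyr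
  have hv : ∀ s : R, Matrix.trace (((s : GL (Fin 4) F) : Matrix (Fin 4) (Fin 4) F) *
      (y : Matrix (Fin 4) (Fin 4) F) *
      (((s : GL (Fin 4) F)⁻¹ : GL (Fin 4) F) : Matrix (Fin 4) (Fin 4) F) *
      ((y⁻¹ : GL (Fin 4) F) : Matrix (Fin 4) (Fin 4) F)) =
      if (s : GL (Fin 4) F) * y = y * s then (4 : F) else 0 := by
    intro s
    set v : GL (Fin 4) F := (s : GL (Fin 4) F) * y * (s : GL (Fin 4) F)⁻¹ * y⁻¹ with hvdef
    have hvM : ((s : GL (Fin 4) F) : Matrix (Fin 4) (Fin 4) F) *
      (y : Matrix (Fin 4) (Fin 4) F) *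
      (((s : GL (Fin 4) F)⁻¹ : GL (Fin 4) F) : Matrix (Fin 4) (Fin 4) F) *
      ((y⁻¹ : GL (Fin 4) F) : Matrix (Fin 4) (Fin 4) F) = (v : Matrix (Fin 4) (Fin 4) F) := by
      rw [hvdef]; simp only [Units.val_mul]
    rw [hvM]
    have hvR : v ∈ R := by
      have h1 : y * (s : GL (Fin 4) F)⁻¹ * y⁻¹ ∈ R :=
        (Subgroup.mem_normalizer_iff.mp hy _).mp (R.inv_mem s.2)
      have h2 : v = (s : GL (Fin 4) F) * (y * (s : GL (Fin 4) F)⁻¹ * y⁻¹) := by rw [hvdef]; group
      rw [h2]
      exact R.mul_mem s.2 h1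
    by_cases hc : (s : GL (Fin 4) F) * y = y * s
    · rw [if_pos hc]
      have : v = 1 := by rw [hvdef, hc]; group
      rw [this, Units.val_one, Matrix.trace_one, Fintype.card_fin]
      norm_num
    · rw [if_neg hc]
      apply d.trace_eq_zero hvR
      rintro ⟨c, hcv⟩
      apply hc
      have hv4 : v ^ 4 = 1 := by
        rcases d.scalar_mem hvR hcv with h | h | h | h <;> rw [h]
        · exact one_pow 4
        · exact Even.neg_one_pow (by decide)
        · have : zg ^ 4 = (zg * zg) * (zg * zg) := by simp [pow_succ, mul_assoc]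
          rw [this, d.zg_sq]; simp
        · have : (-zg) ^ 4 = ((-zg) * (-zg)) * ((-zg) * (-zg)) := by simp [pow_succ, mul_assoc]
          rw [this, neg_mul_neg, d.zg_sq]; simp
      have hvc : ∀ g : GL (Fin 4) F, v * g = g * v := scalar_comm hcv
      have h1 : (s : GL (Fin 4) F) * y * (s : GL (Fin 4) F)⁻¹ = v * y := by rw [hvdef]; group
      have h2 : ((s : GL (Fin 4) F) * y * (s : GL (Fin 4) F)⁻¹) ^ r = y ^ r := by
        rw [conj_pow, ← hyrc]; group
      have h3 : (v * y) ^ r = v ^ r * y ^ r := by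
        have hcm : Commute v y := hvc y
        exact hcm.mul_pow r
      rw [h1, h3] at h2
      have hvr : v ^ r = 1 := by
        have : v ^ r * y ^ r = 1 * y ^ r := by rw [h2, one_mul]
        exact mul_right_cancel this
      have hord : orderOf v ∣ Nat.gcd r 4 :=
        Nat.dvd_gcd (orderOf_dvd_of_pow_eq_one hvr) (orderOf_dvd_of_pow_eq_one hv4)
      have hcop : Nat.gcd r 4 = 1 := by
        have h4 : (4 : ℕ) = 2 ^ 2 := by norm_num
        rw [h4]
        exact Nat.Coprime.pow_right 2 (Nat.coprime_two_right.mpr hr)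
      rw [hcop, Nat.dvd_one, orderOf_eq_one_iff] at hord
      have : (s : GL (Fin 4) F) * y * (s : GL (Fin 4) F)⁻¹ = y := by rw [h1, hord, one_mul]
      calc (s : GL (Fin 4) F) * y = ((s : GL (Fin 4) F) * y * (s : GL (Fin 4) F)⁻¹) * s := by group
        _ = y * s := by rw [this]
  -- sum both sides
  have hsum : ∑ s : R, Matrix.trace (((s : GL (Fin 4) F) : Matrix (Fin 4) (Fin 4) F) *
      (y : Matrix (Fin 4) (Fin 4) F) *
      (((s : GL (Fin 4) F)⁻¹ : GL (Fin 4) F) : Matrix (Fin 4) (Fin 4) F) *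
      ((y⁻¹ : GL (Fin 4) F) : Matrix (Fin 4) (Fin 4) F)) =
      16 * Matrix.trace (y : Matrix (Fin 4) (Fin 4) F) *
        Matrix.trace ((y⁻¹ : GL (Fin 4) F) : Matrix (Fin 4) (Fin 4) F) := by
    rw [← Matrix.trace_sum, ← Finset.sum_mul, hsch, Matrix.smul_mul, Matrix.one_mul,
      Matrix.trace_smul, smul_eq_mul]
  rw [Finset.sum_congr rfl (fun s _ => hv s), Finset.sum_ite, Finset.sum_const_zero, add_zero,
    Finset.sum_const, nsmul_eq_mul, ← card_inf_centralizer_eq] at hsum
  have h4 : (4 : F) ≠ 0 := by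
    have : (4 : F) = 2 * 2 := by norm_num
    rw [this]
    exact mul_ne_zero d.data.two d.data.two
  have : (4 : F) * (4 * Matrix.trace (y : Matrix (Fin 4) (Fin 4) F) *
        Matrix.trace ((y⁻¹ : GL (Fin 4) F) : Matrix (Fin 4) (Fin 4) F)) = 4 *
      ((Nat.card (R ⊓ Subgroup.centralizer ({y} : Set (GL (Fin 4) F)) :
        Subgroup (GL (Fin 4) F)) : ℕ) : F) := by
    linear_combination -hsum
  exact mul_left_cancel₀ h4 this

end trace

end Cfsg.Agent.Lib.Helper22.ES64
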