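import Mathlib
import Cfsg.Agent.Lib.Helper22.ES64E

/-!
# `4 ∘ 2^{1+4}` in `GL_4(F)`: elements of odd prime order (mod scalars) in the normalizer
-/

set_option autoImplicit false
open scoped MatrixGroups

namespace Cfsg.Agent.Lib.Helper22.ES64

variable {F : Type*} [Field F]
variable {R : Subgroup (GL (Fin 4) F)} {ζ : F} {zg : GL (Fin 4) F}

theorem GData.scalars_subset (d : GData R ζ zg) {S : Subgroup (GL (Fin 4) F)}
    (hS : ∀ s : GL (Fin 4) F, s ∈ R → (∀ g : GL (Fin 4) F, s * g = g * s) → s ∈ S) :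
    ({1, -1, zg, -zg} : Set (GL (Fin 4) F)) ⊆ (S : Set (GL (Fin 4) F)) := by
  intro s hs
  have hs' : s = 1 ∨ s = -1 ∨ s = zg ∨ s = -zg := by simpa using hs
  obtain ⟨h1, h2⟩ := d.scalars_mem hs'
  exact hS s h1 h2

theorem dvd_64_cases {k : ℕ} (hk : k ∣ 64) (h4 : 4 ≤ k) :
    k = 4 ∨ k = 8 ∨ k = 16 ∨ k = 32 ∨ k = 64 := by
  have hle : k ≤ 64 := Nat.le_of_dvd (by norm_num) hk
  interval_cases k <;> simp_all

theorem dvd_32_cases {k : ℕ} (hk : k ∣ 32) (h4 : 5 ≤ k) :
    k = 8 ∨ k = 16 ∨ k = 32 := by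
  have hle : k ≤ 32 := Nat.le_of_dvd (by norm_num) hk
  interval_cases k <;> simp_all

theorem GData.ns_of_not_mem (d : GData R ζ zg) {a : GL (Fin 4) F} (ha : a ∈ R)
    (h : a ∉ ({1, -1, zg, -zg} : Set (GL (Fin 4) F))) : NS a := by
  rintro ⟨c, hc⟩
  apply h
  have := d.scalar_mem ha hc
  simpa using this

/-- the basic facts on `k = |C_R(y)|` -/
theorem GData.centralizer_props (d : GData R ζ zg) {y : GL (Fin 4) F}
    (hy : y ∈ Subgroup.normalizer (R : Set (GL (Fin 4) F))) {r : ℕ} [hr : Fact r.Prime]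
    (hr2 : r ≠ 2) {z : F}
    (hyr : ((y ^ r : GL (Fin 4) F) : Matrix (Fin 4) (Fin 4) F) = z • 1) (hns : NS y) :
    ∃ k : ℕ, k = Nat.card (R ⊓ Subgroup.centralizer ({y} : Set (GL (Fin 4) F)) :
        Subgroup (GL (Fin 4) F)) ∧ (k = 4 ∨ k = 8 ∨ k = 16 ∨ k = 32) ∧ r ∣ 64 - k ∧
      4 * Matrix.trace (y : Matrix (Fin 4) (Fin 4) F) *
        Matrix.trace ((y⁻¹ : GL (Fin 4) F) : Matrix (Fin 4) (Fin 4) F) = (k : F) := by
  classical
  have hfin := d.fin
  set C : Subgroup (GL (Fin 4) F) := R ⊓ Subgroup.centralizer ({y} : Set (GL (Fin 4) F)) with hC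
  have hCR : C ≤ R := inf_le_left
  have hfinC : Finite C := finite_of_le hfin hCR
  have hodd : Odd r := hr.out.odd_of_ne_two hr2
  refine ⟨Nat.card C, rfl, ?_, ?_, d.trace_identity hy hodd hyr⟩
  · have h1 : Nat.card C ∣ 64 := by
      have := Subgroup.card_dvd_of_le hCR
      rwa [d.data.card] at this
    have h2 : 4 ≤ Nat.card C := by
      have hsub := d.scalars_subset (S := C) (fun s hs hc =>
        mem_inf_centralizer.mpr ⟨hs, hc y⟩)
      have hfinC' : (C : Set (GL (Fin 4) F)).Finite :=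
        Set.Finite.subset (Set.toFinite (R : Set (GL (Fin 4) F))) hCR
      have := Set.ncard_le_ncard hsub hfinC'
      rw [d.four_distinct] at this
      have h3 : Nat.card C = (C : Set (GL (Fin 4) F)).ncard := (_root_.Nat.card_coe_set_eq _)
      omega
    rcases dvd_64_cases h1 h2 with h | h | h | h | h
    · exact Or.inl h
    · exact Or.inr (Or.inl h)
    · exact Or.inr (Or.inr (Or.inl h))
    · exact Or.inr (Or.inr (Or.inr h))
    · exfalso
      apply hns
      apply d.scalar_of_central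
      intro s hs
      have hCeq : C = R := by
        apply Subgroup.eq_of_le_of_card_ge hCR
        rw [h, d.data.card]
      have : s ∈ C := by rw [hCeq]; exact hs
      exact ((mem_inf_centralizer.mp this).2).symm
  · have hmod := card_modEq_card_centralizer R y
      (fun s hs => (Subgroup.mem_normalizer_iff.mp hy s).mp hs) r
      (fun s _ => scalar_comm hyr s)
    rw [d.data.card] at hmod
    have hle : Nat.card C ≤ 64 := by
      have := Subgroup.card_le_of_le hCR
      rwa [d.data.card] at this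
    exact (Nat.modEq_iff_dvd' hle).mp hmod.symm

/-- no elements of prime order `r ≥ 7` modulo scalars in the normalizer -/
theorem GData.no_large_prime (d : GData R ζ zg) {y : GL (Fin 4) F}
    (hy : y ∈ Subgroup.normalizer (R : Set (GL (Fin 4) F))) {r : ℕ} [hr : Fact r.Prime]
    (hr7 : 7 ≤ r) {z : F}
    (hyr : ((y ^ r : GL (Fin 4) F) : Matrix (Fin 4) (Fin 4) F) = z • 1) (hns : NS y) : False := by
  classical
  have hfin := d.fin
  obtain ⟨k, hk, hcases, hdvd, -⟩ := d.centralizer_props hy (by omega) hyr hns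
  -- only r = 7, k = 8 survives
  have hk8 : k = 8 ∧ r = 7 := by
    rcases hcases with h | h | h | h <;> subst h
    · exfalso
      have h60 : r ∣ 60 := hdvd
      have h1 : (60 : ℕ) = 2 ^ 2 * (3 * 5) := by norm_num
      rw [h1] at h60
      rcases (Nat.Prime.dvd_mul hr.out).mp h60 with h2 | h2
      · have := Nat.le_of_dvd (by norm_num) (hr.out.dvd_of_dvd_pow h2); omega
      · rcases (Nat.Prime.dvd_mul hr.out).mp h2 with h3 | h3
        · have := Nat.le_of_dvd (by norm_num) h3; omega
        · have := Nat.le_of_dvd (by norm_num) h3; omega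
    · refine ⟨rfl, ?_⟩
      have h56 : r ∣ 56 := hdvd
      have h1 : (56 : ℕ) = 2 ^ 3 * 7 := by norm_num
      rw [h1] at h56
      rcases (Nat.Prime.dvd_mul hr.out).mp h56 with h2 | h2
      · have := Nat.le_of_dvd (by norm_num) (hr.out.dvd_of_dvd_pow h2); omega
      · have := Nat.le_of_dvd (by norm_num) h2; omega
    · exfalso
      have h48 : r ∣ 48 := hdvd
      have h1 : (48 : ℕ) = 2 ^ 4 * 3 := by norm_num
      rw [h1] at h48
      rcases (Nat.Prime.dvd_mul hr.out).mp h48 with h2 | h2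
      · have := Nat.le_of_dvd (by norm_num) (hr.out.dvd_of_dvd_pow h2); omega
      · have := Nat.le_of_dvd (by norm_num) h2; omega
    · exfalso
      have h32 : r ∣ 32 := hdvd
      have h1 : (32 : ℕ) = 2 ^ 5 := by norm_num
      rw [h1] at h32
      have := Nat.le_of_dvd (by norm_num) (hr.out.dvd_of_dvd_pow h32); omega
  obtain ⟨hk8', hr7'⟩ := hk8
  subst hr7'
  set C : Subgroup (GL (Fin 4) F) := R ⊓ Subgroup.centralizer ({y} : Set (GL (Fin 4) F)) with hC
  have hCR : C ≤ R := inf_le_left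
  have hCcard : Nat.card C = 8 := by rw [← hk, hk8']
  -- a nonscalar element of C
  obtain ⟨a, haC, hnsa⟩ : ∃ a ∈ C, a ∉ ({1, -1, zg, -zg} : Set (GL (Fin 4) F)) := by
    by_contra hcon
    push Not at hcon
    have hsub : (C : Set (GL (Fin 4) F)) ⊆ ({1, -1, zg, -zg} : Set (GL (Fin 4) F)) :=
      fun g hg => hcon g hg
    have h1 := Set.ncard_le_ncard hsub (Set.toFinite _)
    rw [d.four_distinct] at h1
    have h2 : Nat.card C = (C : Set (GL (Fin 4) F)).ncard := (_root_.Nat.card_coe_set_eq _)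
    omega
  have haR : a ∈ R := hCR haC
  have hay : a * y = y * a := (mem_inf_centralizer.mp haC).2
  have hNSa : NS a := d.ns_of_not_mem haR hnsa
  obtain ⟨b, hb, hab⟩ := d.exists_anti haR hNSa
  have hba : b * a = -(a * b) := by rw [hab, neg_neg]
  set S : Subgroup (GL (Fin 4) F) := R ⊓ Subgroup.centralizer ({a} : Set (GL (Fin 4) F)) with hS
  have hSR : S ≤ R := inf_le_left
  have hfinS : Finite S := finite_of_le hfin hSR
  have hScard : Nat.card R = 2 * Nat.card S :=
    card_eq_two_mul R a (fun s hs => d.comm s hs a haR) d.neg_ne b hb hba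
  have hS32 : Nat.card S = 32 := by
    have := d.data.card
    omega
  -- y normalizes S
  have hyS : ∀ s ∈ S, y * s * y⁻¹ ∈ S := by
    intro s hs
    obtain ⟨hsR, hsa⟩ := mem_inf_centralizer.mp hs
    refine mem_inf_centralizer.mpr ⟨(Subgroup.mem_normalizer_iff.mp hy s).mp hsR, ?_⟩
    have h1 : y⁻¹ * a = a * y⁻¹ := by
      have : y⁻¹ * a = y⁻¹ * (a * y) * y⁻¹ := by group
      rw [this, hay]; group
    calc y * s * y⁻¹ * a = y * s * (y⁻¹ * a) := by group
      _ = y * (s * a) * y⁻¹ := by rw [h1]; group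
      _ = (y * a) * s * y⁻¹ := by rw [hsa]; group
      _ = a * (y * s * y⁻¹) := by rw [← hay]; group
  have hmod := card_modEq_card_centralizer S y hyS 7 (fun s _ => scalar_comm hyr s)
  set T : Subgroup (GL (Fin 4) F) := S ⊓ Subgroup.centralizer ({y} : Set (GL (Fin 4) F)) with hT
  have hTS : T ≤ S := inf_le_left
  have hTdvd : Nat.card T ∣ 32 := by
    have := Subgroup.card_dvd_of_le hTS
    rwa [hS32] at this
  have hT5 : 5 ≤ Nat.card T := by
    have hsub : (insert a ({1, -1, zg, -zg} : Set (GL (Fin 4) F))) ⊆ (T : Set (GL (Fin 4) F)) := by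
      intro s hs
      rcases hs with rfl | hs
      · exact mem_inf_centralizer.mpr ⟨mem_inf_centralizer.mpr ⟨haR, rfl⟩, hay⟩
      · exact d.scalars_subset (S := T) (fun s hs hc =>
          mem_inf_centralizer.mpr ⟨mem_inf_centralizer.mpr ⟨hs, hc a⟩, hc y⟩) hs
    have hfinT : (T : Set (GL (Fin 4) F)).Finite :=
      Set.Finite.subset (Set.toFinite (R : Set (GL (Fin 4) F))) (hTS.trans hSR)
    have h1 := Set.ncard_le_ncard hsub hfinT
    rw [Set.ncard_insert_of_notMem hnsa (Set.toFinite _), d.four_distinct] at h1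
    have h3 : Nat.card T = (T : Set (GL (Fin 4) F)).ncard := (_root_.Nat.card_coe_set_eq _)
    omega
  rw [hS32] at hmod
  have hT32 : Nat.card T = 32 := by
    rcases dvd_32_cases hTdvd hT5 with h | h | h
    · rw [h] at hmod; exact absurd hmod (by decide)
    · rw [h] at hmod; exact absurd hmod (by decide)
    · exact h
  -- then S ≤ C, impossible
  have hTeq : T = S := by
    apply Subgroup.eq_of_le_of_card_ge hTS
    rw [hT32, hS32]
  have hSC : S ≤ C := by
    intro s hs
    have : s ∈ T := by rw [hTeq]; exact hs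
    exact mem_inf_centralizer.mpr ⟨hSR hs, (mem_inf_centralizer.mp this).2⟩
  have hfinC : Finite C := finite_of_le hfin hCR
  have := Subgroup.card_le_of_le hSC
  rw [hS32, hCcard] at this
  omega

end Cfsg.Agent.Lib.Helper22.ES64
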