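import Mathlib
import Cfsg.Agent.Lib.Helper22.ES64F

/-!
# `4 ∘ 2^{1+4}` in `GL_4(F)`: tools for building elements of the normalizer
-/

set_option autoImplicit false
open scoped MatrixGroups

namespace Cfsg.Agent.Lib.Helper22.ES64

variable {F : Type*} [Field F]
variable {R : Subgroup (GL (Fin 4) F)} {ζ : F} {zg : GL (Fin 4) F}

/-- for a finite subgroup, mapping it into itself under conjugation is enough to normalize -/
theorem mem_normalizer_of_conj_mem (hfin : Finite R) {n : GL (Fin 4) F}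
    (h : ∀ g ∈ R, n * g * n⁻¹ ∈ R) : n ∈ Subgroup.normalizer (R : Set (GL (Fin 4) F)) := by
  rw [Subgroup.mem_normalizer_iff]
  intro g
  constructor
  · exact h g
  · intro hg
    let φ : R → R := fun s => ⟨n * s * n⁻¹, h s s.2⟩
    have hinj : Function.Injective φ := by
      intro s t hst
      have h1 := congrArg Subtype.val hst
      simp only [φ] at h1
      apply Subtype.ext
      exact mul_left_cancel (mul_right_cancel h1)
    have hsurj := Finite.surjective_of_injective hinj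
    obtain ⟨s, hs⟩ := hsurj ⟨n * g * n⁻¹, hg⟩
    have h1 := congrArg Subtype.val hs
    simp only [φ] at h1
    have h2 : (s : GL (Fin 4) F) = g := mul_left_cancel (mul_right_cancel h1)
    rw [← h2]; exact s.2

/-- scalar matrices as elements of `GL_4(F)` -/
noncomputable def sc (c : F) (hc : c ≠ 0) : GL (Fin 4) F :=
  ⟨c • 1, c⁻¹ • 1, by rw [Matrix.smul_mul, Matrix.one_mul, smul_smul, mul_inv_cancel₀ hc, one_smul],
    by rw [Matrix.smul_mul, Matrix.one_mul, smul_smul, inv_mul_cancel₀ hc, one_smul]⟩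

theorem sc_val (c : F) (hc : c ≠ 0) :
    ((sc c hc : GL (Fin 4) F) : Matrix (Fin 4) (Fin 4) F) = c • 1 := rfl

theorem sc_comm (c : F) (hc : c ≠ 0) (g : GL (Fin 4) F) : sc c hc * g = g * sc c hc :=
  scalar_comm (sc_val c hc) g

theorem sc_mul_sc (c c' : F) (hc : c ≠ 0) (hc' : c' ≠ 0) :
    sc c hc * sc c' hc' = sc (c * c') (mul_ne_zero hc hc') := by
  apply Units.ext
  rw [Units.val_mul, sc_val, sc_val, sc_val, Matrix.smul_mul, Matrix.one_mul, smul_smul]

theorem sc_one : sc (1 : F) one_ne_zero = 1 := by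
  apply Units.ext
  rw [sc_val, one_smul, Units.val_one]

theorem sc_pow (c : F) (hc : c ≠ 0) (k : ℕ) : sc c hc ^ k = sc (c ^ k) (pow_ne_zero k hc) := by
  apply Units.ext
  rw [Units.val_pow_eq_pow_val, sc_val, sc_val, smul_pow, one_pow]

theorem sc_inv (c : F) (hc : c ≠ 0) : (sc c hc)⁻¹ = sc c⁻¹ (inv_ne_zero hc) := by
  rw [inv_eq_iff_mul_eq_one, sc_mul_sc]
  apply Units.ext
  rw [sc_val, mul_inv_cancel₀ hc, one_smul, Units.val_one]

theorem sc_mem_normalizer (c : F) (hc : c ≠ 0) :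
    sc c hc ∈ Subgroup.normalizer (R : Set (GL (Fin 4) F)) := by
  rw [Subgroup.mem_normalizer_iff]
  intro g
  have : sc c hc * g * (sc c hc)⁻¹ = g := by rw [sc_comm]; group
  rw [this]

theorem trace_sc_mul (c : F) (hc : c ≠ 0) (g : GL (Fin 4) F) :
    Matrix.trace ((sc c hc * g : GL (Fin 4) F) : Matrix (Fin 4) (Fin 4) F) =
      c * Matrix.trace (g : Matrix (Fin 4) (Fin 4) F) := by
  rw [Units.val_mul, sc_val, Matrix.smul_mul, Matrix.one_mul, Matrix.trace_smul, smul_eq_mul]

/-- a unit with matrix `1 + w`, for `w * w = -1` -/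
theorem exists_rot (h2 : (2 : F) ≠ 0) {w : GL (Fin 4) F} (hw : w * w = -1) :
    ∃ u : GL (Fin 4) F, (u : Matrix (Fin 4) (Fin 4) F) = 1 + (w : Matrix (Fin 4) (Fin 4) F) := by
  have hW : (w : Matrix (Fin 4) (Fin 4) F) * (w : Matrix (Fin 4) (Fin 4) F) = -1 := by
    have := congrArg (fun x : GL (Fin 4) F => (x : Matrix (Fin 4) (Fin 4) F)) hw
    simpa using this
  have key : (1 + (w : Matrix (Fin 4) (Fin 4) F)) * (1 - (w : Matrix (Fin 4) (Fin 4) F)) =
      (2 : F) • 1 := by
    rw [mul_sub, add_mul, add_mul, hW, one_mul, mul_one, one_mul]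
    rw [two_smul]
    abel
  have key' : (1 - (w : Matrix (Fin 4) (Fin 4) F)) * (1 + (w : Matrix (Fin 4) (Fin 4) F)) =
      (2 : F) • 1 := by
    rw [mul_add, sub_mul, sub_mul, hW, one_mul, mul_one, one_mul]
    rw [two_smul]
    abel
  refine ⟨⟨1 + (w : Matrix (Fin 4) (Fin 4) F), (2 : F)⁻¹ • (1 - (w : Matrix (Fin 4) (Fin 4) F)),
    ?_, ?_⟩, rfl⟩
  · rw [Matrix.mul_smul, key, smul_smul, inv_mul_cancel₀ h2, one_smul]
  · rw [Matrix.smul_mul, key', smul_smul, inv_mul_cancel₀ h2, one_smul]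

theorem rot_comm {u w g : GL (Fin 4) F}
    (hu : (u : Matrix (Fin 4) (Fin 4) F) = 1 + (w : Matrix (Fin 4) (Fin 4) F))
    (h : g * w = w * g) : u * g = g * u := by
  apply Units.ext
  have hM := congrArg (fun x : GL (Fin 4) F => (x : Matrix (Fin 4) (Fin 4) F)) h
  simp only [Units.val_mul] at hM
  rw [Units.val_mul, Units.val_mul, hu, add_mul, mul_add, one_mul, mul_one, hM]

theorem rot_anti {u w g : GL (Fin 4) F}
    (hu : (u : Matrix (Fin 4) (Fin 4) F) = 1 + (w : Matrix (Fin 4) (Fin 4) F))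
    (hw : w * w = -1) (h : g * w = -(w * g)) : u * g = (w * g) * u := by
  apply Units.ext
  have hM := congrArg (fun x : GL (Fin 4) F => (x : Matrix (Fin 4) (Fin 4) F)) h
  have hW := congrArg (fun x : GL (Fin 4) F => (x : Matrix (Fin 4) (Fin 4) F)) hw
  simp only [Units.val_mul, Units.val_neg, Units.val_one] at hM hW
  rw [Units.val_mul, Units.val_mul, Units.val_mul, hu, add_mul, mul_add, one_mul, mul_one,
    Matrix.mul_assoc, hM, mul_neg, ← Matrix.mul_assoc, hW, neg_mul, one_mul, neg_neg, add_comm]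

theorem rot_sq {u w : GL (Fin 4) F}
    (hu : (u : Matrix (Fin 4) (Fin 4) F) = 1 + (w : Matrix (Fin 4) (Fin 4) F))
    (hw : w * w = -1) (h2 : (2 : F) ≠ 0) : u * u = sc 2 h2 * w := by
  apply Units.ext
  have hW := congrArg (fun x : GL (Fin 4) F => (x : Matrix (Fin 4) (Fin 4) F)) hw
  simp only [Units.val_mul, Units.val_neg, Units.val_one] at hW
  rw [Units.val_mul, Units.val_mul, sc_val, hu, add_mul, mul_add, mul_add, one_mul, mul_one,
    one_mul, hW, Matrix.smul_mul, Matrix.one_mul, two_smul]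
  abel

theorem GData.rot_mem_normalizer (d : GData R ζ zg) {u w : GL (Fin 4) F}
    (hu : (u : Matrix (Fin 4) (Fin 4) F) = 1 + (w : Matrix (Fin 4) (Fin 4) F))
    (hw : w * w = -1) (hwR : w ∈ R) : u ∈ Subgroup.normalizer (R : Set (GL (Fin 4) F)) := by
  apply mem_normalizer_of_conj_mem d.fin
  intro g hg
  rcases d.comm g hg w hwR with h | h
  · rw [rot_comm hu h]
    have : g * u * u⁻¹ = g := by group
    rw [this]; exact hg
  · rw [rot_anti hu hw h]
    have : w * g * u * u⁻¹ = w * g := by group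
    rw [this]; exact R.mul_mem hwR hg

/-- the rotation in the plane of two anticommuting involutions -/
theorem rotact_sq {s t : GL (Fin 4) F} (hs : s * s = 1) (ht : t * t = 1)
    (hst : s * t = -(t * s)) : (t * s) * (t * s) = -1 := by
  calc t * s * (t * s) = t * (s * t) * s := by group
    _ = -(t * t * (s * s)) := by rw [hst]; simp [mul_assoc]
    _ = -1 := by rw [hs, ht, one_mul]

theorem rotact_s {u s t : GL (Fin 4) F} (hs : s * s = 1) (ht : t * t = 1)
    (hst : s * t = -(t * s))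
    (hu : (u : Matrix (Fin 4) (Fin 4) F) = 1 + ((t * s : GL (Fin 4) F) : Matrix (Fin 4) (Fin 4) F)) :
    u * s = t * u := by
  have h1 : s * (t * s) = -((t * s) * s) := by
    rw [← mul_assoc, hst, neg_mul]
  rw [rot_anti hu (rotact_sq hs ht hst) h1]
  have : t * s * s = t := by rw [mul_assoc, hs, mul_one]
  rw [this]

theorem rotact_t {u s t : GL (Fin 4) F} (hs : s * s = 1) (ht : t * t = 1)
    (hst : s * t = -(t * s))
    (hu : (u : Matrix (Fin 4) (Fin 4) F) = 1 + ((t * s : GL (Fin 4) F) : Matrix (Fin 4) (Fin 4) F)) :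
    u * t = (-s) * u := by
  have hts : t * s = -(s * t) := by rw [hst, neg_neg]
  have h1 : t * (t * s) = -((t * s) * t) := by
    rw [← mul_assoc, ht, one_mul, mul_assoc, hst, mul_neg, ← mul_assoc, ht, one_mul, neg_neg]
  rw [rot_anti hu (rotact_sq hs ht hst) h1]
  have : t * s * t = -s := by
    rw [mul_assoc, hst, mul_neg, ← mul_assoc, ht, one_mul]
  rw [this]

theorem rotact_fix {u s t g : GL (Fin 4) F}
    (hu : (u : Matrix (Fin 4) (Fin 4) F) = 1 + ((t * s : GL (Fin 4) F) : Matrix (Fin 4) (Fin 4) F))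
    (hgs : g * s = -(s * g)) (hgt : g * t = -(t * g)) : u * g = g * u := by
  apply rot_comm hu
  rw [← mul_assoc, hgt, neg_mul, mul_assoc, hgs, mul_neg, neg_neg, mul_assoc]

theorem rotact_fix' {u s t g : GL (Fin 4) F}
    (hu : (u : Matrix (Fin 4) (Fin 4) F) = 1 + ((t * s : GL (Fin 4) F) : Matrix (Fin 4) (Fin 4) F))
    (hgs : g * s = s * g) (hgt : g * t = t * g) : u * g = g * u := by
  apply rot_comm hu
  rw [← mul_assoc, hgt, mul_assoc, hgs, mul_assoc]

end Cfsg.Agent.Lib.Helper22.ES64
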