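import Mathlib
import Cfsg.Agent.Lib.Helper22.ES64G

/-!
# `4 ∘ 2^{1+4}` in `GL_4(F)`: rewriting rules for words in a symplectic basis
-/

set_option autoImplicit false
open scoped MatrixGroups

namespace Cfsg.Agent.Lib.Helper22.ES64

variable {F : Type*} [Field F]
variable {R : Subgroup (GL (Fin 4) F)} {ζ : F} {zg : GL (Fin 4) F}

theorem swap_assoc {x y : GL (Fin 4) F} (h : y * x = x * y) (w : GL (Fin 4) F) :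
    y * (x * w) = x * (y * w) := by
  rw [← mul_assoc, h, mul_assoc]

theorem swap_assoc_neg {x y : GL (Fin 4) F} (h : y * x = -(x * y)) (w : GL (Fin 4) F) :
    y * (x * w) = -(x * (y * w)) := by
  rw [← mul_assoc, h, neg_mul, mul_assoc]

theorem sq_assoc {x : GL (Fin 4) F} (h : x * x = 1) (w : GL (Fin 4) F) :
    x * (x * w) = w := by
  rw [← mul_assoc, h, one_mul]

namespace Basis

variable {a₁ b₁ a₂ b₂ : GL (Fin 4) F}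

theorem q0 (B : Basis R ζ zg a₁ b₁ a₂ b₂) : zg * zg = -1 := B.gd.zg_sq
theorem q0' (B : Basis R ζ zg a₁ b₁ a₂ b₂) (w : GL (Fin 4) F) : zg * (zg * w) = -w := by
  rw [← mul_assoc, B.gd.zg_sq, neg_mul, one_mul]
theorem q1 (B : Basis R ζ zg a₁ b₁ a₂ b₂) : a₁ * a₁ = 1 := B.a₁_sq
theorem q1' (B : Basis R ζ zg a₁ b₁ a₂ b₂) (w : GL (Fin 4) F) : a₁ * (a₁ * w) = w :=
  sq_assoc B.a₁_sq w
theorem q2 (B : Basis R ζ zg a₁ b₁ a₂ b₂) : b₁ * b₁ = 1 := B.b₁_sq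
theorem q2' (B : Basis R ζ zg a₁ b₁ a₂ b₂) (w : GL (Fin 4) F) : b₁ * (b₁ * w) = w :=
  sq_assoc B.b₁_sq w
theorem q3 (B : Basis R ζ zg a₁ b₁ a₂ b₂) : a₂ * a₂ = 1 := B.a₂_sq
theorem q3' (B : Basis R ζ zg a₁ b₁ a₂ b₂) (w : GL (Fin 4) F) : a₂ * (a₂ * w) = w :=
  sq_assoc B.a₂_sq w
theorem q4 (B : Basis R ζ zg a₁ b₁ a₂ b₂) : b₂ * b₂ = 1 := B.b₂_sq
theorem q4' (B : Basis R ζ zg a₁ b₁ a₂ b₂) (w : GL (Fin 4) F) : b₂ * (b₂ * w) = w :=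
  sq_assoc B.b₂_sq w

theorem z1 (B : Basis R ζ zg a₁ b₁ a₂ b₂) : a₁ * zg = zg * a₁ := (B.gd.zg_comm a₁).symm
theorem z1' (B : Basis R ζ zg a₁ b₁ a₂ b₂) (w : GL (Fin 4) F) : a₁ * (zg * w) = zg * (a₁ * w) :=
  swap_assoc B.z1 w
theorem z2 (B : Basis R ζ zg a₁ b₁ a₂ b₂) : b₁ * zg = zg * b₁ := (B.gd.zg_comm b₁).symm
theorem z2' (B : Basis R ζ zg a₁ b₁ a₂ b₂) (w : GL (Fin 4) F) : b₁ * (zg * w) = zg * (b₁ * w) :=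
  swap_assoc B.z2 w
theorem z3 (B : Basis R ζ zg a₁ b₁ a₂ b₂) : a₂ * zg = zg * a₂ := (B.gd.zg_comm a₂).symm
theorem z3' (B : Basis R ζ zg a₁ b₁ a₂ b₂) (w : GL (Fin 4) F) : a₂ * (zg * w) = zg * (a₂ * w) :=
  swap_assoc B.z3 w
theorem z4 (B : Basis R ζ zg a₁ b₁ a₂ b₂) : b₂ * zg = zg * b₂ := (B.gd.zg_comm b₂).symm
theorem z4' (B : Basis R ζ zg a₁ b₁ a₂ b₂) (w : GL (Fin 4) F) : b₂ * (zg * w) = zg * (b₂ * w) :=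
  swap_assoc B.z4 w

theorem s12 (B : Basis R ζ zg a₁ b₁ a₂ b₂) : b₁ * a₁ = -(a₁ * b₁) := by rw [B.anti₁, neg_neg]
theorem s12' (B : Basis R ζ zg a₁ b₁ a₂ b₂) (w : GL (Fin 4) F) :
    b₁ * (a₁ * w) = -(a₁ * (b₁ * w)) := swap_assoc_neg B.s12 w
theorem s13 (B : Basis R ζ zg a₁ b₁ a₂ b₂) : a₂ * a₁ = a₁ * a₂ := B.a₁a₂.symm
theorem s13' (B : Basis R ζ zg a₁ b₁ a₂ b₂) (w : GL (Fin 4) F) :
    a₂ * (a₁ * w) = a₁ * (a₂ * w) := swap_assoc B.s13 w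
theorem s14 (B : Basis R ζ zg a₁ b₁ a₂ b₂) : b₂ * a₁ = a₁ * b₂ := B.a₁b₂.symm
theorem s14' (B : Basis R ζ zg a₁ b₁ a₂ b₂) (w : GL (Fin 4) F) :
    b₂ * (a₁ * w) = a₁ * (b₂ * w) := swap_assoc B.s14 w
theorem s23 (B : Basis R ζ zg a₁ b₁ a₂ b₂) : a₂ * b₁ = b₁ * a₂ := B.b₁a₂.symm
theorem s23' (B : Basis R ζ zg a₁ b₁ a₂ b₂) (w : GL (Fin 4) F) :
    a₂ * (b₁ * w) = b₁ * (a₂ * w) := swap_assoc B.s23 w
theorem s24 (B : Basis R ζ zg a₁ b₁ a₂ b₂) : b₂ * b₁ = b₁ * b₂ := B.b₁b₂.symm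
theorem s24' (B : Basis R ζ zg a₁ b₁ a₂ b₂) (w : GL (Fin 4) F) :
    b₂ * (b₁ * w) = b₁ * (b₂ * w) := swap_assoc B.s24 w
theorem s34 (B : Basis R ζ zg a₁ b₁ a₂ b₂) : b₂ * a₂ = -(a₂ * b₂) := by rw [B.anti₂, neg_neg]
theorem s34' (B : Basis R ζ zg a₁ b₁ a₂ b₂) (w : GL (Fin 4) F) :
    b₂ * (a₂ * w) = -(a₂ * (b₂ * w)) := swap_assoc_neg B.s34 w

end Basis

/-- normalise a word in `zg, a₁, b₁, a₂, b₂` -/
macro "cliff " B:term : tactic =>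
  `(tactic| simp only [mul_assoc, mul_neg, neg_mul, neg_neg, mul_one, one_mul,
    Basis.q0 $B, Basis.q0' $B, Basis.q1 $B, Basis.q1' $B, Basis.q2 $B, Basis.q2' $B,
    Basis.q3 $B, Basis.q3' $B, Basis.q4 $B, Basis.q4' $B,
    Basis.z1 $B, Basis.z1' $B, Basis.z2 $B, Basis.z2' $B, Basis.z3 $B, Basis.z3' $B,
    Basis.z4 $B, Basis.z4' $B,
    Basis.s12 $B, Basis.s12' $B, Basis.s13 $B, Basis.s13' $B, Basis.s14 $B, Basis.s14' $B,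
    Basis.s23 $B, Basis.s23' $B, Basis.s24 $B, Basis.s24' $B, Basis.s34 $B, Basis.s34' $B])

section tests

variable {a₁ b₁ a₂ b₂ : GL (Fin 4) F}

example (B : Basis R ζ zg a₁ b₁ a₂ b₂) :
    (zg * (a₁ * (b₁ * a₂))) * (zg * (a₁ * (b₁ * a₂))) = 1 := by
  cliff B

example (B : Basis R ζ zg a₁ b₁ a₂ b₂) :
    (zg * (a₁ * (b₁ * a₂))) * (zg * (a₁ * (b₁ * b₂))) =
      -((zg * (a₁ * (b₁ * b₂))) * (zg * (a₁ * (b₁ * a₂)))) := by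
  cliff B

end tests

end Cfsg.Agent.Lib.Helper22.ES64
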