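import Mathlib
import Cfsg.Agent.Lib.Helper22.ES64H

/-!
# `4 ∘ 2^{1+4}` in `GL_4(F)`: elements of the normalizer of orders 2, 3 (mod scalars)
-/

set_option autoImplicit false
open scoped MatrixGroups

namespace Cfsg.Agent.Lib.Helper22.ES64

variable {F : Type*} [Field F]
variable {R : Subgroup (GL (Fin 4) F)} {ζ : F} {zg : GL (Fin 4) F}

/-- an element anticommuting with some invertible matrix has trace zero -/
theorem tr0 (h2 : (2 : F) ≠ 0) {g h : GL (Fin 4) F} (hgh : g * h = -(h * g)) :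
    Matrix.trace (g : Matrix (Fin 4) (Fin 4) F) = 0 := by
  have h1 : g = -(h * g * h⁻¹) := by
    calc g = (g * h) * h⁻¹ := by group
      _ = (-(h * g)) * h⁻¹ := by rw [hgh]
      _ = -(h * g * h⁻¹) := by rw [neg_mul]
  have h3 : Matrix.trace (g : Matrix (Fin 4) (Fin 4) F) =
      -Matrix.trace (g : Matrix (Fin 4) (Fin 4) F) := by
    conv_lhs => rw [h1]
    rw [Units.val_neg, Matrix.trace_neg, Units.val_mul, Units.val_mul, Matrix.trace_mul_cycle,
      ← Units.val_mul, inv_mul_cancel, Units.val_one, Matrix.one_mul]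
  have h4 : (2 : F) * Matrix.trace (g : Matrix (Fin 4) (Fin 4) F) = 0 := by
    linear_combination h3
  rcases mul_eq_zero.mp h4 with h | h
  · exact absurd h h2
  · exact h

theorem val_eq_of_eq {g h : GL (Fin 4) F} (e : g = h) :
    (g : Matrix (Fin 4) (Fin 4) F) = (h : Matrix (Fin 4) (Fin 4) F) := by rw [e]

variable {a₁ b₁ a₂ b₂ : GL (Fin 4) F}

theorem Basis.swap (B : Basis R ζ zg a₁ b₁ a₂ b₂) : Basis R ζ zg a₂ b₂ a₁ b₁ where
  gd := B.gd
  ha₁ := B.ha₂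
  hb₁ := B.hb₂
  ha₂ := B.ha₁
  hb₂ := B.hb₁
  a₁_sq := B.a₂_sq
  b₁_sq := B.b₂_sq
  a₂_sq := B.a₁_sq
  b₂_sq := B.b₁_sq
  anti₁ := B.anti₂
  anti₂ := B.anti₁
  a₁a₂ := B.a₁a₂.symm
  a₁b₂ := B.b₁a₂.symm
  b₁a₂ := B.a₁b₂.symm
  b₁b₂ := B.b₁b₂.symm
  nf := by
    intro g hg
    obtain ⟨s, hs, e₁, e₂, e₃, e₄, he⟩ := B.nf g hg
    refine ⟨s, hs, e₃, e₄, e₁, e₂, ?_⟩
    rw [he]
    congr 1
    have c1 : Commute a₂ a₁ := B.a₁a₂.symm
    have c2 : Commute a₂ b₁ := B.b₁a₂.symm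
    have c3 : Commute b₂ a₁ := B.a₁b₂.symm
    have c4 : Commute b₂ b₁ := B.b₁b₂.symm
    have c5 : Commute (a₂ ^ e₃ * b₂ ^ e₄) (a₁ ^ e₁ * b₁ ^ e₂) :=
      Commute.mul_left (Commute.mul_right (c1.pow_pow _ _) (c2.pow_pow _ _))
        (Commute.mul_right (c3.pow_pow _ _) (c4.pow_pow _ _))
    rw [mul_assoc, c5.eq]
    simp only [mul_assoc]

/-- representatives for involutions with trace zero -/
theorem Basis.rep_invol (B : Basis R ζ zg a₁ b₁ a₂ b₂) (z : F) (hz : z = 1 ∨ z = -1) :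
    ∃ n : GL (Fin 4) F, n ∈ Subgroup.normalizer (R : Set (GL (Fin 4) F)) ∧
      (n : Matrix (Fin 4) (Fin 4) F) * (n : Matrix (Fin 4) (Fin 4) F) = z • 1 ∧
      Matrix.trace (n : Matrix (Fin 4) (Fin 4) F) = 0 := by
  have h2 := B.gd.data.two
  rcases hz with rfl | rfl
  · refine ⟨a₁, Subgroup.le_normalizer B.ha₁, ?_, tr0 h2 B.anti₁⟩
    rw [← Units.val_mul, B.a₁_sq, Units.val_one, one_smul]
  · refine ⟨zg * a₁, Subgroup.le_normalizer (R.mul_mem B.gd.zg_mem B.ha₁), ?_,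
      tr0 h2 (h := b₁) (by cliff B)⟩
    rw [← Units.val_mul]
    have : zg * a₁ * (zg * a₁) = -1 := by cliff B
    rw [this, Units.val_neg, Units.val_one, neg_smul, one_smul]

end Cfsg.Agent.Lib.Helper22.ES64

namespace Cfsg.Agent.Lib.Helper22.ES64

variable {F : Type*} [Field F]
variable {R : Subgroup (GL (Fin 4) F)} {ζ : F} {zg : GL (Fin 4) F}

theorem GData.neg_mem' (d : GData R ζ zg) {g : GL (Fin 4) F} (hg : g ∈ R) : -g ∈ R := by
  rw [← neg_one_mul]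
  exact R.mul_mem d.neg_mem hg

theorem GData.rep_cz_aux (d : GData R ζ zg) {w₁ w₂ w₃ : GL (Fin 4) F}
    (m₁ : w₁ ∈ R) (m₂ : w₂ ∈ R) (m₃ : w₃ ∈ R)
    (q₁ : w₁ * w₁ = -1) (q₂ : w₂ * w₂ = -1) (q₃ : w₃ * w₃ = -1)
    (c₁₂ : w₁ * w₂ = w₂ * w₁) (c₁₃ : w₁ * w₃ = w₃ * w₁) (c₂₃ : w₂ * w₃ = w₃ * w₂)
    (hp : w₁ * w₂ * w₃ = zg)
    (t₁ : Matrix.trace (w₁ : Matrix (Fin 4) (Fin 4) F) = 0)
    (t₂ : Matrix.trace (w₂ : Matrix (Fin 4) (Fin 4) F) = 0)
    (t₃ : Matrix.trace (w₃ : Matrix (Fin 4) (Fin 4) F) = 0)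
    (t₁₂ : Matrix.trace ((w₁ * w₂ : GL (Fin 4) F) : Matrix (Fin 4) (Fin 4) F) = 0)
    (t₁₃ : Matrix.trace ((w₁ * w₃ : GL (Fin 4) F) : Matrix (Fin 4) (Fin 4) F) = 0)
    (t₂₃ : Matrix.trace ((w₂ * w₃ : GL (Fin 4) F) : Matrix (Fin 4) (Fin 4) F) = 0) :
    ∃ n : GL (Fin 4) F, n ∈ Subgroup.normalizer (R : Set (GL (Fin 4) F)) ∧
      (n : Matrix (Fin 4) (Fin 4) F) * (n : Matrix (Fin 4) (Fin 4) F) = (8 * ζ) • 1 ∧
      Matrix.trace (n : Matrix (Fin 4) (Fin 4) F) = 4 + 4 * ζ := by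
  have h2 := d.data.two
  obtain ⟨u₁, hu₁⟩ := exists_rot h2 q₁
  obtain ⟨u₂, hu₂⟩ := exists_rot h2 q₂
  obtain ⟨u₃, hu₃⟩ := exists_rot h2 q₃
  have n₁ := d.rot_mem_normalizer hu₁ q₁ m₁
  have n₂ := d.rot_mem_normalizer hu₂ q₂ m₂
  have n₃ := d.rot_mem_normalizer hu₃ q₃ m₃
  have c21 : u₂ * u₁ = u₁ * u₂ := rot_comm hu₂ (rot_comm hu₁ c₁₂.symm)
  have c31 : u₃ * u₁ = u₁ * u₃ := rot_comm hu₃ (rot_comm hu₁ c₁₃.symm)
  have c32 : u₃ * u₂ = u₂ * u₃ := rot_comm hu₃ (rot_comm hu₂ c₂₃.symm)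
  refine ⟨u₁ * u₂ * u₃, (Subgroup.normalizer _).mul_mem ((Subgroup.normalizer _).mul_mem n₁ n₂) n₃,
    ?_, ?_⟩
  · have e1 : u₁ * u₂ * u₃ * (u₁ * u₂ * u₃) = (u₁ * u₁) * ((u₂ * u₂) * (u₃ * u₃)) := by
      simp only [mul_assoc, swap_assoc c21, swap_assoc c31, swap_assoc c32, c21, c31, c32]
    rw [← Units.val_mul, e1, rot_sq hu₁ q₁ h2, rot_sq hu₂ q₂ h2, rot_sq hu₃ q₃ h2]
    have e2 : sc 2 h2 * w₁ * (sc 2 h2 * w₂ * (sc 2 h2 * w₃)) =
        sc 2 h2 * (sc 2 h2 * (sc 2 h2 * (w₁ * w₂ * w₃))) := by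
      simp only [mul_assoc, swap_assoc (sc_comm 2 h2 w₁).symm, swap_assoc (sc_comm 2 h2 w₂).symm]
    rw [e2, hp]
    simp only [Units.val_mul, sc_val, d.zg_val, Matrix.smul_mul, Matrix.one_mul, smul_smul]
    congr 1
    ring
  · rw [Units.val_mul] at t₁₂ t₁₃ t₂₃
    have t₁₂₃ : Matrix.trace ((w₁ : Matrix (Fin 4) (Fin 4) F) * (w₂ : Matrix (Fin 4) (Fin 4) F) *
        (w₃ : Matrix (Fin 4) (Fin 4) F)) = 4 * ζ := by
      rw [← Units.val_mul, ← Units.val_mul, hp, d.zg_val, Matrix.trace_smul, Matrix.trace_one,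
        Fintype.card_fin, smul_eq_mul]
      push_cast
      ring
    rw [Units.val_mul, Units.val_mul, hu₁, hu₂, hu₃]
    simp only [mul_add, add_mul, mul_one, one_mul, Matrix.trace_add, t₁, t₂, t₃, t₁₂, t₁₃, t₂₃,
      t₁₂₃, Matrix.trace_one, Fintype.card_fin]
    push_cast
    ring

end Cfsg.Agent.Lib.Helper22.ES64

namespace Cfsg.Agent.Lib.Helper22.ES64

variable {F : Type*} [Field F]
variable {R : Subgroup (GL (Fin 4) F)} {ζ : F} {zg : GL (Fin 4) F}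
variable {a₁ b₁ a₂ b₂ : GL (Fin 4) F}

theorem GData.zeta_ne_zero (d : GData R ζ zg) : ζ ≠ 0 := by
  intro h
  have := d.data.zeta
  rw [h, mul_zero] at this
  have h2 : (1 : F) = 0 := by linear_combination this
  exact one_ne_zero h2

theorem GData.one_add_zeta_ne_zero (d : GData R ζ zg) : 1 + ζ ≠ 0 := by
  intro h
  have h1 : (1 + ζ) * (1 - ζ) = 2 := by linear_combination -d.data.zeta
  rw [h, zero_mul] at h1
  exact d.data.two h1.symm

/-- representatives for the "controlled-Z" class -/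
theorem Basis.rep_cz (B : Basis R ζ zg a₁ b₁ a₂ b₂) (ε : F) (hε : ε ≠ 0) :
    ∃ n : GL (Fin 4) F, n ∈ Subgroup.normalizer (R : Set (GL (Fin 4) F)) ∧
      (n : Matrix (Fin 4) (Fin 4) F) * (n : Matrix (Fin 4) (Fin 4) F) = (ε ^ 2) • 1 ∧
      Matrix.trace (n : Matrix (Fin 4) (Fin 4) F) = 2 * ε := by
  have h2 := B.gd.data.two
  have hz := B.gd.zeta_ne_zero
  have hz1 := B.gd.one_add_zeta_ne_zero
  obtain ⟨n₀, hn₀, hsq, htr⟩ := B.gd.rep_cz_aux (w₁ := zg * a₁) (w₂ := zg * a₂)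
    (w₃ := -(zg * (a₁ * a₂)))
    (R.mul_mem B.gd.zg_mem B.ha₁) (R.mul_mem B.gd.zg_mem B.ha₂)
    (B.gd.neg_mem' (R.mul_mem B.gd.zg_mem (R.mul_mem B.ha₁ B.ha₂)))
    (by cliff B) (by cliff B) (by cliff B) (by cliff B) (by cliff B) (by cliff B) (by cliff B)
    (tr0 h2 (h := b₁) (by cliff B)) (tr0 h2 (h := b₂) (by cliff B))
    (tr0 h2 (h := b₁) (by cliff B)) (tr0 h2 (h := b₁) (by cliff B))
    (tr0 h2 (h := b₂) (by cliff B)) (tr0 h2 (h := b₁) (by cliff B))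
  have hc : ε / (2 * (1 + ζ)) ≠ 0 := div_ne_zero hε (mul_ne_zero h2 hz1)
  refine ⟨sc _ hc * n₀, (Subgroup.normalizer _).mul_mem (sc_mem_normalizer _ hc) hn₀, ?_, ?_⟩
  · rw [Units.val_mul, sc_val, Matrix.smul_mul, Matrix.one_mul, Matrix.smul_mul, Matrix.mul_smul,
      hsq, smul_smul, smul_smul]
    congr 1
    field_simp
    linear_combination (-4) * B.gd.data.zeta
  · rw [trace_sc_mul, htr]
    field_simp
    ring

theorem quat_sq {I J : Matrix (Fin 4) (Fin 4) F} (hI : I * I = -1) (hJ : J * J = -1)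
    (hJI : J * I = -(I * J)) :
    (1 + I) * (1 + J) * ((1 + I) * (1 + J)) = (2 : F) • ((1 + I) * (1 + J)) - (4 : F) • 1 := by
  have hI' : ∀ x : Matrix (Fin 4) (Fin 4) F, I * (I * x) = -x := by
    intro x; rw [← Matrix.mul_assoc, hI, neg_mul, one_mul]
  have hJ' : ∀ x : Matrix (Fin 4) (Fin 4) F, J * (J * x) = -x := by
    intro x; rw [← Matrix.mul_assoc, hJ, neg_mul, one_mul]
  have hJI' : ∀ x : Matrix (Fin 4) (Fin 4) F, J * (I * x) = -(I * (J * x)) := by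
    intro x; rw [← Matrix.mul_assoc, hJI, neg_mul, Matrix.mul_assoc]
  simp only [mul_add, add_mul, mul_one, one_mul, Matrix.mul_assoc, hI, hJ, hJI, hI', hJ', hJI',
    mul_neg, neg_mul, neg_neg, smul_add]
  module

theorem quat_cube {Q : Matrix (Fin 4) (Fin 4) F} (h : Q * Q = (2 : F) • Q - (4 : F) • 1) :
    Q * Q * Q = (-8 : F) • 1 := by
  rw [h, sub_mul, Matrix.smul_mul, Matrix.smul_mul, Matrix.one_mul, h]
  module

end Cfsg.Agent.Lib.Helper22.ES64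

namespace Cfsg.Agent.Lib.Helper22.ES64

variable {F : Type*} [Field F]
variable {R : Subgroup (GL (Fin 4) F)} {ζ : F} {zg : GL (Fin 4) F}
variable {a₁ b₁ a₂ b₂ : GL (Fin 4) F}

theorem neg_eight_ne_zero (h2 : (2 : F) ≠ 0) : (-8 : F) ≠ 0 := by
  have : (-8 : F) = -(2 * 2 * 2) := by norm_num
  rw [this]
  exact neg_ne_zero.mpr (mul_ne_zero (mul_ne_zero h2 h2) h2)

/-- the element `(1 + ba)(1 + ζa)` attached to an anticommuting pair of involutions:
a scalar multiple of an element of order 3 -/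
theorem GData.rep_quat (d : GData R ζ zg) {a b : GL (Fin 4) F} (ha : a ∈ R) (hb : b ∈ R)
    (ha2 : a * a = 1) (hb2 : b * b = 1) (hab : a * b = -(b * a)) :
    ∃ q : GL (Fin 4) F, q ∈ Subgroup.normalizer (R : Set (GL (Fin 4) F)) ∧
      q * q * q = sc (-8) (neg_eight_ne_zero d.data.two) ∧
      (∀ g : GL (Fin 4) F, g * a = a * g → g * b = b * g → q * g = g * q) ∧
      (∀ g : GL (Fin 4) F, g * a = a * g → g * b = b * g →
        Matrix.trace ((q * g : GL (Fin 4) F) : Matrix (Fin 4) (Fin 4) F) =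
          Matrix.trace (g : Matrix (Fin 4) (Fin 4) F)) := by
  have h2 := d.data.two
  have ra' := sq_assoc ha2
  have rb' := sq_assoc hb2
  have rz := d.zg_sq
  have rz' : ∀ w : GL (Fin 4) F, zg * (zg * w) = -w := by
    intro w; rw [← mul_assoc, d.zg_sq, neg_mul, one_mul]
  have za : a * zg = zg * a := (d.zg_comm a).symm
  have za' := swap_assoc za
  have zb : b * zg = zg * b := (d.zg_comm b).symm
  have zb' := swap_assoc zb
  have sba : b * a = -(a * b) := by rw [hab, neg_neg]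
  have sba' := swap_assoc_neg sba
  have hi : (b * a) * (b * a) = -1 := by
    simp only [mul_assoc, mul_neg, neg_mul, neg_neg, mul_one, one_mul, ha2, hb2, ra', rb', rz, rz',
      za, za', zb, zb', sba, sba']
  have hj : (zg * a) * (zg * a) = -1 := by
    simp only [mul_assoc, mul_neg, neg_mul, neg_neg, mul_one, one_mul, ha2, hb2, ra', rb', rz, rz',
      za, za', zb, zb', sba, sba']
  have hji : (zg * a) * (b * a) = -((b * a) * (zg * a)) := by
    simp only [mul_assoc, mul_neg, neg_mul, neg_neg, mul_one, one_mul, ha2, hb2, ra', rb', rz, rz',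
      za, za', zb, zb', sba, sba']
  obtain ⟨ui, hui⟩ := exists_rot h2 hi
  obtain ⟨uj, huj⟩ := exists_rot h2 hj
  have hI := val_eq_of_eq hi
  have hJ := val_eq_of_eq hj
  have hJI := val_eq_of_eq hji
  simp only [Units.val_mul, Units.val_neg, Units.val_one] at hI hJ hJI
  rw [← Units.val_mul] at hI hJ hJI
  rw [← Units.val_mul] at hI hJ hJI
  have hQQ := quat_sq hI hJ hJI
  have hQ3 := quat_cube hQQ
  refine ⟨ui * uj, (Subgroup.normalizer _).mul_mem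
    (d.rot_mem_normalizer hui hi (R.mul_mem hb ha))
    (d.rot_mem_normalizer huj hj (R.mul_mem d.zg_mem ha)), ?_, ?_, ?_⟩
  · apply Units.ext
    rw [Units.val_mul, Units.val_mul, Units.val_mul, hui, huj, hQ3, sc_val]
  · intro g hga hgb
    have e1 : uj * g = g * uj := by
      apply rot_comm huj
      rw [← mul_assoc, ← d.zg_comm g, mul_assoc, hga, mul_assoc]
    have e2 : ui * g = g * ui := by
      apply rot_comm hui
      rw [← mul_assoc, hgb, mul_assoc, hga, mul_assoc]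
    rw [mul_assoc, e1, ← mul_assoc, e2, mul_assoc]
  · intro g hga hgb
    have hgz : g * zg = zg * g := (d.zg_comm g).symm
    have hga' := swap_assoc hga
    have hgb' := swap_assoc hgb
    have hgz' := swap_assoc hgz
    have t1 : Matrix.trace (((b * a : GL (Fin 4) F) : Matrix (Fin 4) (Fin 4) F) *
        (g : Matrix (Fin 4) (Fin 4) F)) = 0 := by
      rw [← Units.val_mul]
      apply tr0 h2 (h := a)
      simp only [mul_assoc, mul_neg, neg_mul, neg_neg, mul_one, one_mul, ha2, hb2, ra', rb', rz, rz',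
        za, za', zb, zb', sba, sba', hga, hgb, hgz, hga', hgb', hgz']
    have t2 : Matrix.trace (((zg * a : GL (Fin 4) F) : Matrix (Fin 4) (Fin 4) F) *
        (g : Matrix (Fin 4) (Fin 4) F)) = 0 := by
      rw [← Units.val_mul]
      apply tr0 h2 (h := b)
      simp only [mul_assoc, mul_neg, neg_mul, neg_neg, mul_one, one_mul, ha2, hb2, ra', rb', rz, rz',
        za, za', zb, zb', sba, sba', hga, hgb, hgz, hga', hgb', hgz']
    have t3 : Matrix.trace (((b * a : GL (Fin 4) F) : Matrix (Fin 4) (Fin 4) F) *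
        (((zg * a : GL (Fin 4) F) : Matrix (Fin 4) (Fin 4) F) *
        (g : Matrix (Fin 4) (Fin 4) F))) = 0 := by
      rw [← Units.val_mul, ← Units.val_mul]
      apply tr0 h2 (h := a)
      simp only [mul_assoc, mul_neg, neg_mul, neg_neg, mul_one, one_mul, ha2, hb2, ra', rb', rz, rz',
        za, za', zb, zb', sba, sba', hga, hgb, hgz, hga', hgb', hgz']
    rw [Units.val_mul, Units.val_mul, hui, huj]
    simp only [mul_add, add_mul, mul_one, one_mul, Matrix.mul_assoc, Matrix.trace_add, t1, t2, t3,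
      add_zero]

end Cfsg.Agent.Lib.Helper22.ES64

namespace Cfsg.Agent.Lib.Helper22.ES64

variable {F : Type*} [Field F]
variable {R : Subgroup (GL (Fin 4) F)} {ζ : F} {zg : GL (Fin 4) F}
variable {a₁ b₁ a₂ b₂ : GL (Fin 4) F}

theorem sc_eq_one {c : F} (hc : c ≠ 0) (h : c = 1) : sc c hc = 1 := by
  subst h
  exact sc_one

/-- representatives for the two classes of elements of order 3 -/
theorem Basis.rep_three (B : Basis R ζ zg a₁ b₁ a₂ b₂) :
    (∃ n : GL (Fin 4) F, n ∈ Subgroup.normalizer (R : Set (GL (Fin 4) F)) ∧ n ^ 3 = 1 ∧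
      Matrix.trace (n : Matrix (Fin 4) (Fin 4) F) = -2) ∧
    (∃ n : GL (Fin 4) F, n ∈ Subgroup.normalizer (R : Set (GL (Fin 4) F)) ∧ n ^ 3 = 1 ∧
      Matrix.trace (n : Matrix (Fin 4) (Fin 4) F) = 1) := by
  have h2 := B.gd.data.two
  have h8 := neg_eight_ne_zero h2
  obtain ⟨q₁, hq₁N, hq₁3, hq₁c, hq₁t⟩ := B.gd.rep_quat B.ha₁ B.hb₁ B.a₁_sq B.b₁_sq B.anti₁
  obtain ⟨q₂, hq₂N, hq₂3, hq₂c, hq₂t⟩ := B.gd.rep_quat B.ha₂ B.hb₂ B.a₂_sq B.b₂_sq B.anti₂
  have tq₁ : Matrix.trace (q₁ : Matrix (Fin 4) (Fin 4) F) = 4 := by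
    have := hq₁t 1 (by simp) (by simp)
    rw [mul_one] at this
    rw [this, Units.val_one, Matrix.trace_one, Fintype.card_fin]
    norm_num
  have tq₂ : Matrix.trace (q₂ : Matrix (Fin 4) (Fin 4) F) = 4 := by
    have := hq₂t 1 (by simp) (by simp)
    rw [mul_one] at this
    rw [this, Units.val_one, Matrix.trace_one, Fintype.card_fin]
    norm_num
  constructor
  · have hc : (-(2 : F)⁻¹) ≠ 0 := neg_ne_zero.mpr (inv_ne_zero h2)
    refine ⟨sc _ hc * q₁, (Subgroup.normalizer _).mul_mem (sc_mem_normalizer _ hc) hq₁N, ?_, ?_⟩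
    · have hcm : Commute (sc _ hc) q₁ := sc_comm _ hc q₁
      rw [hcm.mul_pow, pow_three' q₁, hq₁3, sc_pow, sc_mul_sc]
      apply sc_eq_one
      field_simp
      norm_num
    · rw [trace_sc_mul, tq₁]
      field_simp
      norm_num
  · have h4 : (4 : F) ≠ 0 := by
      have : (4 : F) = 2 * 2 := by norm_num
      rw [this]
      exact mul_ne_zero h2 h2
    have hc : ((4 : F)⁻¹) ≠ 0 := inv_ne_zero h4
    have c1 : q₂ * a₁ = a₁ * q₂ := hq₂c a₁ B.a₁a₂ B.a₁b₂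
    have c2 : q₂ * b₁ = b₁ * q₂ := hq₂c b₁ B.b₁a₂ B.b₁b₂
    have c3 : q₁ * q₂ = q₂ * q₁ := hq₁c q₂ c1 c2
    refine ⟨sc _ hc * (q₁ * q₂), (Subgroup.normalizer _).mul_mem (sc_mem_normalizer _ hc)
      ((Subgroup.normalizer _).mul_mem hq₁N hq₂N), ?_, ?_⟩
    · have hcm : Commute (sc _ hc) (q₁ * q₂) := sc_comm _ hc _
      have hcm2 : Commute q₁ q₂ := c3
      rw [hcm.mul_pow, hcm2.mul_pow, pow_three' q₁, pow_three' q₂, hq₁3, hq₂3, sc_pow, sc_mul_sc,
        sc_mul_sc]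
      apply sc_eq_one
      field_simp
      norm_num
    · rw [trace_sc_mul, hq₁t q₂ c1 c2, tq₂]
      exact inv_mul_cancel₀ h4

end Cfsg.Agent.Lib.Helper22.ES64
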