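import Mathlib
import Cfsg.Agent.Lib.Helper22.ES64I

/-!
# `4 ∘ 2^{1+4}` in `GL_4(F)`: an element of order 5 in the normalizer
-/

set_option autoImplicit false
open scoped MatrixGroups

namespace Cfsg.Agent.Lib.Helper22.ES64

variable {F : Type*} [Field F]
variable {R : Subgroup (GL (Fin 4) F)} {ζ : F} {zg : GL (Fin 4) F}

theorem anti_symm {g h : GL (Fin 4) F} (e : g * h = -(h * g)) : h * g = -(g * h) := by
  rw [e, neg_neg]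

theorem semiconj_neg_fix {u g : GL (Fin 4) F} (e : u * g = g * u) : SemiconjBy u (-g) (-g) := by
  have : SemiconjBy u g g := e
  exact this.neg_right

/-- the signed 5-cycle on five pairwise anticommuting involutions -/
theorem GData.five_cycle (d : GData R ζ zg) {t₁ t₂ t₃ t₄ t₅ : GL (Fin 4) F}
    (m₁ : t₁ ∈ R) (m₂ : t₂ ∈ R) (m₃ : t₃ ∈ R) (m₄ : t₄ ∈ R) (m₅ : t₅ ∈ R)
    (q₁ : t₁ * t₁ = 1) (q₂ : t₂ * t₂ = 1) (q₃ : t₃ * t₃ = 1) (q₄ : t₄ * t₄ = 1) (q₅ : t₅ * t₅ = 1)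
    (h₁₂ : t₁ * t₂ = -(t₂ * t₁)) (h₁₃ : t₁ * t₃ = -(t₃ * t₁)) (h₁₄ : t₁ * t₄ = -(t₄ * t₁))
    (h₁₅ : t₁ * t₅ = -(t₅ * t₁)) (h₂₃ : t₂ * t₃ = -(t₃ * t₂)) (h₂₄ : t₂ * t₄ = -(t₄ * t₂))
    (h₂₅ : t₂ * t₅ = -(t₅ * t₂)) (h₃₄ : t₃ * t₄ = -(t₄ * t₃)) (h₃₅ : t₃ * t₅ = -(t₅ * t₃))
    (h₄₅ : t₄ * t₅ = -(t₅ * t₄)) :
    ∃ y : GL (Fin 4) F, y ∈ Subgroup.normalizer (R : Set (GL (Fin 4) F)) ∧
      y * t₁ = t₅ * y ∧ y * t₂ = (-t₁) * y ∧ y * t₃ = (-t₂) * y ∧ y * t₄ = (-t₃) * y ∧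
      y * t₅ = (-t₄) * y := by
  have h2 := d.data.two
  have h₂₁ := anti_symm h₁₂
  have h₃₁ := anti_symm h₁₃
  have h₄₁ := anti_symm h₁₄
  have h₅₁ := anti_symm h₁₅
  have h₃₂ := anti_symm h₂₃
  have h₄₂ := anti_symm h₂₄
  have h₅₂ := anti_symm h₂₅
  have h₄₃ := anti_symm h₃₄
  have h₅₃ := anti_symm h₃₅
  have h₅₄ := anti_symm h₄₅
  have w₁ := rotact_sq q₁ q₂ h₁₂
  have w₂ := rotact_sq q₂ q₃ h₂₃
  have w₃ := rotact_sq q₃ q₄ h₃₄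
  have w₄ := rotact_sq q₄ q₅ h₄₅
  obtain ⟨r₁, hr₁⟩ := exists_rot h2 w₁
  obtain ⟨r₂, hr₂⟩ := exists_rot h2 w₂
  obtain ⟨r₃, hr₃⟩ := exists_rot h2 w₃
  obtain ⟨r₄, hr₄⟩ := exists_rot h2 w₄
  have n₁ := d.rot_mem_normalizer hr₁ w₁ (R.mul_mem m₂ m₁)
  have n₂ := d.rot_mem_normalizer hr₂ w₂ (R.mul_mem m₃ m₂)
  have n₃ := d.rot_mem_normalizer hr₃ w₃ (R.mul_mem m₄ m₃)
  have n₄ := d.rot_mem_normalizer hr₄ w₄ (R.mul_mem m₅ m₄)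
  refine ⟨r₄ * r₃ * r₂ * r₁, (Subgroup.normalizer _).mul_mem ((Subgroup.normalizer _).mul_mem
    ((Subgroup.normalizer _).mul_mem n₄ n₃) n₂) n₁, ?_, ?_, ?_, ?_, ?_⟩
  · have A1 : SemiconjBy r₁ t₁ t₂ := rotact_s q₁ q₂ h₁₂ hr₁
    have A2 : SemiconjBy r₂ t₂ t₃ := rotact_s q₂ q₃ h₂₃ hr₂
    have A3 : SemiconjBy r₃ t₃ t₄ := rotact_s q₃ q₄ h₃₄ hr₃
    have A4 : SemiconjBy r₄ t₄ t₅ := rotact_s q₄ q₅ h₄₅ hr₄
    exact ((A4.mul_left A3).mul_left A2).mul_left A1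
  · have A1 : SemiconjBy r₁ t₂ (-t₁) := rotact_t q₁ q₂ h₁₂ hr₁
    have A2 : SemiconjBy r₂ (-t₁) (-t₁) := semiconj_neg_fix (rotact_fix hr₂ h₁₂ h₁₃)
    have A3 : SemiconjBy r₃ (-t₁) (-t₁) := semiconj_neg_fix (rotact_fix hr₃ h₁₃ h₁₄)
    have A4 : SemiconjBy r₄ (-t₁) (-t₁) := semiconj_neg_fix (rotact_fix hr₄ h₁₄ h₁₅)
    exact ((A4.mul_left A3).mul_left A2).mul_left A1
  · have A1 : SemiconjBy r₁ t₃ t₃ := rotact_fix hr₁ h₃₁ h₃₂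
    have A2 : SemiconjBy r₂ t₃ (-t₂) := rotact_t q₂ q₃ h₂₃ hr₂
    have A3 : SemiconjBy r₃ (-t₂) (-t₂) := semiconj_neg_fix (rotact_fix hr₃ h₂₃ h₂₄)
    have A4 : SemiconjBy r₄ (-t₂) (-t₂) := semiconj_neg_fix (rotact_fix hr₄ h₂₄ h₂₅)
    exact ((A4.mul_left A3).mul_left A2).mul_left A1
  · have A1 : SemiconjBy r₁ t₄ t₄ := rotact_fix hr₁ h₄₁ h₄₂
    have A2 : SemiconjBy r₂ t₄ t₄ := rotact_fix hr₂ h₄₂ h₄₃
    have A3 : SemiconjBy r₃ t₄ (-t₃) := rotact_t q₃ q₄ h₃₄ hr₃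
    have A4 : SemiconjBy r₄ (-t₃) (-t₃) := semiconj_neg_fix (rotact_fix hr₄ h₃₄ h₃₅)
    exact ((A4.mul_left A3).mul_left A2).mul_left A1
  · have A1 : SemiconjBy r₁ t₅ t₅ := rotact_fix hr₁ h₅₁ h₅₂
    have A2 : SemiconjBy r₂ t₅ t₅ := rotact_fix hr₂ h₅₂ h₅₃
    have A3 : SemiconjBy r₃ t₅ t₅ := rotact_fix hr₃ h₅₃ h₅₄
    have A4 : SemiconjBy r₄ t₅ (-t₄) := rotact_t q₄ q₅ h₄₅ hr₄
    exact ((A4.mul_left A3).mul_left A2).mul_left A1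

/-- the fifth power of the signed 5-cycle centralizes the five involutions -/
theorem five_cycle_pow {y t₁ t₂ t₃ t₄ t₅ : GL (Fin 4) F}
    (e₁ : y * t₁ = t₅ * y) (e₂ : y * t₂ = (-t₁) * y) (e₃ : y * t₃ = (-t₂) * y)
    (e₄ : y * t₄ = (-t₃) * y) (e₅ : y * t₅ = (-t₄) * y) :
    Commute (y ^ 5) t₁ ∧ Commute (y ^ 5) t₂ ∧ Commute (y ^ 5) t₃ ∧ Commute (y ^ 5) t₄ ∧
      Commute (y ^ 5) t₅ := by
  have H1 : SemiconjBy y t₁ t₅ := e₁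
  have H2 : SemiconjBy y t₅ (-t₄) := e₅
  have H3 : SemiconjBy y (-t₄) t₃ := by
    have : SemiconjBy y t₄ (-t₃) := e₄
    have := this.neg_right
    rwa [neg_neg] at this
  have H4 : SemiconjBy y t₃ (-t₂) := e₃
  have H5 : SemiconjBy y (-t₂) t₁ := by
    have : SemiconjBy y t₂ (-t₁) := e₂
    have := this.neg_right
    rwa [neg_neg] at this
  have K : SemiconjBy (y * y * y * y * y) t₁ t₁ :=
    (((H5.mul_left H4).mul_left H3).mul_left H2).mul_left H1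
  have hY : y ^ 5 = y * y * y * y * y := by
    simp only [pow_succ, pow_zero, one_mul]
  have c₁ : Commute (y ^ 5) t₁ := by rw [hY]; exact K
  have cy : Commute (y ^ 5) y := (Commute.refl y).pow_left 5
  have conj : ∀ {g g' : GL (Fin 4) F}, y * g = g' * y → Commute (y ^ 5) g → Commute (y ^ 5) g' := by
    intro g g' e c
    have : g' = y * g * y⁻¹ := by rw [e]; group
    rw [this]
    exact (cy.mul_right c).mul_right cy.inv_right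
  have c₅ : Commute (y ^ 5) t₅ := conj e₁ c₁
  have c₄ : Commute (y ^ 5) t₄ := by
    have := (conj e₅ c₅).neg_right
    rwa [neg_neg] at this
  have c₃ : Commute (y ^ 5) t₃ := by
    have := (conj e₄ c₄).neg_right
    rwa [neg_neg] at this
  have c₂ : Commute (y ^ 5) t₂ := by
    have := (conj e₃ c₃).neg_right
    rwa [neg_neg] at this
  exact ⟨c₁, c₂, c₃, c₄, c₅⟩

end Cfsg.Agent.Lib.Helper22.ES64

namespace Cfsg.Agent.Lib.Helper22.ES64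

variable {F : Type*} [Field F]
variable {R : Subgroup (GL (Fin 4) F)} {ζ : F} {zg : GL (Fin 4) F}
variable {a₁ b₁ a₂ b₂ : GL (Fin 4) F}

theorem Basis.central_of_comm (B : Basis R ζ zg a₁ b₁ a₂ b₂) {g : GL (Fin 4) F}
    (h₁ : Commute g a₁) (h₂ : Commute g b₁) (h₃ : Commute g a₂) (h₄ : Commute g b₂) :
    ∀ s ∈ R, g * s = s * g := by
  intro s hs
  obtain ⟨s₀, hs₀, e₁, e₂, e₃, e₄, he⟩ := B.nf s hs
  obtain ⟨-, hc⟩ := B.gd.scalars_mem hs₀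
  have h0 : Commute g s₀ := (hc g).symm
  have : Commute g (s₀ * (a₂ ^ e₃ * b₂ ^ e₄ * a₁ ^ e₁ * b₁ ^ e₂)) :=
    h0.mul_right ((((h₃.pow_right _).mul_right (h₄.pow_right _)).mul_right
      (h₁.pow_right _)).mul_right (h₂.pow_right _))
  rw [he]
  exact this.eq

/-- an element of order 5 in the normalizer -/
theorem Basis.rep_five (B : Basis R ζ zg a₁ b₁ a₂ b₂)
    (hroot : ∀ c : F, c ≠ 0 → ∃ μ : F, μ ^ 5 = c) :
    ∃ n : GL (Fin 4) F, n ∈ Subgroup.normalizer (R : Set (GL (Fin 4) F)) ∧ n ^ 5 = 1 ∧ n ≠ 1 := by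
  have d := B.gd
  have h₁₅ : a₁ * (a₁ * (b₁ * (a₂ * b₂))) = -((a₁ * (b₁ * (a₂ * b₂))) * a₁) := by cliff B
  obtain ⟨y, hyN, e₁, e₂, e₃, e₄, e₅⟩ := d.five_cycle (t₁ := a₁) (t₂ := b₁)
    (t₃ := zg * (a₁ * (b₁ * a₂))) (t₄ := zg * (a₁ * (b₁ * b₂))) (t₅ := a₁ * (b₁ * (a₂ * b₂)))
    B.ha₁ B.hb₁ (R.mul_mem d.zg_mem (R.mul_mem B.ha₁ (R.mul_mem B.hb₁ B.ha₂)))
    (R.mul_mem d.zg_mem (R.mul_mem B.ha₁ (R.mul_mem B.hb₁ B.hb₂)))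
    (R.mul_mem B.ha₁ (R.mul_mem B.hb₁ (R.mul_mem B.ha₂ B.hb₂)))
    (by cliff B) (by cliff B) (by cliff B) (by cliff B) (by cliff B)
    (by cliff B) (by cliff B) (by cliff B) h₁₅ (by cliff B)
    (by cliff B) (by cliff B) (by cliff B) (by cliff B) (by cliff B)
  obtain ⟨c₁, c₂, c₃, c₄, -⟩ := five_cycle_pow e₁ e₂ e₃ e₄ e₅
  have cz : Commute (y ^ 5) zg := (d.zg_comm _).symm
  have ca₂ : Commute (y ^ 5) a₂ := by
    have : a₂ = (zg * (a₁ * b₁))⁻¹ * (zg * (a₁ * (b₁ * a₂))) := by group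
    rw [this]
    exact (cz.mul_right (c₁.mul_right c₂)).inv_right.mul_right c₃
  have cb₂ : Commute (y ^ 5) b₂ := by
    have : b₂ = (zg * (a₁ * b₁))⁻¹ * (zg * (a₁ * (b₁ * b₂))) := by group
    rw [this]
    exact (cz.mul_right (c₁.mul_right c₂)).inv_right.mul_right c₄
  obtain ⟨c, hc⟩ := d.scalar_of_central (B.central_of_comm c₁ c₂ ca₂ cb₂)
  have hc0 : c ≠ 0 := by
    intro h0
    rw [h0, zero_smul] at hc
    have h1 : ((y ^ 5 : GL (Fin 4) F) : Matrix (Fin 4) (Fin 4) F) *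
        (((y ^ 5)⁻¹ : GL (Fin 4) F) : Matrix (Fin 4) (Fin 4) F) = 1 := by
      rw [← Units.val_mul, mul_inv_cancel, Units.val_one]
    rw [hc, zero_mul] at h1
    exact zero_ne_one h1
  obtain ⟨μ, hμ⟩ := hroot c hc0
  have hμ0 : μ ≠ 0 := by
    intro h0
    rw [h0] at hμ
    apply hc0
    rw [← hμ]
    norm_num
  have hy5 : y ^ 5 = sc c hc0 := Units.ext hc
  refine ⟨sc μ⁻¹ (inv_ne_zero hμ0) * y,
    (Subgroup.normalizer _).mul_mem (sc_mem_normalizer _ _) hyN, ?_, ?_⟩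
  · have hcm : Commute (sc μ⁻¹ (inv_ne_zero hμ0)) y := sc_comm _ _ y
    rw [hcm.mul_pow, hy5, sc_pow, sc_mul_sc]
    apply sc_eq_one
    rw [inv_pow, hμ, inv_mul_cancel₀ hc0]
  · intro h1
    have hy : y = sc μ hμ0 := by
      have : y = (sc μ⁻¹ (inv_ne_zero hμ0))⁻¹ * (sc μ⁻¹ (inv_ne_zero hμ0) * y) := by group
      rw [this, h1, mul_one, sc_inv]
      congr 1
      rw [inv_inv]
    rw [hy, sc_comm] at e₁
    have h2 : a₁ = a₁ * (b₁ * (a₂ * b₂)) := mul_right_cancel e₁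
    rw [← h2] at h₁₅
    have h3 : a₁ * a₁ = -(a₁ * a₁) := h₁₅
    rw [B.a₁_sq] at h3
    exact d.neg_ne h3.symm

end Cfsg.Agent.Lib.Helper22.ES64
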