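import Mathlib
import Cfsg.Prelude.Def_GeometricClasses
import Cfsg.Agent.Lib.Helper14.SemiConjFin

/-!
# Characteristic polynomials of matrices killed by a product of two irreducible polynomials,
and conjugacy in `SL_4(q)`
-/

set_option autoImplicit false
open scoped MatrixGroups
open Polynomial

namespace Cfsg.Agent.Lib.Helper22.ES64

section poly

variable {K : Type*} [Field K]

theorem eq_pow_mul_pow_of_factors (f₁ f₂ : K[X]) (h₁ : Irreducible f₁) (h₂ : Irreducible f₂)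
    (m₁ : f₁.Monic) (m₂ : f₂.Monic) :
    ∀ (n : ℕ) (P : K[X]), P.natDegree = n → P.Monic →
      (∀ q : K[X], Irreducible q → q ∣ P → q ∣ f₁ * f₂) → ∃ a b : ℕ, P = f₁ ^ a * f₂ ^ b := by
  intro n
  induction n using Nat.strong_induction_on with
  | _ n ih =>
    intro P hn hP hq
    by_cases hP1 : P = 1
    · exact ⟨0, 0, by rw [hP1, pow_zero, pow_zero, one_mul]⟩
    have hPu : ¬ IsUnit P := by
      intro hu
      exact hP1 (hP.eq_one_of_isUnit hu)
    obtain ⟨q, hqi, hqP⟩ := WfDvdMonoid.exists_irreducible_factor hPu hP.ne_zero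
    have hqf := hq q hqi hqP
    -- one of f₁, f₂ divides P
    have key : ∀ f : K[X], Irreducible f → f.Monic → q ∣ f →
        ∃ P' : K[X], P = f * P' ∧ P'.Monic ∧ P'.natDegree < n ∧
          (∀ q' : K[X], Irreducible q' → q' ∣ P' → q' ∣ f₁ * f₂) := by
      intro f hf hfm hqf'
      have hfq : f ∣ q := hqi.dvd_symm hf hqf'
      obtain ⟨P', hP'⟩ := hfq.trans hqP
      have hP'm : P'.Monic := by
        rw [hP'] at hP
        exact hfm.of_mul_monic_left hP
      refine ⟨P', hP', hP'm, ?_, ?_⟩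
      · have h3 : P.natDegree = f.natDegree + P'.natDegree := by
          rw [hP', hfm.natDegree_mul hP'm]
        have h4 : 0 < f.natDegree := hf.natDegree_pos
        omega
      · intro q' hq'i hq'P'
        exact hq q' hq'i (hq'P'.trans ⟨f, by rw [hP', mul_comm]⟩)
    rcases hqi.prime.dvd_or_dvd hqf with h | h
    · obtain ⟨P', hP', hP'm, hdeg, hq'⟩ := key f₁ h₁ m₁ h
      obtain ⟨a, b, hab⟩ := ih P'.natDegree hdeg P' rfl hP'm hq'
      refine ⟨a + 1, b, ?_⟩
      rw [hP', hab, pow_succ]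
      ring
    · obtain ⟨P', hP', hP'm, hdeg, hq'⟩ := key f₂ h₂ m₂ h
      obtain ⟨a, b, hab⟩ := ih P'.natDegree hdeg P' rfl hP'm hq'
      refine ⟨a, b + 1, ?_⟩
      rw [hP', hab, pow_succ]
      ring

theorem charpoly_eq_pow_mul_pow {n : Type*} [Fintype n] [DecidableEq n] (A : Matrix n n K)
    (f₁ f₂ : K[X]) (h₁ : Irreducible f₁) (h₂ : Irreducible f₂) (m₁ : f₁.Monic) (m₂ : f₂.Monic)
    (hA : aeval A (f₁ * f₂) = 0) : ∃ a b : ℕ, A.charpoly = f₁ ^ a * f₂ ^ b := by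
  apply eq_pow_mul_pow_of_factors f₁ f₂ h₁ h₂ m₁ m₂ _ A.charpoly rfl (Matrix.charpoly_monic A)
  intro q hq hqA
  exact (Cfsg.Agent.Lib.Helper14.irreducible_dvd_minpoly_matrix A q hq hqA).trans
    (minpoly.dvd K A hA)

end poly

end Cfsg.Agent.Lib.Helper22.ES64

namespace Cfsg.Agent.Lib.Helper22.ES64

section unique

variable {F : Type*} [Field F]

/-- two `4 × 4` matrices killed by `f₁ f₂` with the same trace have the same characteristic
polynomial, provided the "slopes" of `f₁, f₂` differ -/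
theorem charpoly_eq_of_trace_eq (p : ℕ) [CharP F p] (hp : 4 < p)
    (A B : Matrix (Fin 4) (Fin 4) F)
    (f₁ f₂ : F[X]) (h₁ : Irreducible f₁) (h₂ : Irreducible f₂) (m₁ : f₁.Monic) (m₂ : f₂.Monic)
    (hnd : f₁.nextCoeff * (f₂.natDegree : F) - f₂.nextCoeff * (f₁.natDegree : F) ≠ 0)
    (hA : aeval A (f₁ * f₂) = 0) (hB : aeval B (f₁ * f₂) = 0)
    (htr : A.trace = B.trace) : A.charpoly = B.charpoly := by
  obtain ⟨a, b, hab⟩ := charpoly_eq_pow_mul_pow A f₁ f₂ h₁ h₂ m₁ m₂ hA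
  obtain ⟨a', b', hab'⟩ := charpoly_eq_pow_mul_pow B f₁ f₂ h₁ h₂ m₁ m₂ hB
  have d₁ : 0 < f₁.natDegree := h₁.natDegree_pos
  have d₂ : 0 < f₂.natDegree := h₂.natDegree_pos
  have hdeg : ∀ (M : Matrix (Fin 4) (Fin 4) F) (a b : ℕ), M.charpoly = f₁ ^ a * f₂ ^ b →
      a * f₁.natDegree + b * f₂.natDegree = 4 := by
    intro M a b h
    have h1 := Matrix.charpoly_natDegree_eq_dim M
    rw [h, (m₁.pow a).natDegree_mul (m₂.pow b), m₁.natDegree_pow, m₂.natDegree_pow,
      Fintype.card_fin] at h1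
    exact h1
  have hnc : ∀ (M : Matrix (Fin 4) (Fin 4) F) (a b : ℕ), M.charpoly = f₁ ^ a * f₂ ^ b →
      M.trace = -((a : F) * f₁.nextCoeff + (b : F) * f₂.nextCoeff) := by
    intro M a b h
    rw [Matrix.trace_eq_neg_charpoly_nextCoeff, h, (m₁.pow a).nextCoeff_mul (m₂.pow b),
      m₁.nextCoeff_pow, m₂.nextCoeff_pow, nsmul_eq_mul, nsmul_eq_mul]
  have e1 := hdeg A a b hab
  have e2 := hdeg B a' b' hab'
  have e3 := hnc A a b hab
  have e4 := hnc B a' b' hab'
  rw [e3, e4] at htr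
  have e5 : (a : F) * (f₁.natDegree : F) + (b : F) * (f₂.natDegree : F) =
      (a' : F) * (f₁.natDegree : F) + (b' : F) * (f₂.natDegree : F) := by
    have := congrArg (Nat.cast : ℕ → F) (e1.trans e2.symm)
    push_cast at this
    exact this
  have e6 : ((a : F) - (a' : F)) *
      (f₁.nextCoeff * (f₂.natDegree : F) - f₂.nextCoeff * (f₁.natDegree : F)) = 0 := by
    linear_combination (-(f₂.natDegree : F)) * htr - f₂.nextCoeff * e5
  have e7 : (a : F) = (a' : F) := by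
    rcases mul_eq_zero.mp e6 with h | h
    · exact sub_eq_zero.mp h
    · exact absurd h hnd
  have ha4 : a ≤ 4 := by nlinarith
  have ha4' : a' ≤ 4 := by nlinarith
  have e8 : a = a' := by
    apply CharP.natCast_injOn_Iio F p _ _ e7
    · simp only [Set.mem_Iio]; omega
    · simp only [Set.mem_Iio]; omega
  subst e8
  have e9 : b * f₂.natDegree = b' * f₂.natDegree := by omega
  have e10 : b = b' := Nat.eq_of_mul_eq_mul_right d₂ e9
  rw [hab, hab', e10]

end unique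

section conj

variable {F : Type*} [Field F]

theorem mem_sl4_iff (g : GL (Fin 4) F) :
    g ∈ Cfsg.Geo.specialLinear (Fin 4) F ↔ (g : Matrix (Fin 4) (Fin 4) F).det = 1 := by
  unfold Cfsg.Geo.specialLinear
  rw [MonoidHom.mem_ker]
  constructor
  · intro h
    have := congrArg Units.val h
    simpa using this
  · intro h
    apply Units.ext
    simpa using h

/-- semisimple elements of `SL_4(q)` with the same characteristic polynomial are
`SL_4`-conjugate -/
theorem sl4_conj_of_charpoly [Fintype F] (p : ℕ) [Fact p.Prime] [CharP F p] (x n : GL (Fin 4) F)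
    (hx : x ∈ Cfsg.Geo.specialLinear (Fin 4) F) (hn : n ∈ Cfsg.Geo.specialLinear (Fin 4) F)
    (k : ℕ) (hk : k.Coprime p) (hxk : x ^ k = 1) (hnk : n ^ k = 1)
    (hc : (x : Matrix (Fin 4) (Fin 4) F).charpoly = (n : Matrix (Fin 4) (Fin 4) F).charpoly) :
    ∃ g ∈ Cfsg.Geo.specialLinear (Fin 4) F, g⁻¹ * x * g = n := by
  rw [mem_sl4_iff] at hx hn
  let x' : Matrix.SpecialLinearGroup (Fin 4) F := ⟨x, hx⟩
  let n' : Matrix.SpecialLinearGroup (Fin 4) F := ⟨n, hn⟩
  have hx'k : x' ^ k = 1 := by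
    apply Subtype.ext
    rw [Matrix.SpecialLinearGroup.coe_pow, Matrix.SpecialLinearGroup.coe_one]
    show (x : Matrix (Fin 4) (Fin 4) F) ^ k = 1
    rw [← Units.val_pow_eq_pow_val, hxk, Units.val_one]
  have hn'k : n' ^ k = 1 := by
    apply Subtype.ext
    rw [Matrix.SpecialLinearGroup.coe_pow, Matrix.SpecialLinearGroup.coe_one]
    show (n : Matrix (Fin 4) (Fin 4) F) ^ k = 1
    rw [← Units.val_pow_eq_pow_val, hnk, Units.val_one]
  have hox : (orderOf x').Coprime p :=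
    Nat.Coprime.coprime_dvd_left (orderOf_dvd_of_pow_eq_one hx'k) hk
  have hon : (orderOf n').Coprime p :=
    Nat.Coprime.coprime_dvd_left (orderOf_dvd_of_pow_eq_one hn'k) hk
  have hconj := Cfsg.Agent.Lib.Helper14.isConj_SL_of_charpoly_eq p x' n' hox hon hc
  rw [isConj_iff] at hconj
  obtain ⟨c, hc'⟩ := hconj
  refine ⟨(Matrix.SpecialLinearGroup.toGL c)⁻¹, ?_, ?_⟩
  · apply inv_mem
    rw [mem_sl4_iff]
    exact c.2
  · rw [inv_inv]
    apply Units.ext
    have := congrArg Subtype.val hc'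
    simp only [Units.val_mul]
    rw [Matrix.SpecialLinearGroup.coe_mul, Matrix.SpecialLinearGroup.coe_mul] at this
    have hinv : ((Matrix.SpecialLinearGroup.toGL c)⁻¹ : GL (Fin 4) F).val =
        (c⁻¹ : Matrix.SpecialLinearGroup (Fin 4) F).val := by
      rw [← map_inv]
      rfl
    rw [hinv]
    exact this

/-- the main conjugacy criterion -/
theorem sl4_conj_of_trace [Fintype F] (p : ℕ) [Fact p.Prime] [CharP F p] (hp : 4 < p)
    (f₁ f₂ : F[X]) (h₁ : Irreducible f₁) (h₂ : Irreducible f₂) (m₁ : f₁.Monic) (m₂ : f₂.Monic)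
    (hnd : f₁.nextCoeff * (f₂.natDegree : F) - f₂.nextCoeff * (f₁.natDegree : F) ≠ 0)
    (x n : GL (Fin 4) F) (hx : x ∈ Cfsg.Geo.specialLinear (Fin 4) F)
    (k : ℕ) (hk : k.Coprime p) (hxk : x ^ k = 1) (hnk : n ^ k = 1)
    (hxf : aeval (x : Matrix (Fin 4) (Fin 4) F) (f₁ * f₂) = 0)
    (hnf : aeval (n : Matrix (Fin 4) (Fin 4) F) (f₁ * f₂) = 0)
    (htr : Matrix.trace (x : Matrix (Fin 4) (Fin 4) F) =
      Matrix.trace (n : Matrix (Fin 4) (Fin 4) F)) :
    ∃ g ∈ Cfsg.Geo.specialLinear (Fin 4) F, g⁻¹ * x * g = n := by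
  have hc := charpoly_eq_of_trace_eq p hp (x : Matrix (Fin 4) (Fin 4) F)
    (n : Matrix (Fin 4) (Fin 4) F) f₁ f₂ h₁ h₂ m₁ m₂ hnd hxf hnf htr
  have hn : n ∈ Cfsg.Geo.specialLinear (Fin 4) F := by
    rw [mem_sl4_iff] at hx ⊢
    rw [Matrix.det_eq_sign_charpoly_coeff, ← hc, ← Matrix.det_eq_sign_charpoly_coeff, hx]
  exact sl4_conj_of_charpoly p x n hx hn k hk hxk hnk hc

end conj

end Cfsg.Agent.Lib.Helper22.ES64

namespace Cfsg.Agent.Lib.Helper22.ES64

section data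

variable {F : Type*} [Field F]

theorem charpoly_data (A : Matrix (Fin 4) (Fin 4) F)
    (f₁ f₂ : F[X]) (h₁ : Irreducible f₁) (h₂ : Irreducible f₂) (m₁ : f₁.Monic) (m₂ : f₂.Monic)
    (hA : aeval A (f₁ * f₂) = 0) :
    ∃ a b : ℕ, A.charpoly = f₁ ^ a * f₂ ^ b ∧ a * f₁.natDegree + b * f₂.natDegree = 4 ∧
      A.trace = -((a : F) * f₁.nextCoeff + (b : F) * f₂.nextCoeff) := by
  obtain ⟨a, b, hab⟩ := charpoly_eq_pow_mul_pow A f₁ f₂ h₁ h₂ m₁ m₂ hA
  refine ⟨a, b, hab, ?_, ?_⟩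
  · have h1 := Matrix.charpoly_natDegree_eq_dim A
    rw [hab, (m₁.pow a).natDegree_mul (m₂.pow b), m₁.natDegree_pow, m₂.natDegree_pow,
      Fintype.card_fin] at h1
    exact h1
  · rw [Matrix.trace_eq_neg_charpoly_nextCoeff, hab, (m₁.pow a).nextCoeff_mul (m₂.pow b),
      m₁.nextCoeff_pow, m₂.nextCoeff_pow, nsmul_eq_mul, nsmul_eq_mul]

theorem aeval_X_pow_sub_one (A : Matrix (Fin 4) (Fin 4) F) (k : ℕ) (h : A ^ k = 1) :
    aeval A (X ^ k - 1 : F[X]) = 0 := by
  rw [map_sub, map_pow, aeval_X, map_one, h, sub_self]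

end data

end Cfsg.Agent.Lib.Helper22.ES64
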