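import Mathlib
import Cfsg.Agent.Lib.Helper22.ES64J
import Cfsg.Agent.Lib.Helper22.ES64K

/-!
# `4 ∘ 2^{1+4}` in `GL_4(p)`: elements of orders 3 and 5 are conjugate into the normalizer
-/

set_option autoImplicit false
open scoped MatrixGroups
open Polynomial

namespace Cfsg.Agent.Lib.Helper22.ES64

variable {F : Type*} [Field F]
variable {R : Subgroup (GL (Fin 4) F)} {ζ : F} {zg : GL (Fin 4) F}
variable {a₁ b₁ a₂ b₂ : GL (Fin 4) F}

theorem conj_finish {x g n : GL (Fin 4) F} {c : F} (hc : c ≠ 0)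
    (hn : n ∈ Subgroup.normalizer (R : Set (GL (Fin 4) F)))
    (h : g⁻¹ * (sc c hc * x) * g = n) :
    g⁻¹ * x * g ∈ Subgroup.normalizer (R : Set (GL (Fin 4) F)) := by
  have e : g⁻¹ * x * g = (sc c hc)⁻¹ * n := by
    rw [← h, ← mul_assoc g⁻¹, ← sc_comm c hc g⁻¹]
    group
  rw [e]
  exact (Subgroup.normalizer _).mul_mem ((Subgroup.normalizer _).inv_mem (sc_mem_normalizer c hc)) hn

theorem det_sc (c : F) (hc : c ≠ 0) :
    ((sc c hc : GL (Fin 4) F) : Matrix (Fin 4) (Fin 4) F).det = c ^ 4 := by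
  rw [sc_val, Matrix.det_smul, Matrix.det_one, Fintype.card_fin, mul_one]

theorem scalar_pow_four_of_sl {x : GL (Fin 4) F} (hx : x ∈ Cfsg.Geo.specialLinear (Fin 4) F)
    {k : ℕ} {z : F} (hxz : ((x ^ k : GL (Fin 4) F) : Matrix (Fin 4) (Fin 4) F) = z • 1) :
    z ^ 4 = 1 := by
  rw [mem_sl4_iff] at hx
  have h1 : ((x ^ k : GL (Fin 4) F) : Matrix (Fin 4) (Fin 4) F).det = 1 := by
    rw [Units.val_pow_eq_pow_val, Matrix.det_pow, hx, one_pow]
  rw [hxz, Matrix.det_smul, Matrix.det_one, Fintype.card_fin, mul_one] at h1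
  exact h1

/-- rescale so that the `k`-th power becomes 1 -/
theorem rescale {x : GL (Fin 4) F} (hx : x ∈ Cfsg.Geo.specialLinear (Fin 4) F)
    {k : ℕ} {z : F} (hxz : ((x ^ k : GL (Fin 4) F) : Matrix (Fin 4) (Fin 4) F) = z • 1)
    (c : F) (hc : c ≠ 0) (hc4 : c ^ 4 = 1) (hck : c ^ k * z = 1) :
    sc c hc * x ∈ Cfsg.Geo.specialLinear (Fin 4) F ∧ (sc c hc * x) ^ k = 1 := by
  constructor
  · apply (Cfsg.Geo.specialLinear (Fin 4) F).mul_mem _ hx
    rw [mem_sl4_iff, det_sc, hc4]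
  · have hcm : Commute (sc c hc) x := sc_comm c hc x
    rw [hcm.mul_pow, sc_pow]
    apply Units.ext
    rw [Units.val_mul, hxz, sc_val, Matrix.smul_mul, Matrix.one_mul, smul_smul, hck, one_smul,
      Units.val_one]

theorem val_pow_eq_one {n : GL (Fin 4) F} {k : ℕ} (h : n ^ k = 1) :
    (n : Matrix (Fin 4) (Fin 4) F) ^ k = 1 := by
  rw [← Units.val_pow_eq_pow_val, h, Units.val_one]

theorem three_ne_zero_of_char (p : ℕ) [CharP F p] (hp : 4 < p) : (3 : F) ≠ 0 := by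
  intro h
  have h1 : ((3 : ℕ) : F) = 0 := by exact_mod_cast h
  rw [CharP.cast_eq_zero_iff F p] at h1
  have := Nat.le_of_dvd (by norm_num) h1
  omega

theorem five_ne_zero_of_char (p : ℕ) [Fact p.Prime] [CharP F p] (hp : p ≠ 5) : (5 : F) ≠ 0 := by
  intro h
  have h1 : ((5 : ℕ) : F) = 0 := by exact_mod_cast h
  rw [CharP.cast_eq_zero_iff F p] at h1
  have := (Nat.prime_dvd_prime_iff_eq (Fact.out : p.Prime) (by norm_num)).mp h1
  exact hp this

theorem cyclotomic_three_irreducible [Fintype F] (p : ℕ) [Fact p.Prime] [CharP F p]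
    (hF : Fintype.card F = p) (hp3 : p % 3 = 2) : Irreducible (X ^ 2 + X + 1 : F[X]) := by
  classical
  have hdeg : (X ^ 2 + X + 1 : F[X]).natDegree = 2 := by compute_degree!
  apply irreducible_of_degree_le_three_of_not_isRoot
  · rw [hdeg]; decide
  · intro w hw
    rw [IsRoot.def, eval_add, eval_add, eval_pow, eval_X, eval_one] at hw
    have hw3 : w ^ 3 = 1 := by linear_combination (w - 1) * hw
    have hw0 : w ≠ 0 := by
      intro h0
      rw [h0] at hw3
      norm_num at hw3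
    have hw1 : w ≠ 1 := by
      intro h1
      rw [h1] at hw
      have h3 : ((3 : ℕ) : F) = 0 := by
        push_cast
        linear_combination hw
      rw [CharP.cast_eq_zero_iff F p] at h3
      have h4 := Nat.le_of_dvd (by norm_num) h3
      have := (Fact.out : p.Prime).two_le
      interval_cases p <;> omega
    let u : Fˣ := Units.mk0 w hw0
    have hu3 : u ^ 3 = 1 := by
      apply Units.ext
      rw [Units.val_pow_eq_pow_val, Units.val_mk0, hw3, Units.val_one]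
    have hu1 : u ≠ 1 := by
      intro h
      apply hw1
      have := congrArg Units.val h
      rwa [Units.val_mk0, Units.val_one] at this
    have hord : orderOf u = 3 := orderOf_eq_prime hu3 hu1
    have hdvd : orderOf u ∣ Fintype.card Fˣ := orderOf_dvd_card
    rw [hord, Fintype.card_units, hF] at hdvd
    have := (Fact.out : p.Prime).two_le
    omega

end Cfsg.Agent.Lib.Helper22.ES64

namespace Cfsg.Agent.Lib.Helper22.ES64

variable {F : Type*} [Field F]
variable {R : Subgroup (GL (Fin 4) F)} {ζ : F} {zg : GL (Fin 4) F}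
variable {a₁ b₁ a₂ b₂ : GL (Fin 4) F}

theorem four_lt_of_mod_four (p : ℕ) [Fact p.Prime] (hp4 : p % 4 = 1) : 4 < p := by
  have := (Fact.out : p.Prime).two_le
  by_contra hcon
  push Not at hcon
  interval_cases p <;> omega

theorem Basis.conj_three [Fintype F] (B : Basis R ζ zg a₁ b₁ a₂ b₂) (p : ℕ) [Fact p.Prime]
    [CharP F p] (hF : Fintype.card F = p) (hp4 : p % 4 = 1) (hp3 : p % 3 = 2)
    (x : GL (Fin 4) F) (hx : x ∈ Cfsg.Geo.specialLinear (Fin 4) F) (z : F)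
    (hxz : ((x ^ 3 : GL (Fin 4) F) : Matrix (Fin 4) (Fin 4) F) = z • 1) :
    ∃ g ∈ Cfsg.Geo.specialLinear (Fin 4) F,
      g⁻¹ * x * g ∈ Subgroup.normalizer (R : Set (GL (Fin 4) F)) := by
  have hp : 4 < p := four_lt_of_mod_four p hp4
  have hz4 := scalar_pow_four_of_sl hx hxz
  have hz0 : z ≠ 0 := by
    intro h0
    rw [h0] at hz4
    norm_num at hz4
  obtain ⟨hx', hx'3⟩ := rescale hx hxz z hz0 hz4 (by rw [← hz4]; ring)
  set f₁ : F[X] := X - C 1 with hf₁
  set f₂ : F[X] := X ^ 2 + X + 1 with hf₂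
  have i₁ : Irreducible f₁ := irreducible_X_sub_C 1
  have i₂ : Irreducible f₂ := cyclotomic_three_irreducible p hF hp3
  have m₁ : f₁.Monic := monic_X_sub_C 1
  have hdeg : f₂.natDegree = 2 := by rw [hf₂]; compute_degree!
  have m₂ : f₂.Monic := by
    rw [hf₂]
    monicity!
  have hnc₁ : f₁.nextCoeff = -1 := nextCoeff_X_sub_C 1
  have hnc₂ : f₂.nextCoeff = 1 := by
    rw [nextCoeff_of_natDegree_pos (by rw [hdeg]; norm_num), hdeg, hf₂]
    simp [coeff_X, coeff_one]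
  have hd₁ : f₁.natDegree = 1 := natDegree_X_sub_C 1
  have hprod : f₁ * f₂ = X ^ 3 - 1 := by
    rw [hf₁, hf₂, map_one]
    ring
  have h3 := three_ne_zero_of_char (F := F) p hp
  have hnd : f₁.nextCoeff * (f₂.natDegree : F) - f₂.nextCoeff * (f₁.natDegree : F) ≠ 0 := by
    rw [hnc₁, hnc₂, hdeg, hd₁]
    intro h
    apply h3
    push_cast at h
    linear_combination -h
  have hk : Nat.Coprime 3 p := by
    rw [Nat.coprime_primes (by norm_num) (Fact.out : p.Prime)]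
    omega
  have hxf : aeval ((sc z hz0 * x : GL (Fin 4) F) : Matrix (Fin 4) (Fin 4) F) (f₁ * f₂) = 0 := by
    rw [hprod]
    exact aeval_X_pow_sub_one _ 3 (val_pow_eq_one hx'3)
  obtain ⟨a, b, -, hab, htr⟩ := charpoly_data _ f₁ f₂ i₁ i₂ m₁ m₂ hxf
  rw [hd₁, hdeg] at hab
  rw [hnc₁, hnc₂] at htr
  obtain ⟨⟨n₂, hn₂N, hn₂3, hn₂t⟩, ⟨n₁, hn₁N, hn₁3, hn₁t⟩⟩ := B.rep_three
  have fin : ∀ n : GL (Fin 4) F, n ∈ Subgroup.normalizer (R : Set (GL (Fin 4) F)) → n ^ 3 = 1 →
      Matrix.trace ((sc z hz0 * x : GL (Fin 4) F) : Matrix (Fin 4) (Fin 4) F) =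
        Matrix.trace (n : Matrix (Fin 4) (Fin 4) F) →
      ∃ g ∈ Cfsg.Geo.specialLinear (Fin 4) F,
        g⁻¹ * x * g ∈ Subgroup.normalizer (R : Set (GL (Fin 4) F)) := by
    intro n hnN hn3 hnt
    have hnf : aeval (n : Matrix (Fin 4) (Fin 4) F) (f₁ * f₂) = 0 := by
      rw [hprod]
      exact aeval_X_pow_sub_one _ 3 (val_pow_eq_one hn3)
    obtain ⟨g, hg, hgx⟩ := sl4_conj_of_trace p hp f₁ f₂ i₁ i₂ m₁ m₂ hnd _ n hx' 3 hk hx'3 hn3
      hxf hnf hnt
    exact ⟨g, hg, conj_finish hz0 hnN hgx⟩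
  have hb : b ≤ 2 := by omega
  interval_cases b
  · have ha : a = 4 := by omega
    subst ha
    apply fin 1 (Subgroup.one_mem _) (one_pow 3)
    rw [htr, Units.val_one, Matrix.trace_one, Fintype.card_fin]
    push_cast
    ring
  · have ha : a = 2 := by omega
    subst ha
    apply fin n₁ hn₁N hn₁3
    rw [htr, hn₁t]
    push_cast
    ring
  · have ha : a = 0 := by omega
    subst ha
    apply fin n₂ hn₂N hn₂3
    rw [htr, hn₂t]
    push_cast
    ring

end Cfsg.Agent.Lib.Helper22.ES64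

namespace Cfsg.Agent.Lib.Helper22.ES64

variable {F : Type*} [Field F]
variable {R : Subgroup (GL (Fin 4) F)} {ζ : F} {zg : GL (Fin 4) F}
variable {a₁ b₁ a₂ b₂ : GL (Fin 4) F}

theorem mod_five_of_order (p : ℕ) (h : orderOf (p : ZMod 5) = 4) : p % 5 = 2 ∨ p % 5 = 3 := by
  have h1 : (p : ZMod 5) ^ 4 = 1 := by rw [← h]; exact pow_orderOf_eq_one _
  have h2 : (p : ZMod 5) ^ 2 ≠ 1 := pow_ne_one_of_lt_orderOf (by norm_num) (by rw [h]; norm_num)
  have key : ∀ a : ZMod 5, a ^ 4 = 1 → a ^ 2 ≠ 1 → a = 2 ∨ a = 3 := by decide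
  rcases key _ h1 h2 with h3 | h3
  · left
    have : (p : ZMod 5) = ((2 : ℕ) : ZMod 5) := by rw [h3]; rfl
    rw [ZMod.natCast_eq_natCast_iff'] at this
    exact this
  · right
    have : (p : ZMod 5) = ((3 : ℕ) : ZMod 5) := by rw [h3]; rfl
    rw [ZMod.natCast_eq_natCast_iff'] at this
    exact this

theorem exists_fifth_root [Fintype F] (p : ℕ) [Fact p.Prime] (hF : Fintype.card F = p)
    (h5 : p % 5 = 2 ∨ p % 5 = 3) : ∀ c : F, c ≠ 0 → ∃ μ : F, μ ^ 5 = c := by
  classical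
  intro c hc
  have hcard : Nat.card Fˣ = p - 1 := by
    rw [Nat.card_eq_fintype_card, Fintype.card_units, hF]
  have hcop : (Nat.card Fˣ).Coprime 5 := by
    rw [hcard, Nat.coprime_comm, Nat.Prime.coprime_iff_not_dvd (by norm_num)]
    have := (Fact.out : p.Prime).two_le
    omega
  obtain ⟨μ, hμ⟩ := (powCoprime hcop).surjective (Units.mk0 c hc)
  refine ⟨(μ : F), ?_⟩
  have : μ ^ 5 = Units.mk0 c hc := hμ
  have := congrArg Units.val this
  rwa [Units.val_pow_eq_pow_val, Units.val_mk0] at this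

theorem cyclotomic_five_irreducible [Fintype F] (p : ℕ) [Fact p.Prime] (hF : Fintype.card F = p)
    (h : orderOf (p : ZMod 5) = 4) : Irreducible (cyclotomic 5 F) := by
  have h5 := mod_five_of_order p h
  have hcop : p.Coprime 5 := by
    rw [Nat.coprime_primes (Fact.out : p.Prime) (by norm_num)]
    omega
  have hK : Fintype.card F = p ^ 1 := by rw [hF, pow_one]
  apply irreducible_of_dvd_cyclotomic_of_natDegree hK hcop dvd_rfl
  rw [natDegree_cyclotomic, ← orderOf_units, ZMod.coe_unitOfCoprime]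
  push_cast
  rw [pow_one, h]
  decide

end Cfsg.Agent.Lib.Helper22.ES64

namespace Cfsg.Agent.Lib.Helper22.ES64

variable {F : Type*} [Field F]
variable {R : Subgroup (GL (Fin 4) F)} {ζ : F} {zg : GL (Fin 4) F}
variable {a₁ b₁ a₂ b₂ : GL (Fin 4) F}

theorem Basis.conj_five [Fintype F] (B : Basis R ζ zg a₁ b₁ a₂ b₂) (p : ℕ) [Fact p.Prime]
    [CharP F p] (hF : Fintype.card F = p) (hp4 : p % 4 = 1) (hp5 : orderOf (p : ZMod 5) = 4)
    (x : GL (Fin 4) F) (hx : x ∈ Cfsg.Geo.specialLinear (Fin 4) F) (z : F)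
    (hxz : ((x ^ 5 : GL (Fin 4) F) : Matrix (Fin 4) (Fin 4) F) = z • 1) :
    ∃ g ∈ Cfsg.Geo.specialLinear (Fin 4) F,
      g⁻¹ * x * g ∈ Subgroup.normalizer (R : Set (GL (Fin 4) F)) := by
  have hp : 4 < p := four_lt_of_mod_four p hp4
  have h5 := mod_five_of_order p hp5
  have : Fact (Nat.Prime 5) := ⟨by norm_num⟩
  have hpne : p ≠ 5 := by omega
  have hz4 := scalar_pow_four_of_sl hx hxz
  have hz0 : z ≠ 0 := by
    intro h0
    rw [h0] at hz4
    norm_num at hz4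
  have hzi4 : z⁻¹ ^ 4 = 1 := by rw [inv_pow, hz4, inv_one]
  obtain ⟨hx', hx'5⟩ := rescale hx hxz z⁻¹ (inv_ne_zero hz0) hzi4 (by
    have : z⁻¹ ^ 5 * z = z⁻¹ ^ 4 * (z⁻¹ * z) := by ring
    rw [this, hzi4, inv_mul_cancel₀ hz0, one_mul])
  set f₁ : F[X] := X - C 1 with hf₁
  set f₂ : F[X] := cyclotomic 5 F with hf₂
  have i₁ : Irreducible f₁ := irreducible_X_sub_C 1
  have i₂ : Irreducible f₂ := cyclotomic_five_irreducible p hF hp5
  have m₁ : f₁.Monic := monic_X_sub_C 1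
  have hdeg : f₂.natDegree = 4 := by
    rw [hf₂, natDegree_cyclotomic]
    decide
  have m₂ : f₂.Monic := cyclotomic.monic 5 F
  have hnc₁ : f₁.nextCoeff = -1 := nextCoeff_X_sub_C 1
  have hnc₂ : f₂.nextCoeff = 1 := by
    rw [nextCoeff_of_natDegree_pos (by rw [hdeg]; norm_num), hdeg, hf₂,
      cyclotomic_prime F 5]
    simp [Finset.sum_range_succ, coeff_X_pow, coeff_X, coeff_one]
  have hd₁ : f₁.natDegree = 1 := natDegree_X_sub_C 1
  have hprod : f₁ * f₂ = X ^ 5 - 1 := by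
    rw [hf₁, hf₂, map_one, mul_comm]
    exact cyclotomic_prime_mul_X_sub_one F 5
  have h50 := five_ne_zero_of_char (F := F) p hpne
  have hnd : f₁.nextCoeff * (f₂.natDegree : F) - f₂.nextCoeff * (f₁.natDegree : F) ≠ 0 := by
    rw [hnc₁, hnc₂, hdeg, hd₁]
    intro h
    apply h50
    push_cast at h
    linear_combination -h
  have hk : Nat.Coprime 5 p := by
    rw [Nat.coprime_primes (by norm_num) (Fact.out : p.Prime)]
    omega
  have hxf : aeval ((sc z⁻¹ (inv_ne_zero hz0) * x : GL (Fin 4) F) : Matrix (Fin 4) (Fin 4) F)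
      (f₁ * f₂) = 0 := by
    rw [hprod]
    exact aeval_X_pow_sub_one _ 5 (val_pow_eq_one hx'5)
  obtain ⟨a, b, -, hab, htr⟩ := charpoly_data _ f₁ f₂ i₁ i₂ m₁ m₂ hxf
  rw [hd₁, hdeg] at hab
  rw [hnc₁, hnc₂] at htr
  obtain ⟨n₅, hn₅N, hn₅5, hn₅1⟩ := B.rep_five (exists_fifth_root p hF h5)
  have hn₅f : aeval (n₅ : Matrix (Fin 4) (Fin 4) F) (f₁ * f₂) = 0 := by
    rw [hprod]
    exact aeval_X_pow_sub_one _ 5 (val_pow_eq_one hn₅5)
  have h1f : aeval ((1 : GL (Fin 4) F) : Matrix (Fin 4) (Fin 4) F) (f₁ * f₂) = 0 := by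
    rw [hprod]
    exact aeval_X_pow_sub_one _ 5 (val_pow_eq_one (one_pow 5))
  have fin : ∀ n : GL (Fin 4) F, n ∈ Subgroup.normalizer (R : Set (GL (Fin 4) F)) → n ^ 5 = 1 →
      Matrix.trace ((sc z⁻¹ (inv_ne_zero hz0) * x : GL (Fin 4) F) : Matrix (Fin 4) (Fin 4) F) =
        Matrix.trace (n : Matrix (Fin 4) (Fin 4) F) →
      ∃ g ∈ Cfsg.Geo.specialLinear (Fin 4) F,
        g⁻¹ * x * g ∈ Subgroup.normalizer (R : Set (GL (Fin 4) F)) := by
    intro n hnN hn5 hnt
    have hnf : aeval (n : Matrix (Fin 4) (Fin 4) F) (f₁ * f₂) = 0 := by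
      rw [hprod]
      exact aeval_X_pow_sub_one _ 5 (val_pow_eq_one hn5)
    obtain ⟨g, hg, hgx⟩ := sl4_conj_of_trace p hp f₁ f₂ i₁ i₂ m₁ m₂ hnd _ n hx' 5 hk hx'5 hn5
      hxf hnf hnt
    exact ⟨g, hg, conj_finish (inv_ne_zero hz0) hnN hgx⟩
  -- the trace of `n₅`
  have htn₅ : Matrix.trace (n₅ : Matrix (Fin 4) (Fin 4) F) = -1 := by
    obtain ⟨a', b', -, hab', htr'⟩ := charpoly_data _ f₁ f₂ i₁ i₂ m₁ m₂ hn₅f
    rw [hd₁, hdeg] at hab'
    rw [hnc₁, hnc₂] at htr'
    have hb' : b' ≤ 1 := by omega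
    interval_cases b'
    · exfalso
      have ha' : a' = 4 := by omega
      subst ha'
      have ht1 : Matrix.trace (n₅ : Matrix (Fin 4) (Fin 4) F) =
          Matrix.trace ((1 : GL (Fin 4) F) : Matrix (Fin 4) (Fin 4) F) := by
        rw [htr', Units.val_one, Matrix.trace_one, Fintype.card_fin]
        push_cast
        ring
      have hc := charpoly_eq_of_trace_eq p hp _ _ f₁ f₂ i₁ i₂ m₁ m₂ hnd hn₅f h1f ht1
      have ho : (orderOf n₅).Coprime p :=
        Nat.Coprime.coprime_dvd_left (orderOf_dvd_of_pow_eq_one hn₅5) hk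
      have ho1 : (orderOf (1 : GL (Fin 4) F)).Coprime p := by
        rw [orderOf_one]; exact Nat.coprime_one_left p
      have := Cfsg.Agent.Lib.Helper14.isConj_GL_of_charpoly_eq p n₅ 1 ho ho1 hc
      exact hn₅1 (isConj_one_left.mp this)
    · have ha' : a' = 0 := by omega
      subst ha'
      rw [htr']
      push_cast
      ring
  have hb : b ≤ 1 := by omega
  interval_cases b
  · have ha : a = 4 := by omega
    subst ha
    apply fin 1 (Subgroup.one_mem _) (one_pow 5)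
    rw [htr, Units.val_one, Matrix.trace_one, Fintype.card_fin]
    push_cast
    ring
  · have ha : a = 0 := by omega
    subst ha
    apply fin n₅ hn₅N hn₅5
    rw [htr, htn₅]
    push_cast
    ring

end Cfsg.Agent.Lib.Helper22.ES64
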