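import Mathlib
import Cfsg.Agent.Lib.Helper22.ES64L

/-!
# `4 ∘ 2^{1+4}` in `GL_4(p)`: involutions (mod scalars) are conjugate into the normalizer
-/

set_option autoImplicit false
open scoped MatrixGroups
open Polynomial

namespace Cfsg.Agent.Lib.Helper22.ES64

variable {F : Type*} [Field F]
variable {R : Subgroup (GL (Fin 4) F)} {ζ : F} {zg : GL (Fin 4) F}
variable {a₁ b₁ a₂ b₂ : GL (Fin 4) F}

theorem pow_eight_eq_one {y : GL (Fin 4) F} {z : F} (hz4 : z ^ 4 = 1)
    (h : (y : Matrix (Fin 4) (Fin 4) F) * (y : Matrix (Fin 4) (Fin 4) F) = z • 1) : y ^ 8 = 1 := by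
  apply Units.ext
  have e : (y : Matrix (Fin 4) (Fin 4) F) ^ 8 =
      ((y : Matrix (Fin 4) (Fin 4) F) * (y : Matrix (Fin 4) (Fin 4) F)) ^ 4 := by
    rw [← pow_two, ← pow_mul]
  rw [Units.val_pow_eq_pow_val, e, h, _root_.smul_pow, one_pow, hz4, one_smul, Units.val_one]

theorem aeval_sq_sub (A : Matrix (Fin 4) (Fin 4) F) (z : F) (h : A * A = z • 1) :
    aeval A (X ^ 2 - C z : F[X]) = 0 := by
  rw [map_sub, map_pow, aeval_X, aeval_C, Algebra.algebraMap_eq_smul_one, pow_two, h, sub_self]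

theorem coprime_eight (p : ℕ) (hp4 : p % 4 = 1) : Nat.Coprime 8 p := by
  have h8 : (8 : ℕ) = 2 ^ 3 := by norm_num
  rw [h8]
  apply Nat.Coprime.pow_left
  rw [Nat.coprime_two_left]
  rw [Nat.odd_iff]
  omega

/-- if `x² = z` with `x ∈ SL_4` then `z` is a square -/
theorem Basis.exists_sqrt (B : Basis R ζ zg a₁ b₁ a₂ b₂)
    (x : GL (Fin 4) F) (hx : x ∈ Cfsg.Geo.specialLinear (Fin 4) F) (z : F)
    (hxz : (x : Matrix (Fin 4) (Fin 4) F) * (x : Matrix (Fin 4) (Fin 4) F) = z • 1)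
    (hz4 : z ^ 4 = 1) : ∃ ε : F, ε ^ 2 = z := by
  have hζ := B.gd.data.zeta
  have hf : (z - 1) * (z + 1) * ((z - ζ) * (z + ζ)) = 0 := by
    linear_combination hz4 - (z * z - 1) * hζ
  rcases mul_eq_zero.mp hf with h | h
  · rcases mul_eq_zero.mp h with h | h
    · exact ⟨1, by rw [one_pow]; exact (sub_eq_zero.mp h).symm⟩
    · refine ⟨ζ, ?_⟩
      rw [pow_two, hζ]
      exact (eq_neg_of_add_eq_zero_left h).symm
  · have hz2 : z * z = -1 := by
      rcases mul_eq_zero.mp h with h | h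
      · rw [sub_eq_zero.mp h, hζ]
      · rw [eq_neg_of_add_eq_zero_left h, neg_mul_neg, hζ]
    by_contra hcon
    push Not at hcon
    set f : F[X] := X ^ 2 - C z with hf
    have hdeg : f.natDegree = 2 := natDegree_X_pow_sub_C
    have hm : f.Monic := monic_X_pow_sub_C z (by norm_num)
    have hi : Irreducible f := by
      apply irreducible_of_degree_le_three_of_not_isRoot
      · rw [hdeg]; decide
      · intro w hw
        rw [IsRoot.def, hf, eval_sub, eval_pow, eval_X, eval_C] at hw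
        exact hcon w (sub_eq_zero.mp hw)
    have hxf : aeval (x : Matrix (Fin 4) (Fin 4) F) (f * f) = 0 := by
      rw [map_mul, aeval_sq_sub _ z hxz, mul_zero]
    obtain ⟨a, b, hab, hdab, -⟩ := charpoly_data _ f f hi hi hm hm hxf
    rw [hdeg] at hdab
    have h2 : a + b = 2 := by omega
    rw [mem_sl4_iff] at hx
    rw [Matrix.det_eq_sign_charpoly_coeff, hab, ← pow_add, h2, coeff_zero_eq_eval_zero, hf,
      eval_pow, eval_sub, eval_pow, eval_X, eval_C, Fintype.card_fin] at hx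
    have h3 : z * z = 1 := by linear_combination hx
    rw [hz2] at h3
    exact B.gd.data.two (by linear_combination -h3)

end Cfsg.Agent.Lib.Helper22.ES64

namespace Cfsg.Agent.Lib.Helper22.ES64

variable {F : Type*} [Field F]
variable {R : Subgroup (GL (Fin 4) F)} {ζ : F} {zg : GL (Fin 4) F}
variable {a₁ b₁ a₂ b₂ : GL (Fin 4) F}

theorem Basis.conj_two [Fintype F] (B : Basis R ζ zg a₁ b₁ a₂ b₂) (p : ℕ) [Fact p.Prime]
    [CharP F p] (hp4 : p % 4 = 1)
    (x : GL (Fin 4) F) (hx : x ∈ Cfsg.Geo.specialLinear (Fin 4) F) (z : F)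
    (hxz : ((x ^ 2 : GL (Fin 4) F) : Matrix (Fin 4) (Fin 4) F) = z • 1) :
    ∃ g ∈ Cfsg.Geo.specialLinear (Fin 4) F,
      g⁻¹ * x * g ∈ Subgroup.normalizer (R : Set (GL (Fin 4) F)) := by
  have hp : 4 < p := four_lt_of_mod_four p hp4
  have h2 := B.gd.data.two
  have hz4 := scalar_pow_four_of_sl hx hxz
  have hz0 : z ≠ 0 := by
    intro h0
    rw [h0] at hz4
    norm_num at hz4
  have hxx : (x : Matrix (Fin 4) (Fin 4) F) * (x : Matrix (Fin 4) (Fin 4) F) = z • 1 := by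
    rw [← hxz, pow_two, Units.val_mul]
  obtain ⟨ε, hε⟩ := B.exists_sqrt x hx z hxx hz4
  have hε0 : ε ≠ 0 := by
    intro h0
    rw [h0] at hε
    apply hz0
    rw [← hε]
    norm_num
  set f₁ : F[X] := X - C ε with hf₁
  set f₂ : F[X] := X - C (-ε) with hf₂
  have i₁ : Irreducible f₁ := irreducible_X_sub_C ε
  have i₂ : Irreducible f₂ := irreducible_X_sub_C (-ε)
  have m₁ : f₁.Monic := monic_X_sub_C ε
  have m₂ : f₂.Monic := monic_X_sub_C (-ε)
  have hnc₁ : f₁.nextCoeff = -ε := nextCoeff_X_sub_C ε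
  have hnc₂ : f₂.nextCoeff = ε := by
    rw [hf₂, nextCoeff_X_sub_C, neg_neg]
  have hd₁ : f₁.natDegree = 1 := natDegree_X_sub_C ε
  have hd₂ : f₂.natDegree = 1 := natDegree_X_sub_C (-ε)
  have hprod : f₁ * f₂ = X ^ 2 - C z := by
    rw [hf₁, hf₂, ← hε, map_neg, map_pow]
    ring
  have hnd : f₁.nextCoeff * (f₂.natDegree : F) - f₂.nextCoeff * (f₁.natDegree : F) ≠ 0 := by
    rw [hnc₁, hnc₂, hd₁, hd₂]
    intro h
    push_cast at h
    have h3 : (2 : F) * ε = 0 := by linear_combination -h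
    rcases mul_eq_zero.mp h3 with h4 | h4
    · exact h2 h4
    · exact hε0 h4
  have hk : Nat.Coprime 8 p := coprime_eight p hp4
  have hx8 : x ^ 8 = 1 := pow_eight_eq_one hz4 hxx
  have hxf : aeval (x : Matrix (Fin 4) (Fin 4) F) (f₁ * f₂) = 0 := by
    rw [hprod]
    exact aeval_sq_sub _ z hxx
  obtain ⟨a, b, hcp, hab, htr⟩ := charpoly_data _ f₁ f₂ i₁ i₂ m₁ m₂ hxf
  rw [hd₁, hd₂] at hab
  rw [hnc₁, hnc₂] at htr
  have fin : ∀ n : GL (Fin 4) F, n ∈ Subgroup.normalizer (R : Set (GL (Fin 4) F)) →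
      (n : Matrix (Fin 4) (Fin 4) F) * (n : Matrix (Fin 4) (Fin 4) F) = z • 1 →
      Matrix.trace (x : Matrix (Fin 4) (Fin 4) F) =
        Matrix.trace (n : Matrix (Fin 4) (Fin 4) F) →
      ∃ g ∈ Cfsg.Geo.specialLinear (Fin 4) F,
        g⁻¹ * x * g ∈ Subgroup.normalizer (R : Set (GL (Fin 4) F)) := by
    intro n hnN hnn hnt
    have hnf : aeval (n : Matrix (Fin 4) (Fin 4) F) (f₁ * f₂) = 0 := by
      rw [hprod]
      exact aeval_sq_sub _ z hnn
    obtain ⟨g, hg, hgx⟩ := sl4_conj_of_trace p hp f₁ f₂ i₁ i₂ m₁ m₂ hnd x n hx 8 hk hx8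
      (pow_eight_eq_one hz4 hnn) hxf hnf hnt
    exact ⟨g, hg, by rw [hgx]; exact hnN⟩
  have hsc : ∀ c : F, ∀ hc : c ≠ 0, c ^ 2 = z →
      ((sc c hc : GL (Fin 4) F) : Matrix (Fin 4) (Fin 4) F) *
        ((sc c hc : GL (Fin 4) F) : Matrix (Fin 4) (Fin 4) F) = z • 1 := by
    intro c hc hcz
    rw [sc_val, Matrix.smul_mul, Matrix.one_mul, smul_smul, ← pow_two, hcz]
  have htsc : ∀ c : F, ∀ hc : c ≠ 0,
      Matrix.trace ((sc c hc : GL (Fin 4) F) : Matrix (Fin 4) (Fin 4) F) = 4 * c := by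
    intro c hc
    rw [sc_val, Matrix.trace_smul, Matrix.trace_one, Fintype.card_fin, smul_eq_mul]
    push_cast
    ring
  have hneg : (-ε) ^ 2 = z := by rw [neg_pow_two, hε]
  have ha : a ≤ 4 := by omega
  interval_cases a
  · have hb : b = 4 := by omega
    subst hb
    apply fin (sc (-ε) (neg_ne_zero.mpr hε0)) (sc_mem_normalizer _ _) (hsc _ _ hneg)
    rw [htr, htsc]
    push_cast
    ring
  · have hb : b = 3 := by omega
    subst hb
    obtain ⟨n, hnN, hnn, hnt⟩ := B.rep_cz (-ε) (neg_ne_zero.mpr hε0)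
    rw [hneg] at hnn
    apply fin n hnN hnn
    rw [htr, hnt]
    push_cast
    ring
  · have hb : b = 2 := by omega
    subst hb
    -- the determinant forces `z = ±1`
    have hz2 : z * z = 1 := by
      have hx1 := hx
      rw [mem_sl4_iff] at hx1
      rw [Matrix.det_eq_sign_charpoly_coeff, hcp, coeff_zero_eq_eval_zero, hf₁, hf₂,
        eval_mul, eval_pow, eval_pow, eval_sub, eval_sub, eval_X, eval_C, eval_C,
        Fintype.card_fin] at hx1
      have : z * z = (ε ^ 2) ^ 2 := by rw [hε]; ring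
      rw [this]
      linear_combination hx1
    have hz1 : z = 1 ∨ z = -1 := by
      have h3 : (z - 1) * (z + 1) = 0 := by linear_combination hz2
      rcases mul_eq_zero.mp h3 with h | h
      · left; exact sub_eq_zero.mp h
      · right; exact eq_neg_of_add_eq_zero_left h
    obtain ⟨n, hnN, hnn, hnt⟩ := B.rep_invol z hz1
    apply fin n hnN hnn
    rw [htr, hnt]
    push_cast
    ring
  · have hb : b = 1 := by omega
    subst hb
    obtain ⟨n, hnN, hnn, hnt⟩ := B.rep_cz ε hε0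
    rw [hε] at hnn
    apply fin n hnN hnn
    rw [htr, hnt]
    push_cast
    ring
  · have hb : b = 0 := by omega
    subst hb
    apply fin (sc ε hε0) (sc_mem_normalizer _ _) (hsc _ _ hε)
    rw [htr, htsc]
    push_cast
    ring

end Cfsg.Agent.Lib.Helper22.ES64
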