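import Mathlib
import Cfsg.Agent.Lib.Helper22.ES64M

/-!
# `4 ∘ 2^{1+4}` in `GL_4(p)`: elements of prime order not conjugate into the normalizer
-/

set_option autoImplicit false
open scoped MatrixGroups

namespace Cfsg.Agent.Lib.Helper22.ES64

variable {F : Type*} [Field F]
variable {R : Subgroup (GL (Fin 4) F)} {ζ : F} {zg : GL (Fin 4) F}

theorem conj_pow' (x g : GL (Fin 4) F) (k : ℕ) : (g⁻¹ * x * g) ^ k = g⁻¹ * x ^ k * g := by
  have := conj_pow (a := g⁻¹) (b := x) (i := k)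
  rw [inv_inv] at this
  exact this

theorem trace_conj' (x g : GL (Fin 4) F) :
    Matrix.trace ((g⁻¹ * x * g : GL (Fin 4) F) : Matrix (Fin 4) (Fin 4) F) =
      Matrix.trace (x : Matrix (Fin 4) (Fin 4) F) := by
  rw [Units.val_mul, Units.val_mul, Matrix.trace_mul_cycle, ← Units.val_mul, mul_inv_cancel,
    Units.val_one, Matrix.one_mul]

theorem conj_inv' (x g : GL (Fin 4) F) : (g⁻¹ * x * g)⁻¹ = g⁻¹ * x⁻¹ * g := by group

theorem ns_conj {x : GL (Fin 4) F} (h : ∀ z : F, (x : Matrix (Fin 4) (Fin 4) F) ≠ z • 1)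
    (g : GL (Fin 4) F) : NS (g⁻¹ * x * g) := by
  rintro ⟨c, hc⟩
  apply h c
  have h1 : x = g * (g⁻¹ * x * g) * g⁻¹ := by group
  rw [h1, Units.val_mul, Units.val_mul, hc, Matrix.mul_smul, Matrix.mul_one, Matrix.smul_mul,
    ← Units.val_mul, mul_inv_cancel, Units.val_one]

theorem pow_val_one {y : GL (Fin 4) F} {k : ℕ} (h : y ^ k = 1) :
    ((y ^ k : GL (Fin 4) F) : Matrix (Fin 4) (Fin 4) F) = (1 : F) • 1 := by
  rw [h, Units.val_one, one_smul]

/-- primes `r ≥ 7` dividing the index -/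
theorem GData.large_prime_false [Fintype F] (d : GData R ζ zg) (r : ℕ) [Fact r.Prime]
    (hr7 : 7 ≤ r)
    (hΩ : r ∣ (Subgroup.normalizer (R : Set (GL (Fin 4) F))).relIndex
      (Cfsg.Geo.specialLinear (Fin 4) F))
    (hall : ∀ x ∈ Cfsg.Geo.specialLinear (Fin 4) F,
      (∃ z : F, ((x ^ r : GL (Fin 4) F) : Matrix (Fin 4) (Fin 4) F) = z • 1) →
      (∀ z : F, (x : Matrix (Fin 4) (Fin 4) F) ≠ z • 1) →
      ∃ g ∈ Cfsg.Geo.specialLinear (Fin 4) F,
        g⁻¹ * x * g ∈ Subgroup.normalizer (R : Set (GL (Fin 4) F))) : False := by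
  classical
  have hdvd : r ∣ Nat.card (Cfsg.Geo.specialLinear (Fin 4) F) :=
    hΩ.trans (Subgroup.relIndex_dvd_card _ _)
  obtain ⟨x, hx⟩ := exists_prime_orderOf_dvd_card' r hdvd
  have hx1 : (x : GL (Fin 4) F) ^ r = 1 := by
    have := pow_orderOf_eq_one x
    rw [hx] at this
    have h2 := congrArg Subtype.val this
    simpa using h2
  have hns : ∀ z : F, ((x : GL (Fin 4) F) : Matrix (Fin 4) (Fin 4) F) ≠ z • 1 := by
    intro z hz
    have hz4 : z ^ 4 = 1 := by
      have h1 := x.2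
      rw [mem_sl4_iff, hz, Matrix.det_smul, Matrix.det_one, Fintype.card_fin, mul_one] at h1
      exact h1
    have hx4 : (x : GL (Fin 4) F) ^ 4 = 1 := by
      apply Units.ext
      rw [Units.val_pow_eq_pow_val, hz, smul_pow, one_pow, hz4, one_smul, Units.val_one]
    have hx4' : x ^ 4 = 1 := by
      apply Subtype.ext
      simpa using hx4
    have := orderOf_dvd_of_pow_eq_one hx4'
    rw [hx] at this
    have := Nat.le_of_dvd (by norm_num) this
    omega
  obtain ⟨g, -, hg⟩ := hall x x.2 ⟨1, pow_val_one hx1⟩ hns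
  have hyr : (g⁻¹ * (x : GL (Fin 4) F) * g) ^ r = 1 := by
    rw [conj_pow', hx1]; group
  exact d.no_large_prime hg hr7 (pow_val_one hyr) (ns_conj hns g)

end Cfsg.Agent.Lib.Helper22.ES64

namespace Cfsg.Agent.Lib.Helper22.ES64

variable {F : Type*} [Field F]
variable {R : Subgroup (GL (Fin 4) F)} {ζ : F} {zg : GL (Fin 4) F}

theorem natCast_ne_zero_of_char (p : ℕ) [CharP F p] (hp4 : p % 4 = 1) (hp : 4 < p) (m : ℕ)
    (hm : m = 12 ∨ m = 24) : ((m : ℕ) : F) ≠ 0 := by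
  intro h
  rw [CharP.cast_eq_zero_iff F p] at h
  rcases hm with rfl | rfl
  · have := Nat.le_of_dvd (by norm_num) h
    interval_cases p <;> omega
  · have := Nat.le_of_dvd (by norm_num) h
    interval_cases p <;> omega

/-- if `p ≡ 1 (mod 3)` some element of order 3 is not conjugate into the normalizer -/
theorem GData.three_false [Fintype F] (d : GData R ζ zg) (p : ℕ) [Fact p.Prime] [CharP F p]
    (hF : Fintype.card F = p) (hp4 : p % 4 = 1) (hp3 : p % 3 = 1)
    (hall : ∀ x ∈ Cfsg.Geo.specialLinear (Fin 4) F,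
      (∃ z : F, ((x ^ 3 : GL (Fin 4) F) : Matrix (Fin 4) (Fin 4) F) = z • 1) →
      (∀ z : F, (x : Matrix (Fin 4) (Fin 4) F) ≠ z • 1) →
      ∃ g ∈ Cfsg.Geo.specialLinear (Fin 4) F,
        g⁻¹ * x * g ∈ Subgroup.normalizer (R : Set (GL (Fin 4) F))) : False := by
  classical
  have hp : 4 < p := four_lt_of_mod_four p hp4
  -- a primitive cube root of unity
  have hdvd : 3 ∣ Nat.card Fˣ := by
    rw [Nat.card_eq_fintype_card, Fintype.card_units, hF]
    omega
  have : Fact (Nat.Prime 3) := ⟨by norm_num⟩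
  obtain ⟨u, hu⟩ := exists_prime_orderOf_dvd_card' 3 hdvd
  set ω : F := (u : F) with hω
  have hω3 : ω ^ 3 = 1 := by
    have := pow_orderOf_eq_one u
    rw [hu] at this
    have h2 := congrArg Units.val this
    simpa using h2
  have hω1 : ω ≠ 1 := by
    intro h1
    have : u = 1 := Units.ext h1
    rw [this, orderOf_one] at hu
    norm_num at hu
  have hωq : ω ^ 2 + ω + 1 = 0 := by
    have h1 : (ω - 1) * (ω ^ 2 + ω + 1) = 0 := by linear_combination hω3
    rcases mul_eq_zero.mp h1 with h | h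
    · exact absurd (sub_eq_zero.mp h) hω1
    · exact h
  -- the element `diag(ω, ω, ω, 1)`
  have hmul : (Matrix.diagonal ![ω, ω, ω, 1] : Matrix (Fin 4) (Fin 4) F) *
      Matrix.diagonal ![ω ^ 2, ω ^ 2, ω ^ 2, 1] = 1 := by
    rw [Matrix.diagonal_mul_diagonal, ← Matrix.diagonal_one]
    congr 1
    funext i
    fin_cases i <;> simp <;> linear_combination hω3
  have hmul' : (Matrix.diagonal ![ω ^ 2, ω ^ 2, ω ^ 2, 1] : Matrix (Fin 4) (Fin 4) F) *
      Matrix.diagonal ![ω, ω, ω, 1] = 1 := by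
    rw [Matrix.diagonal_mul_diagonal, ← Matrix.diagonal_one]
    congr 1
    funext i
    fin_cases i <;> simp <;> linear_combination hω3
  let x : GL (Fin 4) F := ⟨Matrix.diagonal ![ω, ω, ω, 1], Matrix.diagonal ![ω ^ 2, ω ^ 2, ω ^ 2, 1],
    hmul, hmul'⟩
  have hxv : (x : Matrix (Fin 4) (Fin 4) F) = Matrix.diagonal ![ω, ω, ω, 1] := rfl
  have hxiv : ((x⁻¹ : GL (Fin 4) F) : Matrix (Fin 4) (Fin 4) F) =
      Matrix.diagonal ![ω ^ 2, ω ^ 2, ω ^ 2, 1] := rfl
  have hxSL : x ∈ Cfsg.Geo.specialLinear (Fin 4) F := by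
    rw [mem_sl4_iff, hxv, Matrix.det_diagonal, Fin.prod_univ_four]
    simp
    linear_combination hω3
  have hx3 : x ^ 3 = 1 := by
    apply Units.ext
    rw [Units.val_pow_eq_pow_val, hxv, Matrix.diagonal_pow, Units.val_one, ← Matrix.diagonal_one]
    congr 1
    funext i
    fin_cases i <;> simp [hω3]
  have hxns : ∀ z : F, (x : Matrix (Fin 4) (Fin 4) F) ≠ z • 1 := by
    intro z hz
    have h0 := congrFun (congrFun hz 0) 0
    have h3 := congrFun (congrFun hz 3) 3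
    rw [hxv] at h0 h3
    simp at h0 h3
    exact hω1 (h0.trans h3.symm)
  obtain ⟨g, -, hg⟩ := hall x hxSL ⟨1, pow_val_one hx3⟩ hxns
  have hyr : (g⁻¹ * x * g) ^ 3 = 1 := by
    rw [conj_pow', hx3]; group
  obtain ⟨k, -, hk, hkd, hktr⟩ := d.centralizer_props hg (r := 3) (by norm_num) (pow_val_one hyr)
    (ns_conj hxns g)
  rw [conj_inv', trace_conj', trace_conj', hxv, hxiv, Matrix.trace_diagonal,
    Matrix.trace_diagonal, Fin.sum_univ_four, Fin.sum_univ_four] at hktr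
  simp only [Matrix.cons_val_zero, Matrix.cons_val_one, Matrix.cons_val_two,
    Matrix.cons_val_three, Matrix.head_cons, Matrix.tail_cons] at hktr
  have h28 : (28 : F) = (k : F) := by
    rw [← hktr]
    linear_combination (-12 : F) * hωq - 36 * hω3
  rcases hk with rfl | rfl | rfl | rfl
  · apply natCast_ne_zero_of_char (F := F) p hp4 hp 24 (Or.inr rfl)
    push_cast at h28 ⊢
    linear_combination h28
  · omega
  · apply natCast_ne_zero_of_char (F := F) p hp4 hp 12 (Or.inl rfl)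
    push_cast at h28 ⊢
    linear_combination h28
  · omega

end Cfsg.Agent.Lib.Helper22.ES64

namespace Cfsg.Agent.Lib.Helper22.ES64

variable {F : Type*} [Field F]
variable {R : Subgroup (GL (Fin 4) F)} {ζ : F} {zg : GL (Fin 4) F}

/-- a root of `X² + X - 1` when `p ≡ ±1 (mod 5)` and `p ≡ 1 (mod 4)` -/
theorem exists_golden (p : ℕ) [Fact p.Prime] [CharP F p] (hp4 : p % 4 = 1)
    (hp5 : p % 5 = 1 ∨ p % 5 = 4) (h2 : (2 : F) ≠ 0) : ∃ τ : F, τ ^ 2 + τ - 1 = 0 := by
  have : Fact (Nat.Prime 5) := ⟨by norm_num⟩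
  have hsq : IsSquare ((p : ℕ) : ZMod 5) := by
    rw [← ZMod.natCast_mod p 5]
    rcases hp5 with h | h <;> rw [h]
    · exact ⟨1, by norm_num⟩
    · exact ⟨2, by norm_num⟩
  have hsq' : IsSquare ((5 : ℕ) : ZMod p) :=
    (ZMod.exists_sq_eq_prime_iff_of_mod_four_eq_one hp4 (by norm_num)).mpr hsq
  obtain ⟨σ, hσ⟩ := hsq'
  let φ : ZMod p →+* F := ZMod.castHom (dvd_refl p) F
  have hs : φ σ * φ σ = 5 := by
    rw [← map_mul, ← hσ, map_natCast]
    norm_num
  refine ⟨(φ σ - 1) / 2, ?_⟩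
  field_simp
  linear_combination hs

end Cfsg.Agent.Lib.Helper22.ES64

namespace Cfsg.Agent.Lib.Helper22.ES64

variable {F : Type*} [Field F]
variable {R : Subgroup (GL (Fin 4) F)} {ζ : F} {zg : GL (Fin 4) F}

/-- an element of order 5 built from a root of `X² + X - 1` -/
theorem exists_golden_elt (τ : F) (hτ : τ ^ 2 + τ - 1 = 0) :
    ∃ x : GL (Fin 4) F, x ∈ Cfsg.Geo.specialLinear (Fin 4) F ∧ x ^ 5 = 1 ∧
      (∀ z : F, (x : Matrix (Fin 4) (Fin 4) F) ≠ z • 1) ∧
      Matrix.trace (x : Matrix (Fin 4) (Fin 4) F) = τ + 2 ∧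
      Matrix.trace ((x⁻¹ : GL (Fin 4) F) : Matrix (Fin 4) (Fin 4) F) = τ + 2 := by
  set X : Matrix (Fin 4) (Fin 4) F := !![0,-1,0,0; 1,τ,0,0; 0,0,1,0; 0,0,0,1] with hX
  set X' : Matrix (Fin 4) (Fin 4) F := !![τ,1,0,0; -1,0,0,0; 0,0,1,0; 0,0,0,1] with hX'
  set M : Matrix (Fin 4) (Fin 4) F := !![-1,-τ,0,0; τ,-τ,0,0; 0,0,1,0; 0,0,0,1] with hM
  have h1 : X * X' = 1 := by
    ext i j
    fin_cases i <;> fin_cases j <;> simp [hX, hX', Matrix.mul_apply, Fin.sum_univ_four]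
  have h2 : X' * X = 1 := by
    ext i j
    fin_cases i <;> fin_cases j <;> simp [hX, hX', Matrix.mul_apply, Fin.sum_univ_four]
  have h3 : X * X = M := by
    ext i j
    fin_cases i <;> fin_cases j <;> simp [hX, hM, Matrix.mul_apply, Fin.sum_univ_four]
    linear_combination hτ
  have h4 : M * M = X' := by
    ext i j
    fin_cases i <;> fin_cases j <;> simp [hX', hM, Matrix.mul_apply, Fin.sum_univ_four] <;>
      first | linear_combination hτ | linear_combination (-1 : F) * hτ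
  let x : GL (Fin 4) F := ⟨X, X', h1, h2⟩
  have hxv : (x : Matrix (Fin 4) (Fin 4) F) = X := rfl
  have hxiv : ((x⁻¹ : GL (Fin 4) F) : Matrix (Fin 4) (Fin 4) F) = X' := rfl
  refine ⟨x, ?_, ?_, ?_, ?_, ?_⟩
  · rw [mem_sl4_iff, hxv, hX, Matrix.det_succ_row_zero]
    simp [Fin.sum_univ_succ, Matrix.det_fin_three, Fin.succAbove, Matrix.submatrix]
  · apply Units.ext
    have e : X ^ 5 = (X * X) * (X * X) * X := by
      simp only [pow_succ, pow_zero, one_mul, Matrix.mul_assoc]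
    rw [Units.val_pow_eq_pow_val, hxv, e, h3, h4, h2, Units.val_one]
  · intro z hz
    rw [hxv] at hz
    have h00 := congrFun (congrFun hz 0) 0
    have h22 := congrFun (congrFun hz 2) 2
    simp [hX] at h00 h22
    rw [← h00] at h22
    exact one_ne_zero h22
  · rw [hxv, hX]
    simp [Matrix.trace, Fin.sum_univ_four]
    ring
  · rw [hxiv, hX']
    simp [Matrix.trace, Fin.sum_univ_four]
    ring

end Cfsg.Agent.Lib.Helper22.ES64

namespace Cfsg.Agent.Lib.Helper22.ES64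

variable {F : Type*} [Field F]
variable {R : Subgroup (GL (Fin 4) F)} {ζ : F} {zg : GL (Fin 4) F}

/-- if `p ≡ ±1 (mod 5)` some element of order 5 is not conjugate into the normalizer -/
theorem GData.five_false (d : GData R ζ zg) (p : ℕ) [Fact p.Prime] [CharP F p]
    (hp4 : p % 4 = 1) (hp5 : p % 5 = 1 ∨ p % 5 = 4)
    (hall : ∀ x ∈ Cfsg.Geo.specialLinear (Fin 4) F,
      (∃ z : F, ((x ^ 5 : GL (Fin 4) F) : Matrix (Fin 4) (Fin 4) F) = z • 1) →
      (∀ z : F, (x : Matrix (Fin 4) (Fin 4) F) ≠ z • 1) →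
      ∃ g ∈ Cfsg.Geo.specialLinear (Fin 4) F,
        g⁻¹ * x * g ∈ Subgroup.normalizer (R : Set (GL (Fin 4) F))) : False := by
  have h2 := d.data.two
  have : Fact (Nat.Prime 5) := ⟨by norm_num⟩
  obtain ⟨τ, hτ⟩ := exists_golden (F := F) p hp4 hp5 h2
  obtain ⟨x, hxSL, hx5, hxns, htx, htxi⟩ := exists_golden_elt τ hτ
  obtain ⟨g, -, hg⟩ := hall x hxSL ⟨1, pow_val_one hx5⟩ hxns
  have hyr : (g⁻¹ * x * g) ^ 5 = 1 := by
    rw [conj_pow', hx5]; group
  obtain ⟨k, -, hk, hkd, hktr⟩ := d.centralizer_props hg (r := 5) (by norm_num) (pow_val_one hyr)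
    (ns_conj hxns g)
  rw [conj_inv', trace_conj', trace_conj', htx, htxi] at hktr
  have hk4 : k = 4 := by
    rcases hk with rfl | rfl | rfl | rfl
    · rfl
    · omega
    · omega
    · omega
  subst hk4
  have h4 : (4 : F) ≠ 0 := by
    have : (4 : F) = 2 * 2 := by norm_num
    rw [this]
    exact mul_ne_zero h2 h2
  have h1 : (τ + 2) * (τ + 2) = 1 := by
    apply mul_left_cancel₀ h4
    push_cast at hktr
    linear_combination hktr
  have h5 : (5 : F) = 0 := by
    linear_combination (3 * τ - 1) * h1 - (3 * τ + 8) * hτ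
  have hpne : p ≠ 5 := by omega
  exact five_ne_zero_of_char (F := F) p hpne h5

end Cfsg.Agent.Lib.Helper22.ES64
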