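import Mathlib
import Cfsg.Agent.Lib.Helper22.ES64N

/-!
# `4 ∘ 2^{1+4}` in `GL_4(p)`: transvections do not normalize it
-/

set_option autoImplicit false
open scoped MatrixGroups

namespace Cfsg.Agent.Lib.Helper22.ES64

variable {F : Type*} [Field F]
variable {R : Subgroup (GL (Fin 4) F)} {ζ : F} {zg : GL (Fin 4) F}

theorem rank_add_le' (A B : Matrix (Fin 4) (Fin 4) F) : (A + B).rank ≤ A.rank + B.rank := by
  unfold Matrix.rank
  rw [Matrix.mulVecLin_add]
  exact (Submodule.finrank_mono (LinearMap.range_add_le _ _)).trans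
    (Submodule.finrank_add_le_finrank_add_finrank _ _)

theorem neg_ne_self (d : GData R ζ zg) (x : GL (Fin 4) F) : -x ≠ x := by
  intro hx
  apply d.neg_ne
  have : (-1 : GL (Fin 4) F) * x = 1 * x := by rw [neg_one_mul, one_mul, hx]
  exact mul_right_cancel this

/-- commutators of an element `y = 1 + (rank one)` of the normalizer with `R` are involutions -/
theorem GData.comm_sq_of_rank_one (d : GData R ζ zg) {y : GL (Fin 4) F}
    (hy : y ∈ Subgroup.normalizer (R : Set (GL (Fin 4) F)))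
    {v w v' w' : Fin 4 → F}
    (hY : (y : Matrix (Fin 4) (Fin 4) F) = 1 + Matrix.vecMulVec v w)
    (hY' : ((y⁻¹ : GL (Fin 4) F) : Matrix (Fin 4) (Fin 4) F) = 1 + Matrix.vecMulVec v' w') :
    ∀ s ∈ R, (y * s * y⁻¹ * s⁻¹) * (y * s * y⁻¹ * s⁻¹) = 1 := by
  intro s hs
  have h2 := d.data.two
  have hu : y * s * y⁻¹ * s⁻¹ ∈ R :=
    R.mul_mem ((Subgroup.mem_normalizer_iff.mp hy s).mp hs) (R.inv_mem hs)
  rcases d.sq _ hu with h | h
  · exact h
  · exfalso
    set u : GL (Fin 4) F := y * s * y⁻¹ * s⁻¹ with hudef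
    set S : Matrix (Fin 4) (Fin 4) F := (s : Matrix (Fin 4) (Fin 4) F) with hS
    set S' : Matrix (Fin 4) (Fin 4) F := ((s⁻¹ : GL (Fin 4) F) : Matrix (Fin 4) (Fin 4) F) with hS'
    set P : Matrix (Fin 4) (Fin 4) F := Matrix.vecMulVec v w with hP
    set P' : Matrix (Fin 4) (Fin 4) F := Matrix.vecMulVec v' w' with hP'
    have hSS' : S * S' = 1 := by rw [hS, hS', ← Units.val_mul, mul_inv_cancel, Units.val_one]
    have hU : (u : Matrix (Fin 4) (Fin 4) F) - 1 = P * (1 + S * P' * S') + S * P' * S' := by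
      rw [hudef, Units.val_mul, Units.val_mul, Units.val_mul, hY, hY']
      have e : (1 + P) * S * (1 + P') * S' = (1 + P) * (S * S' + S * P' * S') := by
        simp only [mul_add, add_mul, Matrix.mul_assoc, mul_one, one_mul]
      rw [e, hSS']
      simp only [mul_add, add_mul, mul_one, one_mul]
      abel
    have hrk : ((u : Matrix (Fin 4) (Fin 4) F) - 1).rank ≤ 2 := by
      rw [hU]
      refine (rank_add_le' _ _).trans ?_
      have r1 : (P * (1 + S * P' * S')).rank ≤ 1 :=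
        (Matrix.rank_mul_le_left _ _).trans (Matrix.rank_vecMulVec_le v w)
      have r2 : (S * P' * S').rank ≤ 1 :=
        (Matrix.rank_mul_le_left _ _).trans
          ((Matrix.rank_mul_le_right _ _).trans (Matrix.rank_vecMulVec_le v' w'))
      omega
    have hUU : (u : Matrix (Fin 4) (Fin 4) F) * (u : Matrix (Fin 4) (Fin 4) F) = -1 := by
      rw [← Units.val_mul, h, Units.val_neg, Units.val_one]
    have hunit : IsUnit ((u : Matrix (Fin 4) (Fin 4) F) - 1) := by
      refine ⟨⟨(u : Matrix (Fin 4) (Fin 4) F) - 1,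
        (-(2 : F)⁻¹) • ((u : Matrix (Fin 4) (Fin 4) F) + 1), ?_, ?_⟩, rfl⟩
      · rw [Matrix.mul_smul, sub_mul, mul_add, mul_add, hUU, mul_one, one_mul, one_mul]
        have : -1 + (u : Matrix (Fin 4) (Fin 4) F) - ((u : Matrix (Fin 4) (Fin 4) F) + 1) =
            (-2 : F) • (1 : Matrix (Fin 4) (Fin 4) F) := by
          rw [neg_smul, two_smul]; abel
        rw [this, smul_smul]
        have : -(2 : F)⁻¹ * -2 = 1 := by field_simp
        rw [this, one_smul]
      · rw [Matrix.smul_mul, add_mul, mul_sub, mul_sub, hUU, mul_one, one_mul, one_mul]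
        have : -1 - (u : Matrix (Fin 4) (Fin 4) F) + ((u : Matrix (Fin 4) (Fin 4) F) - 1) =
            (-2 : F) • (1 : Matrix (Fin 4) (Fin 4) F) := by
          rw [neg_smul, two_smul]; abel
        rw [this, smul_smul]
        have : -(2 : F)⁻¹ * -2 = 1 := by field_simp
        rw [this, one_smul]
    have := Matrix.rank_of_isUnit _ hunit
    rw [Fintype.card_fin] at this
    omega

end Cfsg.Agent.Lib.Helper22.ES64

namespace Cfsg.Agent.Lib.Helper22.ES64

variable {F : Type*} [Field F]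
variable {R : Subgroup (GL (Fin 4) F)} {ζ : F} {zg : GL (Fin 4) F}

/-- commuting is "bimultiplicative" on `R` -/
theorem GData.comm_mul_iff (d : GData R ζ zg) {g h k : GL (Fin 4) F} (hg : g ∈ R) (hh : h ∈ R)
    (hk : k ∈ R) : (g * h) * k = k * (g * h) ↔ (g * k = k * g ↔ h * k = k * h) := by
  rcases d.comm g hg k hk with h1 | h1 <;> rcases d.comm h hh k hk with h2 | h2
  · have : g * h * k = k * (g * h) := by
      rw [mul_assoc, h2, ← mul_assoc, h1, mul_assoc]
    exact ⟨fun _ => ⟨fun _ => h2, fun _ => h1⟩, fun _ => this⟩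
  · have e : g * h * k = -(k * (g * h)) := by
      rw [mul_assoc, h2, mul_neg, ← mul_assoc, h1, mul_assoc]
    have n1 : ¬ (g * h * k = k * (g * h)) := by
      intro h3; rw [h3] at e; exact neg_ne_self d _ e.symm
    have n2 : ¬ (h * k = k * h) := by
      intro h3; rw [h3] at h2; exact neg_ne_self d _ h2.symm
    exact ⟨fun h3 => absurd h3 n1, fun h3 => absurd (h3.mp h1) n2⟩
  · have e : g * h * k = -(k * (g * h)) := by
      rw [mul_assoc, h2, ← mul_assoc, h1, neg_mul, mul_assoc]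
    have n1 : ¬ (g * h * k = k * (g * h)) := by
      intro h3; rw [h3] at e; exact neg_ne_self d _ e.symm
    have n2 : ¬ (g * k = k * g) := by
      intro h3; rw [h3] at h1; exact neg_ne_self d _ h1.symm
    exact ⟨fun h3 => absurd h3 n1, fun h3 => absurd (h3.mpr h2) n2⟩
  · have e : g * h * k = k * (g * h) := by
      rw [mul_assoc, h2, mul_neg, ← mul_assoc, h1, neg_mul, neg_neg, mul_assoc]
    have n1 : ¬ (h * k = k * h) := by
      intro h3; rw [h3] at h2; exact neg_ne_self d _ h2.symm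
    have n2 : ¬ (g * k = k * g) := by
      intro h3; rw [h3] at h1; exact neg_ne_self d _ h1.symm
    exact ⟨fun _ => ⟨fun h3 => absurd h3 n2, fun h3 => absurd h3 n1⟩, fun _ => e⟩

theorem GData.comm_mul_iff' (d : GData R ζ zg) {g h k : GL (Fin 4) F} (hk : k ∈ R) (hg : g ∈ R)
    (hh : h ∈ R) : k * (g * h) = (g * h) * k ↔ (k * g = g * k ↔ k * h = h * k) := by
  rw [eq_comm, d.comm_mul_iff hg hh hk, eq_comm (a := g * k), eq_comm (a := h * k)]

theorem comm_inv_iff {g k : GL (Fin 4) F} : g⁻¹ * k = k * g⁻¹ ↔ g * k = k * g := by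
  constructor
  · intro h
    have h1 : Commute g⁻¹ k := h
    have := h1.inv_left
    rw [inv_inv] at this
    exact this.eq
  · intro h
    have h1 : Commute g k := h
    exact h1.inv_left.eq

theorem comm_inv_iff' {g k : GL (Fin 4) F} : k * g⁻¹ = g⁻¹ * k ↔ k * g = g * k := by
  rw [eq_comm, comm_inv_iff, eq_comm]

theorem comm_conj_iff (y g k : GL (Fin 4) F) :
    (y * g * y⁻¹) * (y * k * y⁻¹) = (y * k * y⁻¹) * (y * g * y⁻¹) ↔ g * k = k * g := by
  constructor
  · intro h
    have h1 : y * (g * k) * y⁻¹ = y * (k * g) * y⁻¹ := by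
      calc y * (g * k) * y⁻¹ = (y * g * y⁻¹) * (y * k * y⁻¹) := by group
        _ = (y * k * y⁻¹) * (y * g * y⁻¹) := h
        _ = y * (k * g) * y⁻¹ := by group
    exact mul_left_cancel (mul_right_cancel h1)
  · intro h
    calc (y * g * y⁻¹) * (y * k * y⁻¹) = y * (g * k) * y⁻¹ := by group
      _ = y * (k * g) * y⁻¹ := by rw [h]
      _ = (y * k * y⁻¹) * (y * g * y⁻¹) := by group

theorem prop_key (P Q S : Prop) (h : (P ↔ Q) ↔ (S ↔ P)) : Q ↔ S := by tauto

/-- the abstract step: if all commutators `[y, s]` are involutions then `y²` acts trivially on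
`R` modulo its centre -/
theorem GData.sq_central_of_comm_sq (d : GData R ζ zg) {y : GL (Fin 4) F}
    (hy : y ∈ Subgroup.normalizer (R : Set (GL (Fin 4) F)))
    (h1 : ∀ s ∈ R, (y * s * y⁻¹ * s⁻¹) * (y * s * y⁻¹ * s⁻¹) = 1) :
    ∀ s ∈ R, ∀ t ∈ R, (y * (y * s * y⁻¹) * y⁻¹ * s⁻¹) * t = t * (y * (y * s * y⁻¹) * y⁻¹ * s⁻¹) := by
  have hc : ∀ s ∈ R, y * s * y⁻¹ ∈ R := fun s hs => (Subgroup.mem_normalizer_iff.mp hy s).mp hs
  have hci : ∀ s ∈ R, y⁻¹ * s * y ∈ R := by
    intro s hs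
    rw [Subgroup.mem_normalizer_iff.mp hy (y⁻¹ * s * y)]
    have : y * (y⁻¹ * s * y) * y⁻¹ = s := by group
    rw [this]; exact hs
  have hu : ∀ s ∈ R, y * s * y⁻¹ * s⁻¹ ∈ R := fun s hs => R.mul_mem (hc s hs) (R.inv_mem hs)
  -- step 2: the commutators commute pairwise
  have step2 : ∀ s ∈ R, ∀ t ∈ R,
      (y * s * y⁻¹ * s⁻¹) * (y * t * y⁻¹ * t⁻¹) = (y * t * y⁻¹ * t⁻¹) * (y * s * y⁻¹ * s⁻¹) := by
    intro s hs t ht
    obtain ⟨a, ha⟩ : ∃ a, a = y * s * y⁻¹ * s⁻¹ := ⟨_, rfl⟩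
    obtain ⟨b, hb⟩ : ∃ b, b = y * t * y⁻¹ * t⁻¹ := ⟨_, rfl⟩
    have haa : a * a = 1 := by rw [ha]; exact h1 s hs
    have hbb : b * b = 1 := by rw [hb]; exact h1 t ht
    have hbR : b ∈ R := by rw [hb]; exact hu t ht
    have hst := h1 (s * t) (R.mul_mem hs ht)
    have e : y * (s * t) * y⁻¹ * (s * t)⁻¹ = a * (s * b * s⁻¹) := by
      rw [ha, hb]; group
    have hab : (a * b) * (a * b) = 1 := by
      rcases d.comm s hs b hbR with h | h
      · have : s * b * s⁻¹ = b := by rw [h]; group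
        rw [e, this] at hst
        exact hst
      · have : s * b * s⁻¹ = -b := by
          rw [h, neg_mul]; congr 1; group
        rw [e, this, mul_neg, neg_mul_neg] at hst
        exact hst
    rw [← ha, ← hb]
    calc a * b = a * ((a * b) * (a * b)) * b := by rw [hab, mul_one]
      _ = (a * a) * (b * a) * (b * b) := by group
      _ = b * a := by rw [haa, hbb, one_mul, mul_one]
  -- step 3
  have step3 : ∀ s ∈ R, ∀ t ∈ R,
      ((y * s * y⁻¹) * t = t * (y * s * y⁻¹) ↔ s * (y * t * y⁻¹) = (y * t * y⁻¹) * s) := by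
    intro s hs t ht
    have e0 := step2 s hs t ht
    have X1 := (d.comm_mul_iff (hc s hs) (R.inv_mem hs) (hu t ht)).mp e0
    rw [d.comm_mul_iff' (hc s hs) (hc t ht) (R.inv_mem ht),
      d.comm_mul_iff' (R.inv_mem hs) (hc t ht) (R.inv_mem ht),
      comm_conj_iff y s t, comm_inv_iff' (k := y * s * y⁻¹) (g := t),
      comm_inv_iff (g := s) (k := y * t * y⁻¹), comm_inv_iff (g := s) (k := t⁻¹),
      comm_inv_iff' (k := s) (g := t)] at X1
    exact prop_key _ _ _ X1
  -- step 4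
  intro s hs t ht
  have q1 := step3 s hs (y⁻¹ * t * y) (hci t ht)
  have e1 : y * (y⁻¹ * t * y) * y⁻¹ = t := by group
  rw [e1] at q1
  have q2 := comm_conj_iff y (y * s * y⁻¹) (y⁻¹ * t * y)
  rw [e1] at q2
  exact (d.comm_mul_iff (hc _ (hc s hs)) (R.inv_mem hs) ht).mpr
    ((q2.trans q1).trans (comm_inv_iff (g := s) (k := t)).symm)

end Cfsg.Agent.Lib.Helper22.ES64
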