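import Mathlib
import Cfsg.Agent.Lib.Helper22.ES64O

/-!
# `4 ∘ 2^{1+4}` in `GL_4(5)`: a transvection is not conjugate into the normalizer
-/

set_option autoImplicit false
open scoped MatrixGroups

namespace Cfsg.Agent.Lib.Helper22.ES64

variable {F : Type*} [Field F]
variable {R : Subgroup (GL (Fin 4) F)} {ζ : F} {zg : GL (Fin 4) F}

theorem single_eq_vmv (i j : Fin 4) (c : F) :
    Matrix.single i j c = Matrix.vecMulVec (Pi.single i c) (Pi.single j 1) := by
  ext a b
  simp only [Matrix.single, Matrix.of_apply, Matrix.vecMulVec_apply, Pi.single_apply]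
  by_cases h1 : a = i <;> by_cases h2 : b = j
  · simp [h1, h2]
  · have : ¬ j = b := fun h => h2 h.symm
    simp [h1, h2, this]
  · have : ¬ i = a := fun h => h1 h.symm
    simp [h1, h2, this]
  · have : ¬ i = a := fun h => h1 h.symm
    simp [h1, h2, this]

theorem conj_pow_scalar {w s m : GL (Fin 4) F} (hm : ∀ g : GL (Fin 4) F, m * g = g * m)
    (h : w * s * w⁻¹ = m * s) (n : ℕ) : w ^ n * s * (w ^ n)⁻¹ = m ^ n * s := by
  induction n with
  | zero => simp
  | succ n ih =>
    calc w ^ (n + 1) * s * (w ^ (n + 1))⁻¹ = w ^ n * (w * s * w⁻¹) * (w ^ n)⁻¹ := by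
          rw [pow_succ]; group
      _ = w ^ n * (m * s) * (w ^ n)⁻¹ := by rw [h]
      _ = m * (w ^ n * s * (w ^ n)⁻¹) := by
          rw [← mul_assoc (w ^ n) m s, ← hm (w ^ n)]; group
      _ = m ^ (n + 1) * s := by rw [ih, pow_succ' m n, mul_assoc]

theorem transvection_pow (k : ℕ) :
    (Matrix.transvection (0 : Fin 4) 1 (1 : F)) ^ k = Matrix.transvection 0 1 (k : F) := by
  induction k with
  | zero => simp
  | succ k ih =>
    rw [pow_succ, ih, Matrix.transvection_mul_transvection_same _ _ (by decide)]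
    push_cast
    rfl

end Cfsg.Agent.Lib.Helper22.ES64

namespace Cfsg.Agent.Lib.Helper22.ES64

variable {F : Type*} [Field F]
variable {R : Subgroup (GL (Fin 4) F)} {ζ : F} {zg : GL (Fin 4) F}

theorem GData.pow_four_of_scalar (d : GData R ζ zg) {m : GL (Fin 4) F} (hm : m ∈ R) {c : F}
    (hc : (m : Matrix (Fin 4) (Fin 4) F) = c • 1) : m ^ 4 = 1 := by
  rcases d.scalar_mem hm hc with h | h | h | h <;> rw [h]
  · exact one_pow 4
  · exact Even.neg_one_pow (by decide)
  · have : zg ^ 4 = (zg * zg) * (zg * zg) := by simp [pow_succ, mul_assoc]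
    rw [this, d.zg_sq]; simp
  · have : (-zg) ^ 4 = ((-zg) * (-zg)) * ((-zg) * (-zg)) := by simp [pow_succ, mul_assoc]
    rw [this, neg_mul_neg, d.zg_sq]; simp

/-- in characteristic 5 a transvection is not conjugate into the normalizer -/
theorem GData.char_five_false (d : GData R ζ zg) [CharP F 5]
    (hall : ∀ x ∈ Cfsg.Geo.specialLinear (Fin 4) F,
      (∃ z : F, ((x ^ 5 : GL (Fin 4) F) : Matrix (Fin 4) (Fin 4) F) = z • 1) →
      (∀ z : F, (x : Matrix (Fin 4) (Fin 4) F) ≠ z • 1) →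
      ∃ g ∈ Cfsg.Geo.specialLinear (Fin 4) F,
        g⁻¹ * x * g ∈ Subgroup.normalizer (R : Set (GL (Fin 4) F))) : False := by
  have h2 := d.data.two
  have hT : Matrix.transvection (0 : Fin 4) 1 (1 : F) * Matrix.transvection 0 1 (-1) = 1 := by
    rw [Matrix.transvection_mul_transvection_same _ _ (by decide), add_neg_cancel,
      Matrix.transvection_zero]
  have hT' : Matrix.transvection (0 : Fin 4) 1 (-1 : F) * Matrix.transvection 0 1 1 = 1 := by
    rw [Matrix.transvection_mul_transvection_same _ _ (by decide), neg_add_cancel,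
      Matrix.transvection_zero]
  let x : GL (Fin 4) F := ⟨Matrix.transvection 0 1 1, Matrix.transvection 0 1 (-1), hT, hT'⟩
  have hxv : (x : Matrix (Fin 4) (Fin 4) F) = Matrix.transvection 0 1 1 := rfl
  have hxiv : ((x⁻¹ : GL (Fin 4) F) : Matrix (Fin 4) (Fin 4) F) = Matrix.transvection 0 1 (-1) := rfl
  have hxSL : x ∈ Cfsg.Geo.specialLinear (Fin 4) F := by
    rw [mem_sl4_iff, hxv, Matrix.det_transvection_of_ne _ _ (by decide)]
  have hx5 : x ^ 5 = 1 := by
    apply Units.ext
    rw [Units.val_pow_eq_pow_val, hxv, transvection_pow, CharP.cast_eq_zero F 5,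
      Matrix.transvection_zero, Units.val_one]
  have hxns : ∀ z : F, (x : Matrix (Fin 4) (Fin 4) F) ≠ z • 1 := by
    intro z hz
    have h01 := congrFun (congrFun hz 0) 1
    rw [hxv] at h01
    simp [Matrix.transvection] at h01
  obtain ⟨g, -, hg⟩ := hall x hxSL ⟨1, pow_val_one hx5⟩ hxns
  obtain ⟨y, hy⟩ : ∃ y, y = g⁻¹ * x * g := ⟨_, rfl⟩
  rw [← hy] at hg
  have hy5 : y ^ 5 = 1 := by
    rw [hy, conj_pow', hx5]; group
  have hY : (y : Matrix (Fin 4) (Fin 4) F) = 1 + Matrix.vecMulVec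
      (Matrix.mulVec ((g⁻¹ : GL (Fin 4) F) : Matrix (Fin 4) (Fin 4) F) (Pi.single 0 1))
      (Matrix.vecMul (Pi.single 1 1) (g : Matrix (Fin 4) (Fin 4) F)) := by
    rw [hy, Units.val_mul, Units.val_mul, hxv, Matrix.transvection, mul_add, add_mul, mul_one,
      ← Units.val_mul, inv_mul_cancel, Units.val_one, single_eq_vmv, Matrix.mul_vecMulVec,
      Matrix.vecMulVec_mul]
  have hY' : ((y⁻¹ : GL (Fin 4) F) : Matrix (Fin 4) (Fin 4) F) = 1 + Matrix.vecMulVec
      (Matrix.mulVec ((g⁻¹ : GL (Fin 4) F) : Matrix (Fin 4) (Fin 4) F) (Pi.single 0 (-1)))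
      (Matrix.vecMul (Pi.single 1 1) (g : Matrix (Fin 4) (Fin 4) F)) := by
    rw [hy, conj_inv', Units.val_mul, Units.val_mul, hxiv, Matrix.transvection, mul_add, add_mul,
      mul_one, ← Units.val_mul, inv_mul_cancel, Units.val_one, single_eq_vmv, Matrix.mul_vecMulVec,
      Matrix.vecMulVec_mul]
  have h1 := d.comm_sq_of_rank_one hg hY hY'
  have h3 := d.sq_central_of_comm_sq hg h1
  have hcR : ∀ s ∈ R, y * s * y⁻¹ ∈ R := fun s hs => (Subgroup.mem_normalizer_iff.mp hg s).mp hs
  have hcomm : ∀ s ∈ R, (y * y) * s = s * (y * y) := by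
    intro s hs
    obtain ⟨m, hm⟩ : ∃ m, m = y * (y * s * y⁻¹) * y⁻¹ * s⁻¹ := ⟨_, rfl⟩
    have hmR : m ∈ R := by
      rw [hm]
      exact R.mul_mem (hcR _ (hcR s hs)) (R.inv_mem hs)
    obtain ⟨c, hc⟩ := d.scalar_of_central (g := m) (fun t ht => by rw [hm]; exact h3 s hs t ht)
    have hmcen : ∀ g : GL (Fin 4) F, m * g = g * m := scalar_comm hc
    have hm4 : m ^ 4 = 1 := d.pow_four_of_scalar hmR hc
    have hw : (y * y) * s * (y * y)⁻¹ = m * s := by rw [hm]; group
    have h5 := conj_pow_scalar hmcen hw 5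
    have hyy5 : (y * y) ^ 5 = 1 := by
      rw [← pow_two, ← pow_mul, mul_comm, pow_mul, hy5, one_pow]
    rw [hyy5, inv_one, mul_one, one_mul] at h5
    have hm5 : m ^ 5 = 1 := by
      have : 1 * s = m ^ 5 * s := by rw [one_mul]; exact h5
      exact (mul_right_cancel this).symm
    have hm1 : m = 1 := by
      have : m ^ 5 = m ^ 4 * m := pow_succ m 4
      rw [hm4, one_mul] at this
      rw [← this, hm5]
    rw [hm1, one_mul] at hw
    calc y * y * s = (y * y * s * (y * y)⁻¹) * (y * y) := by group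
      _ = s * (y * y) := by rw [hw]
  obtain ⟨c, hc⟩ := d.scalar_of_central (g := y * y) hcomm
  have hxx : ((x * x : GL (Fin 4) F) : Matrix (Fin 4) (Fin 4) F) = c • 1 := by
    have e : x * x = g * (y * y) * g⁻¹ := by rw [hy]; group
    rw [e, Units.val_mul, Units.val_mul, hc, Matrix.mul_smul, Matrix.mul_one, Matrix.smul_mul,
      ← Units.val_mul, mul_inv_cancel, Units.val_one]
  have h01 := congrFun (congrFun hxx 0) 1
  rw [Units.val_mul, hxv, Matrix.transvection_mul_transvection_same _ _ (by decide)] at h01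
  simp [Matrix.transvection] at h01
  apply h2
  linear_combination h01

end Cfsg.Agent.Lib.Helper22.ES64
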