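import Mathlib
import Cfsg.Prelude.Def_Transfer
import Cfsg.Agent.Lib.Helper1.ExtraspecialTwo

/-!
# Helper22 library: element-level facts about an extraspecial 2-subgroup of order ≥ 32
-/

set_option autoImplicit false

namespace Cfsg.Agent.Lib.Helper22.ExtraFacts

open Subgroup
open scoped commutatorElement

variable {G : Type*} [Group G]

/-- element-level facts about an extraspecial `2`-subgroup `E` (of order at least 32) with
centre `{1, z}` -/
structure EF (E : Subgroup G) (z : G) : Prop where
  zE : z ∈ E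
  z2 : z * z = 1
  z1 : z ≠ 1
  zc : ∀ e ∈ E, e * z = z * e
  cen : ∀ c ∈ E, (∀ e ∈ E, e * c = c * e) → c = 1 ∨ c = z
  comm : ∀ a ∈ E, ∀ b ∈ E, a * b = b * a ∨ a * b = z * (b * a)
  sq : ∀ a ∈ E, a * a = 1 ∨ a * a = z
  big : ∀ x ∈ E, ∃ d ∈ E, ∃ d' ∈ E, d * x = x * d ∧ d' * x = x * d' ∧ d * d' ≠ d' * d

open Cfsg.Agent.Lib.Helper1 Cfsg.Agent.Lib.Helper1.ExtraspecialTwo
  Cfsg.Agent.Lib.Helper1.ExtraspecialIso in
theorem ef_of [Finite G] (E : Subgroup G) (z : G) (hext : Cfsg.IsExtraspecial 2 ↥E)
    (hzE : z ∈ E) (hzc : ∀ e ∈ E, e * z = z * e) (hz1 : z ≠ 1) (hcard : 32 ≤ Nat.card E) :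
    EF E z := by
  classical
  have : Fact (Nat.Prime 2) := ⟨Nat.prime_two⟩
  obtain ⟨z', S⟩ := ExtraspecialTwo.exists_setting hext
  have hzcen : (⟨z, hzE⟩ : ↥E) ∈ Subgroup.center ↥E := by
    rw [Subgroup.mem_center_iff]
    intro g
    apply Subtype.ext
    simp only [Subgroup.coe_mul]
    exact hzc g.1 g.2
  have hzz' : z' = ⟨z, hzE⟩ := by
    rcases S.center_cases hzcen with h | h
    · exact absurd (congrArg Subtype.val h) hz1
    · exact h.symm
  subst hzz'
  have hcen : ∀ c ∈ E, (∀ e ∈ E, e * c = c * e) → c = 1 ∨ c = z := by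
    intro c hc hcomm
    have : (⟨c, hc⟩ : ↥E) ∈ Subgroup.center ↥E := by
      rw [Subgroup.mem_center_iff]
      intro g
      apply Subtype.ext
      simp only [Subgroup.coe_mul]
      exact hcomm g.1 g.2
    rcases S.center_cases this with h | h
    · left; exact congrArg Subtype.val h
    · right; exact congrArg Subtype.val h
  have hz2 : z * z = 1 := congrArg Subtype.val S.z_mul_z
  have hcomm : ∀ a ∈ E, ∀ b ∈ E, a * b = b * a ∨ a * b = z * (b * a) := by
    intro a ha b hb
    rcases S.comm_cases ⟨a, ha⟩ ⟨b, hb⟩ with h | h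
    · left
      have := commutatorElement_eq_one_iff_mul_comm.mp h
      exact congrArg Subtype.val this
    · right
      have h1 := congrArg Subtype.val h
      simp only [commutatorElement_def, Subgroup.coe_mul, Subgroup.coe_inv] at h1
      rw [← h1]; group
  refine ⟨hzE, hz2, hz1, hzc, hcen, hcomm, ?_, ?_⟩
  · intro a ha
    rcases S.sq_cases ⟨a, ha⟩ with h | h
    · left
      have := congrArg Subtype.val h
      simpa [pow_two] using this
    · right
      have := congrArg Subtype.val h
      simpa [pow_two] using this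
  · -- the centraliser of any element is non-abelian
    intro x hx
    have hcardE : 32 ≤ Nat.card (↥E) := hcard
    by_cases hxc : (⟨x, hx⟩ : ↥E) ∈ Subgroup.center ↥E
    · -- central: any non-commuting pair
      have hne : ¬ (⊤ : Subgroup ↥E) ≤ Subgroup.center ↥E := by
        intro h
        have := Subgroup.card_le_of_le h
        rw [S.hZ, Subgroup.card_top] at this
        omega
      obtain ⟨a, _, haZ⟩ := SetLike.not_le_iff_exists.mp hne
      rw [Subgroup.mem_center_iff] at haZ
      push Not at haZ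
      obtain ⟨b, hb⟩ := haZ
      rw [Subgroup.mem_center_iff] at hxc
      refine ⟨a.1, a.2, b.1, b.2, ?_, ?_, ?_⟩
      · have := hxc a
        have := congrArg Subtype.val this
        simpa using this
      · have := hxc b
        have := congrArg Subtype.val this
        simpa using this
      · intro h
        apply hb
        apply Subtype.ext
        simpa using h.symm
    · -- non-central: split off a pair
      rw [Subgroup.mem_center_iff] at hxc
      push Not at hxc
      obtain ⟨y, hy⟩ := hxc
      have hxy : ⁅(⟨x, hx⟩ : ↥E), y⁆ ≠ 1 := by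
        rw [Ne, commutatorElement_eq_one_iff_mul_comm]
        exact fun h => hy h.symm
      obtain ⟨_, d2, d3, _, _, _, _, _⟩ := decomp S.hcl S.hZ (⊤ : Subgroup ↥E) le_top
        top_inf_centralizer_le ⟨x, hx⟩ y (Subgroup.mem_top _) (Subgroup.mem_top _) hxy
      set D : Subgroup ↥E := (⊤ : Subgroup ↥E) ⊓ Subgroup.centralizer {(⟨x, hx⟩ : ↥E)} ⊓
        Subgroup.centralizer {y} with hD
      have hDcard : 8 ≤ Nat.card D := by
        rw [Subgroup.card_top] at d3
        omega
      have hDle : ¬ D ≤ Subgroup.center ↥E := by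
        intro h
        have := Subgroup.card_le_of_le h
        rw [S.hZ] at this
        omega
      obtain ⟨d, hdD, hdZ⟩ := SetLike.not_le_iff_exists.mp hDle
      have hdc : d ∉ Subgroup.centralizer (D : Set ↥E) :=
        fun h => hdZ (d2 (Subgroup.mem_inf.mpr ⟨hdD, h⟩))
      rw [Subgroup.mem_centralizer_iff] at hdc
      push Not at hdc
      obtain ⟨d', hd'D, hd'⟩ := hdc
      have hdx : d ∈ Subgroup.centralizer {(⟨x, hx⟩ : ↥E)} :=
        (Subgroup.mem_inf.mp (Subgroup.mem_inf.mp hdD).1).2
      have hd'x : d' ∈ Subgroup.centralizer {(⟨x, hx⟩ : ↥E)} :=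
        (Subgroup.mem_inf.mp (Subgroup.mem_inf.mp hd'D).1).2
      rw [Subgroup.mem_centralizer_singleton_iff] at hdx hd'x
      refine ⟨d.1, d.2, d'.1, d'.2, ?_, ?_, ?_⟩
      · have := congrArg Subtype.val hdx
        simpa using this
      · have := congrArg Subtype.val hd'x
        simpa using this
      · intro h
        apply hd'
        apply Subtype.ext
        simpa using h.symm

namespace EF

variable {E : Subgroup G} {z : G}

theorem zinv (F : EF E z) : z⁻¹ = z := inv_eq_of_mul_eq_one_left F.z2

/-- anticommutation is symmetric -/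
theorem anti_symm (F : EF E z) {a b : G} (ha : a ∈ E) (hb : b ∈ E) (h : a * b = z * (b * a)) :
    b * a = z * (a * b) := by
  rw [h, ← mul_assoc, F.z2, one_mul]

/-- anticommutation passes to the inverse -/
theorem inv_anti (F : EF E z) {e u : G} (he : e ∈ E) (hu : u ∈ E) (h : e * u = z * (u * e)) :
    e⁻¹ * u = z * (u * e⁻¹) := by
  have hz := F.zc e⁻¹ (E.inv_mem he)
  calc e⁻¹ * u = e⁻¹ * (z * z) * u := by rw [F.z2, mul_one]
    _ = e⁻¹ * z * (z * (u * e)) * e⁻¹ := by group
    _ = e⁻¹ * z * (e * u) * e⁻¹ := by rw [h]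
    _ = (e⁻¹ * z) * e * u * e⁻¹ := by group
    _ = z * e⁻¹ * e * u * e⁻¹ := by rw [hz]
    _ = z * (u * e⁻¹) := by group

/-- every element of `E` lies in `C_E(u)` or in `e C_E(u)` when `e` anticommutes with `u` -/
theorem split (F : EF E z) {e u a : G} (he : e ∈ E) (hu : u ∈ E) (ha : a ∈ E)
    (heu : e * u = z * (u * e)) : a * u = u * a ∨ (e⁻¹ * a) * u = u * (e⁻¹ * a) := by
  rcases F.comm a ha u hu with h | h
  · exact Or.inl h
  · right
    have h1 := F.inv_anti he hu heu
    have hz := F.zc e⁻¹ (E.inv_mem he)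
    calc e⁻¹ * a * u = e⁻¹ * (a * u) := by group
      _ = e⁻¹ * (z * (u * a)) := by rw [h]
      _ = (e⁻¹ * z) * u * a := by group
      _ = z * e⁻¹ * u * a := by rw [hz]
      _ = z * (e⁻¹ * u) * a := by group
      _ = z * (z * (u * e⁻¹)) * a := by rw [h1]
      _ = (z * z) * (u * (e⁻¹ * a)) := by group
      _ = u * (e⁻¹ * a) := by rw [F.z2, one_mul]

/-- an element commuting with `C_E(u)` and with an element `e` anticommuting with `u` commutes
with all of `E` -/
theorem comm_all (F : EF E z) {e u c : G} (he : e ∈ E) (hu : u ∈ E)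
    (heu : e * u = z * (u * e)) (hce : c * e = e * c)
    (hcB : ∀ b ∈ E, b * u = u * b → c * b = b * c) : ∀ a ∈ E, a * c = c * a := by
  intro a ha
  rcases F.split he hu ha heu with h | h
  · exact (hcB a ha h).symm
  · have h1 := hcB (e⁻¹ * a) (E.mul_mem (E.inv_mem he) ha) h
    calc a * c = e * ((e⁻¹ * a) * c) := by group
      _ = e * (c * (e⁻¹ * a)) := by rw [h1]
      _ = (e * c) * e⁻¹ * a := by group
      _ = (c * e) * e⁻¹ * a := by rw [hce]
      _ = c * a := by group

/-- an involution of `E` outside a subgroup of index two -/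
theorem invol_outside (F : EF E z) {H K : Subgroup G} (hEH : E ≤ H) (hKi : K.relIndex H = 2)
    (hmul : ∀ a ∈ H, ∀ b ∈ H, (a * b ∈ K ↔ (a ∈ K ↔ b ∈ K)))
    (hzK : z ∈ K) {x : G} (hx : x ∈ E) (hxK : x ∉ K) : ∃ u ∈ E, u ∉ K ∧ u * u = 1 := by
  rcases F.sq x hx with h | h
  · exact ⟨x, hx, hxK, h⟩
  obtain ⟨d, hd, d', hd', hdx, hd'x, hdd'⟩ := F.big x hx
  -- move elements of `C_E(x)` into `K`
  have adj : ∀ d ∈ E, d * x = x * d → ∃ d₁ ∈ E, d₁ ∈ K ∧ d₁ * x = x * d₁ ∧
      (∀ b, b * x = x * b → (d₁ * b = b * d₁ ↔ d * b = b * d)) := by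
    intro d hd hdx
    by_cases hdK : d ∈ K
    · exact ⟨d, hd, hdK, hdx, fun b _ => Iff.rfl⟩
    · refine ⟨d * x, E.mul_mem hd hx, ?_, ?_, ?_⟩
      · rw [hmul d (hEH hd) x (hEH hx)]
        tauto
      · calc d * x * x = x * d * x := by rw [hdx]
          _ = x * (d * x) := mul_assoc _ _ _
      · intro b hb
        have e1 : d * x * b = (d * b) * x := by rw [mul_assoc, ← hb, mul_assoc]
        have e2 : b * (d * x) = (b * d) * x := by rw [mul_assoc]
        rw [e1, e2]
        exact mul_left_inj x
  obtain ⟨d₁, hd₁E, hd₁K, hd₁x, hd₁c⟩ := adj d hd hdx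
  obtain ⟨d₂, hd₂E, hd₂K, hd₂x, hd₂c⟩ := adj d' hd' hd'x
  have hnc : d₁ * d₂ ≠ d₂ * d₁ := by
    intro h1
    -- d₁ d₂ = d₂ d₁ ⇒ d d₂ = d₂ d ⇒ d₂ d = d d₂ ⇒ d' d = d d'
    have h2 : d * d₂ = d₂ * d := (hd₁c d₂ hd₂x).mp h1
    have h3 : d₂ * d = d * d₂ := h2.symm
    have h4 : d' * d = d * d' := (hd₂c d hdx).mp h3
    exact hdd' h4.symm
  have hanti : d₁ * d₂ = z * (d₂ * d₁) := by
    rcases F.comm d₁ hd₁E d₂ hd₂E with h1 | h1
    · exact absurd h1 hnc
    · exact h1
  -- an element of `C_E(x) ∩ K` of order four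
  have hm : ∃ m ∈ E, m ∈ K ∧ m * x = x * m ∧ m * m = z := by
    rcases F.sq d₁ hd₁E with s1 | s1
    · rcases F.sq d₂ hd₂E with s2 | s2
      · refine ⟨d₁ * d₂, E.mul_mem hd₁E hd₂E, K.mul_mem hd₁K hd₂K, ?_, ?_⟩
        · rw [mul_assoc, hd₂x, ← mul_assoc, hd₁x, mul_assoc]
        · have h5 := F.anti_symm hd₁E hd₂E hanti
          have hz1 := F.zc d₁ hd₁E
          calc d₁ * d₂ * (d₁ * d₂) = d₁ * (d₂ * d₁) * d₂ := by group
            _ = d₁ * (z * (d₁ * d₂)) * d₂ := by rw [h5]
            _ = (d₁ * z) * d₁ * (d₂ * d₂) := by group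
            _ = z * d₁ * d₁ * (d₂ * d₂) := by rw [hz1]
            _ = z * (d₁ * d₁) * (d₂ * d₂) := by group
            _ = z := by rw [s1, s2, mul_one, mul_one]
      · exact ⟨d₂, hd₂E, hd₂K, hd₂x, s2⟩
    · exact ⟨d₁, hd₁E, hd₁K, hd₁x, s1⟩
  obtain ⟨m, hmE, hmK, hmx, hmm⟩ := hm
  refine ⟨x * m, E.mul_mem hx hmE, ?_, ?_⟩
  · rw [hmul x (hEH hx) m (hEH hmE)]
    tauto
  · calc x * m * (x * m) = x * (m * x) * m := by group
      _ = x * (x * m) * m := by rw [hmx]
      _ = (x * x) * (m * m) := by group
      _ = 1 := by rw [h, hmm, F.z2]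

/-- the centraliser in `C_G(z)` of `C_E(u)`, for a non-central involution `u` of `E`,
is `{1, u, z, uz}` -/
theorem cent_B (F : EF E z) (hcent : ∀ c : G, (∀ e ∈ E, e * c = c * e) → c ∈ E)
    (hnorm : ∀ h : G, h * z = z * h → ∀ e ∈ E, h * e * h⁻¹ ∈ E)
    {u e : G} (hu : u ∈ E) (hu2 : u * u = 1) (he : e ∈ E) (heu : e * u = z * (u * e))
    {h : G} (hhz : h * z = z * h) (hB : ∀ b ∈ E, b * u = u * b → h * b = b * h) :
    h = 1 ∨ h = u ∨ h = z ∨ h = u * z := by
  have huinv : u⁻¹ = u := inv_eq_of_mul_eq_one_left hu2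
  have hue : u * e = z * (e * u) := F.anti_symm he hu heu
  have he' : h * e * h⁻¹ ∈ E := hnorm h hhz e he
  set e' := h * e * h⁻¹ with he'def
  have hc : e' * e⁻¹ ∈ E := E.mul_mem he' (E.inv_mem he)
  set c := e' * e⁻¹ with hcdef
  have hce' : e' = c * e := by rw [hcdef]; group
  have hzh : h⁻¹ * z = z * h⁻¹ := by
    calc h⁻¹ * z = h⁻¹ * (z * h) * h⁻¹ := by group
      _ = h⁻¹ * (h * z) * h⁻¹ := by rw [hhz]
      _ = z * h⁻¹ := by group
  -- Step 1: `c` commutes with `C_E(u)`
  have hcB : ∀ b ∈ E, b * u = u * b → c * b = b * c := by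
    intro b hb hbu
    have hhb : h * b = b * h := hB b hb hbu
    have hhb' : h⁻¹ * b = b * h⁻¹ := by
      calc h⁻¹ * b = h⁻¹ * (b * h) * h⁻¹ := by group
        _ = h⁻¹ * (h * b) * h⁻¹ := by rw [hhb]
        _ = b * h⁻¹ := by group
    rcases F.comm e he b hb with h1 | h1
    · have e'b : e' * b = b * e' := by
        calc e' * b = h * e * (h⁻¹ * b) := by rw [he'def]; group
          _ = h * e * (b * h⁻¹) := by rw [hhb']
          _ = h * (e * b) * h⁻¹ := by group
          _ = h * (b * e) * h⁻¹ := by rw [h1]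
          _ = (h * b) * e * h⁻¹ := by group
          _ = (b * h) * e * h⁻¹ := by rw [hhb]
          _ = b * e' := by rw [he'def]; group
      have h2 : e⁻¹ * b = b * e⁻¹ := by
        calc e⁻¹ * b = e⁻¹ * (b * e) * e⁻¹ := by group
          _ = e⁻¹ * (e * b) * e⁻¹ := by rw [h1]
          _ = b * e⁻¹ := by group
      calc c * b = e' * (e⁻¹ * b) := by rw [hcdef]; group
        _ = e' * (b * e⁻¹) := by rw [h2]
        _ = (e' * b) * e⁻¹ := by group
        _ = (b * e') * e⁻¹ := by rw [e'b]
        _ = b * c := by rw [hcdef]; group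
    · have e'b : e' * b = z * (b * e') := by
        calc e' * b = h * e * (h⁻¹ * b) := by rw [he'def]; group
          _ = h * e * (b * h⁻¹) := by rw [hhb']
          _ = h * (e * b) * h⁻¹ := by group
          _ = h * (z * (b * e)) * h⁻¹ := by rw [h1]
          _ = (h * z) * b * e * h⁻¹ := by group
          _ = (z * h) * b * e * h⁻¹ := by rw [hhz]
          _ = z * (h * b) * e * h⁻¹ := by group
          _ = z * (b * h) * e * h⁻¹ := by rw [hhb]
          _ = z * (b * e') := by rw [he'def]; group
      have h2 : e⁻¹ * b = z * (b * e⁻¹) := F.inv_anti he hb h1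
      have hz' := F.zc e' he'
      calc c * b = e' * (e⁻¹ * b) := by rw [hcdef]; group
        _ = e' * (z * (b * e⁻¹)) := by rw [h2]
        _ = (e' * z) * b * e⁻¹ := by group
        _ = (z * e') * b * e⁻¹ := by rw [hz']
        _ = z * (e' * b) * e⁻¹ := by group
        _ = z * (z * (b * e')) * e⁻¹ := by rw [e'b]
        _ = (z * z) * (b * (e' * e⁻¹)) := by group
        _ = b * c := by rw [F.z2, one_mul]
  -- Step 2: `c ∈ {1, z, u, uz}`
  have hc4 : c = 1 ∨ c = z ∨ c = u ∨ c = u * z := by
    rcases F.comm c hc e he with h1 | h1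
    · have hall := F.comm_all he hu heu h1 hcB
      rcases F.cen c hc hall with h2 | h2
      · exact Or.inl h2
      · exact Or.inr (Or.inl h2)
    · have hzc := F.zc c hc
      have hcue : (c * u) * e = e * (c * u) := by
        calc c * u * e = c * (u * e) := by group
          _ = c * (z * (e * u)) := by rw [hue]
          _ = (c * z) * e * u := by group
          _ = (z * c) * e * u := by rw [hzc]
          _ = z * (c * e) * u := by group
          _ = z * (z * (e * c)) * u := by rw [h1]
          _ = (z * z) * (e * (c * u)) := by group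
          _ = e * (c * u) := by rw [F.z2, one_mul]
      have hcuB : ∀ b ∈ E, b * u = u * b → (c * u) * b = b * (c * u) := by
        intro b hb hbu
        calc c * u * b = c * (u * b) := by group
          _ = c * (b * u) := by rw [hbu]
          _ = (c * b) * u := by group
          _ = (b * c) * u := by rw [hcB b hb hbu]
          _ = b * (c * u) := by group
      have hall := F.comm_all he hu heu hcue hcuB
      rcases F.cen (c * u) (E.mul_mem hc hu) hall with h2 | h2
      · right; right; left
        calc c = (c * u) * u⁻¹ := by group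
          _ = u := by rw [h2, one_mul, huinv]
      · right; right; right
        calc c = (c * u) * u⁻¹ := by group
          _ = z * u := by rw [h2, huinv]
          _ = u * z := (F.zc u hu).symm
  -- Step 3: squares
  have hsq : e' * e' = e * e := by
    have e1 : e' * e' = h * (e * e) * h⁻¹ := by rw [he'def]; group
    rw [e1]
    rcases F.sq e he with h1 | h1
    · rw [h1]; group
    · rw [h1, hhz]; group
  have hue2 : (u * e) * (u * e) = z * (e * e) := by
    have hzu := F.zc u hu
    calc u * e * (u * e) = u * (e * u) * e := by group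
      _ = u * (z * (u * e)) * e := by rw [heu]
      _ = (u * z) * u * e * e := by group
      _ = (z * u) * u * e * e := by rw [hzu]
      _ = z * (u * u) * (e * e) := by group
      _ = z * (e * e) := by rw [hu2, mul_one]
  have hzne : z * (e * e) ≠ e * e := by
    intro h1
    apply F.z1
    calc z = z * (e * e) * (e * e)⁻¹ := by group
      _ = 1 := by rw [h1]; group
  have hc2 : c = 1 ∨ c = z := by
    rcases hc4 with h1 | h1 | h1 | h1
    · exact Or.inl h1
    · exact Or.inr h1
    · exfalso
      rw [hce', h1, hue2] at hsq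
      exact hzne hsq
    · exfalso
      have hzue := F.zc (u * e) (E.mul_mem hu he)
      have e2 : u * z * e * (u * z * e) = z * (e * e) := by
        have hzu := F.zc u hu
        calc u * z * e * (u * z * e) = (u * z) * e * ((u * z) * e) := by group
          _ = (z * u) * e * ((z * u) * e) := by rw [hzu]
          _ = z * ((u * e) * z) * (u * e) := by group
          _ = z * (z * (u * e)) * (u * e) := by rw [hzue]
          _ = (z * z) * ((u * e) * (u * e)) := by group
          _ = z * (e * e) := by rw [F.z2, one_mul, hue2]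
      rw [hce', h1, e2] at hsq
      exact hzne hsq
  -- Step 4
  rcases hc2 with h1 | h1
  · have hhe : h * e = e * h := by
      have : e' = e := by rw [hce', h1, one_mul]
      calc h * e = (h * e * h⁻¹) * h := by group
        _ = e * h := by rw [← he'def, this]
    have hall := F.comm_all he hu heu hhe hB
    have hhE : h ∈ E := hcent h hall
    rcases F.cen h hhE hall with h2 | h2
    · exact Or.inl h2
    · exact Or.inr (Or.inr (Or.inl h2))
  · have hhe : h * e = z * e * h := by
      have : e' = z * e := by rw [hce', h1]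
      calc h * e = (h * e * h⁻¹) * h := by group
        _ = z * e * h := by rw [← he'def, this]
    have hzu := F.zc u hu
    have huhe : (u * h) * e = e * (u * h) := by
      calc u * h * e = u * (h * e) := by group
        _ = u * (z * e * h) := by rw [hhe]
        _ = (u * z) * e * h := by group
        _ = (z * u) * e * h := by rw [hzu]
        _ = z * (u * e) * h := by group
        _ = z * (z * (e * u)) * h := by rw [hue]
        _ = (z * z) * (e * (u * h)) := by group
        _ = e * (u * h) := by rw [F.z2, one_mul]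
    have huhB : ∀ b ∈ E, b * u = u * b → (u * h) * b = b * (u * h) := by
      intro b hb hbu
      calc u * h * b = u * (h * b) := by group
        _ = u * (b * h) := by rw [hB b hb hbu]
        _ = (u * b) * h := by group
        _ = (b * u) * h := by rw [hbu]
        _ = b * (u * h) := by group
    have hall := F.comm_all he hu heu huhe huhB
    have hhE : u * h ∈ E := hcent (u * h) hall
    rcases F.cen (u * h) hhE hall with h2 | h2
    · right; left
      calc h = u⁻¹ * (u * h) := by group
        _ = u := by rw [h2, mul_one, huinv]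
    · right; right; right
      calc h = u⁻¹ * (u * h) := by group
        _ = u * z := by rw [h2, huinv]

end EF

end Cfsg.Agent.Lib.Helper22.ExtraFacts
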