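import Mathlib

set_option autoImplicit false

/-!
# A fixed-point counting divisibility for commuting endomorphisms

`M` a finite abelian group of order prime to `p`, `X, Z` commuting endomorphisms with `Z ^ p = 1`.
Then `|C_M(Z)| * ∏_{i<p} |C_M(X Z^i)|` divides `|M| * |C_M(X) ∩ C_M(Z)| ^ p`.
-/

namespace Cfsg.Agent.Lib.Helper22.FixDvd

open Finset

variable {M : Type*} [AddCommGroup M]

/-- fixed points of an additive endomorphism -/
def fix (X : AddMonoid.End M) : AddSubgroup M where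
  carrier := {m | X m = m}
  add_mem' := by
    intro a b ha hb
    show X (a + b) = a + b
    rw [map_add, ha, hb]
  zero_mem' := map_zero X
  neg_mem' := by
    intro a ha
    show X (-a) = -a
    rw [map_neg, ha]

theorem mem_fix {X : AddMonoid.End M} {m : M} : m ∈ fix X ↔ X m = m := Iff.rfl

theorem mul_apply' (X Y : AddMonoid.End M) (m : M) : (X * Y) m = X (Y m) := rfl

theorem one_apply' (m : M) : (1 : AddMonoid.End M) m = m := rfl

theorem commute_apply {X Z : AddMonoid.End M} (h : Commute X Z) (m : M) : X (Z m) = Z (X m) := by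
  have := DFunLike.congr_fun h.eq m
  simpa [mul_apply'] using this

theorem pow_apply_of_fix {X : AddMonoid.End M} {m : M} (h : X m = m) (k : ℕ) : (X ^ k) m = m := by
  induction k with
  | zero => rw [pow_zero]; rfl
  | succ k ih => rw [pow_succ, mul_apply', h, ih]

/-- if `Y m = E m` with `Y`, `E` commuting then `Y^k m = E^k m` -/
theorem pow_apply_eq {Y E : AddMonoid.End M} (hYE : Commute Y E) {m : M} (h : Y m = E m) (k : ℕ) :
    (Y ^ k) m = (E ^ k) m := by
  induction k with
  | zero => rw [pow_zero, pow_zero]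
  | succ k ih =>
    rw [pow_succ, mul_apply', h, commute_apply (hYE.pow_left k), ih, ← mul_apply', ← pow_succ']

theorem sum_apply' {ι : Type*} (s : Finset ι) (f : ι → AddMonoid.End M) (m : M) :
    (∑ i ∈ s, f i) m = ∑ i ∈ s, f i m := by
  classical
  induction s using Finset.induction_on with
  | empty => simp
  | insert a s ha ih =>
    rw [Finset.sum_insert ha, Finset.sum_insert ha, ← ih]; rfl

/-- no `p`-torsion -/
theorem eq_zero_of_nsmul [Finite M] {p : ℕ} (hpM : (Nat.card M).Coprime p) {m : M}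
    (h : p • m = 0) : m = 0 := by
  have h1 : addOrderOf m ∣ p := addOrderOf_dvd_of_nsmul_eq_zero h
  have h2 : addOrderOf m ∣ Nat.card M := addOrderOf_dvd_natCard m
  have h3 : addOrderOf m ∣ 1 := by
    rw [← Nat.Coprime.gcd_eq_one hpM]
    exact Nat.dvd_gcd h2 h1
  have h4 : addOrderOf m = 1 := Nat.dvd_one.mp h3
  exact AddMonoid.addOrderOf_eq_one_iff.mp h4

/-- `fix (Z^e) ≤ fix Z` if `e` is prime to `p` and `Z^p = 1`. -/
theorem fix_pow_le {p : ℕ} [hp : Fact p.Prime] {Z : AddMonoid.End M} (hZ : Z ^ p = 1) {e : ℕ}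
    (he : e.Coprime p) : fix (Z ^ e) ≤ fix Z := by
  intro m hm
  rw [mem_fix] at hm ⊢
  obtain ⟨t, -, ht⟩ := Nat.exists_mul_mod_eq_one_of_coprime he hp.out.one_lt
  -- e * t = p * (e*t/p) + 1
  have h1 : e * t = p * (e * t / p) + 1 := by
    have := Nat.div_add_mod (e * t) p
    rw [ht] at this
    exact this.symm
  have h2 : (Z ^ (e * t)) m = m := by
    rw [pow_mul]
    exact pow_apply_of_fix hm t
  rw [h1, pow_succ, pow_mul, hZ, one_pow, one_mul] at h2
  exact h2


theorem sub_apply' (X Y : AddMonoid.End M) (m : M) : (X - Y) m = X m - Y m := rfl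

/-- The Vandermonde-type key lemma. -/
theorem key [Finite M] {p : ℕ} [hp : Fact p.Prime] (hpM : (Nat.card M).Coprime p)
    {X Z : AddMonoid.End M} (hXZ : Commute X Z) (hZ : Z ^ p = 1)
    (v : Fin p → M) (w : M) (hv : ∀ i : Fin p, v i ∈ fix (X * Z ^ (i : ℕ))) (hw : w ∈ fix Z)
    (hsum : ∑ i, v i + w = 0) (j : Fin p) : v j ∈ fix Z := by
  set Y : AddMonoid.End M := X * Z ^ (j : ℕ) with hY
  have hYZ : Commute Y Z := hXZ.mul_left ((Commute.refl Z).pow_left j)
  set S : AddMonoid.End M := ∑ k ∈ range p, Y ^ k with hS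
  have hSZ : Commute S Z := Commute.sum_left _ _ _ (fun k _ => hYZ.pow_left k)
  -- (1)
  have h1 : S (v j) = p • v j := by
    rw [hS, sum_apply']
    have : ∀ k ∈ range p, (Y ^ k) (v j) = v j := fun k _ => pow_apply_of_fix (hv j) k
    rw [Finset.sum_congr rfl this, Finset.sum_const, Finset.card_range]
  -- (2)
  have h2 : ∀ i : Fin p, i ≠ j → S (v i) ∈ fix Z := by
    intro i hij
    set e : ℕ := (j : ℕ) + p - (i : ℕ) with he
    have hi : (i : ℕ) < p := i.2
    have hj : (j : ℕ) < p := j.2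
    have hij' : (i : ℕ) ≠ (j : ℕ) := fun h => hij (Fin.ext h)
    have hecop : e.Coprime p := by
      apply Nat.Coprime.symm
      rw [Nat.Prime.coprime_iff_not_dvd hp.out]
      intro hdvd
      have : e = p := Nat.eq_of_dvd_of_lt_two_mul (by omega) hdvd (by omega)
      omega
    set E : AddMonoid.End M := Z ^ e with hE
    have hYop : Y = E * (X * Z ^ (i : ℕ)) := by
      rw [hE, ← mul_assoc, ← (hXZ.pow_right e).eq, mul_assoc, ← pow_add,
        show e + (i : ℕ) = (j : ℕ) + p by omega, pow_add, hZ, mul_one]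
    have hYv : Y (v i) = E (v i) := by
      rw [hYop, mul_apply', (hv i)]
    have hYE : Commute Y E := hYZ.pow_right e
    have hSv : S (v i) = (∑ k ∈ range p, E ^ k) (v i) := by
      rw [hS, sum_apply', sum_apply']
      exact Finset.sum_congr rfl (fun k _ => pow_apply_eq hYE hYv k)
    have hgeom : (E - 1) * (∑ k ∈ range p, E ^ k) = 0 := by
      rw [mul_geom_sum, hE, ← pow_mul, mul_comm, pow_mul, hZ, one_pow, sub_self]
    have hfix : (∑ k ∈ range p, E ^ k) (v i) ∈ fix E := by
      rw [mem_fix]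
      have := DFunLike.congr_fun hgeom (v i)
      rw [mul_apply', sub_apply', one_apply'] at this
      exact sub_eq_zero.mp this
    rw [hSv]
    exact fix_pow_le hZ hecop hfix
  -- (3)
  have h3 : S w ∈ fix Z := by
    rw [mem_fix, ← commute_apply hSZ, hw]
  -- (4)
  have h4 : p • v j ∈ fix Z := by
    have h0 : S (∑ i, v i + w) = 0 := by rw [hsum, map_zero]
    rw [map_add, map_sum, ← Finset.add_sum_erase _ _ (Finset.mem_univ j), h1] at h0
    have : p • v j = -(∑ i ∈ Finset.univ.erase j, S (v i) + S w) := by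
      rw [eq_neg_iff_add_eq_zero, ← add_assoc]
      exact h0
    rw [this]
    apply neg_mem
    apply add_mem _ h3
    apply AddSubgroup.sum_mem
    intro i hi
    exact h2 i (Finset.ne_of_mem_erase hi)
  -- (5)
  rw [mem_fix] at h4 ⊢
  have h5 : p • (Z (v j) - v j) = 0 := by
    rw [smul_sub, ← map_nsmul, h4, sub_self]
  exact sub_eq_zero.mp (eq_zero_of_nsmul hpM h5)


/-- the sum map -/
noncomputable def sumHom {p : ℕ} (X Z : AddMonoid.End M) :
    ((∀ i : Fin p, fix (X * Z ^ (i : ℕ))) × fix Z) →+ M :=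
  AddMonoidHom.mk' (fun d => ∑ i, (d.1 i : M) + (d.2 : M)) (by
    intro a b
    simp only [Prod.fst_add, Prod.snd_add, Pi.add_apply, AddSubgroup.coe_add,
      Finset.sum_add_distrib]
    abel)

theorem sumHom_apply {p : ℕ} (X Z : AddMonoid.End M)
    (d : (∀ i : Fin p, fix (X * Z ^ (i : ℕ))) × fix Z) :
    sumHom X Z d = ∑ i, (d.1 i : M) + (d.2 : M) := rfl

theorem mem_inf_of_ker [Finite M] {p : ℕ} [hp : Fact p.Prime] (hpM : (Nat.card M).Coprime p)
    {X Z : AddMonoid.End M} (hXZ : Commute X Z) (hZ : Z ^ p = 1)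
    (d : (∀ i : Fin p, fix (X * Z ^ (i : ℕ))) × fix Z) (hd : sumHom X Z d = 0) (j : Fin p) :
    (d.1 j : M) ∈ fix X ⊓ fix Z := by
  have hz : (d.1 j : M) ∈ fix Z :=
    key hpM hXZ hZ (fun i => (d.1 i : M)) d.2 (fun i => (d.1 i).2) d.2.2 hd j
  refine ⟨?_, hz⟩
  have h1 : (X * Z ^ (j : ℕ)) (d.1 j : M) = (d.1 j : M) := (d.1 j).2
  rw [mul_apply', pow_apply_of_fix hz] at h1
  exact h1

theorem card_fix_mul_prod_dvd [Finite M] {p : ℕ} [hp : Fact p.Prime]
    (hpM : (Nat.card M).Coprime p)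
    {X Z : AddMonoid.End M} (hXZ : Commute X Z) (hZ : Z ^ p = 1) :
    Nat.card (fix Z) * ∏ i ∈ range p, Nat.card (fix (X * Z ^ i)) ∣
      Nat.card M * Nat.card ↥(fix X ⊓ fix Z) ^ p := by
  classical
  set Φ := sumHom (p := p) X Z with hΦ
  -- the injective hom from the kernel
  let Ψ : Φ.ker →+ (Fin p → ↥(fix X ⊓ fix Z)) :=
    AddMonoidHom.mk' (fun k j => ⟨(k.1.1 j : M), mem_inf_of_ker hpM hXZ hZ k.1 k.2 j⟩) (by
      intro a b
      funext j
      apply Subtype.ext
      simp)
  have hΨinj : Function.Injective Ψ := by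
    rw [injective_iff_map_eq_zero]
    intro k hk
    have hk1 : ∀ j, (k.1.1 j : M) = 0 := by
      intro j
      have := congrFun hk j
      exact congrArg Subtype.val this
    have hk2 : sumHom X Z k.1 = 0 := k.2
    rw [sumHom_apply, Finset.sum_congr rfl (fun j _ => hk1 j), Finset.sum_const_zero, zero_add]
      at hk2
    apply Subtype.ext
    apply Prod.ext
    · funext j
      exact Subtype.ext (hk1 j)
    · exact Subtype.ext hk2
  have hker_dvd : Nat.card Φ.ker ∣ Nat.card ↥(fix X ⊓ fix Z) ^ p := by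
    have h1 : Nat.card Φ.ker = Nat.card Ψ.range :=
      Nat.card_congr (AddMonoidHom.ofInjective hΨinj).toEquiv
    have h2 : Nat.card Ψ.range ∣ Nat.card (Fin p → ↥(fix X ⊓ fix Z)) :=
      AddSubgroup.card_addSubgroup_dvd_card _
    rw [h1]
    refine h2.trans ?_
    rw [Nat.card_fun, Nat.card_fin]
  have hrange_dvd : Nat.card Φ.range ∣ Nat.card M := AddSubgroup.card_addSubgroup_dvd_card _
  have hdom : Nat.card Φ.ker * Nat.card Φ.range =
      Nat.card ((∀ i : Fin p, fix (X * Z ^ (i : ℕ))) × fix Z) := by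
    rw [← AddSubgroup.index_ker, AddSubgroup.card_mul_index]
  have hdom2 : Nat.card ((∀ i : Fin p, fix (X * Z ^ (i : ℕ))) × fix Z) =
      Nat.card (fix Z) * ∏ i ∈ range p, Nat.card (fix (X * Z ^ i)) := by
    rw [Nat.card_prod, Nat.card_pi, mul_comm,
      Fin.prod_univ_eq_prod_range (fun i => Nat.card (fix (X * Z ^ i))) p]
  rw [← hdom2, ← hdom, mul_comm (Nat.card Φ.ker)]
  exact Nat.mul_dvd_mul hrange_dvd hker_dvd

end Cfsg.Agent.Lib.Helper22.FixDvd
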