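import Mathlib
import Cfsg.Agent.Lib.Helper22.FixDvd
import Cfsg.Agent.Lib.Helper1.Coprime
import Cfsg.Agent.Lib.Helper1.CoprimeSylow

set_option autoImplicit false

/-!
# Fixed point inequalities for coprime action of `p`-groups

`P` a `p`-subgroup normalizing a `p'`-subgroup `N`.
* `dvd_general`: for `x, z ∈ P` commuting modulo `C(N)` with `z^p ∈ C(N)`:
  `|C_N(z)| ∏_{i<p} |C_N(x z^i)|` divides `|N| |C_N(x,z)|^p`.
* `prod_card_fix_pow_le`: `(∏_{x∈P} |C_N(x)|)^p ≤ |N|^{|P|} |C_N(P)|^{|P|(p-1)}`.
-/

namespace Cfsg.Agent.Lib.Helper22.FixDvdGrp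

open Subgroup Finset
open scoped commutatorElement Pointwise

universe u

section Bridge

theorem end_mul_apply {A : Type*} [AddZeroClass A] (X Y : AddMonoid.End A) (m : A) :
    (X * Y) m = X (Y m) := rfl

theorem end_one_apply {A : Type*} [AddZeroClass A] (m : A) : (1 : AddMonoid.End A) m = m := rfl

variable {G : Type*} [Group G] (N : Subgroup G) [N.Normal]

/-- conjugation on the additive version of a normal subgroup -/
def conjAdd (g : G) : AddMonoid.End (Additive N) :=
  MonoidHom.toAdditive ((MulAut.conjNormal g : MulAut N).toMonoidHom)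

theorem conjAdd_apply (g : G) (m : Additive N) :
    ((conjAdd N g m).toMul : G) = g * (m.toMul : G) * g⁻¹ := by
  show (((MulAut.conjNormal g : MulAut N) m.toMul : N) : G) = _
  rw [MulAut.conjNormal_apply]

theorem conjAdd_mul (g h : G) : conjAdd N (g * h) = conjAdd N g * conjAdd N h := by
  apply DFunLike.ext
  intro m
  apply Additive.toMul.injective
  apply Subtype.ext
  rw [end_mul_apply, conjAdd_apply, conjAdd_apply, conjAdd_apply]
  group

theorem conjAdd_one : conjAdd N (1 : G) = 1 := by
  apply DFunLike.ext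
  intro m
  apply Additive.toMul.injective
  apply Subtype.ext
  rw [conjAdd_apply, end_one_apply]
  group

theorem conjAdd_pow (g : G) (k : ℕ) : conjAdd N (g ^ k) = conjAdd N g ^ k := by
  induction k with
  | zero => rw [pow_zero, pow_zero, conjAdd_one]
  | succ k ih => rw [pow_succ, pow_succ, conjAdd_mul, ih]

theorem conjAdd_eq_one {c : G} (hc : c ∈ centralizer (N : Set G)) : conjAdd N c = 1 := by
  apply DFunLike.ext
  intro m
  apply Additive.toMul.injective
  apply Subtype.ext
  rw [conjAdd_apply, end_one_apply]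
  have := mem_centralizer_iff.mp hc (m.toMul : G) (m.toMul).2
  rw [← this]
  group

theorem conjAdd_fix_iff (g : G) (m : Additive N) :
    conjAdd N g m = m ↔ ((m.toMul : N) : G) ∈ centralizer ({g} : Set G) := by
  rw [mem_centralizer_singleton_iff]
  constructor
  · intro h
    have h1 := conjAdd_apply N g m
    rw [h] at h1
    calc ((m.toMul : N) : G) * g = (g * (m.toMul : G) * g⁻¹) * g := by rw [← h1]
      _ = g * (m.toMul : G) := by group
  · intro h
    apply Additive.toMul.injective
    apply Subtype.ext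
    rw [conjAdd_apply, ← h]
    group

/-- fixed points of `conjAdd N g` correspond to `C_N(g)` -/
def fixEquiv (g : G) : {m : Additive N // conjAdd N g m = m} ≃ ↥(N ⊓ centralizer ({g} : Set G)) where
  toFun m := ⟨((m.1.toMul : N) : G), ⟨(m.1.toMul).2, (conjAdd_fix_iff N g m.1).1 m.2⟩⟩
  invFun y := ⟨Additive.ofMul ⟨y.1, y.2.1⟩, (conjAdd_fix_iff N g _).2 y.2.2⟩
  left_inv m := by rfl
  right_inv y := by rfl

/-- common fixed points of `conjAdd N x` and `conjAdd N z` correspond to `C_N(x, z)` -/
def fixEquiv₂ (x z : G) : {m : Additive N // conjAdd N x m = m ∧ conjAdd N z m = m} ≃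
    ↥(N ⊓ centralizer ({x, z} : Set G)) where
  toFun m := ⟨((m.1.toMul : N) : G), ⟨(m.1.toMul).2, by
    have h1 := (conjAdd_fix_iff N x m.1).1 m.2.1
    have h2 := (conjAdd_fix_iff N z m.1).1 m.2.2
    show ((m.1.toMul : N) : G) ∈ centralizer ({x, z} : Set G)
    rw [mem_centralizer_iff] at h1 h2 ⊢
    intro h hh
    rcases hh with rfl | rfl
    · exact h1 _ rfl
    · exact h2 _ rfl⟩⟩
  invFun y := ⟨Additive.ofMul ⟨y.1, y.2.1⟩, by
    have h := y.2.2
    constructor
    · rw [conjAdd_fix_iff]
      exact centralizer_le (by simp) h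
    · rw [conjAdd_fix_iff]
      exact centralizer_le (by simp) h⟩
  left_inv m := by rfl
  right_inv y := by rfl

/-- The abelian normal case. -/
theorem dvd_of_abelian [Finite G] {p : ℕ} [hp : Fact p.Prime]
    (hab : ∀ a ∈ N, ∀ b ∈ N, a * b = b * a) (hpN : ¬ p ∣ Nat.card N) {x z : G}
    (hxz : ⁅x, z⁆ ∈ centralizer (N : Set G)) (hzp : z ^ p ∈ centralizer (N : Set G)) :
    Nat.card ↥(N ⊓ centralizer ({z} : Set G)) *
      ∏ i ∈ range p, Nat.card ↥(N ⊓ centralizer ({x * z ^ i} : Set G)) ∣
      Nat.card N * Nat.card ↥(N ⊓ centralizer ({x, z} : Set G)) ^ p := by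
  let _ : CommGroup ↥N :=
    { (inferInstance : Group ↥N) with mul_comm := fun a b => Subtype.ext (hab a a.2 b b.2) }
  have hcop : (Nat.card (Additive ↥N)).Coprime p := by
    show (Nat.card ↥N).Coprime p
    exact ((Nat.Prime.coprime_iff_not_dvd hp.out).mpr hpN).symm
  have hXZ : Commute (conjAdd N x) (conjAdd N z) := by
    show conjAdd N x * conjAdd N z = conjAdd N z * conjAdd N x
    rw [← conjAdd_mul, ← conjAdd_mul]
    have h1 : x * z = ⁅x, z⁆ * (z * x) := by rw [commutatorElement_def]; group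
    rw [h1, conjAdd_mul, conjAdd_eq_one N hxz, one_mul]
  have hZ : conjAdd N z ^ p = 1 := by
    rw [← conjAdd_pow, conjAdd_eq_one N hzp]
  have key := FixDvd.card_fix_mul_prod_dvd hcop hXZ hZ
  have e1 : Nat.card (FixDvd.fix (conjAdd N z)) = Nat.card ↥(N ⊓ centralizer ({z} : Set G)) :=
    Nat.card_congr (fixEquiv N z)
  have e2 : ∀ i : ℕ, Nat.card (FixDvd.fix (conjAdd N x * conjAdd N z ^ i)) =
      Nat.card ↥(N ⊓ centralizer ({x * z ^ i} : Set G)) := by
    intro i
    rw [← conjAdd_pow, ← conjAdd_mul]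
    exact Nat.card_congr (fixEquiv N (x * z ^ i))
  have e3 : Nat.card ↥(FixDvd.fix (conjAdd N x) ⊓ FixDvd.fix (conjAdd N z)) =
      Nat.card ↥(N ⊓ centralizer ({x, z} : Set G)) :=
    Nat.card_congr (fixEquiv₂ N x z)
  have e4 : Nat.card (Additive ↥N) = Nat.card ↥N := rfl
  rw [e1, e3, e4, Finset.prod_congr rfl (fun i _ => e2 i)] at key
  exact key

end Bridge

section Mult

variable {G : Type*} [Group G] [Finite G]

/-- A `p`-subgroup normalizing a `p'`-subgroup acts coprimely. -/
theorem coprimeAct_of_isPGroup {p : ℕ} [hp : Fact p.Prime] {A N : Subgroup G} (hA : IsPGroup p A)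
    (hAN : A ≤ normalizer (N : Set G)) (hpN : ¬ p ∣ Nat.card N) : Helper1.CoprimeAct A N where
  norm := hAN
  cop := by
    obtain ⟨k, hk⟩ := IsPGroup.iff_card.mp hA
    rw [hk]
    exact Nat.Coprime.pow_left _ ((Nat.Prime.coprime_iff_not_dvd hp.out).mpr hpN)
  solv := Or.inl (by have := hA.isNilpotent; infer_instance)

/-- Fixed points are multiplicative along an invariant normal subgroup. -/
theorem card_fixC_eq_mul {p : ℕ} [hp : Fact p.Prime] (K N P : Subgroup G) [K.Normal]
    (hKN : K ≤ N) (hPN : P ≤ normalizer (N : Set G)) (hP : IsPGroup p P)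
    (hpN : ¬ p ∣ Nat.card N) (S : Set G) (hS : S ⊆ P) :
    Nat.card ↥(N ⊓ centralizer S) = Nat.card ↥(K ⊓ centralizer S) *
      Nat.card ↥(N.map (QuotientGroup.mk' K) ⊓ centralizer (QuotientGroup.mk' K '' S)) := by
  set π := QuotientGroup.mk' K with hπ
  let f : ↥(N ⊓ centralizer S) →* G ⧸ K := π.comp (N ⊓ centralizer S).subtype
  have hker : Nat.card f.ker = Nat.card ↥(K ⊓ centralizer S) := by
    have h1 : f.ker = (K ⊓ centralizer S).subgroupOf (N ⊓ centralizer S) := by
      ext y
      rw [MonoidHom.mem_ker, mem_subgroupOf, Subgroup.mem_inf]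
      show π (y : G) = 1 ↔ _
      rw [hπ, QuotientGroup.mk'_apply, QuotientGroup.eq_one_iff]
      exact ⟨fun h => ⟨h, y.2.2⟩, fun h => h.1⟩
    rw [h1]
    exact Nat.card_congr (subgroupOfEquivOfLe (inf_le_inf_right _ hKN)).toEquiv
  have hrange : f.range = N.map π ⊓ centralizer (π '' S) := by
    apply le_antisymm
    · rintro _ ⟨y, rfl⟩
      refine Subgroup.mem_inf.mpr ⟨mem_map_of_mem π y.2.1, ?_⟩
      rw [mem_centralizer_iff]
      rintro _ ⟨s, hs, rfl⟩
      show π s * π (y : G) = π (y : G) * π s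
      rw [← map_mul, ← map_mul, mem_centralizer_iff.mp y.2.2 s hs]
    · intro yb hyb
      obtain ⟨hyN, hyC⟩ := Subgroup.mem_inf.mp hyb
      obtain ⟨n, hn, rfl⟩ := hyN
      set A := closure S with hA
      have hAP : A ≤ P := (closure_le P).mpr hS
      have hAp : IsPGroup p A := hP.to_le hAP
      have hcop : Helper1.CoprimeAct A N := coprimeAct_of_isPGroup hAp (hAP.trans hPN) hpN
      have hAcomm : A ≤ (centralizer ({π n} : Set (G ⧸ K))).comap π := by
        rw [hA, closure_le]
        intro s hs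
        show π s ∈ centralizer ({π n} : Set (G ⧸ K))
        rw [mem_centralizer_singleton_iff]
        exact mem_centralizer_iff.mp hyC (π s) ⟨s, hs, rfl⟩
      have hx : ∀ a ∈ A, n⁻¹ * (a * n * a⁻¹) ∈ K := by
        intro a ha
        have h1 : π a * π n = π n * π a := mem_centralizer_singleton_iff.mp (hAcomm ha)
        rw [← QuotientGroup.eq_one_iff, ← QuotientGroup.mk'_apply, ← hπ]
        simp only [map_mul, map_inv]
        rw [h1]
        group
      have hKA : A ≤ normalizer (K : Set G) := by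
        rw [normalizer_eq_top]
        exact le_top
      obtain ⟨u, hu, hnu⟩ := hcop.exists_mul_mem_centralizer hKN hKA n hn hx
      have hnu' : n * u ∈ N ⊓ centralizer S := by
        refine Subgroup.mem_inf.mpr ⟨(Subgroup.mem_inf.mp hnu).1, ?_⟩
        have := (Subgroup.mem_inf.mp hnu).2
        rw [hA, centralizer_closure] at this
        exact this
      refine ⟨⟨n * u, hnu'⟩, ?_⟩
      show π (n * u) = π n
      rw [map_mul]
      have : π u = 1 := by rw [hπ, QuotientGroup.mk'_apply, QuotientGroup.eq_one_iff]; exact hu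
      rw [this, mul_one]
  rw [← hker, ← hrange, ← index_ker, card_mul_index]

/-- left side of the fixed-point divisibility -/
noncomputable def lhs (N : Subgroup G) (x z : G) (p : ℕ) : ℕ :=
  Nat.card ↥(N ⊓ centralizer ({z} : Set G)) *
    ∏ i ∈ range p, Nat.card ↥(N ⊓ centralizer ({x * z ^ i} : Set G))

/-- right side of the fixed-point divisibility -/
noncomputable def rhs (N : Subgroup G) (x z : G) (p : ℕ) : ℕ :=
  Nat.card N * Nat.card ↥(N ⊓ centralizer ({x, z} : Set G)) ^ p

omit [Finite G] in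
theorem centralizer_empty' : centralizer (∅ : Set G) = ⊤ :=
  eq_top_iff.mpr (fun g _ => mem_centralizer_iff.mpr (by simp))

theorem card_eq_mul_card_map {p : ℕ} [hp : Fact p.Prime] (K N P : Subgroup G) [K.Normal]
    (hKN : K ≤ N) (hPN : P ≤ normalizer (N : Set G)) (hP : IsPGroup p P)
    (hpN : ¬ p ∣ Nat.card N) :
    Nat.card N = Nat.card K * Nat.card ↥(N.map (QuotientGroup.mk' K)) := by
  have := card_fixC_eq_mul K N P hKN hPN hP hpN ∅ (Set.empty_subset _)
  rw [Set.image_empty, centralizer_empty', centralizer_empty', inf_top_eq, inf_top_eq, inf_top_eq]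
    at this
  exact this

theorem lhs_mul {p : ℕ} [hp : Fact p.Prime] (K N P : Subgroup G) [K.Normal]
    (hKN : K ≤ N) (hPN : P ≤ normalizer (N : Set G)) (hP : IsPGroup p P)
    (hpN : ¬ p ∣ Nat.card N) {x z : G} (hx : x ∈ P) (hz : z ∈ P) :
    lhs N x z p = lhs K x z p *
      lhs (N.map (QuotientGroup.mk' K)) (QuotientGroup.mk' K x) (QuotientGroup.mk' K z) p := by
  unfold lhs
  have h1 := card_fixC_eq_mul K N P hKN hPN hP hpN {z} (Set.singleton_subset_iff.mpr hz)
  have h2 : ∀ i : ℕ, Nat.card ↥(N ⊓ centralizer ({x * z ^ i} : Set G)) =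
      Nat.card ↥(K ⊓ centralizer ({x * z ^ i} : Set G)) *
      Nat.card ↥(N.map (QuotientGroup.mk' K) ⊓
        centralizer ({QuotientGroup.mk' K x * QuotientGroup.mk' K z ^ i} : Set (G ⧸ K))) := by
    intro i
    have := card_fixC_eq_mul K N P hKN hPN hP hpN {x * z ^ i}
      (Set.singleton_subset_iff.mpr (mul_mem hx (pow_mem hz i)))
    rw [Set.image_singleton, map_mul, map_pow] at this
    exact this
  rw [Set.image_singleton] at h1
  rw [h1, Finset.prod_congr rfl (fun i _ => h2 i), Finset.prod_mul_distrib]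
  ring

theorem rhs_mul {p : ℕ} [hp : Fact p.Prime] (K N P : Subgroup G) [K.Normal]
    (hKN : K ≤ N) (hPN : P ≤ normalizer (N : Set G)) (hP : IsPGroup p P)
    (hpN : ¬ p ∣ Nat.card N) {x z : G} (hx : x ∈ P) (hz : z ∈ P) :
    rhs N x z p = rhs K x z p *
      rhs (N.map (QuotientGroup.mk' K)) (QuotientGroup.mk' K x) (QuotientGroup.mk' K z) p := by
  unfold rhs
  have h1 := card_fixC_eq_mul K N P hKN hPN hP hpN {x, z}
    (by intro y hy; rcases hy with rfl | rfl; exacts [hx, hz])
  rw [Set.image_pair] at h1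
  rw [h1, card_eq_mul_card_map K N P hKN hPN hP hpN]
  ring

end Mult

section Solv

/-- The solvable normal case, by induction along the derived series. -/
theorem dvd_of_solvable_normal {p : ℕ} [hp : Fact p.Prime] :
    ∀ (k : ℕ) (G : Type u) [Group G] [Finite G] (N P : Subgroup G) [N.Normal],
      Nat.card N = k → Group.IsSolvable N → IsPGroup p P → ¬ p ∣ Nat.card N →
      ∀ x ∈ P, ∀ z ∈ P, ⁅x, z⁆ ∈ centralizer (N : Set G) → z ^ p ∈ centralizer (N : Set G) →
      lhs N x z p ∣ rhs N x z p := by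
  intro k
  induction k using Nat.strong_induction_on with
  | _ k ih =>
    intro G _ _ N P _ hk hsolv hP hpN x hx z hz hxz hzp
    by_cases hab : ∀ a ∈ N, ∀ b ∈ N, a * b = b * a
    · exact dvd_of_abelian N hab hpN hxz hzp
    · set K : Subgroup G := ⁅N, N⁆ with hK
      have hKn : K.Normal := inferInstance
      have hKN : K ≤ N := commutator_le_self N
      have hPN : P ≤ normalizer (N : Set G) := by
        rw [normalizer_eq_top]
        exact le_top
      have hKne : K ≠ ⊥ := by
        intro h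
        apply hab
        rw [hK, commutator_eq_bot_iff_le_centralizer] at h
        intro a ha b hb
        exact (mem_centralizer_iff.mp (h ha) b hb).symm
      have hKneN : K ≠ N := by
        intro h
        have hNbot : N ≠ ⊥ := by
          intro h0
          apply hKne
          rw [eq_bot_iff, ← h0]
          exact hKN
        have : Nontrivial ↥N := (nontrivial_iff_ne_bot N).mpr hNbot
        have h1 := Group.IsSolvable.commutator_lt_top_of_nontrivial ↥N
        have h2 : (commutator ↥N).map N.subtype = (⊤ : Subgroup ↥N).map N.subtype := by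
          rw [map_subtype_commutator, ← MonoidHom.range_eq_map, range_subtype]
          exact h
        exact h1.ne (map_injective N.subtype_injective h2)
      have hKlt : Nat.card K < Nat.card N :=
        lt_of_le_of_ne (card_le_of_le hKN) (fun h => hKneN (eq_of_le_of_card_ge hKN h.ge))
      have hKsolv : Group.IsSolvable K :=
        Group.isSolvable_of_isSolvable_injective (inclusion_injective hKN)
      have hpK : ¬ p ∣ Nat.card K := fun h => hpN (h.trans (card_dvd_of_le hKN))
      have hcenK : centralizer (N : Set G) ≤ centralizer (K : Set G) := centralizer_le hKN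
      have ihK := ih (Nat.card K) (hk ▸ hKlt) G K P rfl hKsolv hP hpK x hx z hz
        (hcenK hxz) (hcenK hzp)
      -- the quotient
      set π := QuotientGroup.mk' K with hπ
      have hπs : Function.Surjective π := QuotientGroup.mk'_surjective K
      have hNbn : (N.map π).Normal := Subgroup.Normal.map inferInstance π hπs
      have hcard := card_eq_mul_card_map K N P hKN hPN hP hpN
      have hK1 : 1 < Nat.card K := (Subgroup.one_lt_card_iff_ne_bot (H := K)).mpr hKne
      have hNb1 : 0 < Nat.card ↥(N.map π) := Nat.card_pos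
      have hNblt : Nat.card ↥(N.map π) < Nat.card N := by
        rw [hcard]
        nlinarith
      have hNbsolv : Group.IsSolvable ↥(N.map π) :=
        Group.isSolvable_of_surjective (f := π.subgroupMap N) (MonoidHom.subgroupMap_surjective π N)
      have hpNb : ¬ p ∣ Nat.card ↥(N.map π) := fun h => hpN (hcard ▸ Dvd.dvd.mul_left h _)
      have hcenNb : ∀ c ∈ centralizer (N : Set G), π c ∈ centralizer ((N.map π : Subgroup (G ⧸ K)) : Set (G ⧸ K)) := by
        intro c hc
        rw [Subgroup.coe_map]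
        exact map_centralizer_le_centralizer_image _ π (mem_map_of_mem π hc)
      have h1 : ⁅π x, π z⁆ ∈ centralizer ((N.map π : Subgroup (G ⧸ K)) : Set (G ⧸ K)) := by
        rw [← map_commutatorElement]
        exact hcenNb _ hxz
      have h2 : π z ^ p ∈ centralizer ((N.map π : Subgroup (G ⧸ K)) : Set (G ⧸ K)) := by
        rw [← map_pow]
        exact hcenNb _ hzp
      have ihNb := ih (Nat.card ↥(N.map π)) (hk ▸ hNblt) (G ⧸ K) (N.map π) (P.map π) rfl hNbsolv
        (hP.map π) hpNb (π x) (mem_map_of_mem π hx) (π z) (mem_map_of_mem π hz) h1 h2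
      rw [lhs_mul K N P hKN hPN hP hpN hx hz, rhs_mul K N P hKN hPN hP hpN hx hz]
      exact Nat.mul_dvd_mul ihK ihNb

end Solv

section SylowRed

variable {G : Type u} [Group G] [Finite G]

omit [Finite G] in
/-- translation between a subgroup (as an ambient group) and the ambient group -/
theorem card_fixC_subgroupOf (H Q : Subgroup G) (hQH : Q ≤ H) (S₁ : Set ↥H) :
    Nat.card ↥(Q.subgroupOf H ⊓ centralizer S₁) =
      Nat.card ↥(Q ⊓ centralizer (Subtype.val '' S₁ : Set G)) := by
  have hmap : (Q.subgroupOf H ⊓ centralizer S₁).map H.subtype =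
      Q ⊓ centralizer (Subtype.val '' S₁ : Set G) := by
    ext g
    constructor
    · rintro ⟨y, hy, rfl⟩
      obtain ⟨hy1, hy2⟩ := Subgroup.mem_inf.mp hy
      refine Subgroup.mem_inf.mpr ⟨mem_subgroupOf.mp hy1, ?_⟩
      rw [mem_centralizer_iff]
      rintro _ ⟨s, hs, rfl⟩
      exact congrArg Subtype.val (mem_centralizer_iff.mp hy2 s hs)
    · intro hg
      obtain ⟨hgQ, hgC⟩ := Subgroup.mem_inf.mp hg
      refine ⟨⟨g, hQH hgQ⟩, Subgroup.mem_inf.mpr ⟨mem_subgroupOf.mpr hgQ, ?_⟩, rfl⟩
      rw [mem_centralizer_iff]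
      intro s hs
      apply Subtype.ext
      exact mem_centralizer_iff.mp hgC s.1 ⟨s, hs, rfl⟩
  rw [← hmap]
  exact Nat.card_congr (equivMapOfInjective _ _ H.subtype_injective).toEquiv

/-- For an invariant Sylow `q`-subgroup `Q` of `N`, `C_Q(S)` is a Sylow `q`-subgroup of
`C_N(S)` (cardinality form). -/
theorem card_fixC_sylow {p q : ℕ} [hp : Fact p.Prime] [hq : Fact q.Prime] (N P : Subgroup G)
    (hPN : P ≤ normalizer (N : Set G)) (hP : IsPGroup p P) (hpN : ¬ p ∣ Nat.card N)
    (Q₀ : Sylow q N) (hQ₀ : P ≤ normalizer ((Q₀ : Subgroup N).map N.subtype : Set G))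
    (S : Set G) (hS : S ⊆ P) :
    Nat.card ↥((Q₀ : Subgroup N).map N.subtype ⊓ centralizer S) =
      q ^ (Nat.card ↥(N ⊓ centralizer S)).factorization q := by
  set A := closure S with hA
  have hAP : A ≤ P := (closure_le P).mpr hS
  have hAp : IsPGroup p A := hP.to_le hAP
  have hcop : Helper1.CoprimeAct A N := coprimeAct_of_isPGroup hAp (hAP.trans hPN) hpN
  set C := N ⊓ centralizer S with hC
  set Q := (Q₀ : Subgroup N).map N.subtype with hQ
  have hQN : Q ≤ N := map_subtype_le _
  set D := Q ⊓ centralizer S with hD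
  have hDC : D ≤ C := inf_le_inf_right _ hQN
  have hDq : IsPGroup q D := (Q₀.2.map N.subtype).to_le inf_le_left
  obtain ⟨S₁, hS₁⟩ := (hDq.comap_subtype (K := C)).exists_le_sylow
  set U := (S₁ : Subgroup C).map C.subtype with hU
  have hUC : U ≤ C := map_subtype_le _
  have hUq : IsPGroup q U := S₁.2.map C.subtype
  have hUcard : Nat.card U = Nat.card S₁ :=
    (Nat.card_congr (equivMapOfInjective _ _ C.subtype_injective).toEquiv).symm
  have hDU : D ≤ U := by
    intro d hd
    exact ⟨⟨d, hDC hd⟩, hS₁ (mem_subgroupOf.mpr hd), rfl⟩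
  have hUcen : U ≤ centralizer (A : Set G) := by
    rw [hA, centralizer_closure]
    exact hUC.trans inf_le_right
  have hUA : A ≤ normalizer (U : Set G) :=
    (le_centralizer_iff.mp hUcen).trans (centralizer_le_normalizer _)
  obtain ⟨Q₁, hUQ₁, hQ₁A⟩ := hcop.exists_invariant_sylow_ge U (hUC.trans inf_le_left) hUq hUA
  obtain ⟨c, hcA, hc⟩ := hcop.exists_conj_sylow Q₁ Q₀ hQ₁A (hAP.trans hQ₀)
  have hc' : MulAut.conj (c : G) • (Q₁ : Subgroup N).map N.subtype = Q := by
    have h1 : MulAut.conj c • (Q₁ : Subgroup N) = (Q₀ : Subgroup N) := by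
      rw [← Sylow.pointwise_smul_def, hc]
    have h2 := Helper1.map_conj_smul N.subtype c (Q₁ : Subgroup N)
    rw [h1] at h2
    exact h2.symm
  have hcS : (c : G) ∈ centralizer S := by
    rw [hA, centralizer_closure] at hcA
    exact hcA
  have hconj : MulAut.conj (c : G) • U ≤ D := by
    rw [Helper1.conj_smul_le_iff]
    intro u hu
    refine Subgroup.mem_inf.mpr ⟨?_, ?_⟩
    · rw [← hc', Helper1.mem_conj_smul]
      have : (c : G)⁻¹ * ((c : G) * u * (c : G)⁻¹) * (c : G) = u := by group
      rw [this]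
      exact hUQ₁ hu
    · exact mul_mem (mul_mem hcS ((hUC hu).2)) (inv_mem hcS)
  have hle : Nat.card U ≤ Nat.card D := by
    rw [← Helper1.card_conj_smul (c : G) U]
    exact card_le_of_le hconj
  have hDUeq : Nat.card D = Nat.card U := le_antisymm (card_le_of_le hDU) hle
  rw [hDUeq, hUcard, S₁.card_eq_multiplicity]

theorem lhs_ne_zero (H : Subgroup G) (x z : G) (p : ℕ) : lhs H x z p ≠ 0 := by
  unfold lhs
  apply mul_ne_zero Nat.card_pos.ne'
  exact Finset.prod_ne_zero_iff.mpr (fun i _ => Nat.card_pos.ne')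

theorem rhs_ne_zero (H : Subgroup G) (x z : G) (p : ℕ) : rhs H x z p ≠ 0 := by
  unfold rhs
  exact mul_ne_zero Nat.card_pos.ne' (pow_ne_zero _ Nat.card_pos.ne')

theorem factorization_lhs (H : Subgroup G) (x z : G) (p q : ℕ) :
    (lhs H x z p).factorization q = (Nat.card ↥(H ⊓ centralizer ({z} : Set G))).factorization q +
      ∑ i ∈ range p, (Nat.card ↥(H ⊓ centralizer ({x * z ^ i} : Set G))).factorization q := by
  unfold lhs
  rw [Nat.factorization_mul Nat.card_pos.ne'
    (Finset.prod_ne_zero_iff.mpr (fun i _ => Nat.card_pos.ne')), Finsupp.add_apply,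
    Nat.factorization_prod_apply (fun i _ => Nat.card_pos.ne')]

theorem factorization_rhs (H : Subgroup G) (x z : G) (p q : ℕ) :
    (rhs H x z p).factorization q = (Nat.card H).factorization q +
      p * (Nat.card ↥(H ⊓ centralizer ({x, z} : Set G))).factorization q := by
  unfold rhs
  rw [Nat.factorization_mul Nat.card_pos.ne' (pow_ne_zero _ Nat.card_pos.ne'), Finsupp.add_apply,
    Nat.factorization_pow, Finsupp.smul_apply, smul_eq_mul]

/-- The general case: `P` a `p`-subgroup normalizing the `p'`-subgroup `N`. -/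
theorem dvd_general {p : ℕ} [hp : Fact p.Prime] (N P : Subgroup G)
    (hPN : P ≤ normalizer (N : Set G)) (hP : IsPGroup p P) (hpN : ¬ p ∣ Nat.card N)
    {x z : G} (hx : x ∈ P) (hz : z ∈ P) (hxz : ⁅x, z⁆ ∈ centralizer (N : Set G))
    (hzp : z ^ p ∈ centralizer (N : Set G)) : lhs N x z p ∣ rhs N x z p := by
  rw [← Nat.factorization_prime_le_iff_dvd (lhs_ne_zero N x z p) (rhs_ne_zero N x z p)]
  intro q hq
  have : Fact q.Prime := ⟨hq⟩
  obtain ⟨Q₀, hQ₀⟩ := (coprimeAct_of_isPGroup hP hPN hpN).exists_invariant_sylow q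
  set Q := (Q₀ : Subgroup N).map N.subtype with hQ
  have hQN : Q ≤ N := map_subtype_le _
  have hQq : IsPGroup q Q := Q₀.2.map N.subtype
  -- pass to the normalizer of `Q`
  set H := normalizer (Q : Set G) with hH
  have hQH : Q ≤ H := le_normalizer
  have hN₁solv : Group.IsSolvable ↥(Q.subgroupOf H) := by
    have h1 : IsPGroup q ↥(Q.subgroupOf H) := hQq.comap_subtype
    have := h1.isNilpotent
    infer_instance
  have hN₁card : Nat.card ↥(Q.subgroupOf H) = Nat.card Q :=
    Nat.card_congr (subgroupOfEquivOfLe hQH).toEquiv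
  have hpQ : ¬ p ∣ Nat.card Q := fun h => hpN (h.trans (card_dvd_of_le hQN))
  have hcen : ∀ c : ↥H, (c : G) ∈ centralizer (N : Set G) →
      c ∈ centralizer ((Q.subgroupOf H : Subgroup ↥H) : Set ↥H) := by
    intro c hc
    rw [mem_centralizer_iff]
    intro y hy
    apply Subtype.ext
    exact mem_centralizer_iff.mp hc y.1 (hQN (mem_subgroupOf.mp hy))
  have key := dvd_of_solvable_normal (p := p) (Nat.card ↥(Q.subgroupOf H)) ↥H (Q.subgroupOf H)
    (P.subgroupOf H) rfl hN₁solv hP.comap_subtype (hN₁card ▸ hpQ)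
    ⟨x, hQ₀ hx⟩ (mem_subgroupOf.mpr hx) ⟨z, hQ₀ hz⟩ (mem_subgroupOf.mpr hz)
    (hcen _ hxz) (hcen _ hzp)
  -- translate
  have hl : lhs (Q.subgroupOf H) (⟨x, hQ₀ hx⟩ : ↥H) ⟨z, hQ₀ hz⟩ p = lhs Q x z p := by
    unfold lhs
    rw [card_fixC_subgroupOf H Q hQH, Set.image_singleton]
    congr 1
    apply Finset.prod_congr rfl
    intro i _
    rw [card_fixC_subgroupOf H Q hQH, Set.image_singleton]
    rfl
  have hr : rhs (Q.subgroupOf H) (⟨x, hQ₀ hx⟩ : ↥H) ⟨z, hQ₀ hz⟩ p = rhs Q x z p := by
    unfold rhs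
    rw [card_fixC_subgroupOf H Q hQH, Set.image_pair, hN₁card]
  rw [hl, hr] at key
  have key2 := (Nat.factorization_le_iff_dvd (lhs_ne_zero Q x z p) (rhs_ne_zero Q x z p)).mpr key q
  -- compare factorizations
  have hfix : ∀ S : Set G, S ⊆ P → (Nat.card ↥(Q ⊓ centralizer S)).factorization q =
      (Nat.card ↥(N ⊓ centralizer S)).factorization q := by
    intro S hS
    rw [card_fixC_sylow N P hPN hP hpN Q₀ hQ₀ S hS, Nat.factorization_pow_self hq]
  have hQcard : (Nat.card Q).factorization q = (Nat.card N).factorization q := by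
    have h1 : Nat.card Q = Nat.card Q₀ :=
      (Nat.card_congr (equivMapOfInjective _ _ N.subtype_injective).toEquiv).symm
    rw [h1, Q₀.card_eq_multiplicity, Nat.factorization_pow_self hq]
  have hzS : ({z} : Set G) ⊆ P := Set.singleton_subset_iff.mpr hz
  have hxzS : ({x, z} : Set G) ⊆ P := by
    intro y hy
    rcases hy with rfl | rfl
    exacts [hx, hz]
  have hiS : ∀ i : ℕ, ({x * z ^ i} : Set G) ⊆ P := fun i =>
    Set.singleton_subset_iff.mpr (mul_mem hx (pow_mem hz i))
  rw [factorization_lhs, factorization_rhs] at key2 ⊢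
  rw [hfix _ hzS, hfix _ hxzS, hQcard, Finset.sum_congr rfl (fun i _ => hfix _ (hiS i))] at key2
  exact key2

end SylowRed

section GM

variable {G : Type u} [Group G] [Finite G]

/-- the elements of a subgroup as a finset -/
noncomputable def elems (P : Subgroup G) : Finset G := (Set.toFinite (P : Set G)).toFinset

theorem mem_elems {P : Subgroup G} {x : G} : x ∈ elems P ↔ x ∈ P := by
  unfold elems
  rw [Set.Finite.mem_toFinset]
  rfl

theorem card_elems (P : Subgroup G) : (elems P).card = Nat.card P := by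
  unfold elems
  rw [← Nat.card_eq_card_finite_toFinset]
  rfl

omit [Finite G] in
theorem centralizer_pair (x z : G) :
    centralizer ({x, z} : Set G) = centralizer ({x} : Set G) ⊓ centralizer ({z} : Set G) := by
  ext g
  rw [Subgroup.mem_inf, mem_centralizer_iff, mem_centralizer_iff, mem_centralizer_iff]
  constructor
  · intro h
    exact ⟨fun y hy => h y (by rw [Set.mem_singleton_iff] at hy; rw [hy]; simp),
      fun y hy => h y (by rw [Set.mem_singleton_iff] at hy; rw [hy]; simp)⟩
  · rintro ⟨h1, h2⟩ y hy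
    rcases hy with rfl | rfl
    · exact h1 _ rfl
    · exact h2 _ rfl

/-- In a `p`-group `P` with a proper normal subgroup `C` there is `z ∈ P ∖ C` central of order
`p` modulo `C`. -/
theorem exists_central_mod {p : ℕ} [hp : Fact p.Prime] {P C : Subgroup G} (hP : IsPGroup p P)
    (hCP : C ≤ P) (hnorm : P ≤ normalizer (C : Set G)) (hne : ¬ P ≤ C) :
    ∃ z ∈ P, z ∉ C ∧ z ^ p ∈ C ∧ ∀ g ∈ P, ⁅g, z⁆ ∈ C := by
  have hn : (C.subgroupOf P).Normal := (normal_subgroupOf_iff_le_normalizer hCP).mpr hnorm
  have hQp : IsPGroup p (↥P ⧸ C.subgroupOf P) := hP.to_quotient _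
  have hnt : Nontrivial (↥P ⧸ C.subgroupOf P) := by
    by_contra h
    rw [not_nontrivial_iff_subsingleton] at h
    have := QuotientGroup.subgroup_eq_top_of_subsingleton _ h
    rw [subgroupOf_eq_top] at this
    exact hne this
  have hcn : Nontrivial (center (↥P ⧸ C.subgroupOf P)) := hQp.center_nontrivial
  have hcp : IsPGroup p (center (↥P ⧸ C.subgroupOf P)) := hQp.to_subgroup _
  have hdvd : p ∣ Nat.card (center (↥P ⧸ C.subgroupOf P)) := by
    rcases hcp.card_eq_or_dvd with h | h
    · have := Finite.one_lt_card (α := center (↥P ⧸ C.subgroupOf P))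
      omega
    · exact h
  obtain ⟨y, hy⟩ := exists_prime_orderOf_dvd_card' p hdvd
  have hy' : orderOf (y : ↥P ⧸ C.subgroupOf P) = p := by rw [Subgroup.orderOf_coe, hy]
  obtain ⟨z, hz⟩ := QuotientGroup.mk_surjective (y : ↥P ⧸ C.subgroupOf P)
  refine ⟨z, z.2, ?_, ?_, ?_⟩
  · intro hzC
    have : (QuotientGroup.mk z : ↥P ⧸ C.subgroupOf P) = 1 :=
      (QuotientGroup.eq_one_iff z).mpr (mem_subgroupOf.mpr hzC)
    rw [hz] at this
    rw [this, orderOf_one] at hy'
    exact hp.out.one_lt.ne hy'
  · have : (QuotientGroup.mk (z ^ p) : ↥P ⧸ C.subgroupOf P) = 1 := by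
      rw [QuotientGroup.mk_pow, hz, ← hy', pow_orderOf_eq_one]
    exact mem_subgroupOf.mp ((QuotientGroup.eq_one_iff _).mp this)
  · intro g hg
    have hcen : ∀ a : ↥P ⧸ C.subgroupOf P, a * (y : ↥P ⧸ C.subgroupOf P) = y * a :=
      mem_center_iff.mp y.2
    have : (QuotientGroup.mk (⁅(⟨g, hg⟩ : ↥P), z⁆) : ↥P ⧸ C.subgroupOf P) = 1 := by
      have h1 : (QuotientGroup.mk (⁅(⟨g, hg⟩ : ↥P), z⁆) : ↥P ⧸ C.subgroupOf P) =
          ⁅(QuotientGroup.mk (⟨g, hg⟩ : ↥P) : ↥P ⧸ C.subgroupOf P), QuotientGroup.mk z⁆ :=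
        map_commutatorElement (QuotientGroup.mk' (C.subgroupOf P)) _ _
      rw [h1, hz, commutatorElement_eq_one_iff_commute]
      exact hcen _
    exact mem_subgroupOf.mp ((QuotientGroup.eq_one_iff _).mp this)

/-- **Geometric mean inequality for fixed points**: a `p`-group `P` normalizing a `p'`-group `N`:
`(∏_{x ∈ P} |C_N(x)|)^p ≤ |N|^{|P|} |C_N(P)|^{|P|(p-1)}`. -/
theorem prod_card_fix_pow_le {p : ℕ} [hp : Fact p.Prime] :
    ∀ (k : ℕ) (N P : Subgroup G), Nat.card N = k → P ≤ normalizer (N : Set G) → IsPGroup p P →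
      ¬ p ∣ Nat.card N →
      (∏ x ∈ elems P, Nat.card ↥(N ⊓ centralizer ({x} : Set G))) ^ p ≤
        Nat.card N ^ Nat.card P * Nat.card ↥(N ⊓ centralizer (P : Set G)) ^ (Nat.card P * (p - 1)) := by
  intro k
  induction k using Nat.strong_induction_on with
  | _ k ih =>
    intro N P hk hPN hP hpN
    have hp1 : 1 ≤ p := hp.out.one_lt.le
    by_cases hcen : P ≤ centralizer (N : Set G)
    · have h1 : ∀ x ∈ elems P, Nat.card ↥(N ⊓ centralizer ({x} : Set G)) = Nat.card N := by
        intro x hx
        have : N ⊓ centralizer ({x} : Set G) = N := by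
          rw [inf_eq_left]
          intro n hn
          rw [mem_centralizer_singleton_iff]
          exact mem_centralizer_iff.mp (hcen (mem_elems.mp hx)) n hn
        rw [this]
      have h2 : N ⊓ centralizer (P : Set G) = N := by
        rw [inf_eq_left]
        exact le_centralizer_iff.mp hcen
      rw [Finset.prod_congr rfl h1, Finset.prod_const, card_elems, h2, ← pow_mul, ← pow_add]
      apply Nat.pow_le_pow_right Nat.card_pos
      have : Nat.card P * p = Nat.card P + Nat.card P * (p - 1) := by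
        have : p = 1 + (p - 1) := by omega
        nth_rewrite 1 [this]
        ring
      exact this.le
    · set C := P ⊓ centralizer (N : Set G) with hC
      have hCnorm : P ≤ normalizer (C : Set G) := by
        apply Helper1.le_normalizer_of_forall_conj_mem
        intro g hg c hc
        obtain ⟨hcP, hcN⟩ := Subgroup.mem_inf.mp hc
        refine Subgroup.mem_inf.mpr ⟨mul_mem (mul_mem hg hcP) (inv_mem hg), ?_⟩
        rw [mem_centralizer_iff]
        intro n hn
        have hn' : g⁻¹ * n * g ∈ N := by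
          have := (mem_normalizer_iff.mp (hPN (inv_mem hg)) n).mp hn
          simpa using this
        have h1 := mem_centralizer_iff.mp hcN _ hn'
        calc n * (g * c * g⁻¹) = g * ((g⁻¹ * n * g) * c) * g⁻¹ := by group
          _ = g * (c * (g⁻¹ * n * g)) * g⁻¹ := by rw [h1]
          _ = g * c * g⁻¹ * n := by group
      obtain ⟨z, hz, hzC, hzp, hcomm⟩ := exists_central_mod hP (inf_le_left : C ≤ P) hCnorm
        (fun h => hcen (h.trans inf_le_right))
      have hzN : z ∉ centralizer (N : Set G) := fun h => hzC (Subgroup.mem_inf.mpr ⟨hz, h⟩)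
      have hzpN : z ^ p ∈ centralizer (N : Set G) := (Subgroup.mem_inf.mp hzp).2
      have hcommN : ∀ g ∈ P, ⁅g, z⁆ ∈ centralizer (N : Set G) :=
        fun g hg => (Subgroup.mem_inf.mp (hcomm g hg)).2
      set N₁ := N ⊓ centralizer ({z} : Set G) with hN₁
      have hN₁N : N₁ ≤ N := inf_le_left
      have hN₁ne : N₁ ≠ N := by
        intro h
        apply hzN
        rw [mem_centralizer_iff]
        intro n hn
        have : n ∈ N₁ := h ▸ hn
        exact (mem_centralizer_singleton_iff.mp (Subgroup.mem_inf.mp this).2)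
      have hN₁lt : Nat.card N₁ < Nat.card N :=
        lt_of_le_of_ne (card_le_of_le hN₁N) (fun h => hN₁ne (eq_of_le_of_card_ge hN₁N h.ge))
      have hPN₁ : P ≤ normalizer (N₁ : Set G) := by
        apply Helper1.le_normalizer_of_forall_conj_mem
        intro g hg n hn
        obtain ⟨hnN, hnz⟩ := Subgroup.mem_inf.mp hn
        have hgn : g * n * g⁻¹ ∈ N := (mem_normalizer_iff.mp (hPN hg) n).mp hnN
        refine Subgroup.mem_inf.mpr ⟨hgn, ?_⟩
        rw [mem_centralizer_singleton_iff] at hnz ⊢
        -- c = ⁅g⁻¹, z⁆ centralizes N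
        have hc := hcommN g⁻¹ (inv_mem hg)
        rw [commutatorElement_def, inv_inv] at hc
        have hcn := mem_centralizer_iff.mp hc n hnN
        -- z * g = g * c * z
        have hzg : z * g = g * (g⁻¹ * z * g * z⁻¹) * z := by group
        calc g * n * g⁻¹ * z = g * (n * (g⁻¹ * z * g * z⁻¹)) * z * g⁻¹ := by group
          _ = g * ((g⁻¹ * z * g * z⁻¹) * n) * z * g⁻¹ := by rw [hcn]
          _ = g * (g⁻¹ * z * g * z⁻¹) * (n * z) * g⁻¹ := by group
          _ = g * (g⁻¹ * z * g * z⁻¹) * (z * n) * g⁻¹ := by rw [hnz]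
          _ = z * (g * n * g⁻¹) := by group
      have hpN₁ : ¬ p ∣ Nat.card N₁ := fun h => hpN (h.trans (card_dvd_of_le hN₁N))
      have ih1 := ih (Nat.card N₁) (hk ▸ hN₁lt) N₁ P rfl hPN₁ hP hpN₁
      have e1 : N₁ ⊓ centralizer (P : Set G) = N ⊓ centralizer (P : Set G) := by
        rw [hN₁, inf_assoc]
        congr 1
        rw [inf_eq_right]
        exact centralizer_le (Set.singleton_subset_iff.mpr hz)
      have e2 : ∀ x : G, N₁ ⊓ centralizer ({x} : Set G) = N ⊓ centralizer ({x, z} : Set G) := by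
        intro x
        rw [hN₁, centralizer_pair, inf_assoc, inf_comm (centralizer ({z} : Set G))]
      rw [e1] at ih1
      simp only [e2] at ih1
      -- the pointwise inequality
      have hpt : ∀ x ∈ elems P, lhs N x z p ≤ rhs N x z p := by
        intro x hx
        exact Nat.le_of_dvd (Nat.pos_of_ne_zero (rhs_ne_zero N x z p))
          (dvd_general N P hPN hP hpN (mem_elems.mp hx) hz (hcommN x (mem_elems.mp hx)) hzpN)
      have hprod := Finset.prod_le_prod (fun x _ => Nat.zero_le _) hpt
      -- left side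
      have hleft : ∏ x ∈ elems P, lhs N x z p =
          Nat.card N₁ ^ Nat.card P *
            (∏ x ∈ elems P, Nat.card ↥(N ⊓ centralizer ({x} : Set G))) ^ p := by
        unfold lhs
        rw [Finset.prod_mul_distrib, Finset.prod_const, card_elems, Finset.prod_comm]
        congr 1
        have hre : ∀ i ∈ range p, ∏ x ∈ elems P, Nat.card ↥(N ⊓ centralizer ({x * z ^ i} : Set G)) =
            ∏ x ∈ elems P, Nat.card ↥(N ⊓ centralizer ({x} : Set G)) := by
          intro i _
          apply Finset.prod_nbij' (fun x => x * z ^ i) (fun x => x * (z ^ i)⁻¹)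
          · intro x hx
            exact mem_elems.mpr (mul_mem (mem_elems.mp hx) (pow_mem hz i))
          · intro x hx
            exact mem_elems.mpr (mul_mem (mem_elems.mp hx) (inv_mem (pow_mem hz i)))
          · intro x _
            group
          · intro x _
            group
          · intro x _
            rfl
        rw [Finset.prod_congr rfl hre, Finset.prod_const, Finset.card_range]
      have hright : ∏ x ∈ elems P, rhs N x z p =
          Nat.card N ^ Nat.card P *
            (∏ x ∈ elems P, Nat.card ↥(N ⊓ centralizer ({x, z} : Set G))) ^ p := by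
        unfold rhs
        rw [Finset.prod_mul_distrib, Finset.prod_const, card_elems, Finset.prod_pow]
      rw [hleft, hright] at hprod
      have hpos : 0 < Nat.card N₁ ^ Nat.card P := pow_pos Nat.card_pos _
      apply Nat.le_of_mul_le_mul_left _ hpos
      calc Nat.card N₁ ^ Nat.card P *
            (∏ x ∈ elems P, Nat.card ↥(N ⊓ centralizer ({x} : Set G))) ^ p
          ≤ Nat.card N ^ Nat.card P *
            (∏ x ∈ elems P, Nat.card ↥(N ⊓ centralizer ({x, z} : Set G))) ^ p := hprod
        _ ≤ Nat.card N ^ Nat.card P * (Nat.card N₁ ^ Nat.card P *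
            Nat.card ↥(N ⊓ centralizer (P : Set G)) ^ (Nat.card P * (p - 1))) :=
          Nat.mul_le_mul_left _ ih1
        _ = Nat.card N₁ ^ Nat.card P * (Nat.card N ^ Nat.card P *
            Nat.card ↥(N ⊓ centralizer (P : Set G)) ^ (Nat.card P * (p - 1))) := by ring

end GM

end Cfsg.Agent.Lib.Helper22.FixDvdGrp
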