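import Mathlib
import Cfsg.Prelude.Def_GeometricClasses
import Cfsg.Agent.Lib.Helper7.AschDefs
import Cfsg.Agent.Lib.Helper6.Unitary
import Cfsg.Agent.Lib.Helper22.AschC7Defs
import Cfsg.Agent.Lib.Helper22.S5630I7A
import Cfsg.Agent.Lib.Helper22.S5663U7Defs
import Cfsg.Agent.Lib.Helper24.AschUDefs
import Cfsg.Agent.Lib.Helper10.S5663U7M12
import Cfsg.Agent.Lib.Helper10.S5663U7G
import Cfsg.Agent.Lib.Helper10.S5663U7M10
import Cfsg.Agent.Lib.Helper6.S5663U7M3
import Cfsg.Agent.Lib.Helper6.S5663U7M4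
import Cfsg.Agent.Lib.Helper6.S5663U7M5
import Cfsg.Agent.Lib.Helper6.S5663U7M6
import Cfsg.Agent.Lib.Helper6.S5663U7M8
import Cfsg.Agent.Lib.Helper1.S5663U7M9
import Cfsg.Agent.Lib.Helper26.S5663U7M16

/-!
# S5663, block U7 (`c7_caseU`): the pieces, ALL REAL (wired to the landed pieces of helper1, helper6, helper10, helper26)

NEVER import this file.  Write your piece in `Cfsg/Agent/Lib/HelperN/S5663U7<PIECE>.lean`, own namespace, EXACT signature
(same `open`s and `variable` line), importing Mathlib, the Prelude, `Lib/Helper7/AschDefs`, `Lib/Helper6/Unitary` (for `conjQ`),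
`Lib/Helper22/AschC7Defs`, `Lib/Helper22/S5630I7A` (the `pt` / `pos` calculus: `pt_mul`, `pt_one`, `pt_update_apply`,
`pt_transpose`, `pos_apply`, `pos_mul`, `pos_one`, `pos_add`, `pos_smul`, `posAlgHom`, `pos_injective`, `pt_mul_pos`,
`pos_mul_pt`, `scalar_of_commute_pos`, ...), `Lib/Helper22/S5663U7Defs` (`slice`, `Phi`, `gramX`) and landed pieces.

Notation: `X = Fin t → Fin m`; `σ` a ring endomorphism of `F` (for the hermitian pieces `σ = conjQ hF`, `x ↦ x ^ q`, a
`RingHom` with `conjQ_apply hF x : conjQ hF x = x ^ q := rfl`, `conjQ_conjQ`, `conjQ_ne_id` in `Cfsg.Agent.Lib.Helper6`);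
a matrix `A` is HERMITIAN if `(A.map σ)ᵀ = A`; a matrix `a` FIXES the Gram matrix `A` if `aᵀ * A * a.map σ = A`
(the form is `(x, y) ↦ Σ x_a A_ab σ(y_b)`, linear in `x`).
-/

set_option autoImplicit false

namespace Cfsg.Agent.Lib.Helper22.U7Core

open Matrix Cfsg Cfsg.Geo Cfsg.Agent.Lib.Helper7.Asch Cfsg.Agent.Lib.Helper22.AschC7
  Cfsg.Agent.Lib.Helper22.S5630I7A Cfsg.Agent.Lib.Helper22.U7 Cfsg.Agent.Lib.Helper6
open scoped commutatorElement

variable {F : Type*} [Field F] {n m t : ℕ}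

/-! ## M. matrix algebra on the tensor index set `X = Fin t → Fin m` -/

/-- **M1a** -/
theorem pt_map (σ : F →+* F) (A : Fin t → Matrix (Fin m) (Fin m) F) :
    (pt A).map σ = pt (fun i => (A i).map σ) := by
  apply Cfsg.Agent.Lib.Helper10.S5663U7M12.pt_map <;> assumption

/-- **M1b** -/
theorem pos_map (σ : F →+* F) (i : Fin t) (a : Matrix (Fin m) (Fin m) F) :
    (pos i a).map σ = pos i (a.map σ) := by
  apply Cfsg.Agent.Lib.Helper10.S5663U7M12.pos_map <;> assumption

/-- **M1c** -/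
theorem pos_transpose (i : Fin t) (a : Matrix (Fin m) (Fin m) F) : (pos i a)ᵀ = pos i aᵀ := by
  apply Cfsg.Agent.Lib.Helper10.S5663U7M12.pos_transpose <;> assumption

/-- **M1d** -/
theorem pt_smul (μ : Fin t → F) (A : Fin t → Matrix (Fin m) (Fin m) F) :
    pt (fun i => μ i • A i) = (∏ i, μ i) • pt A := by
  apply Cfsg.Agent.Lib.Helper10.S5663U7M12.pt_smul <;> assumption

/-- **M2** a factor fixing `A i` fixes the pure tensor `pt A` -/
theorem pt_fix (σ : F →+* F) (A : Fin t → Matrix (Fin m) (Fin m) F) (i : Fin t) (a : Matrix (Fin m) (Fin m) F)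
    (h : aᵀ * A i * a.map σ = A i) : (pos i a)ᵀ * pt A * (pos i a).map σ = pt A := by
  apply Cfsg.Agent.Lib.Helper10.S5663U7M12.pt_fix <;> assumption

/-- **M3** if `pos i a` fixes `G` then `a` fixes every slice of `G` in direction `i` -/
theorem slice_fix (σ : F →+* F) (i : Fin t) (a : Matrix (Fin m) (Fin m) F)
    (G : Matrix (Fin t → Fin m) (Fin t → Fin m) F)
    (h : (pos i a)ᵀ * G * (pos i a).map σ = G) (u v : Fin t → Fin m) :
    aᵀ * slice i u v G * a.map σ = slice i u v G := by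
  apply Cfsg.Agent.Lib.Helper6.S5663U7M3.slice_fix <;> assumption

/-- **M4** uniqueness of the Gram matrix fixed by a set of invertible matrices with scalar commutant -/
theorem gram_unique {κ : Type*} [Fintype κ] [DecidableEq κ] (σ : F →+* F) (S : Set (Matrix κ κ F))
    (hS : ∀ Z : Matrix κ κ F, (∀ s ∈ S, Z * s = s * Z) → ∃ c : F, Z = c • (1 : Matrix κ κ F))
    (hinv : ∀ s ∈ S, ∃ s' : Matrix κ κ F, s * s' = 1)
    (G G' : Matrix κ κ F) (hG : IsUnit G)
    (h1 : ∀ s ∈ S, sᵀ * G * s.map σ = G) (h2 : ∀ s ∈ S, sᵀ * G' * s.map σ = G') :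
    ∃ c : F, G' = c • G := by
  apply Cfsg.Agent.Lib.Helper6.S5663U7M4.gram_unique <;> assumption

/-- **M5** the factors of an invertible pure tensor are invertible -/
theorem isUnit_of_isUnit_pt (A : Fin t → Matrix (Fin m) (Fin m) F) (h : IsUnit (pt A)) (i : Fin t) :
    IsUnit (A i) := by
  apply Cfsg.Agent.Lib.Helper6.S5663U7M5.isUnit_of_isUnit_pt <;> assumption

/-- **M6** a matrix proportional to its conjugate transpose has a hermitian non-zero multiple -/
theorem exists_herm_rep (σ : F →+* F) (hσ : ∀ x, σ (σ x) = x) (hne : ∃ x, σ x ≠ x)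
    (A : Matrix (Fin m) (Fin m) F) (lam : F) (h : (A.map σ)ᵀ = lam • A) :
    ∃ μ : F, μ ≠ 0 ∧ ((μ • A).map σ)ᵀ = μ • A := by
  apply Cfsg.Agent.Lib.Helper6.S5663U7M6.exists_herm_rep <;> assumption

/-! ## H. hermitian matrices over `F_{q²}` -/

/-- **M8** an invertible hermitian matrix is congruent to the identity -/
theorem exists_orthonormalise [Fintype F] {q k : ℕ} (hF : Fintype.card F = q ^ 2)
    (A : Matrix (Fin k) (Fin k) F) (hA : IsUnit A) (hherm : (A.map (conjQ hF))ᵀ = A) :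
    ∃ B : GL (Fin k) F,
      (B : Matrix (Fin k) (Fin k) F)ᵀ * A * (B : Matrix (Fin k) (Fin k) F).map (conjQ hF) = 1 := by
  apply Cfsg.Agent.Lib.Helper6.S5663U7M8.exists_orthonormalise <;> assumption

/-- **M9** (SOLV) a perfect group of isometries of a non-degenerate hermitian form on `F_4³` is trivial
(`|GU_3(2)| = 2³ · 3⁴`: `Cfsg.Agent.Lib.Helper16.card_GU` + Burnside `Cfsg.Agent.Lib.Helper2.isSolvable_of_card_eq_prime_pow_mul_prime_pow`) -/
theorem perfect_trivial_32 [Fintype F] (hF : Fintype.card F = 2 ^ 2) (A : Matrix (Fin 3) (Fin 3) F) (hA : IsUnit A)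
    (hherm : (A.map (conjQ hF))ᵀ = A) (K : Subgroup (GL (Fin 3) F))
    (hK : ∀ k ∈ K, (k : Matrix (Fin 3) (Fin 3) F)ᵀ * A * (k : Matrix (Fin 3) (Fin 3) F).map (conjQ hF) = A)
    (hperf : ⁅K, K⁆ = K) : K = ⊥ := by
  apply Cfsg.Agent.Lib.Helper1.S5663U7M9.perfect_trivial_32 <;> assumption

/-! ## G. the Gram matrix of `hermForm` in a tensor basis -/

/-- **M11** -/
theorem gramX_herm [Fintype F] {q : ℕ} (hF : Fintype.card F = q ^ 2) (e : Fin n ≃ (Fin t → Fin m)) (P : GL (Fin n) F) :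
    gramX (hermForm n F q) e P = Matrix.reindex e e
      ((P : Matrix (Fin n) (Fin n) F)ᵀ * (P : Matrix (Fin n) (Fin n) F).map (conjQ hF)) := by
  apply Cfsg.Agent.Lib.Helper10.S5663U7G.gramX_herm <;> assumption

/-- **M11b** expansion of the form in the tensor basis -/
theorem gramX_expand [Fintype F] {q : ℕ} (hF : Fintype.card F = q ^ 2) (e : Fin n ≃ (Fin t → Fin m)) (P : GL (Fin n) F)
    (x y : (Fin t → Fin m) → F) :
    hermForm n F q ((P : Matrix (Fin n) (Fin n) F) *ᵥ (x ∘ e)) ((P : Matrix (Fin n) (Fin n) F) *ᵥ (y ∘ e)) =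
      ∑ a, ∑ b, x a * gramX (hermForm n F q) e P a b * (y b) ^ q := by
  apply Cfsg.Agent.Lib.Helper10.S5663U7G.gramX_expand <;> assumption

/-- **M12** an isometry of the shape `Phi e P g` fixes the Gram matrix -/
theorem gramX_fix [Fintype F] {q : ℕ} (hF : Fintype.card F = q ^ 2) (e : Fin n ≃ (Fin t → Fin m)) (P : GL (Fin n) F)
    (g : Matrix (Fin t → Fin m) (Fin t → Fin m) F)
    (h : ∀ u v : Fin n → F, hermForm n F q (Phi e P g *ᵥ u) (Phi e P g *ᵥ v) = hermForm n F q u v) :
    gᵀ * gramX (hermForm n F q) e P * g.map (conjQ hF) = gramX (hermForm n F q) e P := by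
  apply Cfsg.Agent.Lib.Helper10.S5663U7G.gramX_fix <;> assumption

/-- **M13** change of the basis by a matrix on `X` -/
theorem gramX_mul [Fintype F] {q : ℕ} (hF : Fintype.card F = q ^ 2) (e : Fin n ≃ (Fin t → Fin m)) (P : GL (Fin n) F)
    (g : GL (Fin t → Fin m) F) :
    gramX (hermForm n F q) e (P * glReindex e.symm g) =
      (g : Matrix (Fin t → Fin m) (Fin t → Fin m) F)ᵀ * gramX (hermForm n F q) e P *
        (g : Matrix (Fin t → Fin m) (Fin t → Fin m) F).map (conjQ hF) := by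
  apply Cfsg.Agent.Lib.Helper10.S5663U7G.gramX_mul <;> assumption

/-- **M14** -/
theorem isUnit_gramX [Fintype F] {q : ℕ} (hF : Fintype.card F = q ^ 2) (e : Fin n ≃ (Fin t → Fin m)) (P : GL (Fin n) F) :
    IsUnit (gramX (hermForm n F q) e P) := by
  apply Cfsg.Agent.Lib.Helper10.S5663U7G.isUnit_gramX <;> assumption

/-! ## T. the tensor-wreath group -/

/-- **M10** changing `P` by an element of the standard tensor-wreath group does not change the group (one inclusion) -/
theorem tensorWreathSubgroup_le_mul (e : Fin n ≃ (Fin t → Fin m)) (P : GL (Fin n) F) (g : GL (Fin t → Fin m) F)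
    (hg : g ∈ tensorWreathStandard m t F) :
    tensorWreathSubgroup m t e P ≤ tensorWreathSubgroup m t e (P * glReindex e.symm g) := by
  apply Cfsg.Agent.Lib.Helper10.S5663U7M10.tensorWreathSubgroup_le_mul <;> assumption

/-- **M16a** a perfect group of similarities of a form consists of isometries -/
theorem fixesForm_of_perfect {ι : Type} [Fintype ι] [DecidableEq ι] (f : (ι → F) → (ι → F) → F)
    (N : Subgroup (GL ι F)) (hN : N ≤ similarityGroup f) (hperf : ⁅N, N⁆ = N) : FixesForm (matrixSet N) f := by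
  apply Cfsg.Agent.Lib.Helper26.S5663U7M16.fixesForm_of_perfect <;> assumption

/-- **M16b** a subgroup of a tensor-wreath group with factors of dimension two preserves, up to scalars, an invertible
Gram matrix of a bilinear form (extract it from the proof of `Cfsg.Agent.Lib.Helper8.S5630I7E.inClass_of_le_tensorWreath_two`) -/
theorem exists_gram_two (ht : 0 < t) (H : Subgroup (GL (Fin n) F)) (e : Fin n ≃ (Fin t → Fin 2)) (P : GL (Fin n) F)
    (hH : H ≤ tensorWreathSubgroup 2 t e P) :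
    ∃ G : Matrix (Fin n) (Fin n) F, IsUnit G ∧ ∀ h ∈ H, ∃ c : Fˣ,
      (h : Matrix (Fin n) (Fin n) F)ᵀ * G * (h : Matrix (Fin n) (Fin n) F) = (c : F) • G := by
  apply Cfsg.Agent.Lib.Helper26.S5663U7M16.exists_gram_two <;> assumption

end Cfsg.Agent.Lib.Helper22.U7Core
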