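import Mathlib
import Cfsg.Prelude.Def_GeometricClasses
import Cfsg.Agent.Lib.Helper7.AschDefs
import Cfsg.Agent.Lib.Helper22.AschC7Defs
import Cfsg.Agent.Lib.Helper22.S5630I7A
import Cfsg.Agent.Lib.Helper22.S5663U7Defs
import Cfsg.Agent.Lib.Helper22.S5663U7Core

/-!
# S5663, block U7, piece M7 (`gram_eq_pt`)  (helper22)
-/

set_option autoImplicit false

namespace Cfsg.Agent.Lib.Helper22.U7Gram

open Matrix Cfsg Cfsg.Geo Cfsg.Agent.Lib.Helper7.Asch Cfsg.Agent.Lib.Helper22.AschC7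
  Cfsg.Agent.Lib.Helper22.S5630I7A Cfsg.Agent.Lib.Helper22.U7 Cfsg.Agent.Lib.Helper22.U7Core

variable {F : Type*} [Field F] {n m t : ℕ}

/-- the conjugate transpose of a fixed Gram matrix is fixed -/
theorem star_fix (σ : F →+* F) (hσ : ∀ x, σ (σ x) = x) (a A : Matrix (Fin m) (Fin m) F)
    (h : aᵀ * A * a.map σ = A) : aᵀ * (A.map σ)ᵀ * a.map σ = (A.map σ)ᵀ := by
  have h1 := congrArg (fun M : Matrix (Fin m) (Fin m) F => (M.map σ)ᵀ) h
  beta_reduce at h1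
  rw [Matrix.map_mul, Matrix.map_mul, Matrix.transpose_mul, Matrix.transpose_mul] at h1
  have h2 : (a.map σ).map σ = a := by
    ext i j
    simp [hσ]
  have h3 : ((aᵀ).map σ)ᵀ = a.map σ := by
    ext i j
    simp
  rw [h2, h3, ← mul_assoc] at h1
  exact h1

/-- a matrix commuting with a spanning set of matrices is scalar -/
theorem scalar_of_commute_span (S : Set (Matrix (Fin m) (Fin m) F)) (hspan : Submodule.span F S = ⊤)
    (Z : Matrix (Fin m) (Fin m) F) (hZ : ∀ s ∈ S, Z * s = s * Z) :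
    ∃ c : F, Z = c • (1 : Matrix (Fin m) (Fin m) F) := by
  have hall : ∀ a : Matrix (Fin m) (Fin m) F, Z * a = a * Z := by
    intro a
    have ha : a ∈ Submodule.span F S := by rw [hspan]; trivial
    induction ha using Submodule.span_induction with
    | mem x hx => exact hZ x hx
    | zero => simp
    | add x y _ _ hx hy => rw [mul_add, add_mul, hx, hy]
    | smul c x _ hx => rw [Matrix.mul_smul, Matrix.smul_mul, hx]
  have hmem : Z ∈ Set.range (Matrix.scalar (Fin m)) := by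
    apply Matrix.mem_range_scalar_of_commute_single
    intro i j _
    exact (hall _).symm
  obtain ⟨c, hc⟩ := hmem
  refine ⟨c, ?_⟩
  rw [← hc]
  ext i j
  simp [Matrix.scalar_apply, Matrix.diagonal_apply, Matrix.one_apply]

/-- **M7** (GRAM) an invertible Gram matrix on `X` fixed by spanning sets of invertible matrices in every tensor position
is a scalar multiple of a pure tensor of invertible hermitian matrices fixed by those sets -/
theorem gram_eq_pt (hm : 0 < m) (σ : F →+* F) (hσ : ∀ x, σ (σ x) = x) (hne : ∃ x, σ x ≠ x)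
    (S : Fin t → Set (Matrix (Fin m) (Fin m) F))
    (hspan : ∀ i, Submodule.span F (S i) = ⊤)
    (hinv : ∀ i, ∀ a ∈ S i, ∃ a' : Matrix (Fin m) (Fin m) F, a * a' = 1)
    (G : Matrix (Fin t → Fin m) (Fin t → Fin m) F) (hG : IsUnit G)
    (hfix : ∀ i, ∀ a ∈ S i, (pos i a)ᵀ * G * (pos i a).map σ = G) :
    ∃ (c : F) (A : Fin t → Matrix (Fin m) (Fin m) F), c ≠ 0 ∧ G = c • pt A ∧ (∀ i, IsUnit (A i)) ∧
      (∀ i, ((A i).map σ)ᵀ = A i) ∧ ∀ i, ∀ a ∈ S i, aᵀ * A i * a.map σ = A i := by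
  have : Nonempty (Fin m) := ⟨⟨0, hm⟩⟩
  -- a non-zero entry
  have hG0 : G ≠ 0 := by
    intro h0
    rw [h0] at hG
    exact not_isUnit_zero hG
  obtain ⟨x₀, y₀, hxy⟩ : ∃ x₀ y₀, G x₀ y₀ ≠ 0 := by
    by_contra hcon
    push Not at hcon
    apply hG0
    ext x y
    exact hcon x y
  obtain ⟨A₀, hA₀⟩ : ∃ A₀ : Fin t → Matrix (Fin m) (Fin m) F, ∀ i, A₀ i = slice i x₀ y₀ G := ⟨_, fun _ => rfl⟩
  have hA₀fix : ∀ i, ∀ a ∈ S i, aᵀ * A₀ i * a.map σ = A₀ i := by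
    intro i a ha
    rw [hA₀]
    exact slice_fix σ i a G (hfix i a ha) x₀ y₀
  -- the set of all position matrices
  obtain ⟨SX, hSX⟩ : ∃ SX : Set (Matrix (Fin t → Fin m) (Fin t → Fin m) F),
      ∀ s, s ∈ SX ↔ ∃ i, ∃ a ∈ S i, s = pos i a := ⟨{s | ∃ i, ∃ a ∈ S i, s = pos i a}, fun _ => Iff.rfl⟩
  have hcomm : ∀ Z : Matrix (Fin t → Fin m) (Fin t → Fin m) F, (∀ s ∈ SX, Z * s = s * Z) →
      ∃ c : F, Z = c • (1 : Matrix (Fin t → Fin m) (Fin t → Fin m) F) := by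
    intro Z hZ
    apply scalar_of_commute_pos Z
    intro i a
    have ha : a ∈ Submodule.span F (S i) := by rw [hspan]; trivial
    induction ha using Submodule.span_induction with
    | mem x hx => exact hZ _ ((hSX _).mpr ⟨i, x, hx, rfl⟩)
    | zero => rw [pos_zero]; simp
    | add x y _ _ hx hy => rw [pos_add, mul_add, add_mul, hx, hy]
    | smul c x _ hx => rw [pos_smul, Matrix.mul_smul, Matrix.smul_mul, hx]
  have hinvX : ∀ s ∈ SX, ∃ s' : Matrix (Fin t → Fin m) (Fin t → Fin m) F, s * s' = 1 := by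
    intro s hs
    obtain ⟨i, a, ha, rfl⟩ := (hSX s).mp hs
    obtain ⟨a', ha'⟩ := hinv i a ha
    exact ⟨pos i a', by rw [← pos_mul, ha', pos_one]⟩
  obtain ⟨c₀, hc₀⟩ := gram_unique σ SX hcomm hinvX G (pt A₀) hG
    (by
      intro s hs
      obtain ⟨i, a, ha, rfl⟩ := (hSX s).mp hs
      exact hfix i a ha)
    (by
      intro s hs
      obtain ⟨i, a, ha, rfl⟩ := (hSX s).mp hs
      exact pt_fix σ A₀ i a (hA₀fix i a ha))
  have hpt0 : pt A₀ x₀ y₀ = (G x₀ y₀) ^ t := by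
    rw [pt_apply]
    have : ∀ i, A₀ i (x₀ i) (y₀ i) = G x₀ y₀ := by
      intro i
      rw [hA₀, slice_apply, Function.update_eq_self, Function.update_eq_self]
    simp only [this, Finset.prod_const, Finset.card_univ, Fintype.card_fin]
  have hc₀0 : c₀ ≠ 0 := by
    intro h0
    rw [h0, zero_smul] at hc₀
    have := hpt0
    rw [hc₀, Matrix.zero_apply] at this
    exact pow_ne_zero t hxy this.symm
  have hUpt : IsUnit (pt A₀) := by
    rw [hc₀]
    obtain ⟨u, hu⟩ := hG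
    refine ⟨⟨c₀ • (u : Matrix _ _ F), c₀⁻¹ • ((u⁻¹ : (Matrix _ _ F)ˣ) : Matrix _ _ F), ?_, ?_⟩, by rw [← hu]⟩
    · rw [Matrix.smul_mul, Matrix.mul_smul, smul_smul, mul_inv_cancel₀ hc₀0, one_smul, Units.mul_inv]
    · rw [Matrix.smul_mul, Matrix.mul_smul, smul_smul, inv_mul_cancel₀ hc₀0, one_smul, Units.inv_mul]
  have hUA₀ : ∀ i, IsUnit (A₀ i) := fun i => isUnit_of_isUnit_pt A₀ hUpt i
  -- hermitian representatives
  have hlam : ∀ i, ∃ lam : F, ((A₀ i).map σ)ᵀ = lam • A₀ i := by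
    intro i
    exact gram_unique σ (S i) (fun Z hZ => scalar_of_commute_span (S i) (hspan i) Z hZ) (hinv i) (A₀ i) _ (hUA₀ i)
      (hA₀fix i) (fun a ha => star_fix σ hσ a (A₀ i) (hA₀fix i a ha))
  have hmu : ∀ i, ∃ μ : F, μ ≠ 0 ∧ ((μ • A₀ i).map σ)ᵀ = μ • A₀ i := by
    intro i
    obtain ⟨lam, hl⟩ := hlam i
    exact exists_herm_rep σ hσ hne (A₀ i) lam hl
  choose μ hμ0 hμ using hmu
  have hprod : (∏ i, μ i) ≠ 0 := Finset.prod_ne_zero_iff.mpr (fun i _ => hμ0 i)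
  refine ⟨((∏ i, μ i) * c₀)⁻¹, fun i => μ i • A₀ i, inv_ne_zero (mul_ne_zero hprod hc₀0), ?_, ?_, hμ, ?_⟩
  · rw [pt_smul, hc₀, smul_smul, smul_smul, mul_assoc, inv_mul_cancel₀ (mul_ne_zero hprod hc₀0), one_smul]
  · intro i
    obtain ⟨u, hu⟩ := hUA₀ i
    refine ⟨⟨μ i • (u : Matrix _ _ F), (μ i)⁻¹ • ((u⁻¹ : (Matrix _ _ F)ˣ) : Matrix _ _ F), ?_, ?_⟩, by
      show μ i • (u : Matrix _ _ F) = μ i • A₀ i
      rw [hu]⟩
    · rw [Matrix.smul_mul, Matrix.mul_smul, smul_smul, mul_inv_cancel₀ (hμ0 i), one_smul, Units.mul_inv]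
    · rw [Matrix.smul_mul, Matrix.mul_smul, smul_smul, inv_mul_cancel₀ (hμ0 i), one_smul, Units.inv_mul]
  · intro i a ha
    rw [Matrix.mul_smul, Matrix.smul_mul, hA₀fix i a ha]

/-- **M7c** (GRAM, one group for all factors) an invertible Gram matrix on `X` fixed by `pos i a` for all `i` and all `a` in ONE
spanning set `S` of invertible matrices is a scalar multiple of the tensor power `pt (fun _ => B)` of one invertible
matrix `B` fixed by `S`; `B` is proportional to its conjugate transpose.  (No hypothesis `σ ≠ id`.) -/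
theorem gram_eq_pt_const (hm : 0 < m) (ht : 0 < t) (σ : F →+* F) (hσ : ∀ x, σ (σ x) = x)
    (S : Set (Matrix (Fin m) (Fin m) F))
    (hspan : Submodule.span F S = ⊤)
    (hinv : ∀ a ∈ S, ∃ a' : Matrix (Fin m) (Fin m) F, a * a' = 1)
    (G : Matrix (Fin t → Fin m) (Fin t → Fin m) F) (hG : IsUnit G)
    (hfix : ∀ i : Fin t, ∀ a ∈ S, (pos i a)ᵀ * G * (pos i a).map σ = G) :
    ∃ (c : F) (B : Matrix (Fin m) (Fin m) F) (lam : F), c ≠ 0 ∧ G = c • pt (fun _ : Fin t => B) ∧ IsUnit B ∧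
      (B.map σ)ᵀ = lam • B ∧ ∀ a ∈ S, aᵀ * B * a.map σ = B := by
  have : Nonempty (Fin m) := ⟨⟨0, hm⟩⟩
  have hG0 : G ≠ 0 := by
    intro h0
    rw [h0] at hG
    exact not_isUnit_zero hG
  obtain ⟨x₀, y₀, hxy⟩ : ∃ x₀ y₀, G x₀ y₀ ≠ 0 := by
    by_contra hcon
    push Not at hcon
    apply hG0
    ext x y
    exact hcon x y
  obtain ⟨i₀, hi₀⟩ : ∃ i₀ : Fin t, i₀ = ⟨0, ht⟩ := ⟨_, rfl⟩
  obtain ⟨B, hB⟩ : ∃ B : Matrix (Fin m) (Fin m) F, B = slice i₀ x₀ y₀ G := ⟨_, rfl⟩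
  have hBfix : ∀ a ∈ S, aᵀ * B * a.map σ = B := by
    intro a ha
    rw [hB]
    exact slice_fix σ i₀ a G (hfix i₀ a ha) x₀ y₀
  have hB0 : B (x₀ i₀) (y₀ i₀) ≠ 0 := by
    rw [hB, slice_apply, Function.update_eq_self, Function.update_eq_self]
    exact hxy
  obtain ⟨SX, hSX⟩ : ∃ SX : Set (Matrix (Fin t → Fin m) (Fin t → Fin m) F),
      ∀ s, s ∈ SX ↔ ∃ i : Fin t, ∃ a ∈ S, s = pos i a := ⟨{s | ∃ i : Fin t, ∃ a ∈ S, s = pos i a}, fun _ => Iff.rfl⟩
  have hcomm : ∀ Z : Matrix (Fin t → Fin m) (Fin t → Fin m) F, (∀ s ∈ SX, Z * s = s * Z) →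
      ∃ c : F, Z = c • (1 : Matrix (Fin t → Fin m) (Fin t → Fin m) F) := by
    intro Z hZ
    apply scalar_of_commute_pos Z
    intro i a
    have ha : a ∈ Submodule.span F S := by rw [hspan]; trivial
    induction ha using Submodule.span_induction with
    | mem x hx => exact hZ _ ((hSX _).mpr ⟨i, x, hx, rfl⟩)
    | zero => rw [pos_zero]; simp
    | add x y _ _ hx hy => rw [pos_add, mul_add, add_mul, hx, hy]
    | smul c x _ hx => rw [pos_smul, Matrix.mul_smul, Matrix.smul_mul, hx]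
  have hinvX : ∀ s ∈ SX, ∃ s' : Matrix (Fin t → Fin m) (Fin t → Fin m) F, s * s' = 1 := by
    intro s hs
    obtain ⟨i, a, ha, rfl⟩ := (hSX s).mp hs
    obtain ⟨a', ha'⟩ := hinv a ha
    exact ⟨pos i a', by rw [← pos_mul, ha', pos_one]⟩
  obtain ⟨c₀, hc₀⟩ := gram_unique σ SX hcomm hinvX G (pt (fun _ : Fin t => B)) hG
    (by
      intro s hs
      obtain ⟨i, a, ha, rfl⟩ := (hSX s).mp hs
      exact hfix i a ha)
    (by
      intro s hs
      obtain ⟨i, a, ha, rfl⟩ := (hSX s).mp hs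
      exact pt_fix σ (fun _ : Fin t => B) i a (hBfix a ha))
  have hpt0 : pt (fun _ : Fin t => B) (fun _ => x₀ i₀) (fun _ => y₀ i₀) = (B (x₀ i₀) (y₀ i₀)) ^ t := by
    rw [pt_apply]
    simp only [Finset.prod_const, Finset.card_univ, Fintype.card_fin]
  have hc₀0 : c₀ ≠ 0 := by
    intro h0
    rw [h0, zero_smul] at hc₀
    have := hpt0
    rw [hc₀, Matrix.zero_apply] at this
    exact pow_ne_zero t hB0 this.symm
  have hUpt : IsUnit (pt (fun _ : Fin t => B)) := by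
    rw [hc₀]
    obtain ⟨u, hu⟩ := hG
    refine ⟨⟨c₀ • (u : Matrix _ _ F), c₀⁻¹ • ((u⁻¹ : (Matrix _ _ F)ˣ) : Matrix _ _ F), ?_, ?_⟩, by rw [← hu]⟩
    · rw [Matrix.smul_mul, Matrix.mul_smul, smul_smul, mul_inv_cancel₀ hc₀0, one_smul, Units.mul_inv]
    · rw [Matrix.smul_mul, Matrix.mul_smul, smul_smul, inv_mul_cancel₀ hc₀0, one_smul, Units.inv_mul]
  have hUB : IsUnit B := isUnit_of_isUnit_pt (fun _ : Fin t => B) hUpt i₀
  obtain ⟨lam, hlam⟩ : ∃ lam : F, (B.map σ)ᵀ = lam • B :=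
    gram_unique σ S (fun Z hZ => scalar_of_commute_span S hspan Z hZ) hinv B _ hUB hBfix
      (fun a ha => star_fix σ hσ a B (hBfix a ha))
  refine ⟨c₀⁻¹, B, lam, inv_ne_zero hc₀0, ?_, hUB, hlam, hBfix⟩
  rw [hc₀, smul_smul, inv_mul_cancel₀ hc₀0, one_smul]

end Cfsg.Agent.Lib.Helper22.U7Gram
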