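import Mathlib
import Cfsg.Prelude.Def_GeometricClasses
import Cfsg.Agent.Lib.Helper7.AschDefs
import Cfsg.Agent.Lib.Helper23.S5630CoreF1
import Cfsg.Agent.Lib.Helper22.AschC7Defs
import Cfsg.Agent.Lib.Helper22.S5630I7A
import Cfsg.Agent.Lib.Helper22.S5663U7Defs
import Cfsg.Agent.Lib.Helper22.S5663U7Gram

/-!
# The Gram matrix of a sesquilinear form in a tensor basis, and the generic Gram theorem of the tensor-induced case
(for the three form hubs S5662 / S5663 / S5673)  (helper22)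

`σ : F ≃+* F` (`RingEquiv.refl F` for bilinear forms), `f` with `Helper23.S5630CoreF.IsSesq σ f`.
-/

set_option autoImplicit false

namespace Cfsg.Agent.Lib.Helper22.GramX

open Matrix Cfsg.Geo Cfsg.Agent.Lib.Helper7.Asch Cfsg.Agent.Lib.Helper22.AschC7 Cfsg.Agent.Lib.Helper22.S5630I7A
  Cfsg.Agent.Lib.Helper22.U7 Cfsg.Agent.Lib.Helper23.S5630CoreF

variable {F : Type*} [Field F] {n m t : ℕ}

theorem single_comp (e : Fin n ≃ (Fin t → Fin m)) (a : Fin t → Fin m) :
    ((Pi.single a 1 : (Fin t → Fin m) → F) ∘ e) = (Pi.single (e.symm a) 1 : Fin n → F) := by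
  funext j
  simp only [Function.comp_apply, Pi.single_apply]
  by_cases h : e j = a
  · rw [if_pos h, if_pos]
    rw [← h, Equiv.symm_apply_apply]
  · rw [if_neg h, if_neg]
    intro h'
    exact h (by rw [h', Equiv.apply_symm_apply])

/-- **GX1** -/
theorem gramX_eq (f : (Fin n → F) → (Fin n → F) → F) (e : Fin n ≃ (Fin t → Fin m)) (P : GL (Fin n) F) :
    gramX f e P = Matrix.reindex e e (gramMatrix (fun u v => f ((P : Matrix (Fin n) (Fin n) F) *ᵥ u)
      ((P : Matrix (Fin n) (Fin n) F) *ᵥ v))) := by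
  ext a b
  rw [gramX_apply, single_comp, single_comp]
  rfl

/-- **GX2** expansion of the form in the tensor basis -/
theorem gramX_expand (σ : F ≃+* F) (f : (Fin n → F) → (Fin n → F) → F) (hf : IsSesq σ f)
    (e : Fin n ≃ (Fin t → Fin m)) (P : GL (Fin n) F) (x y : (Fin t → Fin m) → F) :
    f ((P : Matrix (Fin n) (Fin n) F) *ᵥ (x ∘ e)) ((P : Matrix (Fin n) (Fin n) F) *ᵥ (y ∘ e)) =
      ∑ a, ∑ b, x a * gramX f e P a b * σ (y b) := by
  have h := sesq_repr σ _ (isSesq_comp σ f hf (P : Matrix (Fin n) (Fin n) F)) (x ∘ e) (y ∘ e)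
  beta_reduce at h
  rw [h, gramX_eq]
  simp only [dotProduct, mulVec, Function.comp_apply, Finset.mul_sum]
  rw [← Equiv.sum_comp e]
  refine Finset.sum_congr rfl (fun i _ => ?_)
  rw [← Equiv.sum_comp e]
  refine Finset.sum_congr rfl (fun j _ => ?_)
  simp only [Matrix.reindex_apply, Matrix.submatrix_apply, Equiv.symm_apply_apply]
  ring

/-- **GX3** an isometry of the shape `Phi e P g` fixes the Gram matrix -/
theorem gramX_fix (σ : F ≃+* F) (f : (Fin n → F) → (Fin n → F) → F) (hf : IsSesq σ f)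
    (e : Fin n ≃ (Fin t → Fin m)) (P : GL (Fin n) F) (g : Matrix (Fin t → Fin m) (Fin t → Fin m) F)
    (h : ∀ u v : Fin n → F, f (Phi e P g *ᵥ u) (Phi e P g *ᵥ v) = f u v) :
    gᵀ * gramX f e P * g.map σ = gramX f e P := by
  have hPP : ((P⁻¹ : GL (Fin n) F) : Matrix (Fin n) (Fin n) F) * (P : Matrix (Fin n) (Fin n) F) = 1 := by
    rw [← Units.val_mul, inv_mul_cancel, Units.val_one]
  have hPhiP : ∀ u : Fin n → F, Phi e P g *ᵥ ((P : Matrix (Fin n) (Fin n) F) *ᵥ u) =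
      (P : Matrix (Fin n) (Fin n) F) *ᵥ (Matrix.reindex e.symm e.symm g *ᵥ u) := by
    intro u
    rw [Phi_def, Matrix.mulVec_mulVec, Matrix.mulVec_mulVec, mul_assoc, mul_assoc, hPP, mul_one]
  have h' := gram_fix σ _ (isSesq_comp σ f hf (P : Matrix (Fin n) (Fin n) F)) (Matrix.reindex e.symm e.symm g)
    (fun u v => by
      beta_reduce
      rw [← hPhiP, ← hPhiP, h])
  rw [gramX_eq]
  obtain ⟨G', hG'⟩ : ∃ G' : Matrix (Fin n) (Fin n) F, G' = gramMatrix (fun u v => f ((P : Matrix (Fin n) (Fin n) F) *ᵥ u)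
      ((P : Matrix (Fin n) (Fin n) F) *ᵥ v)) := ⟨_, rfl⟩
  rw [← hG'] at h' ⊢
  obtain ⟨G'', hG''⟩ : ∃ G'' : Matrix (Fin t → Fin m) (Fin t → Fin m) F, G'' = Matrix.reindex e e G' := ⟨_, rfl⟩
  rw [← hG'']
  have hGsub : G' = G''.submatrix e e := by
    rw [hG'']
    ext i j
    simp [Matrix.reindex_apply]
  have hRg : Matrix.reindex e.symm e.symm g = g.submatrix e e := by
    ext i j
    simp [Matrix.reindex_apply]
  have key : (gᵀ * G'' * g.map σ).submatrix e e = G''.submatrix e e := by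
    rw [← Matrix.submatrix_mul_equiv _ _ e e e, ← Matrix.submatrix_mul_equiv _ _ e e e, ← Matrix.transpose_submatrix,
      Matrix.submatrix_map, ← hRg, ← hGsub]
    exact h'
  have key2 := congrArg (fun M : Matrix (Fin n) (Fin n) F => M.submatrix e.symm e.symm) key
  beta_reduce at key2
  rw [Matrix.submatrix_submatrix, Matrix.submatrix_submatrix] at key2
  simpa using key2

/-- **GX4** -/
theorem isUnit_gramX (σ : F ≃+* F) (f : (Fin n → F) → (Fin n → F) → F) (hf : IsSesq σ f)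
    (hnd : IsNondegenerateForm f) (e : Fin n ≃ (Fin t → Fin m)) (P : GL (Fin n) F) :
    IsUnit (gramX f e P) := by
  have hPP : (P : Matrix (Fin n) (Fin n) F) * ((P⁻¹ : GL (Fin n) F) : Matrix (Fin n) (Fin n) F) = 1 := by
    rw [← Units.val_mul, mul_inv_cancel, Units.val_one]
  have hPP' : ((P⁻¹ : GL (Fin n) F) : Matrix (Fin n) (Fin n) F) * (P : Matrix (Fin n) (Fin n) F) = 1 := by
    rw [← Units.val_mul, inv_mul_cancel, Units.val_one]
  have hnd' : IsNondegenerateForm (fun u v => f ((P : Matrix (Fin n) (Fin n) F) *ᵥ u)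
      ((P : Matrix (Fin n) (Fin n) F) *ᵥ v)) := by
    intro v hv
    have hPv : (P : Matrix (Fin n) (Fin n) F) *ᵥ v ≠ 0 := by
      intro h0
      apply hv
      have := congrArg (fun w => ((P⁻¹ : GL (Fin n) F) : Matrix (Fin n) (Fin n) F) *ᵥ w) h0
      beta_reduce at this
      rwa [Matrix.mulVec_mulVec, hPP', Matrix.one_mulVec, Matrix.mulVec_zero] at this
    obtain ⟨⟨x, hx⟩, ⟨y, hy⟩⟩ := hnd _ hPv
    refine ⟨⟨((P⁻¹ : GL (Fin n) F) : Matrix (Fin n) (Fin n) F) *ᵥ x, ?_⟩,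
      ⟨((P⁻¹ : GL (Fin n) F) : Matrix (Fin n) (Fin n) F) *ᵥ y, ?_⟩⟩
    · beta_reduce
      rwa [Matrix.mulVec_mulVec, hPP, Matrix.one_mulVec]
    · beta_reduce
      rwa [Matrix.mulVec_mulVec, hPP, Matrix.one_mulVec]
  have hU := gram_isUnit σ _ (isSesq_comp σ f hf (P : Matrix (Fin n) (Fin n) F)) hnd'
  rw [gramX_eq]
  exact hU.map (Matrix.reindexAlgEquiv F F e)

/-- **THE GENERIC GRAM THEOREM** of the tensor-induced case: if `H` fixes the non-degenerate `σ`-sesquilinear form `f` and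
contains `Phi e P (pos i a)` for all `i` and all `a` in a group `Y` spanning `M_m(F)` (the data of `C7Data.c7_data`), then the
Gram matrix of `f` in the tensor basis is `c • pt (fun _ => B)` for one invertible `Y`-invariant matrix `B`, proportional to its
conjugate transpose -/
theorem gram_of_data (σ : F ≃+* F) (hσ : ∀ x, σ (σ x) = x) (f : (Fin n → F) → (Fin n → F) → F) (hf : IsSesq σ f)
    (hnd : IsNondegenerateForm f) (H : Subgroup (GL (Fin n) F)) (hfix : FixesForm (matrixSet H) f)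
    (hm : 0 < m) (ht : 0 < t) (e : Fin n ≃ (Fin t → Fin m)) (P : GL (Fin n) F) (Y : Subgroup (GL (Fin m) F))
    (hYspan : Submodule.span F (matrixSet Y) = ⊤)
    (hpos : ∀ i : Fin t, ∀ a ∈ Y, ∃ g ∈ H, ((g : GL (Fin n) F) : Matrix (Fin n) (Fin n) F) =
      Phi e P (pos i ((a : GL (Fin m) F) : Matrix (Fin m) (Fin m) F))) :
    ∃ (c : F) (B : Matrix (Fin m) (Fin m) F) (lam : F), c ≠ 0 ∧ gramX f e P = c • pt (fun _ : Fin t => B) ∧
      IsUnit B ∧ (B.map σ)ᵀ = lam • B ∧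
      ∀ a ∈ Y, ((a : GL (Fin m) F) : Matrix (Fin m) (Fin m) F)ᵀ * B *
        ((a : GL (Fin m) F) : Matrix (Fin m) (Fin m) F).map σ = B := by
  obtain ⟨c, B, lam, hc, hG, hB, hlam, hBfix⟩ :=
    Cfsg.Agent.Lib.Helper22.U7Gram.gram_eq_pt_const hm ht (σ : F →+* F) hσ (matrixSet Y) hYspan
      (by
        rintro _ ⟨a, _, rfl⟩
        exact ⟨((a⁻¹ : GL (Fin m) F) : Matrix (Fin m) (Fin m) F), by
          rw [← Units.val_mul, mul_inv_cancel, Units.val_one]⟩)
      (gramX f e P) (isUnit_gramX σ f hf hnd e P)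
      (by
        rintro i _ ⟨a, ha, rfl⟩
        obtain ⟨g, hg, hga⟩ := hpos i a ha
        exact gramX_fix σ f hf e P _ (fun u v => by
          rw [← hga]
          exact hfix _ ⟨g, hg, rfl⟩ u v))
  exact ⟨c, B, lam, hc, hG, hB, hlam, fun a ha => hBfix _ ⟨a, ha, rfl⟩⟩

end Cfsg.Agent.Lib.Helper22.GramX
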