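import Cfsg.Agent.H5.StemTC
import Cfsg.Agent.Lib.Helper22.HeCTCData

/-!
# S2134: a group generated by `y`, `q`, `x` satisfying the relators `relsG` has order at most
`21504` (helper22; two replays of Todd–Coxeter logs with helper5's checker, pattern of helper7's
`Sz8Card`)
-/

set_option autoImplicit false

namespace Cfsg.Agent.Lib.Helper22.HeCent

open Cfsg.H5.TCk

universe u

set_option maxRecDepth 1000000 in
theorem tcA_ok : check 24 6 (2 * 3) 24 24 tcDefsA relsG [[0], [2]] tcLogA = true := by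
  decide +kernel

set_option maxRecDepth 1000000 in
theorem tcB_ok : check 24 6 (2 * 2) 128 128 tcDefsB relsB [[0]] tcLogB = true := by
  decide +kernel

namespace Card

theorem ev_congr_lt {Γ : Type*} [Group Γ] (g g' : ℕ → Γ) (t : ℕ) (h : ∀ i < t, g i = g' i)
    (w : List ℕ) (hw : w.all (fun l => decide (l < 2 * t)) = true) : ev g w = ev g' w := by
  induction w with
  | nil => rfl
  | cons l w ih =>
    rw [List.all_cons, Bool.and_eq_true] at hw
    have hl : l < 2 * t := of_decide_eq_true hw.1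
    have h2 : l / 2 < t := by omega
    simp only [ev, ih hw.2]
    congr 1
    unfold gl
    rw [h _ h2]

theorem ev_single {Γ : Type*} [Group Γ] (g : ℕ → Γ) (i : ℕ) : ev g [2 * i] = g i := by
  simp only [ev, mul_one]
  exact Cfsg.H5.TCk.gl_even g i

theorem pow_seven {Γ : Type*} [Group Γ] (g : ℕ → Γ) (h : ev g [0, 0, 0, 0, 0, 0, 0] = 1) :
    g 0 ^ 7 = 1 := by
  have h0 : gl g 0 = g 0 := Cfsg.H5.TCk.gl_even g 0
  simp only [ev, h0, mul_one] at h
  rw [← h]
  simp only [pow_succ, pow_zero, one_mul, mul_assoc]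

theorem card_zpowers_le {Γ : Type*} [Group Γ] (x : Γ) (h : x ^ 7 = 1) :
    Finite (Subgroup.zpowers x) ∧ Nat.card (Subgroup.zpowers x) ≤ 7 := by
  have hfin : IsOfFinOrder x := isOfFinOrder_iff_pow_eq_one.mpr ⟨7, by norm_num, h⟩
  refine ⟨?_, ?_⟩
  · exact Nat.finite_of_card_ne_zero (by rw [Nat.card_zpowers]; exact (orderOf_pos_iff.mpr hfin).ne')
  · rw [Nat.card_zpowers]
    exact Nat.le_of_dvd (by norm_num) (orderOf_dvd_of_pow_eq_one h)

theorem seven_mem : [0, 0, 0, 0, 0, 0, 0] ∈ relsB := by decide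

/-- two generators, relators `relsB`: order at most `896 = 128 · 7` -/
theorem card_le_of_relsB {Q : Type u} [Group Q] (q : ℕ → Q)
    (hgen : Subgroup.closure (Set.range fun i : Fin 2 => q i.val) = ⊤)
    (hrel : ∀ r ∈ relsB, ev q r = 1) : Finite Q ∧ Nat.card Q ≤ 896 := by
  have h7 : q 0 ^ 7 = 1 := pow_seven q (hrel _ seven_mem)
  obtain ⟨hf, hc⟩ := card_zpowers_le (q 0) h7
  have hsg : ∀ g ∈ [[0]], ev q g ∈ Subgroup.zpowers (q 0) := by
    intro g hg
    rw [List.mem_singleton] at hg
    subst hg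
    have := ev_single q 0
    rw [Nat.mul_zero] at this
    rw [this]
    exact Subgroup.mem_zpowers _
  obtain ⟨h1, h2⟩ := tc_sound (Subgroup.zpowers (q 0)) q tcDefsB relsB [[0]] 24 6 2 128 128 tcLogB
    hrel hsg hgen tcB_ok
  refine ⟨h1, h2.trans ?_⟩
  calc 128 * Nat.card (Subgroup.zpowers (q 0)) ≤ 128 * 7 := Nat.mul_le_mul_left _ hc
    _ = 896 := by norm_num

/-- the subgroup generated by the first two generators, with its own generators -/
noncomputable def subGen {Q : Type u} [Group Q] (q : ℕ → Q) (i : ℕ) :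
    ↥(Subgroup.closure {q 0, q 1} : Subgroup Q) :=
  if h : i = 0 then ⟨q 0, Subgroup.subset_closure (by simp)⟩
  else if h : i = 1 then ⟨q 1, Subgroup.subset_closure (by simp)⟩ else 1

theorem subGen_coe {Q : Type u} [Group Q] (q : ℕ → Q) : ∀ i < 2, (subGen q i : Q) = q i := by
  intro i hi
  interval_cases i
  · simp [subGen]
  · simp [subGen]

theorem subGen_gen {Q : Type u} [Group Q] (q : ℕ → Q) :
    Subgroup.closure (Set.range fun i : Fin 2 => subGen q i.val) = ⊤ := by
  have h := Subgroup.closure_closure_coe_preimage (k := ({q 0, q 1} : Set Q))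
  rw [← h]
  congr 1
  ext x
  simp only [Set.mem_range, Set.mem_preimage, Set.mem_insert_iff, Set.mem_singleton_iff]
  constructor
  · rintro ⟨i, rfl⟩
    fin_cases i
    · left; exact subGen_coe q 0 (by norm_num)
    · right; exact subGen_coe q 1 (by norm_num)
  · rintro (h | h)
    · exact ⟨0, Subtype.ext ((subGen_coe q 0 (by norm_num)).trans h.symm)⟩
    · exact ⟨1, Subtype.ext ((subGen_coe q 1 (by norm_num)).trans h.symm)⟩

theorem relsB_letters : ∀ r ∈ relsB, r.all (fun l => decide (l < 2 * 2)) = true := by decide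

theorem relsB_sub : ∀ r ∈ relsB, r ∈ relsG := by
  intro r hr
  unfold relsG
  exact List.mem_append_left _ hr

/-- the subgroup `⟨q₀, q₁⟩` of a group satisfying `relsG` has order at most `896` -/
theorem card_sub_le {Q : Type u} [Group Q] (q : ℕ → Q) (hrel : ∀ r ∈ relsG, ev q r = 1) :
    Finite (Subgroup.closure {q 0, q 1} : Subgroup Q) ∧
      Nat.card (Subgroup.closure {q 0, q 1} : Subgroup Q) ≤ 896 := by
  apply card_le_of_relsB (subGen q) (subGen_gen q)
  intro r hr
  apply Subtype.ext
  have h1 := Cfsg.H5.StemTC.map_ev (Subgroup.closure {q 0, q 1} : Subgroup Q).subtype (subGen q) r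
  rw [Subgroup.coe_subtype] at h1
  rw [h1, Subgroup.coe_one]
  rw [ev_congr_lt (fun i => ((subGen q i : ↥(Subgroup.closure {q 0, q 1} : Subgroup Q)) : Q)) q 2
    (fun i hi => subGen_coe q i hi) r (relsB_letters r hr)]
  exact hrel r (relsB_sub r hr)

/-- index bound from certificate A -/
theorem card_le_mul {Q : Type u} [Group Q] (q : ℕ → Q)
    (hgen : Subgroup.closure (Set.range fun i : Fin 3 => q i.val) = ⊤)
    (hrel : ∀ r ∈ relsG, ev q r = 1) :
    Finite Q ∧ Nat.card Q ≤ 24 * Nat.card (Subgroup.closure {q 0, q 1} : Subgroup Q) := by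
  obtain ⟨hf, _⟩ := card_sub_le q hrel
  have hsg : ∀ g ∈ [[0], [2]], ev q g ∈ (Subgroup.closure {q 0, q 1} : Subgroup Q) := by
    intro g hg
    simp only [List.mem_cons, List.not_mem_nil, or_false] at hg
    rcases hg with rfl | rfl
    · have := ev_single q 0
      rw [Nat.mul_zero] at this
      rw [this]
      exact Subgroup.subset_closure (by simp)
    · have := ev_single q 1
      rw [Nat.mul_one] at this
      rw [this]
      exact Subgroup.subset_closure (by simp)
  exact tc_sound (Subgroup.closure {q 0, q 1} : Subgroup Q) q tcDefsA relsG [[0], [2]] 24 6 3 24 24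
    tcLogA hrel hsg hgen tcA_ok

end Card

/-- a group generated by `q 0, q 1, q 2` satisfying `relsG` has order at most `21504 = 24 · 896` -/
theorem card_le_of_relsG {Q : Type u} [Group Q] (q : ℕ → Q)
    (hgen : Subgroup.closure (Set.range fun i : Fin 3 => q i.val) = ⊤)
    (hrel : ∀ r ∈ relsG, ev q r = 1) : Finite Q ∧ Nat.card Q ≤ 21504 := by
  obtain ⟨h1, h2⟩ := Card.card_le_mul q hgen hrel
  obtain ⟨_, h3⟩ := Card.card_sub_le q hrel
  refine ⟨h1, h2.trans ?_⟩
  calc 24 * Nat.card (Subgroup.closure {q 0, q 1} : Subgroup Q) ≤ 24 * 896 :=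
        Nat.mul_le_mul_left _ h3
    _ = 21504 := by norm_num

end Cfsg.Agent.Lib.Helper22.HeCent
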