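import Mathlib

/-!
# S3413 farm (architect helper28), leaf [GL] (helper22)

In `GL(2,3)` an element whose centralizer has order divisible by 16 is scalar, hence squares to one.
-/

set_option autoImplicit false

namespace Cfsg.Agent.Lib.Helper28.M11CG

namespace Helper22

/-- A non-scalar `2 × 2` matrix over `ZMod 3` has a cyclic vector. -/
theorem exists_cyclic_vector :
    ∀ a b c d : ZMod 3, ¬ (b = 0 ∧ c = 0 ∧ a = d) →
      ∃ v0 v1 : ZMod 3, v0 * (c * v0 + d * v1) - v1 * (a * v0 + b * v1) ≠ 0 := by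
  decide

/-- A row vector killing two independent vectors is zero (over `ZMod 3`). -/
theorem row_eq_zero :
    ∀ d0 d1 v0 v1 w0 w1 : ZMod 3, d0 * v0 + d1 * v1 = 0 → d0 * w0 + d1 * w1 = 0 →
      v0 * w1 - v1 * w0 ≠ 0 → d0 = 0 ∧ d1 = 0 := by
  decide

theorem sq_eq_one_of_ne_zero : ∀ a : ZMod 3, a ≠ 0 → a * a = 1 := by
  decide

end Helper22

/-- [GL] in `GL(2,3)` only the two scalar matrices have a centralizer of order divisible by 16
(a non-scalar `g` has a cyclic vector `v`; `h ↦ h v` is injective on the centralizer, so it has at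
most 9 elements) -/
theorem GL23_sq_eq_one_of_sixteen_dvd (g : GL (Fin 2) (ZMod 3))
    (h : 16 ∣ Nat.card (Subgroup.centralizer ({g} : Set (GL (Fin 2) (ZMod 3))))) : g * g = 1 := by
  classical
  set Γ : Matrix (Fin 2) (Fin 2) (ZMod 3) := (g : Matrix (Fin 2) (Fin 2) (ZMod 3)) with hΓ
  by_cases hsc : Γ 0 1 = 0 ∧ Γ 1 0 = 0 ∧ Γ 0 0 = Γ 1 1
  · -- scalar case
    obtain ⟨h01, h10, h00⟩ := hsc
    have hdet : Γ.det ≠ 0 := (Matrix.isUnits_det_units g).ne_zero
    rw [Matrix.det_fin_two, h01, h00] at hdet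
    have ha : Γ 1 1 ≠ 0 := by
      intro h0
      apply hdet
      rw [h0]
      ring
    have hsq := Helper22.sq_eq_one_of_ne_zero _ ha
    apply Units.ext
    rw [Units.val_mul, Units.val_one]
    change Γ * Γ = 1
    ext i j
    fin_cases i <;> fin_cases j <;>
      simp [Matrix.mul_apply, Fin.sum_univ_two, h01, h10, h00, hsq]
  · -- non-scalar case: the centralizer has at most 9 elements
    exfalso
    obtain ⟨v0, v1, hv⟩ := Helper22.exists_cyclic_vector (Γ 0 0) (Γ 0 1) (Γ 1 0) (Γ 1 1) hsc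
    let f : Subgroup.centralizer ({g} : Set (GL (Fin 2) (ZMod 3))) → (Fin 2 → ZMod 3) :=
      fun x => ![((x : GL (Fin 2) (ZMod 3)) : Matrix (Fin 2) (Fin 2) (ZMod 3)) 0 0 * v0 +
          ((x : GL (Fin 2) (ZMod 3)) : Matrix (Fin 2) (Fin 2) (ZMod 3)) 0 1 * v1,
        ((x : GL (Fin 2) (ZMod 3)) : Matrix (Fin 2) (Fin 2) (ZMod 3)) 1 0 * v0 +
          ((x : GL (Fin 2) (ZMod 3)) : Matrix (Fin 2) (Fin 2) (ZMod 3)) 1 1 * v1]
    have hinj : Function.Injective f := by
      intro x y hxy
      set A : Matrix (Fin 2) (Fin 2) (ZMod 3) := ((x : GL (Fin 2) (ZMod 3)) : Matrix (Fin 2) (Fin 2) (ZMod 3)) with hA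
      set B : Matrix (Fin 2) (Fin 2) (ZMod 3) := ((y : GL (Fin 2) (ZMod 3)) : Matrix (Fin 2) (Fin 2) (ZMod 3)) with hB
      have hx : A * Γ = Γ * A := by
        have := (Subgroup.mem_centralizer_singleton_iff.mp x.2)
        have h2 := congrArg (fun u : GL (Fin 2) (ZMod 3) => (u : Matrix (Fin 2) (Fin 2) (ZMod 3))) this
        simp only [Units.val_mul] at h2
        exact h2
      have hy : B * Γ = Γ * B := by
        have := (Subgroup.mem_centralizer_singleton_iff.mp y.2)
        have h2 := congrArg (fun u : GL (Fin 2) (ZMod 3) => (u : Matrix (Fin 2) (Fin 2) (ZMod 3))) this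
        simp only [Units.val_mul] at h2
        exact h2
      have e0 : A 0 0 * v0 + A 0 1 * v1 = B 0 0 * v0 + B 0 1 * v1 := by
        have := congrFun hxy 0
        simpa [f] using this
      have e1 : A 1 0 * v0 + A 1 1 * v1 = B 1 0 * v0 + B 1 1 * v1 := by
        have := congrFun hxy 1
        simpa [f] using this
      -- entries of the commutation relations
      have hx00 := congrFun (congrFun hx 0) 0
      have hx01 := congrFun (congrFun hx 0) 1
      have hx10 := congrFun (congrFun hx 1) 0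
      have hx11 := congrFun (congrFun hx 1) 1
      have hy00 := congrFun (congrFun hy 0) 0
      have hy01 := congrFun (congrFun hy 0) 1
      have hy10 := congrFun (congrFun hy 1) 0
      have hy11 := congrFun (congrFun hy 1) 1
      simp only [Matrix.mul_apply, Fin.sum_univ_two] at hx00 hx01 hx10 hx11 hy00 hy01 hy10 hy11
      -- w = Γ v
      set w0 : ZMod 3 := Γ 0 0 * v0 + Γ 0 1 * v1 with hw0
      set w1 : ZMod 3 := Γ 1 0 * v0 + Γ 1 1 * v1 with hw1
      have hvw : v0 * w1 - v1 * w0 ≠ 0 := hv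
      -- A w = Γ (A v) and B w = Γ (B v)
      have f0 : (A 0 0 - B 0 0) * w0 + (A 0 1 - B 0 1) * w1 = 0 := by
        rw [hw0, hw1]
        linear_combination (v0) * hx00 + (v1) * hx01 - (v0) * hy00 - (v1) * hy01 + (Γ 0 0) * e0 + (Γ 0 1) * e1
      have f1 : (A 1 0 - B 1 0) * w0 + (A 1 1 - B 1 1) * w1 = 0 := by
        rw [hw0, hw1]
        linear_combination (v0) * hx10 + (v1) * hx11 - (v0) * hy10 - (v1) * hy11 + (Γ 1 0) * e0 + (Γ 1 1) * e1
      have g0 : (A 0 0 - B 0 0) * v0 + (A 0 1 - B 0 1) * v1 = 0 := by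
        linear_combination e0
      have g1 : (A 1 0 - B 1 0) * v0 + (A 1 1 - B 1 1) * v1 = 0 := by
        linear_combination e1
      obtain ⟨r00, r01⟩ := Helper22.row_eq_zero _ _ _ _ _ _ g0 f0 hvw
      obtain ⟨r10, r11⟩ := Helper22.row_eq_zero _ _ _ _ _ _ g1 f1 hvw
      have hAB : A = B := by
        ext i j
        fin_cases i <;> fin_cases j
        · exact sub_eq_zero.mp r00
        · exact sub_eq_zero.mp r01
        · exact sub_eq_zero.mp r10
        · exact sub_eq_zero.mp r11
      apply Subtype.ext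
      apply Units.ext
      exact hAB
    have hle : Nat.card (Subgroup.centralizer ({g} : Set (GL (Fin 2) (ZMod 3)))) ≤ 9 := by
      have h1 := Nat.card_le_card_of_injective f hinj
      have h2 : Nat.card (Fin 2 → ZMod 3) = 9 := by
        rw [Nat.card_eq_fintype_card, Fintype.card_fun, ZMod.card, Fintype.card_fin]
        norm_num
      omega
    have hpos : 0 < Nat.card (Subgroup.centralizer ({g} : Set (GL (Fin 2) (ZMod 3)))) :=
      Nat.card_pos
    have := Nat.le_of_dvd hpos h
    omega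

end Cfsg.Agent.Lib.Helper28.M11CG
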