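import Mathlib
import Cfsg.Agent.Lib.Helper22.PElt

set_option autoImplicit false

/-!
# Counting elements of given order; Miller's theorem

* `ZPair G n m`: pairs `(Z, y)` with `Z` a cyclic subgroup of order `n` and `y` an element of order
  `m` centralizing `Z`; `G` acts on them by conjugation.
* `card_orderOf_eq`: for coprime `n`, `m`, `#{g | orderOf g = n * m} = φ(n) * #(ZPair G n m)`.
* `miller`: in a noncyclic `p`-group, `p` odd, the number of elements of order `p ^ s` (`s ≥ 2`)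
  is divisible by `p ^ s`.
-/

namespace Cfsg.Agent.Lib.Helper22.Miller

open scoped Pointwise

/-- pairs `(Z, y)`: `Z` a cyclic subgroup of order `n`, `y` of order `m` centralizing `Z` -/
@[ext]
structure ZPair (G : Type*) [Group G] (n m : ℕ) where
  Z : Subgroup G
  y : G
  cyc : IsCyclic Z
  card : Nat.card Z = n
  ord : orderOf y = m
  comm : ∀ u ∈ Z, u * y = y * u

instance {G : Type*} [Group G] [Finite G] (n m : ℕ) : Finite (ZPair G n m) :=
  Finite.of_injective (fun z => (z.Z, z.y)) (fun a b h => by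
    have := Prod.ext_iff.mp h
    exact ZPair.ext this.1 this.2)

section count

variable {G : Type*} [Group G] [Finite G] {n m : ℕ}

/-- the pair attached to an element of order `n * m` -/
noncomputable def toZPair (hn : 0 < n) (hm : 0 < m) (g : {g : G // orderOf g = n * m}) :
    ZPair G n m where
  Z := Subgroup.zpowers (g.1 ^ m)
  y := g.1 ^ n
  cyc := inferInstance
  card := by
    rw [Nat.card_zpowers, orderOf_pow_of_dvd hm.ne' (by rw [g.2]; exact dvd_mul_left m n), g.2,
      Nat.mul_div_cancel _ hm]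
  ord := by
    rw [orderOf_pow_of_dvd hn.ne' (by rw [g.2]; exact dvd_mul_right n m), g.2,
      Nat.mul_div_cancel_left _ hn]
  comm := by
    intro u hu
    obtain ⟨i, rfl⟩ := Subgroup.mem_zpowers_iff.mp hu
    exact ((Commute.pow_pow_self g.1 m n).zpow_left i).eq

omit [Finite G] in
theorem zpow_bez {u : G} {k l : ℕ} (hu : u ^ k = 1) {a b : ℤ} (h : (k : ℤ) * a + (l : ℤ) * b = 1) :
    u ^ (b * (l : ℤ)) = u := by
  have e1 : b * (l : ℤ) = 1 + (k : ℤ) * (-a) := by linarith
  rw [e1, zpow_add, zpow_one, zpow_mul, zpow_natCast, hu, one_zpow, mul_one]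

omit [Finite G] in
/-- the element with prescribed `p`-part and `p'`-part -/
theorem glue (hcop : Nat.Coprime n m) {u y : G} (hu : orderOf u = n) (hy : orderOf y = m)
    (hc : Commute u y) {a b : ℤ} (h : (n : ℤ) * a + (m : ℤ) * b = 1) :
    orderOf (u ^ b * y ^ a) = n * m ∧ (u ^ b * y ^ a) ^ m = u ∧ (u ^ b * y ^ a) ^ n = y := by
  have hun : u ^ n = 1 := by rw [← hu]; exact pow_orderOf_eq_one u
  have hym : y ^ m = 1 := by rw [← hy]; exact pow_orderOf_eq_one y
  have hcz : Commute (u ^ b) (y ^ a) := hc.zpow_zpow b a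
  have e1 : (u ^ b * y ^ a) ^ m = u := by
    rw [hcz.mul_pow, ← zpow_natCast (u ^ b), ← zpow_mul, ← zpow_natCast (y ^ a), ← zpow_mul,
      zpow_bez hun h, mul_comm a, zpow_mul, zpow_natCast, hym, one_zpow, mul_one]
  have e2 : (u ^ b * y ^ a) ^ n = y := by
    have h' : (m : ℤ) * b + (n : ℤ) * a = 1 := by linarith
    rw [hcz.mul_pow, ← zpow_natCast (u ^ b), ← zpow_mul, ← zpow_natCast (y ^ a), ← zpow_mul,
      zpow_bez hym h', mul_comm b, zpow_mul, zpow_natCast, hun, one_zpow, one_mul]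
  refine ⟨?_, e1, e2⟩
  apply Nat.dvd_antisymm
  · apply orderOf_dvd_of_pow_eq_one
    rw [pow_mul, e2, hym]
  · apply Nat.Coprime.mul_dvd_of_dvd_of_dvd hcop
    · rw [← hu]
      nth_rewrite 1 [← e1]
      exact orderOf_pow_dvd m
    · rw [← hy]
      nth_rewrite 1 [← e2]
      exact orderOf_pow_dvd n

theorem card_fiber (hn : 0 < n) (hm : 0 < m) (hcop : Nat.Coprime n m) (z : ZPair G n m) :
    Nat.card {g : {g : G // orderOf g = n * m} // toZPair hn hm g = z} = Nat.totient n := by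
  classical
  have := z.cyc
  have hbez : (n : ℤ) * Nat.gcdA n m + (m : ℤ) * Nat.gcdB n m = 1 := by
    have := Nat.gcd_eq_gcd_ab n m
    rw [hcop.gcd_eq_one] at this
    rw [← this]; simp
  have htot : Nat.card {u : ↥z.Z // orderOf u = n} = Nat.totient n := by
    have : Fintype ↥z.Z := Fintype.ofFinite _
    rw [Nat.card_eq_fintype_card, Fintype.card_subtype]
    exact IsCyclic.card_orderOf_eq_totient (by rw [← Nat.card_eq_fintype_card, z.card])
  rw [← htot]
  -- forward data
  have fwd : ∀ g : {g : G // orderOf g = n * m}, toZPair hn hm g = z →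
      g.1 ^ m ∈ z.Z ∧ orderOf (g.1 ^ m) = n ∧ g.1 ^ n = z.y := by
    intro g hg
    have h1 : Subgroup.zpowers (g.1 ^ m) = z.Z := congrArg ZPair.Z hg
    have h2 : g.1 ^ n = z.y := congrArg ZPair.y hg
    refine ⟨by rw [← h1]; exact Subgroup.mem_zpowers _, ?_, h2⟩
    rw [orderOf_pow_of_dvd hm.ne' (by rw [g.2]; exact dvd_mul_left m n), g.2,
      Nat.mul_div_cancel _ hm]
  -- backward data
  have bwd : ∀ u : {u : ↥z.Z // orderOf u = n},
      orderOf ((u.1 : G) ^ Nat.gcdB n m * z.y ^ Nat.gcdA n m) = n * m ∧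
      ((u.1 : G) ^ Nat.gcdB n m * z.y ^ Nat.gcdA n m) ^ m = (u.1 : G) ∧
      ((u.1 : G) ^ Nat.gcdB n m * z.y ^ Nat.gcdA n m) ^ n = z.y := by
    intro u
    have hu : orderOf (u.1 : G) = n := by rw [Subgroup.orderOf_coe]; exact u.2
    exact glue hcop hu z.ord (z.comm _ u.1.2) hbez
  apply Nat.card_congr
  refine
  { toFun := fun g => ⟨⟨g.1.1 ^ m, (fwd g.1 g.2).1⟩, by
      rw [Subgroup.orderOf_mk]; exact (fwd g.1 g.2).2.1⟩
    invFun := fun u => ⟨⟨(u.1 : G) ^ Nat.gcdB n m * z.y ^ Nat.gcdA n m, (bwd u).1⟩, by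
      apply ZPair.ext
      · show Subgroup.zpowers (((u.1 : G) ^ Nat.gcdB n m * z.y ^ Nat.gcdA n m) ^ m) = z.Z
        rw [(bwd u).2.1]
        apply Subgroup.eq_of_le_of_card_ge (Subgroup.zpowers_le.mpr u.1.2)
        rw [Nat.card_zpowers, Subgroup.orderOf_coe, u.2, z.card]
      · show ((u.1 : G) ^ Nat.gcdB n m * z.y ^ Nat.gcdA n m) ^ n = z.y
        exact (bwd u).2.2⟩
    left_inv := ?_
    right_inv := ?_ }
  · intro g
    apply Subtype.ext
    apply Subtype.ext
    show (g.1.1 ^ m) ^ Nat.gcdB n m * z.y ^ Nat.gcdA n m = g.1.1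
    rw [← (fwd g.1 g.2).2.2, ← zpow_natCast g.1.1 m, ← zpow_mul, ← zpow_natCast g.1.1 n, ← zpow_mul,
      ← zpow_add]
    have : (m : ℤ) * Nat.gcdB n m + (n : ℤ) * Nat.gcdA n m = 1 := by linarith
    rw [this, zpow_one]
  · intro u
    apply Subtype.ext
    apply Subtype.ext
    exact (bwd u).2.1

/-- the number of elements of order `n * m`, for coprime `n`, `m` -/
theorem card_orderOf_eq (hn : 0 < n) (hm : 0 < m) (hcop : Nat.Coprime n m) :
    Nat.card {g : G // orderOf g = n * m} = Nat.totient n * Nat.card (ZPair G n m) := by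
  classical
  have : Fintype (ZPair G n m) := Fintype.ofFinite _
  rw [Nat.card_congr (Equiv.sigmaFiberEquiv (toZPair hn hm)).symm, Nat.card_sigma]
  simp only [card_fiber hn hm hcop]
  rw [Finset.sum_const, Finset.card_univ, smul_eq_mul, mul_comm, Nat.card_eq_fintype_card]

theorem totient_dvd_card_orderOf {X : Type*} [Group X] [Finite X] (d : ℕ) (hd : 0 < d) :
    Nat.totient d ∣ Nat.card {g : X // orderOf g = d} := by
  have := card_orderOf_eq (G := X) hd Nat.one_pos (Nat.coprime_one_right d)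
  rw [mul_one] at this
  rw [this]; exact dvd_mul_right _ _

end count

section action

variable {G : Type*} [Group G] {n m : ℕ}

instance : SMul G (ZPair G n m) where
  smul g z :=
    { Z := MulAut.conj g • z.Z
      y := g * z.y * g⁻¹
      cyc := (Subgroup.equivSMul (MulAut.conj g) z.Z).isCyclic.mp z.cyc
      card :=
        (Nat.card_congr (Subgroup.equivSMul (MulAut.conj g) z.Z).symm.toEquiv).trans z.card
      ord := ((MulAut.conj g).orderOf_eq z.y).trans z.ord
      comm := by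
        intro u hu
        rw [Subgroup.mem_pointwise_smul_iff_inv_smul_mem] at hu
        have := z.comm _ hu
        simp only [MulAut.smul_def, MulAut.conj_inv_apply] at this
        calc u * (g * z.y * g⁻¹) = g * ((g⁻¹ * u * g) * z.y) * g⁻¹ := by group
          _ = g * (z.y * (g⁻¹ * u * g)) * g⁻¹ := by rw [this]
          _ = g * z.y * g⁻¹ * u := by group }

theorem smul_Z (g : G) (z : ZPair G n m) : (g • z).Z = MulAut.conj g • z.Z := rfl

theorem smul_y (g : G) (z : ZPair G n m) : (g • z).y = g * z.y * g⁻¹ := rfl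

instance : MulAction G (ZPair G n m) where
  one_smul z := by
    apply ZPair.ext
    · rw [smul_Z, map_one, one_smul]
    · rw [smul_y]; group
  mul_smul g h z := by
    apply ZPair.ext
    · rw [smul_Z, smul_Z, smul_Z, map_mul, mul_smul]
    · rw [smul_y, smul_y, smul_y]; group

end action

section miller

open Cfsg.Agent.Lib.Helper22 (card_mul_relIndex)

variable {p : ℕ} [hp : Fact p.Prime]

/-- count transfer between a subgroup and the ambient group -/
theorem card_subgroup_orderOf {K : Type*} [Group K] (L : Subgroup K) (d : ℕ) :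
    Nat.card {u : K // u ∈ L ∧ orderOf u = d} = Nat.card {g : ↥L // orderOf g = d} := by
  apply Nat.card_congr
  exact
  { toFun := fun u => ⟨⟨u.1, u.2.1⟩, by rw [Subgroup.orderOf_mk]; exact u.2.2⟩
    invFun := fun g => ⟨g.1.1, g.1.2, by rw [Subgroup.orderOf_coe]; exact g.2⟩
    left_inv := fun _ => rfl
    right_inv := fun _ => rfl }

/-- counting over a family of subgroups partitioning the complement of `N₀` -/
theorem partition_count {K : Type*} [Group K] [Finite K] (N₀ : Subgroup K)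
    (𝓛 : Finset (Subgroup K)) (h1 : ∀ L ∈ 𝓛, N₀ ≤ L)
    (h2 : ∀ u : K, u ∉ N₀ → ∃! L, L ∈ 𝓛 ∧ u ∈ L) (R : K → Prop) :
    Nat.card {u : K // R u} + 𝓛.card * Nat.card {u : K // u ∈ N₀ ∧ R u} =
      Nat.card {u : K // u ∈ N₀ ∧ R u} + ∑ L ∈ 𝓛, Nat.card {u : K // u ∈ L ∧ R u} := by
  classical
  have : Fintype K := Fintype.ofFinite K
  have hc : ∀ Q : K → Prop, Nat.card {u : K // Q u} = (Finset.univ.filter Q).card := by
    intro Q
    rw [Nat.card_eq_fintype_card, Fintype.card_subtype]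
  have hsplit : Nat.card {u : K // R u} =
      Nat.card {u : K // u ∈ N₀ ∧ R u} + Nat.card {u : K // u ∉ N₀ ∧ R u} := by
    simp only [hc]
    rw [← Finset.card_union_of_disjoint]
    · congr 1
      ext u
      simp only [Finset.mem_filter, Finset.mem_univ, true_and, Finset.mem_union]
      tauto
    · rw [Finset.disjoint_left]
      intro u hu hu'
      simp only [Finset.mem_filter, Finset.mem_univ, true_and] at hu hu'
      exact hu'.1 hu.1
  have hout : Nat.card {u : K // u ∉ N₀ ∧ R u} =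
      ∑ L ∈ 𝓛, Nat.card {u : K // u ∈ L ∧ u ∉ N₀ ∧ R u} := by
    simp only [hc]
    rw [← Finset.card_biUnion]
    · congr 1
      ext u
      simp only [Finset.mem_filter, Finset.mem_univ, true_and, Finset.mem_biUnion]
      constructor
      · rintro ⟨hu, hR⟩
        obtain ⟨L, ⟨hL, huL⟩, -⟩ := h2 u hu
        exact ⟨L, hL, huL, hu, hR⟩
      · rintro ⟨L, -, -, hu, hR⟩
        exact ⟨hu, hR⟩
    · intro L hL L' hL' hne
      rw [Function.onFun, Finset.disjoint_left]
      intro u hu hu'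
      simp only [Finset.mem_filter, Finset.mem_univ, true_and] at hu hu'
      obtain ⟨L₀, -, huniq⟩ := h2 u hu.2.1
      exact hne ((huniq L ⟨hL, hu.1⟩).trans (huniq L' ⟨hL', hu'.1⟩).symm)
  have hL : ∀ L ∈ 𝓛, Nat.card {u : K // u ∈ L ∧ R u} =
      Nat.card {u : K // u ∈ N₀ ∧ R u} + Nat.card {u : K // u ∈ L ∧ u ∉ N₀ ∧ R u} := by
    intro L hL
    simp only [hc]
    rw [← Finset.card_union_of_disjoint]
    · congr 1
      ext u
      simp only [Finset.mem_filter, Finset.mem_univ, true_and, Finset.mem_union]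
      constructor
      · rintro ⟨huL, hR⟩
        by_cases hu : u ∈ N₀
        · exact Or.inl ⟨hu, hR⟩
        · exact Or.inr ⟨huL, hu, hR⟩
      · rintro (⟨hu, hR⟩ | ⟨huL, -, hR⟩)
        · exact ⟨h1 L hL hu, hR⟩
        · exact ⟨huL, hR⟩
    · rw [Finset.disjoint_left]
      intro u hu hu'
      simp only [Finset.mem_filter, Finset.mem_univ, true_and] at hu hu'
      exact hu'.2.1 hu.1
  rw [hsplit, hout, Finset.sum_congr rfl hL, Finset.sum_add_distrib, Finset.sum_const,
    smul_eq_mul]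
  ring

theorem normal_of_index_p {K : Type*} [Group K] [Finite K] (hK : IsPGroup p K) (M : Subgroup K)
    (hM : M.index = p) : M.Normal := by
  obtain ⟨a, ha⟩ := IsPGroup.iff_card.mp hK
  apply Subgroup.normal_of_index_eq_minFac_card
  rw [hM, ha]
  have ha0 : a ≠ 0 := by
    rintro rfl
    rw [pow_zero] at ha
    have h1 := Subgroup.card_mul_index M
    rw [ha, hM] at h1
    have : p ∣ 1 := Dvd.intro_left _ h1
    exact hp.out.one_lt.ne' (Nat.dvd_one.mp this)
  exact (Nat.Prime.pow_minFac hp.out ha0).symm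

/-- `|N₀⟨u⟩| = p |N₀|` when `u ∉ N₀`, `u ^ p ∈ N₀` -/
theorem card_sup_zpowers {K : Type*} [Group K] [Finite K] (hK : IsPGroup p K) (N₀ : Subgroup K)
    [N₀.Normal] (u : K) (hu : u ∉ N₀) (hup : u ^ p ∈ N₀) :
    Nat.card ↥(N₀ ⊔ Subgroup.zpowers u) = p * Nat.card N₀ := by
  have hp1 : p.Prime := hp.out
  have h1 : N₀.relIndex (N₀ ⊔ Subgroup.zpowers u) = N₀.relIndex (Subgroup.zpowers u) :=
    Subgroup.relIndex_sup_left _ _
  have h2 : N₀.relIndex (Subgroup.zpowers u) = p := by
    have hle : Subgroup.zpowers (u ^ p) ≤ N₀ := Subgroup.zpowers_le.mpr hup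
    have d1 : N₀.relIndex (Subgroup.zpowers u) ∣
        (Subgroup.zpowers (u ^ p)).relIndex (Subgroup.zpowers u) :=
      Subgroup.relIndex_dvd_of_le_left _ hle
    have hu1 : u ≠ 1 := fun h => hu (h ▸ N₀.one_mem)
    have hpo : p ∣ orderOf u := by
      obtain ⟨t, ht⟩ := (IsPGroup.iff_orderOf.mp hK) u
      rw [ht]
      apply dvd_pow_self
      rintro rfl
      rw [pow_zero, orderOf_eq_one_iff] at ht
      exact hu1 ht
    have d2 : (Subgroup.zpowers (u ^ p)).relIndex (Subgroup.zpowers u) = p := by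
      have hle2 : Subgroup.zpowers (u ^ p) ≤ Subgroup.zpowers u :=
        Subgroup.zpowers_le.mpr (Subgroup.pow_mem _ (Subgroup.mem_zpowers u) p)
      have h3 := card_mul_relIndex _ _ hle2
      rw [Nat.card_zpowers, Nat.card_zpowers, orderOf_pow_of_dvd hp1.ne_zero hpo] at h3
      obtain ⟨q, hq⟩ := hpo
      have hq0 : 0 < q := by
        rcases Nat.eq_zero_or_pos q with h | h
        · rw [h, mul_zero] at hq
          exact absurd hq (orderOf_pos u).ne'
        · exact h
      rw [hq, Nat.mul_div_cancel_left _ hp1.pos] at h3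
      have : q * (Subgroup.zpowers (u ^ p)).relIndex (Subgroup.zpowers u) = q * p := by
        rw [h3, mul_comm]
      exact Nat.eq_of_mul_eq_mul_left hq0 this
    rw [d2] at d1
    rcases (Nat.dvd_prime hp1).mp d1 with h | h
    · exfalso
      rw [Subgroup.relIndex_eq_one] at h
      exact hu (h (Subgroup.mem_zpowers u))
    · exact h
  have h3 := card_mul_relIndex N₀ (N₀ ⊔ Subgroup.zpowers u) le_sup_left
  rw [h1, h2] at h3
  rw [← h3, mul_comm]

/-- a noncyclic `p`-group has two distinct subgroups of index `p` -/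
theorem exists_two_max {K : Type*} [Group K] [Finite K] (hK : IsPGroup p K)
    (hnc : ¬ IsCyclic K) : ∃ M₁ M₂ : Subgroup K, M₁.index = p ∧ M₂.index = p ∧ M₁ ≠ M₂ := by
  have hp1 : p.Prime := hp.out
  obtain ⟨a, ha⟩ := IsPGroup.iff_card.mp hK
  have ha0 : a ≠ 0 := by
    rintro rfl
    rw [pow_zero] at ha
    have : Subsingleton K := (Nat.card_eq_one_iff_unique.mp ha).1
    exact hnc isCyclic_of_subsingleton
  obtain ⟨b, rfl⟩ : ∃ b, a = b + 1 := Nat.exists_eq_succ_of_ne_zero ha0
  have hdvd : p ^ b ∣ Nat.card K := by rw [ha]; exact pow_dvd_pow p (Nat.le_succ b)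
  have hidx : ∀ M : Subgroup K, Nat.card M = p ^ b → M.index = p := by
    intro M hM
    have h1 := Subgroup.card_mul_index M
    rw [ha, hM, pow_succ] at h1
    exact Nat.eq_of_mul_eq_mul_left (pow_pos hp1.pos b) h1
  obtain ⟨M₁, hM₁⟩ := Sylow.exists_subgroup_card_pow_prime p hdvd
  have hM₁top : M₁ ≠ ⊤ := by
    intro h
    have := hidx M₁ hM₁
    rw [h, Subgroup.index_top] at this
    exact hp1.one_lt.ne this
  obtain ⟨u, hu⟩ : ∃ u : K, u ∉ M₁ := by
    by_contra hcon
    push Not at hcon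
    exact hM₁top ((Subgroup.eq_top_iff' M₁).mpr hcon)
  obtain ⟨t, ht⟩ := (IsPGroup.iff_orderOf.mp hK) u
  have htb : t ≤ b := by
    by_contra hcon
    push Not at hcon
    have h1 : orderOf u ∣ Nat.card K := orderOf_dvd_natCard u
    rw [ht, ha] at h1
    have h2 : t ≤ b + 1 := (Nat.pow_dvd_pow_iff_le_right hp1.one_lt).mp h1
    have h3 : t = b + 1 := le_antisymm h2 hcon
    exact hnc (isCyclic_of_orderOf_eq_card u (by rw [ht, ha, h3]))
  obtain ⟨M₂, hM₂, huM₂⟩ := Sylow.exists_subgroup_card_pow_prime_le p hdvd (Subgroup.zpowers u)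
    (by rw [Nat.card_zpowers, ht]) htb
  refine ⟨M₁, M₂, hidx M₁ hM₁, hidx M₂ hM₂, ?_⟩
  intro h
  exact hu (h ▸ huM₂ (Subgroup.mem_zpowers u))

/-- a `p`-adic congruence (lifting the exponent) -/
theorem modEq_one_of_pow (hodd : p ≠ 2) {k b : ℕ} (hb : 1 ≤ b) (h : k ^ p ≡ 1 [MOD p ^ b]) :
    k ≡ 1 [MOD p] ∧ k ≡ 1 [MOD p ^ (b - 1)] := by
  have hp1 : p.Prime := hp.out
  have h1 : k ^ p ≡ 1 [MOD p] := h.of_dvd (dvd_pow_self p (by omega))
  have h2 : k ≡ 1 [MOD p] := by
    have hF : (k : ZMod p) ^ p = k := ZMod.pow_card _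
    rw [← ZMod.natCast_eq_natCast_iff] at h1 ⊢
    push_cast at h1 ⊢
    rw [← hF]; exact h1
  refine ⟨h2, ?_⟩
  have hpodd : Odd p := hp1.odd_of_ne_two hodd
  have hdvd : (p : ℤ) ∣ (k : ℤ) - 1 := by
    have := Nat.modEq_iff_dvd.mp h2.symm
    simpa using this
  have hnd : ¬ (p : ℤ) ∣ (k : ℤ) := by
    intro hk
    have h3 : (p : ℤ) ∣ 1 := by
      have := dvd_sub hk hdvd
      simpa using this
    have h4 : p ∣ 1 := by exact_mod_cast h3
    exact hp1.one_lt.ne' (Nat.dvd_one.mp h4)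
  have hlte := Int.emultiplicity_pow_sub_pow hp1 hpodd (x := (k : ℤ)) (y := 1) hdvd hnd p
  rw [one_pow] at hlte
  have hpp : emultiplicity p p = 1 := by
    have := Nat.Prime.emultiplicity_pow_self hp1 (n := 1)
    simpa using this
  have hpow : (p : ℤ) ^ b ∣ (k : ℤ) ^ p - 1 := by
    have := Nat.modEq_iff_dvd.mp h.symm
    simpa using this
  rw [pow_dvd_iff_le_emultiplicity, hlte, hpp] at hpow
  have h5 : ((b - 1 : ℕ) : ℕ∞) ≤ emultiplicity (p : ℤ) ((k : ℤ) - 1) := by
    rcases eq_or_ne (emultiplicity (p : ℤ) ((k : ℤ) - 1)) ⊤ with he | he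
    · rw [he]; exact le_top
    · lift emultiplicity (p : ℤ) ((k : ℤ) - 1) to ℕ using he with j
      norm_cast at hpow ⊢
      omega
  rw [← pow_dvd_iff_le_emultiplicity] at h5
  apply Nat.ModEq.symm
  rw [Nat.modEq_iff_dvd]
  simpa using h5

theorem pow_mul_comm_central {K : Type*} [Group K] {u v c : K} (hvu : v * u = c * u * v)
    (hcv : Commute c v) (n : ℕ) : v ^ n * u = c ^ n * u * v ^ n := by
  induction n with
  | zero => simp
  | succ n ih =>
    have h1 : Commute v (c ^ n) := (hcv.pow_left n).symm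
    calc v ^ (n + 1) * u = v * (v ^ n * u) := by rw [pow_succ', mul_assoc]
      _ = v * (c ^ n * u * v ^ n) := by rw [ih]
      _ = (v * c ^ n) * u * v ^ n := by simp only [mul_assoc]
      _ = (c ^ n * v) * u * v ^ n := by rw [h1.eq]
      _ = c ^ n * (v * u) * v ^ n := by simp only [mul_assoc]
      _ = c ^ n * (c * u * v) * v ^ n := by rw [hvu]
      _ = c ^ (n + 1) * u * v ^ (n + 1) := by rw [pow_succ c, pow_succ' v]; simp only [mul_assoc]

theorem mul_pow_central {K : Type*} [Group K] {u v c : K} (hvu : v * u = c * u * v)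
    (hcu : Commute c u) (hcv : Commute c v) (n : ℕ) :
    (u * v) ^ n = c ^ (n * (n - 1) / 2) * u ^ n * v ^ n := by
  induction n with
  | zero => simp
  | succ n ih =>
    have h2 : Commute (u ^ n) (c ^ n) := ((hcu.pow_left n).pow_right n).symm
    calc (u * v) ^ (n + 1) = (u * v) ^ n * (u * v) := pow_succ _ _
      _ = c ^ (n * (n - 1) / 2) * u ^ n * v ^ n * (u * v) := by rw [ih]
      _ = c ^ (n * (n - 1) / 2) * u ^ n * (v ^ n * u) * v := by simp only [mul_assoc]
      _ = c ^ (n * (n - 1) / 2) * u ^ n * (c ^ n * u * v ^ n) * v := by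
          rw [pow_mul_comm_central hvu hcv n]
      _ = c ^ (n * (n - 1) / 2) * (u ^ n * c ^ n) * u * v ^ n * v := by simp only [mul_assoc]
      _ = c ^ (n * (n - 1) / 2) * (c ^ n * u ^ n) * u * v ^ n * v := by rw [h2.eq]
      _ = c ^ ((n + 1) * (n + 1 - 1) / 2) * u ^ (n + 1) * v ^ (n + 1) := by
          rw [Nat.triangle_succ, pow_add, pow_succ u, pow_succ v]; simp only [mul_assoc]

theorem mul_pow_prime_of_central (hodd : p ≠ 2) {K : Type*} [Group K] {u v c : K}
    (hvu : v * u = c * u * v) (hcu : Commute c u) (hcv : Commute c v) (hcp : c ^ p = 1) :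
    (u * v) ^ p = u ^ p * v ^ p := by
  rw [mul_pow_central hvu hcu hcv p]
  have h2 : 2 ∣ p - 1 := (hp.out.even_sub_one hodd).two_dvd
  rw [Nat.mul_div_assoc p h2, pow_mul, hcp, one_pow, one_mul]

/-- counting through a homomorphism -/
theorem card_comp_hom {K K' : Type*} [Group K] [Finite K] [Group K'] (f : K →* K')
    (R : K' → Prop) :
    Nat.card {u : K // R (f u)} = Nat.card f.ker * Nat.card {w : ↥f.range // R (w : K')} := by
  classical
  let F : {u : K // R (f u)} → {w : ↥f.range // R (w : K')} := fun u => ⟨⟨f u.1, u.1, rfl⟩, u.2⟩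
  have : Finite ↥f.range := Finite.of_surjective f.rangeRestrict f.rangeRestrict_surjective
  have : Fintype {w : ↥f.range // R (w : K')} := Fintype.ofFinite _
  rw [Nat.card_congr (Equiv.sigmaFiberEquiv F).symm, Nat.card_sigma]
  have hfib : ∀ w : {w : ↥f.range // R (w : K')},
      Nat.card {u : {u : K // R (f u)} // F u = w} = Nat.card f.ker := by
    intro w
    obtain ⟨u₀, hu₀⟩ := w.1.2
    apply Nat.card_congr
    exact
    { toFun := fun u => ⟨u₀⁻¹ * u.1.1, by
        have h1 : f u.1.1 = (w.1 : K') := congrArg (fun t => ((t.1 : ↥f.range) : K')) u.2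
        rw [MonoidHom.mem_ker, map_mul, map_inv, hu₀, h1, inv_mul_cancel]⟩
      invFun := fun k => ⟨⟨u₀ * k.1, by
        rw [map_mul, (MonoidHom.mem_ker).mp k.2, mul_one, hu₀]; exact w.2⟩, by
        apply Subtype.ext
        apply Subtype.ext
        show f (u₀ * k.1) = (w.1 : K')
        rw [map_mul, (MonoidHom.mem_ker).mp k.2, mul_one, hu₀]⟩
      left_inv := fun u => by
        apply Subtype.ext
        apply Subtype.ext
        show u₀ * (u₀⁻¹ * u.1.1) = u.1.1
        rw [mul_inv_cancel_left]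
      right_inv := fun k => by
        apply Subtype.ext
        show u₀⁻¹ * (u₀ * k.1) = k.1
        rw [inv_mul_cancel_left] }
  simp only [hfib]
  rw [Finset.sum_const, Finset.card_univ, smul_eq_mul, mul_comm, ← Nat.card_eq_fintype_card]

/-- Miller's theorem for a `p`-group with a cyclic subgroup of index `p` -/
theorem miller_base {K : Type*} [Group K] [Finite K] (hK : IsPGroup p K) (hodd : p ≠ 2)
    (hnc : ¬ IsCyclic K) (M : Subgroup K) (hM : M.index = p) (hMc : IsCyclic M) (s : ℕ)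
    (hs : 2 ≤ s) : p ^ s ∣ Nat.card {g : K // orderOf g = p ^ s} := by
  have hp1 : p.Prime := hp.out
  have : M.Normal := normal_of_index_p hK M hM
  obtain ⟨x', hx'⟩ := IsCyclic.exists_generator (α := ↥M)
  set x : K := (x' : K) with hx
  have hxM : x ∈ M := x'.2
  have hMx : ∀ w ∈ M, w ∈ Subgroup.zpowers x := by
    intro w hw
    obtain ⟨j, hj⟩ := Subgroup.mem_zpowers_iff.mp (hx' ⟨w, hw⟩)
    refine Subgroup.mem_zpowers_iff.mpr ⟨j, ?_⟩
    have := congrArg Subtype.val hj
    simpa using this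
  obtain ⟨b, hb⟩ := IsPGroup.iff_card.mp (hK.to_subgroup M)
  have hcardK : Nat.card K = p ^ (b + 1) := by
    rw [← Subgroup.card_mul_index M, hb, hM, pow_succ]
  have hox : orderOf x = p ^ b := by
    rw [← hb, hx, Subgroup.orderOf_coe]
    exact orderOf_eq_card_of_forall_mem_zpowers hx'
  have hb1 : 1 ≤ b := by
    by_contra hcon
    have hb0 : b = 0 := by omega
    rw [hb0, zero_add, pow_one] at hcardK
    exact hnc (isCyclic_of_prime_card hcardK)
  obtain ⟨y, hy⟩ : ∃ y : K, y ∉ M := by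
    by_contra hcon
    push Not at hcon
    have : M = ⊤ := (Subgroup.eq_top_iff' M).mpr hcon
    rw [this, Subgroup.index_top] at hM
    exact hp1.one_lt.ne hM
  have gen : ∀ H : Subgroup K, x ∈ H → y ∈ H → H = ⊤ := by
    intro H hxH hyH
    have hMH : M ≤ H := fun w hw => (Subgroup.zpowers_le.mpr hxH) (hMx w hw)
    have hd : H.index ∣ M.index := Subgroup.index_dvd_of_le hMH
    rw [hM] at hd
    rcases (Nat.dvd_prime hp1).mp hd with h | h
    · exact Subgroup.index_eq_one.mp h
    · exfalso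
      have h1 := Subgroup.card_mul_index H
      have h2 := Subgroup.card_mul_index M
      rw [h, ← h2, hM] at h1
      have h3 : Nat.card H = Nat.card M := Nat.eq_of_mul_eq_mul_right hp1.pos h1
      have h4 := Subgroup.eq_of_le_of_card_ge hMH (le_of_eq h3)
      exact hy (h4 ▸ hyH)
  have hconj : y * x * y⁻¹ ∈ M := (inferInstance : M.Normal).conj_mem x hxM y
  obtain ⟨k, hk⟩ : ∃ k : ℕ, x ^ k = y * x * y⁻¹ := by
    have h1 := hMx _ hconj
    rw [← (isOfFinOrder_of_finite x).mem_powers_iff_mem_zpowers] at h1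
    exact (Submonoid.mem_powers_iff _ _).mp h1
  have hconjM : ∀ w ∈ M, y * w * y⁻¹ = w ^ k := by
    intro w hw
    obtain ⟨i, rfl⟩ := Subgroup.mem_zpowers_iff.mp (hMx w hw)
    rw [← conj_zpow, ← hk, ← zpow_natCast, ← zpow_natCast, ← zpow_mul, ← zpow_mul, mul_comm]
  have hconjpow : ∀ j : ℕ, ∀ w ∈ M, y ^ j * w * (y ^ j)⁻¹ = w ^ (k ^ j) := by
    intro j
    induction j with
    | zero => intro w _; simp
    | succ j ih =>
      intro w hw
      have h1 : y ^ (j + 1) * w * (y ^ (j + 1))⁻¹ = y * (y ^ j * w * (y ^ j)⁻¹) * y⁻¹ := by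
        rw [pow_succ']; group
      rw [h1, ih w hw, hconjM _ (M.pow_mem hw _), ← pow_mul, pow_succ]
  have hyp : y ^ p ∈ M := by
    have := Subgroup.pow_index_mem M y
    rwa [hM] at this
  have hkp : k ^ p ≡ 1 [MOD p ^ b] := by
    rw [← hox, ← pow_eq_pow_iff_modEq, pow_one, ← hconjpow p x hxM]
    obtain ⟨i, hi⟩ := Subgroup.mem_zpowers_iff.mp (hMx _ hyp)
    rw [← hi]
    have : Commute (x ^ i) x := (Commute.refl x).zpow_left i
    rw [this.eq, mul_inv_cancel_right]
  obtain ⟨hk1, hk2⟩ := modEq_one_of_pow hodd hb1 hkp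
  set c₀ : K := y * x * y⁻¹ * x⁻¹ with hc₀
  have hc₀x : c₀ = x ^ k * x⁻¹ := by rw [hc₀, hk]
  have hc₀M : c₀ ∈ M := by rw [hc₀x]; exact M.mul_mem (M.pow_mem hxM k) (M.inv_mem hxM)
  have hc₀p : c₀ ^ p = 1 := by
    have hcm : Commute (x ^ k) x⁻¹ := ((Commute.refl x).pow_left k).inv_right
    rw [hc₀x, hcm.mul_pow, ← pow_mul, inv_pow]
    have : x ^ (k * p) = x ^ p := by
      rw [pow_eq_pow_iff_modEq, hox]
      have h1 := Nat.ModEq.mul_right' p hk2
      rw [one_mul, ← pow_succ, Nat.sub_add_cancel hb1] at h1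
      exact h1
    rw [this, mul_inv_cancel]
  have hc₀_x : Commute c₀ x := by
    rw [hc₀x]
    exact ((Commute.refl x).pow_left k).mul_left (Commute.refl x).inv_left
  have hc₀_y : Commute c₀ y := by
    have h1 : y * c₀ * y⁻¹ = c₀ ^ k := hconjM c₀ hc₀M
    have h2 : c₀ ^ k = c₀ := by
      have : c₀ ^ k = c₀ ^ 1 := by
        rw [pow_eq_pow_iff_modEq]
        exact hk1.of_dvd (orderOf_dvd_of_pow_eq_one hc₀p)
      rw [this, pow_one]
    rw [h2] at h1
    show c₀ * y = y * c₀
    calc c₀ * y = (y * c₀ * y⁻¹) * y := by rw [h1]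
      _ = y * c₀ := by group
  have hc₀Z : ∀ g : K, Commute c₀ g := by
    intro g
    have h1 : Subgroup.centralizer ({c₀} : Set K) = ⊤ := by
      apply gen
      · rw [Subgroup.mem_centralizer_iff]
        intro h hh
        rw [Set.mem_singleton_iff.mp hh]; exact hc₀_x.eq
      · rw [Subgroup.mem_centralizer_iff]
        intro h hh
        rw [Set.mem_singleton_iff.mp hh]; exact hc₀_y.eq
    have h2 : g ∈ Subgroup.centralizer ({c₀} : Set K) := h1 ▸ Subgroup.mem_top g
    exact (Subgroup.mem_centralizer_iff.mp h2) c₀ rfl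
  set Z₁ : Subgroup K := Subgroup.zpowers c₀ with hZ₁
  have hZ₁c : ∀ z ∈ Z₁, ∀ g : K, Commute z g := by
    intro z hz g
    obtain ⟨i, rfl⟩ := Subgroup.mem_zpowers_iff.mp hz
    exact (hc₀Z g).zpow_left i
  have hZ₁p : ∀ z ∈ Z₁, z ^ p = 1 := by
    intro z hz
    obtain ⟨i, rfl⟩ := Subgroup.mem_zpowers_iff.mp hz
    rw [← zpow_natCast, ← zpow_mul, mul_comm, zpow_mul, zpow_natCast, hc₀p, one_zpow]
  have : Z₁.Normal := ⟨fun z hz g => by
    have := (hZ₁c z hz g).eq
    rw [← this, mul_inv_cancel_right]; exact hz⟩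
  have hquot : ∀ u v : K, v * u * v⁻¹ * u⁻¹ ∈ Z₁ := by
    have gen' : ∀ H : Subgroup (K ⧸ Z₁), (QuotientGroup.mk x : K ⧸ Z₁) ∈ H →
        (QuotientGroup.mk y : K ⧸ Z₁) ∈ H → H = ⊤ := by
      intro H hxH hyH
      have h1 := gen (H.comap (QuotientGroup.mk' Z₁)) hxH hyH
      rw [Subgroup.eq_top_iff']
      intro q
      induction q using QuotientGroup.induction_on with | _ g => ?_
      have : g ∈ H.comap (QuotientGroup.mk' Z₁) := h1 ▸ Subgroup.mem_top g
      exact this
    have hxy : (QuotientGroup.mk y : K ⧸ Z₁) * QuotientGroup.mk x =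
        QuotientGroup.mk x * QuotientGroup.mk y := by
      have e : y * x = c₀ * (x * y) := by rw [hc₀]; group
      have e1 : (QuotientGroup.mk c₀ : K ⧸ Z₁) = 1 :=
        (QuotientGroup.eq_one_iff c₀).mpr (Subgroup.mem_zpowers c₀)
      rw [← QuotientGroup.mk_mul, e, QuotientGroup.mk_mul, e1, one_mul, QuotientGroup.mk_mul]
    have hcx : ∀ q : K ⧸ Z₁, q * QuotientGroup.mk x = QuotientGroup.mk x * q := by
      intro q
      have h1 : Subgroup.centralizer ({(QuotientGroup.mk x : K ⧸ Z₁)} : Set (K ⧸ Z₁)) = ⊤ := by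
        apply gen'
        · rw [Subgroup.mem_centralizer_iff]
          intro h hh
          rw [Set.mem_singleton_iff.mp hh]
        · rw [Subgroup.mem_centralizer_iff]
          intro h hh
          rw [Set.mem_singleton_iff.mp hh]; exact hxy.symm
      have h2 : q ∈ Subgroup.centralizer ({(QuotientGroup.mk x : K ⧸ Z₁)} : Set (K ⧸ Z₁)) :=
        h1 ▸ Subgroup.mem_top q
      exact ((Subgroup.mem_centralizer_iff.mp h2) _ rfl).symm
    have hcy : ∀ q : K ⧸ Z₁, q * QuotientGroup.mk y = QuotientGroup.mk y * q := by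
      intro q
      have h1 : Subgroup.centralizer ({(QuotientGroup.mk y : K ⧸ Z₁)} : Set (K ⧸ Z₁)) = ⊤ := by
        apply gen'
        · rw [Subgroup.mem_centralizer_iff]
          intro h hh
          rw [Set.mem_singleton_iff.mp hh]; exact hxy
        · rw [Subgroup.mem_centralizer_iff]
          intro h hh
          rw [Set.mem_singleton_iff.mp hh]
      have h2 : q ∈ Subgroup.centralizer ({(QuotientGroup.mk y : K ⧸ Z₁)} : Set (K ⧸ Z₁)) :=
        h1 ▸ Subgroup.mem_top q
      exact ((Subgroup.mem_centralizer_iff.mp h2) _ rfl).symm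
    have hcomm : ∀ q r : K ⧸ Z₁, q * r = r * q := by
      intro q r
      have h1 : Subgroup.centralizer ({q} : Set (K ⧸ Z₁)) = ⊤ := by
        apply gen'
        · rw [Subgroup.mem_centralizer_iff]
          intro h hh
          rw [Set.mem_singleton_iff.mp hh]; exact hcx q
        · rw [Subgroup.mem_centralizer_iff]
          intro h hh
          rw [Set.mem_singleton_iff.mp hh]; exact hcy q
      have h2 : r ∈ Subgroup.centralizer ({q} : Set (K ⧸ Z₁)) := h1 ▸ Subgroup.mem_top r
      exact (Subgroup.mem_centralizer_iff.mp h2) q rfl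
    intro u v
    rw [← QuotientGroup.eq_one_iff]
    simp only [QuotientGroup.mk_mul, QuotientGroup.mk_inv]
    rw [hcomm (QuotientGroup.mk v) (QuotientGroup.mk u)]; group
  have hpow_mul : ∀ u v : K, (u * v) ^ p = u ^ p * v ^ p := by
    intro u v
    have hc := hquot u v
    apply mul_pow_prime_of_central hodd (c := v * u * v⁻¹ * u⁻¹)
    · group
    · exact hZ₁c _ hc u
    · exact hZ₁c _ hc v
    · exact hZ₁p _ hc
  let π : K →* K := { toFun := fun u => u ^ p, map_one' := one_pow p, map_mul' := hpow_mul }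
  have hπ : ∀ u : K, π u = u ^ p := fun _ => rfl
  have hrange_le : π.range ≤ M := by
    rintro _ ⟨u, rfl⟩
    rw [hπ]
    have := Subgroup.pow_index_mem M u
    rwa [hM] at this
  have hrange_ne : π.range ≠ M := by
    intro h
    have hxr : x ∈ π.range := h ▸ hxM
    obtain ⟨u, hu⟩ := hxr
    have hu' : u ^ p = x := hu
    have hx1 : x ≠ 1 := by
      intro h1
      rw [h1, orderOf_one] at hox
      have := Nat.one_lt_pow (by omega : b ≠ 0) hp1.one_lt
      omega
    have hu1 : u ≠ 1 := by rintro rfl; rw [one_pow] at hu'; exact hx1 hu'.symm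
    obtain ⟨t, ht⟩ := (IsPGroup.iff_orderOf.mp hK) u
    have hpo : p ∣ orderOf u := by
      rw [ht]
      apply dvd_pow_self
      rintro rfl
      rw [pow_zero, orderOf_eq_one_iff] at ht; exact hu1 ht
    have h2 := orderOf_pow_of_dvd hp1.ne_zero hpo
    rw [hu', hox] at h2
    have h3 : orderOf u = p ^ (b + 1) := by
      obtain ⟨q, hq⟩ := hpo
      rw [hq, Nat.mul_div_cancel_left _ hp1.pos] at h2
      rw [hq, ← h2, pow_succ, mul_comm]
    exact hnc (isCyclic_of_orderOf_eq_card u (by rw [h3, hcardK]))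
  have hker2 : p ^ 2 ∣ Nat.card π.ker := by
    have h1 : Nat.card π.ker * Nat.card π.range = p ^ (b + 1) := by
      rw [← Subgroup.index_ker, Subgroup.card_mul_index, hcardK]
    have h2 : Nat.card π.range ∣ p ^ b := by rw [← hb]; exact Subgroup.card_dvd_of_le hrange_le
    obtain ⟨c, hcb, hc⟩ := (Nat.dvd_prime_pow hp1).mp h2
    have hcb' : c < b := by
      rcases Nat.lt_or_ge c b with h | h
      · exact h
      · exfalso
        have hcb2 : c = b := le_antisymm hcb h
        apply hrange_ne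
        exact Subgroup.eq_of_le_of_card_ge hrange_le (by rw [hb, hc, hcb2])
    rw [hc] at h1
    have h3 : Nat.card π.ker = p ^ (b + 1 - c) := by
      have : p ^ (b + 1) = p ^ (b + 1 - c) * p ^ c := by rw [← pow_add]; congr 1; omega
      rw [this] at h1
      exact Nat.eq_of_mul_eq_mul_right (pow_pos hp1.pos c) h1
    rw [h3]
    exact pow_dvd_pow p (by omega)
  have hiff : ∀ u : K, orderOf u = p ^ s ↔ orderOf (π u) = p ^ (s - 1) := by
    intro u
    rw [hπ]
    constructor
    · intro h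
      rw [orderOf_pow_of_dvd hp1.ne_zero (by rw [h]; exact dvd_pow_self p (by omega)), h]
      obtain ⟨s', rfl⟩ : ∃ s', s = s' + 1 := ⟨s - 1, by omega⟩
      rw [pow_succ, Nat.mul_div_cancel _ hp1.pos]; simp
    · intro h
      have hu1 : u ≠ 1 := by
        rintro rfl
        rw [one_pow, orderOf_one] at h
        have := Nat.one_lt_pow (by omega : s - 1 ≠ 0) hp1.one_lt
        omega
      obtain ⟨t, ht⟩ := (IsPGroup.iff_orderOf.mp hK) u
      have ht0 : t ≠ 0 := by
        rintro rfl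
        rw [pow_zero, orderOf_eq_one_iff] at ht; exact hu1 ht
      have h2 := orderOf_pow_of_dvd hp1.ne_zero (by rw [ht]; exact dvd_pow_self p ht0)
      rw [h, ht] at h2
      have h3 : p ^ t / p = p ^ (t - 1) := by
        obtain ⟨t', rfl⟩ := Nat.exists_eq_succ_of_ne_zero ht0
        rw [pow_succ, Nat.mul_div_cancel _ hp1.pos]; simp
      rw [h3] at h2
      have h4 : s - 1 = t - 1 := Nat.pow_right_injective hp1.two_le h2
      rw [ht]; congr 1; omega
  have hcount : Nat.card {u : K // orderOf u = p ^ s} =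
      Nat.card π.ker * Nat.card {w : ↥π.range // orderOf (w : K) = p ^ (s - 1)} := by
    rw [← card_comp_hom π (fun w => orderOf w = p ^ (s - 1))]
    exact Nat.card_congr (Equiv.subtypeEquivRight hiff)
  rw [hcount]
  have h5 : p ^ (s - 2) ∣ Nat.card {w : ↥π.range // orderOf (w : K) = p ^ (s - 1)} := by
    have h6 : Nat.card {w : ↥π.range // orderOf (w : K) = p ^ (s - 1)} =
        Nat.card {w : ↥π.range // orderOf w = p ^ (s - 1)} :=
      Nat.card_congr (Equiv.subtypeEquivRight (fun w => by rw [Subgroup.orderOf_coe]))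
    rw [h6]
    refine dvd_trans ?_ (totient_dvd_card_orderOf (X := ↥π.range) (p ^ (s - 1))
      (pow_pos hp1.pos _))
    rw [Nat.totient_prime_pow hp1 (by omega : 0 < s - 1)]
    have : s - 1 - 1 = s - 2 := by omega
    rw [this]; exact dvd_mul_right _ _
  have : p ^ s = p ^ 2 * p ^ (s - 2) := by rw [← pow_add]; congr 1; omega
  rw [this]
  exact Nat.mul_dvd_mul hker2 h5

universe u

theorem miller_aux (hodd : p ≠ 2) (s : ℕ) (hs : 2 ≤ s) : ∀ N : ℕ, ∀ {K : Type u} [Group K]
    [Finite K], IsPGroup p K → ¬ IsCyclic K → Nat.card K = N →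
    p ^ s ∣ Nat.card {g : K // orderOf g = p ^ s} := by
  have hp1 : p.Prime := hp.out
  intro N
  induction N using Nat.strong_induction_on with
  | _ N ih =>
  intro K _ _ hK hnc hN
  by_cases hA : ∃ M : Subgroup K, M.index = p ∧ IsCyclic M
  · obtain ⟨M, hM, hMc⟩ := hA
    exact miller_base hK hodd hnc M hM hMc s hs
  push Not at hA
  obtain ⟨M₁, M₂, hM₁, hM₂, hne⟩ := exists_two_max hK hnc
  have : M₁.Normal := normal_of_index_p hK M₁ hM₁
  have : M₂.Normal := normal_of_index_p hK M₂ hM₂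
  set N₀ : Subgroup K := M₁ ⊓ M₂ with hN₀
  have hpow : ∀ u : K, u ^ p ∈ N₀ := by
    intro u
    refine ⟨?_, ?_⟩
    · have := Subgroup.pow_index_mem M₁ u; rwa [hM₁] at this
    · have := Subgroup.pow_index_mem M₂ u; rwa [hM₂] at this
  have hsup : M₁ ⊔ M₂ = ⊤ := by
    have hle : M₁ ≤ M₁ ⊔ M₂ := le_sup_left
    have hd : (M₁ ⊔ M₂).index ∣ M₁.index := Subgroup.index_dvd_of_le hle
    rw [hM₁] at hd
    rcases (Nat.dvd_prime hp1).mp hd with h | h
    · exact Subgroup.index_eq_one.mp h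
    · exfalso
      have h1 := Subgroup.card_mul_index (M₁ ⊔ M₂)
      have h2 := Subgroup.card_mul_index M₁
      have h2' := Subgroup.card_mul_index M₂
      rw [h, ← h2, hM₁] at h1
      have h3 : Nat.card ↥(M₁ ⊔ M₂) = Nat.card M₁ := Nat.eq_of_mul_eq_mul_right hp1.pos h1
      have h4 : M₁ = M₁ ⊔ M₂ := Subgroup.eq_of_le_of_card_ge hle (le_of_eq h3)
      have h5 : M₂ ≤ M₁ := h4 ▸ le_sup_right
      have h6 : Nat.card M₂ = Nat.card M₁ := by
        rw [hM₁] at h2
        rw [hM₂, ← h2] at h2'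
        exact Nat.eq_of_mul_eq_mul_right hp1.pos h2'
      exact hne (Subgroup.eq_of_le_of_card_ge h5 (le_of_eq h6.symm)).symm
  have hcardM₁ : Nat.card M₁ = p * Nat.card N₀ := by
    have h1 : M₂.relIndex M₁ = p := by
      rw [← Subgroup.relIndex_sup_right M₁ M₂, hsup, Subgroup.relIndex_top_right, hM₂]
    have h2 : N₀.relIndex M₁ = p := by
      rw [hN₀, inf_comm, Subgroup.inf_relIndex_right, h1]
    have h3 := card_mul_relIndex N₀ M₁ inf_le_left
    rw [h2] at h3
    rw [← h3, mul_comm]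
  have hν : 0 < Nat.card N₀ := Nat.card_pos
  have hcardK : Nat.card K = p * p * Nat.card N₀ := by
    rw [← Subgroup.card_mul_index M₁, hM₁, hcardM₁]; ring
  classical
  have : Fintype K := Fintype.ofFinite K
  let 𝓛 : Finset (Subgroup K) :=
    (Finset.univ.filter (fun u : K => u ∉ N₀)).image (fun u => N₀ ⊔ Subgroup.zpowers u)
  have h𝓛 : ∀ L ∈ 𝓛, ∃ u : K, u ∉ N₀ ∧ L = N₀ ⊔ Subgroup.zpowers u := by
    intro L hL
    obtain ⟨u, hu, rfl⟩ := Finset.mem_image.mp hL
    exact ⟨u, (Finset.mem_filter.mp hu).2, rfl⟩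
  have h1 : ∀ L ∈ 𝓛, N₀ ≤ L := by
    intro L hL
    obtain ⟨u, -, rfl⟩ := h𝓛 L hL
    exact le_sup_left
  have hLcard : ∀ L ∈ 𝓛, Nat.card L = p * Nat.card N₀ := by
    intro L hL
    obtain ⟨u, hu, rfl⟩ := h𝓛 L hL
    exact card_sup_zpowers hK N₀ u hu (hpow u)
  have h2 : ∀ u : K, u ∉ N₀ → ∃! L, L ∈ 𝓛 ∧ u ∈ L := by
    intro u hu
    have hLu : N₀ ⊔ Subgroup.zpowers u ∈ 𝓛 :=
      Finset.mem_image.mpr ⟨u, Finset.mem_filter.mpr ⟨Finset.mem_univ _, hu⟩, rfl⟩
    refine ⟨N₀ ⊔ Subgroup.zpowers u, ⟨hLu, Subgroup.mem_sup_right (Subgroup.mem_zpowers u)⟩, ?_⟩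
    rintro L ⟨hL, huL⟩
    have hle : N₀ ⊔ Subgroup.zpowers u ≤ L := sup_le (h1 L hL) (Subgroup.zpowers_le.mpr huL)
    exact (Subgroup.eq_of_le_of_card_ge hle (by rw [hLcard L hL, hLcard _ hLu])).symm
  have hcard𝓛 : 𝓛.card = p + 1 := by
    have h3 := partition_count N₀ 𝓛 h1 h2 (fun _ => True)
    have e1 : Nat.card {u : K // True} = Nat.card K :=
      Nat.card_congr (Equiv.subtypeUnivEquiv (fun _ => trivial))
    have e2 : ∀ L : Subgroup K, Nat.card {u : K // u ∈ L ∧ True} = Nat.card L := fun L =>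
      Nat.card_congr (Equiv.subtypeEquivRight (fun u => iff_of_eq (and_true _)))
    simp only [e2] at h3
    rw [e1, hcardK, Finset.sum_congr rfl hLcard, Finset.sum_const, smul_eq_mul] at h3
    have h4 : (p * p + 𝓛.card) * Nat.card N₀ = (1 + 𝓛.card * p) * Nat.card N₀ := by
      linarith [h3]
    have h5 : p * p + 𝓛.card = 1 + 𝓛.card * p := Nat.eq_of_mul_eq_mul_right hν h4
    have hp2 : 2 ≤ p := hp1.two_le
    zify at h5 ⊢
    have h6 : ((𝓛.card : ℤ) - (p + 1)) * ((p : ℤ) - 1) = 0 := by linarith [h5]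
    rcases mul_eq_zero.mp h6 with h | h
    · linarith
    · exfalso
      have : (p : ℤ) = 1 := by linarith
      omega
  have h3 := partition_count N₀ 𝓛 h1 h2 (fun u => orderOf u = p ^ s)
  rw [hcard𝓛] at h3
  have hε : p ^ (s - 1) ∣ Nat.card {u : K // u ∈ N₀ ∧ orderOf u = p ^ s} := by
    rw [card_subgroup_orderOf]
    refine dvd_trans ?_ (totient_dvd_card_orderOf (X := ↥N₀) (p ^ s) (pow_pos hp1.pos _))
    rw [Nat.totient_prime_pow hp1 (by omega : 0 < s)]
    exact dvd_mul_right _ _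
  have hsum : p ^ s ∣ ∑ L ∈ 𝓛, Nat.card {u : K // u ∈ L ∧ orderOf u = p ^ s} := by
    apply Finset.dvd_sum
    intro L hL
    rw [card_subgroup_orderOf]
    have hLidx : L.index = p := by
      have h4 := Subgroup.card_mul_index L
      rw [hLcard L hL, hcardK] at h4
      have : p * Nat.card N₀ * L.index = p * Nat.card N₀ * p := by rw [h4]; ring
      exact Nat.eq_of_mul_eq_mul_left (Nat.mul_pos hp1.pos hν) this
    have hLnc : ¬ IsCyclic L := hA L hLidx
    have hlt : Nat.card L < N := by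
      rw [← hN, hLcard L hL, hcardK]
      have h5 := Nat.mul_pos hp1.pos hν
      nlinarith [hp1.two_le]
    exact ih (Nat.card L) hlt (hK.to_subgroup L) hLnc rfl
  obtain ⟨e1, he1⟩ := hε
  have hpe : p ^ s ∣ p * Nat.card {u : K // u ∈ N₀ ∧ orderOf u = p ^ s} := by
    rw [he1, ← mul_assoc, ← pow_succ', Nat.sub_add_cancel (by omega : 1 ≤ s)]
    exact dvd_mul_right _ _
  have h4 : Nat.card {u : K // orderOf u = p ^ s} +
      p * Nat.card {u : K // u ∈ N₀ ∧ orderOf u = p ^ s} =
      ∑ L ∈ 𝓛, Nat.card {u : K // u ∈ L ∧ orderOf u = p ^ s} := by linarith [h3]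
  have h5 : p ^ s ∣ Nat.card {u : K // orderOf u = p ^ s} +
      p * Nat.card {u : K // u ∈ N₀ ∧ orderOf u = p ^ s} := h4 ▸ hsum
  exact (Nat.dvd_add_iff_left hpe).mpr h5

/-- **Miller's theorem**: in a noncyclic `p`-group, `p` odd, the number of elements of order
`p ^ s`, `s ≥ 2`, is divisible by `p ^ s`. -/
theorem miller {K : Type u} [Group K] [Finite K] (hK : IsPGroup p K) (hodd : p ≠ 2)
    (hnc : ¬ IsCyclic K) (s : ℕ) (hs : 2 ≤ s) :
    p ^ s ∣ Nat.card {g : K // orderOf g = p ^ s} :=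
  miller_aux hodd s hs (Nat.card K) hK hnc rfl

end miller

end Cfsg.Agent.Lib.Helper22.Miller
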