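import Mathlib
import Cfsg.Agent.Lib.Helper22.MillerA

/-!
# Miller's theorem, part B: normalizer of a transitive `C_p` in `Sym(p)` is metabelian;
orbits of `p`-groups moving fewer than `p²` points.
-/

set_option autoImplicit false

namespace Cfsg.Agent.Lib.Helper22.MillerT

open Equiv Equiv.Perm MulAction
open scoped commutatorElement

/-- In `Sym(β)` with `|β| = p`, the normalizer of a transitive `p`-subgroup is metabelian. -/
theorem normalizer_metabelian {β : Type*} [Fintype β] [DecidableEq β] (p : ℕ) [hp : Fact p.Prime]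
    (hβ : Fintype.card β = p) (Q : Subgroup (Perm β)) (hQ : IsPGroup p Q)
    (htr : ∀ a b : β, ∃ y ∈ Q, y a = b)
    (a b c d : Perm β)
    (ha : a ∈ Subgroup.normalizer (Q : Set (Perm β)))
    (hb : b ∈ Subgroup.normalizer (Q : Set (Perm β)))
    (hc : c ∈ Subgroup.normalizer (Q : Set (Perm β)))
    (hd : d ∈ Subgroup.normalizer (Q : Set (Perm β))) :
    ⁅⁅a, b⁆, ⁅c, d⁆⁆ = 1 := by
  classical
  have hp2 : 2 ≤ p := hp.out.two_le
  -- card Q = p
  obtain ⟨j, hj⟩ := IsPGroup.iff_card.mp hQ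
  have hdvd : Nat.card Q ∣ (p).factorial := by
    have h1 := Subgroup.card_subgroup_dvd_card Q
    rw [Nat.card_perm, Nat.card_eq_fintype_card (α := β), hβ] at h1
    exact h1
  have hj1 : j ≤ 1 := by
    by_contra hcon
    push Not at hcon
    have h2 : p ^ 2 ∣ p.factorial := by
      refine dvd_trans ?_ hdvd
      rw [hj]
      exact pow_dvd_pow p hcon
    have h3 : p.factorial = p * (p - 1).factorial := by
      have : p = (p - 1) + 1 := by omega
      conv_lhs => rw [this]
      rw [Nat.factorial_succ]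
      congr 1
      omega
    rw [h3, pow_two] at h2
    have h4 : p ∣ (p - 1).factorial := Nat.dvd_of_mul_dvd_mul_left (by omega) h2
    have h5 := (hp.out.dvd_factorial).mp h4
    omega
  have hβ2 : 2 ≤ Fintype.card β := by omega
  obtain ⟨o, o', hoo'⟩ : ∃ o o' : β, o ≠ o' := by
    have : Nontrivial β := Fintype.one_lt_card_iff_nontrivial.mp (by omega)
    exact exists_pair_ne β
  have hj0 : j ≠ 0 := by
    intro h0
    rw [h0, pow_zero] at hj
    obtain ⟨y, hy, hyo⟩ := htr o o'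
    have : Subsingleton Q := (Nat.card_eq_one_iff_unique.mp hj).1
    have h1 : (⟨y, hy⟩ : Q) = 1 := Subsingleton.elim _ _
    have h2 : y = 1 := by simpa using congrArg Subtype.val h1
    rw [h2] at hyo
    exact hoo' hyo
  have hcard : Nat.card Q = p := by
    have : j = 1 := by omega
    rw [hj, this, pow_one]
  haveI : IsCyclic Q := isCyclic_of_prime_card hcard
  -- Aut(Q) is commutative
  have hautcomm : ∀ φ₁ φ₂ : MulAut Q, φ₁ * φ₂ = φ₂ * φ₁ := by
    intro φ₁ φ₂
    apply (IsCyclic.mulAutMulEquiv Q).injective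
    rw [map_mul, map_mul, mul_comm]
  -- commutators of normalizer elements centralize Q
  have hcent : ∀ u v : Perm β, u ∈ Subgroup.normalizer (Q : Set (Perm β)) →
      v ∈ Subgroup.normalizer (Q : Set (Perm β)) → ⁅u, v⁆ ∈ Subgroup.centralizer (Q : Set (Perm β)) := by
    intro u v hu hv
    have h1 : Q.normalizerMonoidHom ⁅(⟨u, hu⟩ : Subgroup.normalizer (Q : Set (Perm β))), ⟨v, hv⟩⁆ = 1 := by
      rw [map_commutatorElement, commutatorElement_eq_one_iff_commute]
      exact hautcomm _ _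
    have h2 : ⁅(⟨u, hu⟩ : Subgroup.normalizer (Q : Set (Perm β))), ⟨v, hv⟩⁆ ∈
        Q.normalizerMonoidHom.ker := h1
    rw [Subgroup.normalizerMonoidHom_ker, Subgroup.mem_subgroupOf] at h2
    exact h2
  -- the centralizer of Q is commutative
  have hcomm : ∀ u v : Perm β, u ∈ Subgroup.centralizer (Q : Set (Perm β)) →
      v ∈ Subgroup.centralizer (Q : Set (Perm β)) → u * v = v * u := by
    intro u v hu hv
    rw [Subgroup.mem_centralizer_iff] at hu hv
    have hQcomm : ∀ y₁ y₂ : Perm β, y₁ ∈ Q → y₂ ∈ Q → y₁ * y₂ = y₂ * y₁ := by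
      intro y₁ y₂ h1 h2
      letI := IsCyclic.commGroup (α := Q)
      have := mul_comm (⟨y₁, h1⟩ : Q) ⟨y₂, h2⟩
      exact congrArg Subtype.val this
    obtain ⟨yu, hyu, hyuo⟩ := htr o (u o)
    obtain ⟨yv, hyv, hyvo⟩ := htr o (v o)
    have huy : ∀ y ∈ Q, ∀ x, u (y x) = y (u x) := by
      intro y hy x
      have := hu y hy
      have h1 := congrArg (fun f => f x) this
      simpa [Perm.mul_apply] using h1.symm
    have hvy : ∀ y ∈ Q, ∀ x, v (y x) = y (v x) := by
      intro y hy x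
      have := hv y hy
      have h1 := congrArg (fun f => f x) this
      simpa [Perm.mul_apply] using h1.symm
    have hbase : u (v o) = v (u o) := by
      rw [← hyvo, ← hyuo, huy yv hyv, hvy yu hyu, ← hyuo, ← hyvo]
      have := hQcomm yv yu hyv hyu
      have h1 := congrArg (fun f => f o) this
      simpa [Perm.mul_apply] using h1
    ext x
    obtain ⟨y, hy, hyx⟩ := htr o x
    simp only [Perm.mul_apply]
    rw [← hyx, hvy y hy, huy y hy, huy y hy, hvy y hy, hbase]
  rw [commutatorElement_eq_one_iff_commute]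
  exact hcomm _ _ (hcent a b ha hb) (hcent c d hc hd)

variable {α : Type*} [Fintype α] [DecidableEq α]

/-- A `p`-group of permutations fixing a set `F` pointwise, with `|α| - |F| < p²`, has all orbits
of size `1` or `p`. -/
theorem orbit_card_of_pgroup (p : ℕ) [hp : Fact p.Prime] (Q : Subgroup (Perm α))
    (hQ : IsPGroup p Q) (F : Finset α) (hF : ∀ y ∈ Q, ∀ a ∈ F, y a = a)
    (hcard : Fintype.card α < F.card + p ^ 2) (a : α) :
    (∀ y ∈ Q, y a = a) ∨ Nat.card (MulAction.orbit Q a) = p := by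
  classical
  obtain ⟨n, hn⟩ := hQ.card_orbit a
  rcases Nat.lt_or_ge n 2 with h | h
  · interval_cases n
    · left
      intro y hy
      rw [pow_zero] at hn
      have hsub : Subsingleton (MulAction.orbit Q a) := (Nat.card_eq_one_iff_unique.mp hn).1
      have h1 : (⟨(⟨y, hy⟩ : Q) • a, MulAction.mem_orbit a _⟩ : MulAction.orbit Q a) =
          ⟨a, MulAction.mem_orbit_self a⟩ := Subsingleton.elim _ _
      have h2 := congrArg Subtype.val h1
      exact h2
    · right
      rw [hn, pow_one]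
  · exfalso
    -- orbit disjoint from F
    have hdisj : Disjoint (MulAction.orbit Q a).toFinset F := by
      rw [Finset.disjoint_left]
      intro b hb hbF
      rw [Set.mem_toFinset] at hb
      obtain ⟨⟨y, hy⟩, rfl⟩ := hb
      have hfix : ∀ z ∈ Q, z a = a := by
        intro z hz
        have h1 : (y * z * y⁻¹) (y a) = y a :=
          hF _ (Q.mul_mem (Q.mul_mem hy hz) (Q.inv_mem hy)) _ hbF
        simp only [Perm.mul_apply, Equiv.Perm.coe_inv, Equiv.symm_apply_apply] at h1
        exact y.injective h1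
      have hone : Nat.card (MulAction.orbit Q a) = 1 := by
        rw [Nat.card_eq_one_iff_unique]
        refine ⟨⟨?_⟩, ⟨⟨a, MulAction.mem_orbit_self a⟩⟩⟩
        rintro ⟨x, ⟨⟨z, hz⟩, rfl⟩⟩ ⟨x', ⟨⟨z', hz'⟩, rfl⟩⟩
        apply Subtype.ext
        show z a = z' a
        rw [hfix z hz, hfix z' hz']
      rw [hone] at hn
      have : 1 < p ^ n := Nat.one_lt_pow (by omega) hp.out.one_lt
      omega
    have h1 : (MulAction.orbit Q a).toFinset.card + F.card ≤ Fintype.card α := by
      rw [← Finset.card_union_of_disjoint hdisj]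
      exact Finset.card_le_univ _
    have h2 : (MulAction.orbit Q a).toFinset.card = p ^ n := by
      rw [← hn, Set.toFinset_card, Nat.card_eq_fintype_card]
    have h3 : p ^ 2 ≤ p ^ n := Nat.pow_le_pow_right hp.out.pos h
    omega

/-- The setwise stabilizer of a set, in elementwise form. -/
def stabSet (O : Set α) : Subgroup (Perm α) where
  carrier := {g | ∀ x, g x ∈ O ↔ x ∈ O}
  one_mem' := fun x => Iff.rfl
  mul_mem' := by
    intro g h hg hh x
    rw [Perm.mul_apply, hg, hh]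
  inv_mem' := by
    intro g hg x
    rw [← hg (g⁻¹ x)]
    simp

theorem mem_stabSet (O : Set α) (g : Perm α) : g ∈ stabSet O ↔ ∀ x, g x ∈ O ↔ x ∈ O := Iff.rfl

/-- Double commutators of elements normalizing a `p`-group `Q` and preserving a `Q`-orbit of
size `p` fix that orbit pointwise. -/
theorem double_comm_fix_orbit (p : ℕ) [hp : Fact p.Prime] (Q : Subgroup (Perm α))
    (hQ : IsPGroup p Q) (a₀ : α) (hO : Nat.card (MulAction.orbit Q a₀) = p)
    (g₁ g₂ g₃ g₄ : Perm α)
    (h₁ : g₁ ∈ Subgroup.normalizer (Q : Set (Perm α)))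
    (h₂ : g₂ ∈ Subgroup.normalizer (Q : Set (Perm α)))
    (h₃ : g₃ ∈ Subgroup.normalizer (Q : Set (Perm α)))
    (h₄ : g₄ ∈ Subgroup.normalizer (Q : Set (Perm α)))
    (k₁ : g₁ ∈ stabSet (MulAction.orbit Q a₀))
    (k₂ : g₂ ∈ stabSet (MulAction.orbit Q a₀))
    (k₃ : g₃ ∈ stabSet (MulAction.orbit Q a₀))
    (k₄ : g₄ ∈ stabSet (MulAction.orbit Q a₀)) :
    ∀ x ∈ MulAction.orbit Q a₀, ⁅⁅g₁, g₂⁆, ⁅g₃, g₄⁆⁆ x = x := by
  classical
  set O : Set α := MulAction.orbit Q a₀ with hOdef
  set KO : Subgroup (Perm α) := Subgroup.normalizer (Q : Set (Perm α)) ⊓ stabSet O with hKO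
  have hKOs : ∀ g ∈ KO, ∀ a, g a ∈ O ↔ a ∈ O := fun g hg => hg.2
  let res := resHom KO O hKOs
  have horb_iff : ∀ (y : Perm α) (hy : y ∈ Q) (x : α), y x ∈ O ↔ x ∈ O := by
    intro y hy x
    have h1 : y x = (⟨y, hy⟩ : Q) • x := rfl
    rw [hOdef, h1, ← MulAction.orbit_eq_iff, ← MulAction.orbit_eq_iff (a := x),
      MulAction.orbit_smul]
  have hQKO : Q ≤ KO := by
    intro y hy
    exact ⟨Subgroup.le_normalizer hy, horb_iff y hy⟩
  set Q' : Subgroup (Perm O) := (Q.subgroupOf KO).map res with hQ'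
  have hQ'p : IsPGroup p Q' := (hQ.comap_subtype).map res
  have hcardO : Fintype.card O = p := by
    rw [← Nat.card_eq_fintype_card]
    exact hO
  have htr : ∀ a b : O, ∃ y ∈ Q', y a = b := by
    rintro ⟨a, ha⟩ ⟨b, hb⟩
    have hab : b ∈ MulAction.orbit Q a := by
      have h1 : MulAction.orbit Q a = MulAction.orbit Q a₀ := MulAction.orbit_eq_iff.mpr ha
      rw [h1]
      exact hb
    obtain ⟨⟨y, hy⟩, hyb⟩ := hab
    refine ⟨res ⟨y, hQKO hy⟩, ?_, ?_⟩
    · exact Subgroup.mem_map.mpr ⟨⟨y, hQKO hy⟩, by simpa [Subgroup.mem_subgroupOf] using hy, rfl⟩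
    · apply Subtype.ext
      exact hyb
  have hnorm : ∀ (g : Perm α) (hg : g ∈ KO), res ⟨g, hg⟩ ∈ Subgroup.normalizer (Q' : Set (Perm O)) := by
    intro g hg
    haveI : (Q.subgroupOf KO).Normal :=
      Subgroup.normal_subgroupOf_of_le_normalizer (inf_le_left)
    have h1 : (⟨g, hg⟩ : KO) ∈ Subgroup.normalizer ((Q.subgroupOf KO : Subgroup KO) : Set KO) := by
      rw [Subgroup.normalizer_eq_top]
      trivial
    exact Subgroup.le_normalizer_map res (Subgroup.mem_map.mpr ⟨_, h1, rfl⟩)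
  have hg₁ : g₁ ∈ KO := ⟨h₁, k₁⟩
  have hg₂ : g₂ ∈ KO := ⟨h₂, k₂⟩
  have hg₃ : g₃ ∈ KO := ⟨h₃, k₃⟩
  have hg₄ : g₄ ∈ KO := ⟨h₄, k₄⟩
  have hmain := normalizer_metabelian p hcardO Q' hQ'p htr _ _ _ _
    (hnorm g₁ hg₁) (hnorm g₂ hg₂) (hnorm g₃ hg₃) (hnorm g₄ hg₄)
  rw [← map_commutatorElement, ← map_commutatorElement, ← map_commutatorElement] at hmain
  intro x hx
  have h1 := congrArg (fun f : Perm O => ((f ⟨x, hx⟩ : O) : α)) hmain
  exact h1

end Cfsg.Agent.Lib.Helper22.MillerT
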