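import Mathlib
import Cfsg.Agent.Lib.Helper22.MillerB

/-!
# Miller's theorem, part C: an alternating section with a "metabelian outside" kernel of small index
yields an element of small support.
-/

set_option autoImplicit false

namespace Cfsg.Agent.Lib.Helper22.MillerT

open Equiv Equiv.Perm MulAction
open scoped commutatorElement

def u5₁ : Perm (Fin 5) := swap 0 1 * swap 1 2
def u5₂ : Perm (Fin 5) := swap 0 3 * swap 3 4
def u5₃ : Perm (Fin 5) := swap 0 1 * swap 1 4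
def u5₄ : Perm (Fin 5) := swap 2 3 * swap 3 4

set_option maxRecDepth 100000 in
theorem u5_ne_one : ⁅⁅u5₁, u5₂⁆, ⁅u5₃, u5₄⁆⁆ ≠ 1 := by decide

set_option maxRecDepth 100000 in
theorem u5_fix : ∀ i : Fin 5, ⁅⁅u5₁, u5₂⁆, ⁅u5₃, u5₄⁆⁆ i ≠ i → i ∈ ({0, 1, 2} : Finset (Fin 5)) := by
  decide

theorem u5_sign : Perm.sign u5₁ = 1 ∧ Perm.sign u5₂ = 1 ∧ Perm.sign u5₃ = 1 ∧ Perm.sign u5₄ = 1 := by
  decide

theorem exists_small_support_of_alt {α : Type*} [Fintype α] [DecidableEq α]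
    (N : Subgroup (Perm α)) (Φ : Set α) [Fintype Φ] [DecidableEq Φ]
    (hNΦ : ∀ g ∈ N, ∀ a, g a ∈ Φ ↔ a ∈ Φ)
    (hAlt : alternatingGroup Φ ≤ (resHom N Φ hNΦ).range) (h5 : 5 ≤ Fintype.card Φ)
    (B : Subgroup N) [hBn : B.Normal] (hidx : 2 * B.index < (Fintype.card Φ).factorial)
    (hB : ∀ g₁ g₂ g₃ g₄ : N, g₁ ∈ B → g₂ ∈ B → g₃ ∈ B → g₄ ∈ B →
      ∀ a, a ∉ Φ → ((⁅⁅g₁, g₂⁆, ⁅g₃, g₄⁆⁆ : N) : Perm α) a = a) :
    ∃ g ∈ N, g ≠ 1 ∧ g.support.card ≤ 3 := by
  classical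
  set ρ := resHom N Φ hNΦ with hρ
  set A := alternatingGroup Φ with hA
  have hcard5 : 5 ≤ Nat.card Φ := by rwa [Nat.card_eq_fintype_card]
  haveI : IsSimpleGroup A := alternatingGroup.isSimpleGroup hcard5
  haveI : Nontrivial Φ := Fintype.one_lt_card_iff_nontrivial.mp (by omega)
  -- Step 1
  have step1 : ∀ σ ∈ A, ∃ g ∈ B, ρ g = σ := by
    let A' : Subgroup N := A.comap ρ
    let ψ : A' →* A := ρ.subgroupComap A
    have hψ : Function.Surjective ψ := by
      rintro ⟨σ, hσ⟩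
      obtain ⟨g, hg⟩ := hAlt hσ
      refine ⟨⟨g, ?_⟩, ?_⟩
      · show ρ g ∈ A
        rw [hg]; exact hσ
      · apply Subtype.ext; exact hg
    let M : Subgroup A' := B.subgroupOf A'
    haveI hMn : M.Normal := hBn.subgroupOf A'
    have hD : (M.map ψ).Normal := Subgroup.Normal.map hMn ψ hψ
    rcases hD.eq_bot_or_eq_top with h | h
    · exfalso
      have h1 : M ≤ ψ.ker := (Subgroup.map_eq_bot_iff M).mp h
      have h2 : ψ.ker.index ∣ M.index := Subgroup.index_dvd_of_le h1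
      have h3 : ψ.ker.index = Nat.card A := by
        rw [Subgroup.index_ker, MonoidHom.range_eq_top.mpr hψ]
        exact Subgroup.card_top
      have h4 : M.index ∣ B.index := Subgroup.relIndex_dvd_index_of_normal B A'
      have h5 : Nat.card A ≤ B.index := by
        apply Nat.le_of_dvd (Nat.pos_of_ne_zero Subgroup.index_ne_zero_of_finite)
        rw [← h3]
        exact h2.trans h4
      have h6 : 2 * Nat.card A = (Fintype.card Φ).factorial := by
        rw [two_mul_nat_card_alternatingGroup, Nat.card_perm, Nat.card_eq_fintype_card]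
      omega
    · intro σ hσ
      have : (⟨σ, hσ⟩ : A) ∈ M.map ψ := by rw [h]; trivial
      obtain ⟨g', hg'M, hg'⟩ := Subgroup.mem_map.mp this
      exact ⟨(g' : N), hg'M, congrArg Subtype.val hg'⟩
  -- Step 2
  obtain ⟨ι⟩ : Nonempty (Fin 5 ↪ Φ) :=
    Function.Embedding.nonempty_of_card_le (by simpa using h5)
  have hτ1 := u5_ne_one
  have hτfix := u5_fix
  have hsign : ∀ u : Perm (Fin 5), Perm.sign (viaEmbeddingHom ι u) = Perm.sign u := by
    intro u
    rw [viaEmbeddingHom_apply]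
    unfold viaEmbedding
    rw [sign_extendDomain]
  have hu₁ : viaEmbeddingHom ι u5₁ ∈ A := by
    rw [hA, mem_alternatingGroup, hsign]; exact u5_sign.1
  have hu₂ : viaEmbeddingHom ι u5₂ ∈ A := by
    rw [hA, mem_alternatingGroup, hsign]; exact u5_sign.2.1
  have hu₃ : viaEmbeddingHom ι u5₃ ∈ A := by
    rw [hA, mem_alternatingGroup, hsign]; exact u5_sign.2.2.1
  have hu₄ : viaEmbeddingHom ι u5₄ ∈ A := by
    rw [hA, mem_alternatingGroup, hsign]; exact u5_sign.2.2.2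
  obtain ⟨g₁, hg₁, hρ₁⟩ := step1 _ hu₁
  obtain ⟨g₂, hg₂, hρ₂⟩ := step1 _ hu₂
  obtain ⟨g₃, hg₃, hρ₃⟩ := step1 _ hu₃
  obtain ⟨g₄, hg₄, hρ₄⟩ := step1 _ hu₄
  set c : N := ⁅⁅g₁, g₂⁆, ⁅g₃, g₄⁆⁆ with hc
  have hρc : ρ c = viaEmbeddingHom ι ⁅⁅u5₁, u5₂⁆, ⁅u5₃, u5₄⁆⁆ := by
    rw [hc, map_commutatorElement, map_commutatorElement, map_commutatorElement,
      map_commutatorElement, map_commutatorElement, map_commutatorElement, hρ₁, hρ₂, hρ₃, hρ₄]
  have hρc1 : ρ c ≠ 1 := by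
    rw [hρc]
    intro h
    apply hτ1
    apply viaEmbeddingHom_injective ι
    rw [h, map_one]
  refine ⟨(c : Perm α), c.2, ?_, ?_⟩
  · intro h
    apply hρc1
    have : c = 1 := Subtype.ext h
    rw [this, map_one]
  · have hsub : (c : Perm α).support ⊆
        (({0, 1, 2} : Finset (Fin 5)).image (fun i => ((ι i : Φ) : α))) := by
      intro a ha
      rw [Perm.mem_support] at ha
      have haΦ : a ∈ Φ := by
        by_contra hcon
        exact ha (hB g₁ g₂ g₃ g₄ hg₁ hg₂ hg₃ hg₄ a hcon)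
      have h1 : ((ρ c ⟨a, haΦ⟩ : Φ) : α) = (c : Perm α) a := rfl
      have h2 : ρ c ⟨a, haΦ⟩ ≠ ⟨a, haΦ⟩ := by
        intro h
        apply ha
        rw [← h1, h]
      rw [hρc, viaEmbeddingHom_apply] at h2
      by_cases hr : (⟨a, haΦ⟩ : Φ) ∈ Set.range ι
      · obtain ⟨i, hi⟩ := hr
        rw [← hi, viaEmbedding_apply] at h2
        have h3 : ⁅⁅u5₁, u5₂⁆, ⁅u5₃, u5₄⁆⁆ i ≠ i := fun h => h2 (by rw [h])
        rw [Finset.mem_image]
        exact ⟨i, hτfix i h3, by rw [hi]⟩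
      · exact absurd (viaEmbedding_apply_of_notMem _ ι _ hr) h2
    calc (c : Perm α).support.card ≤ _ := Finset.card_le_card hsub
      _ ≤ ({0, 1, 2} : Finset (Fin 5)).card := Finset.card_image_le
      _ = 3 := by decide

end Cfsg.Agent.Lib.Helper22.MillerT
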