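import Mathlib
import Cfsg.Agent.Lib.Helper22.MillerC

/-!
# Miller's theorem, part D: the action of a normalizer on the nontrivial orbits of a `p`-group.
-/

set_option autoImplicit false

universe u

namespace Cfsg.Agent.Lib.Helper22.MillerT

open Equiv Equiv.Perm MulAction
open scoped commutatorElement Pointwise

variable {α : Type u} [Fintype α] [DecidableEq α]

/-- The set of common fixed points of a permutation group. -/
def fixSet (Q : Subgroup (Perm α)) : Set α := {a | ∀ y ∈ Q, y a = a}

theorem mem_fixSet (Q : Subgroup (Perm α)) (a : α) : a ∈ fixSet Q ↔ ∀ y ∈ Q, y a = a := Iff.rfl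

theorem normalizer_image_orbit (Q : Subgroup (Perm α)) (g : Perm α)
    (hg : g ∈ Subgroup.normalizer (Q : Set (Perm α))) (a : α) :
    g '' (MulAction.orbit Q a) = MulAction.orbit Q (g a) := by
  ext x
  constructor
  · rintro ⟨z, ⟨⟨y, hy⟩, rfl⟩, rfl⟩
    refine ⟨⟨g * y * g⁻¹, (Subgroup.mem_normalizer_iff.mp hg y).mp hy⟩, ?_⟩
    show (g * y * g⁻¹) (g a) = g (y a)
    simp
  · rintro ⟨⟨y, hy⟩, rfl⟩
    refine ⟨(g⁻¹ * y * g) a, ⟨⟨g⁻¹ * y * g, (Subgroup.mem_normalizer_iff''.mp hg y).mp hy⟩, rfl⟩, ?_⟩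
    show g ((g⁻¹ * y * g) a) = y (g a)
    simp

theorem normalizer_fixSet (Q : Subgroup (Perm α)) (g : Perm α)
    (hg : g ∈ Subgroup.normalizer (Q : Set (Perm α))) (a : α) :
    g a ∈ fixSet Q ↔ a ∈ fixSet Q := by
  constructor
  · intro h y hy
    have h1 := h (g * y * g⁻¹) ((Subgroup.mem_normalizer_iff.mp hg y).mp hy)
    simp only [Perm.mul_apply, Equiv.Perm.coe_inv, Equiv.symm_apply_apply] at h1
    exact g.injective h1
  · intro h y hy
    have h1 := h (g⁻¹ * y * g) ((Subgroup.mem_normalizer_iff''.mp hg y).mp hy)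
    simp only [Perm.mul_apply] at h1
    have h2 := congrArg g h1
    simpa using h2

/-- The sub-action of a normalizing group on the set of nontrivial orbits of `Q`. -/
def orbSub (Q N : Subgroup (Perm α)) (hNQ : N ≤ Subgroup.normalizer (Q : Set (Perm α))) :
    SubMulAction N (Set α) where
  carrier := Set.range (fun a : {a // a ∉ fixSet Q} => MulAction.orbit Q a.1)
  smul_mem' := by
    rintro g _ ⟨⟨a, ha⟩, rfl⟩
    refine ⟨⟨(g : Perm α) a, fun h => ha ((normalizer_fixSet Q g (hNQ g.2) a).mp h)⟩, ?_⟩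
    show MulAction.orbit Q ((g : Perm α) a) = g • MulAction.orbit Q a
    rw [← normalizer_image_orbit Q g (hNQ g.2) a]
    rfl

theorem orbit_kernel (p : ℕ) [hp : Fact p.Prime] (Q N : Subgroup (Perm α))
    (hNQ : N ≤ Subgroup.normalizer (Q : Set (Perm α)))
    (horb : ∀ a, a ∈ fixSet Q ∨ Nat.card (MulAction.orbit Q a) = p) (m : ℕ)
    (hm : Fintype.card α = Nat.card (fixSet Q) + m * p) :
    ∃ (T : Type u) (_ : Fintype T) (π : N →* Perm T), Fintype.card T = m ∧
      ∀ g ∈ π.ker, ∀ a, a ∉ fixSet Q → (g : Perm α) ∈ stabSet (MulAction.orbit Q a) := by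
  classical
  let sub := orbSub Q N hNQ
  haveI : Fintype sub := Fintype.ofFinite _
  refine ⟨sub, inferInstance, MulAction.toPermHom N sub, ?_, ?_⟩
  · -- counting
    let U := {a // a ∉ fixSet Q}
    let f : U → sub := fun a => ⟨MulAction.orbit Q a.1, ⟨a, rfl⟩⟩
    have hfib : ∀ t : sub, Fintype.card {a : U // f a = t} = p := by
      rintro ⟨_, ⟨a₀, rfl⟩⟩
      have hO : Nat.card (MulAction.orbit Q a₀.1) = p := (horb a₀.1).resolve_left a₀.2
      rw [← hO, Nat.card_eq_fintype_card]
      apply Fintype.card_congr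
      refine ⟨fun a => ⟨a.1.1, ?_⟩, fun x => ⟨⟨x.1, ?_⟩, ?_⟩, ?_, ?_⟩
      · have h1 := congrArg Subtype.val a.2
        have h2 : MulAction.orbit Q a.1.1 = MulAction.orbit Q a₀.1 := h1
        exact MulAction.orbit_eq_iff.mp h2
      · intro hx
        apply a₀.2
        obtain ⟨⟨y, hy⟩, hyx⟩ := x.2
        have hx1 : x.1 = y a₀.1 := hyx.symm
        intro z hz
        have h3 := hx (y * z * y⁻¹) (Q.mul_mem (Q.mul_mem hy hz) (Q.inv_mem hy))
        rw [hx1] at h3
        simp only [Perm.mul_apply, Equiv.Perm.coe_inv, Equiv.symm_apply_apply] at h3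
        exact y.injective h3
      · apply Subtype.ext
        show MulAction.orbit Q x.1 = MulAction.orbit Q a₀.1
        exact MulAction.orbit_eq_iff.mpr x.2
      · intro a
        rfl
      · intro x
        rfl
    have h1 : Fintype.card U = Fintype.card sub * p := by
      rw [← Fintype.card_congr (Equiv.sigmaFiberEquiv f), Fintype.card_sigma]
      simp only [hfib]
      rw [Finset.sum_const, Finset.card_univ, smul_eq_mul]
    have h2 : Fintype.card U = Fintype.card α - Fintype.card {a // a ∈ fixSet Q} :=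
      Fintype.card_subtype_compl _
    have h3 : Nat.card (fixSet Q) = Fintype.card {a // a ∈ fixSet Q} := by
      rw [Nat.card_eq_fintype_card]
    have h4 : Fintype.card sub * p = m * p := by
      rw [← h1, h2]
      have : Nat.card (fixSet Q) = Fintype.card {a // a ∈ fixSet Q} := h3
      omega
    exact Nat.eq_of_mul_eq_mul_right hp.out.pos h4
  · intro g hg a ha
    have h1 : MulAction.toPermHom N sub g = 1 := hg
    have h2 : g • (⟨MulAction.orbit Q a, ⟨⟨a, ha⟩, rfl⟩⟩ : sub) = ⟨MulAction.orbit Q a, ⟨⟨a, ha⟩, rfl⟩⟩ := by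
      have := congrArg (fun σ : Perm sub => σ ⟨MulAction.orbit Q a, ⟨⟨a, ha⟩, rfl⟩⟩) h1
      simpa using this
    have h3 : (g : Perm α) '' (MulAction.orbit Q a) = MulAction.orbit Q a := by
      have := congrArg Subtype.val h2
      exact this
    intro x
    constructor
    · intro hx
      rw [← h3] at hx
      obtain ⟨x', hx', hxx'⟩ := hx
      rw [← (g : Perm α).injective hxx']
      exact hx'
    · intro hx
      rw [← h3]
      exact ⟨x, hx, rfl⟩

theorem two_mul_factorial_lt (m c : ℕ) (h5 : 5 ≤ c) (hmc : m + 1 ≤ c) :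
    2 * m.factorial < c.factorial := by
  rcases Nat.lt_or_ge m 2 with h | h
  · have h1 : m.factorial = 1 := by
      interval_cases m <;> rfl
    have h2 : (5 : ℕ).factorial ≤ c.factorial := Nat.factorial_le h5
    have h3 : (5 : ℕ).factorial = 120 := rfl
    omega
  · have h1 : (m + 1).factorial ≤ c.factorial := Nat.factorial_le (by omega)
    have h2 : (m + 1).factorial = (m + 1) * m.factorial := Nat.factorial_succ m
    have h3 : 0 < m.factorial := Nat.factorial_pos m
    have h4 : 2 * m.factorial < (m + 1) * m.factorial := by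
      apply Nat.mul_lt_mul_of_pos_right (by omega) h3
    omega

/-- Combination: if the normalizer `N` of a `p`-group `Q`, all of whose nontrivial orbits have
size `p`, induces at least the alternating group on the fixed points of `Q`, then `N` contains
a nontrivial element of support at most 3. -/
theorem exists_small_support_of_alt_fix (p : ℕ) [hp : Fact p.Prime] (Q N : Subgroup (Perm α))
    (hQ : IsPGroup p Q) (hNQ : N ≤ Subgroup.normalizer (Q : Set (Perm α)))
    (horb : ∀ a, a ∈ fixSet Q ∨ Nat.card (MulAction.orbit Q a) = p) (m : ℕ)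
    (hm : Fintype.card α = Nat.card (fixSet Q) + m * p)
    [Fintype (fixSet Q)] [DecidableEq (fixSet Q)]
    (hAlt : alternatingGroup (fixSet Q) ≤
      (resHom N (fixSet Q) (fun g hg a => normalizer_fixSet Q g (hNQ hg) a)).range)
    (h5 : 5 ≤ Fintype.card (fixSet Q)) (hmΦ : m + 1 ≤ Fintype.card (fixSet Q)) :
    ∃ g ∈ N, g ≠ 1 ∧ g.support.card ≤ 3 := by
  classical
  obtain ⟨T, hT, π, hTm, hker⟩ := orbit_kernel p Q N hNQ horb m hm
  have hidx : 2 * π.ker.index < (Fintype.card (fixSet Q)).factorial := by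
    have h1 : π.ker.index ≤ m.factorial := by
      rw [Subgroup.index_ker]
      have h2 : Nat.card π.range ≤ Nat.card (Perm T) :=
        Nat.card_le_card_of_injective _ Subtype.val_injective
      rw [Nat.card_perm, Nat.card_eq_fintype_card (α := T), hTm] at h2
      exact h2
    have h3 := two_mul_factorial_lt m _ h5 hmΦ
    omega
  refine exists_small_support_of_alt N (fixSet Q) _ hAlt h5 π.ker hidx ?_
  intro g₁ g₂ g₃ g₄ hg₁ hg₂ hg₃ hg₄ a ha
  have hO : Nat.card (MulAction.orbit Q a) = p := (horb a).resolve_left ha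
  exact double_comm_fix_orbit p Q hQ a hO g₁ g₂ g₃ g₄ (hNQ g₁.2) (hNQ g₂.2) (hNQ g₃.2) (hNQ g₄.2)
    (hker g₁ hg₁ a ha) (hker g₂ hg₂ a ha) (hker g₃ hg₃ a ha) (hker g₄ hg₄ a ha)
    a (MulAction.mem_orbit_self a)

end Cfsg.Agent.Lib.Helper22.MillerT
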