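import Mathlib
import Cfsg.Agent.Lib.Helper22.MillerD

/-!
# Miller's theorem, part E: Witt's lemma (tuple form) for subgroups of `Perm α`.
-/

set_option autoImplicit false

universe u

namespace Cfsg.Agent.Lib.Helper22.MillerT

open Equiv Equiv.Perm MulAction
open scoped commutatorElement Pointwise

variable {α : Type u} [Fintype α] [DecidableEq α]

/-- The pointwise stabilizer of a finset inside `G`. -/
def fixG (G : Subgroup (Perm α)) (S : Finset α) : Subgroup (Perm α) where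
  carrier := {g | g ∈ G ∧ ∀ s ∈ S, g s = s}
  one_mem' := ⟨G.one_mem, fun _ _ => rfl⟩
  mul_mem' := by
    rintro g h ⟨hg, hg'⟩ ⟨hh, hh'⟩
    refine ⟨G.mul_mem hg hh, fun s hs => ?_⟩
    rw [Perm.mul_apply, hh' s hs, hg' s hs]
  inv_mem' := by
    rintro g ⟨hg, hg'⟩
    refine ⟨G.inv_mem hg, fun s hs => ?_⟩
    rw [Perm.inv_eq_iff_eq, hg' s hs]

theorem mem_fixG (G : Subgroup (Perm α)) (S : Finset α) (g : Perm α) :
    g ∈ fixG G S ↔ g ∈ G ∧ ∀ s ∈ S, g s = s := Iff.rfl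

theorem fixG_le (G : Subgroup (Perm α)) (S : Finset α) : fixG G S ≤ G := fun _ h => h.1

/-- Sylow conjugacy for subgroups of a subgroup `H` of `Perm α`, stated inside `Perm α`. -/
theorem sylow_conj (p : ℕ) [hp : Fact p.Prime] (H : Subgroup (Perm α)) (P : Sylow p H)
    (Q₁ : Subgroup (Perm α)) (hQ₁ : Q₁ ≤ H) (hcard : Nat.card Q₁ = Nat.card P) :
    ∃ h ∈ H, ∀ y, y ∈ Q₁ ↔ h * y * h⁻¹ ∈ (P : Subgroup H).map H.subtype := by
  classical
  have hc1 : Nat.card (Q₁.subgroupOf H) = p ^ (Nat.card H).factorization p := by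
    rw [Nat.card_congr (Subgroup.subgroupOfEquivOfLe hQ₁).toEquiv, hcard, P.card_eq_multiplicity]
  obtain ⟨h, hh⟩ := MulAction.exists_smul_eq H (Sylow.ofCard (Q₁.subgroupOf H) hc1) P
  have hh' : MulAut.conj h • (Q₁.subgroupOf H) = (P : Subgroup H) := by
    have := congrArg (fun S : Sylow p H => (S : Subgroup H)) hh
    simpa [Sylow.coe_subgroup_smul] using this
  refine ⟨h.1, h.2, fun y => ?_⟩
  constructor
  · intro hy
    have h1 : (⟨y, hQ₁ hy⟩ : H) ∈ Q₁.subgroupOf H := by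
      rw [Subgroup.mem_subgroupOf]; exact hy
    have h2 : MulAut.conj h • (⟨y, hQ₁ hy⟩ : H) ∈ MulAut.conj h • (Q₁.subgroupOf H) :=
      Subgroup.smul_mem_pointwise_smul_iff.mpr h1
    rw [hh'] at h2
    refine Subgroup.mem_map.mpr ⟨_, h2, ?_⟩
    simp [MulAut.smul_def]
  · intro hy
    obtain ⟨z, hz, hzy⟩ := Subgroup.mem_map.mp hy
    have hyH : y ∈ H := by
      have h1 : y = (h.1)⁻¹ * (z : Perm α) * h.1 := by
        have : (z : Perm α) = h.1 * y * (h.1)⁻¹ := hzy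
        rw [this]; group
      rw [h1]
      exact H.mul_mem (H.mul_mem (H.inv_mem h.2) z.2) h.2
    have h2 : MulAut.conj h • (⟨y, hyH⟩ : H) ∈ MulAut.conj h • (Q₁.subgroupOf H) := by
      rw [hh']
      have : MulAut.conj h • (⟨y, hyH⟩ : H) = z := by
        apply Subtype.ext
        rw [← show (H.subtype z : Perm α) = (z : Perm α) from rfl, hzy]
        simp [MulAut.smul_def]
      rw [this]; exact hz
    have h3 := Subgroup.smul_mem_pointwise_smul_iff.mp h2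
    rw [Subgroup.mem_subgroupOf] at h3
    exact h3

/-- Witt's lemma in tuple form. -/
theorem witt (p : ℕ) [hp : Fact p.Prime] (G : Subgroup (Perm α)) (t : ℕ) (hG : TT G t)
    (S : Finset α) (hS : S.card = t) (P : Sylow p (fixG G S))
    (Q : Subgroup (Perm α)) (hQdef : Q = (P : Subgroup (fixG G S)).map (fixG G S).subtype)
    (S₁ : Finset α) (φ : α → α) (hS₁ : S₁.card = t) (hφ : Set.InjOn φ (S₁ : Set α))
    (hS₁Φ : ∀ s ∈ S₁, s ∈ fixSet Q) (hφΦ : ∀ s ∈ S₁, φ s ∈ fixSet Q) :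
    ∃ n ∈ G, n ∈ Subgroup.normalizer (Q : Set (Perm α)) ∧ ∀ s ∈ S₁, n s = φ s := by
  classical
  have hQH : Q ≤ fixG G S := by
    rw [hQdef]
    rintro _ ⟨z, _, rfl⟩
    exact z.2
  have hcardQ : Nat.card Q = Nat.card P := by
    rw [hQdef]
    exact Subgroup.card_map_of_injective (Subgroup.subtype_injective _)
  -- Step 1
  have step1 : ∀ ψ : α → α, Set.InjOn ψ (S : Set α) → (∀ s ∈ S, ψ s ∈ fixSet Q) →
      ∃ n ∈ G, n ∈ Subgroup.normalizer (Q : Set (Perm α)) ∧ ∀ s ∈ S, n s = ψ s := by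
    intro ψ hψ hψΦ
    obtain ⟨g₀, hg₀G, hg₀⟩ := hG S ψ hS hψ
    set g := g₀⁻¹ with hg
    have hgG : g ∈ G := G.inv_mem hg₀G
    set Q₁ : Subgroup (Perm α) := Q.map (MulAut.conj g).toMonoidHom with hQ₁
    have hQ₁H : Q₁ ≤ fixG G S := by
      rintro _ ⟨y, hy, rfl⟩
      refine ⟨?_, fun s hs => ?_⟩
      · show g * y * g⁻¹ ∈ G
        exact G.mul_mem (G.mul_mem hgG (hQH hy).1) (G.inv_mem hgG)
      · show (g * y * g⁻¹) s = s
        have h1 : g⁻¹ s = ψ s := by rw [hg, inv_inv]; exact hg₀ s hs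
        have h2 : y (ψ s) = ψ s := hψΦ s hs y hy
        rw [Perm.mul_apply, Perm.mul_apply, h1, h2, ← h1]
        simp
    have hcardQ₁ : Nat.card Q₁ = Nat.card P := by
      rw [← hcardQ, hQ₁]
      exact Subgroup.card_map_of_injective (MulAut.conj g).injective
    obtain ⟨h, hhH, hh⟩ := sylow_conj p (fixG G S) P Q₁ hQ₁H hcardQ₁
    rw [← hQdef] at hh
    have hn' : h * g ∈ Subgroup.normalizer (Q : Set (Perm α)) := by
      rw [Subgroup.mem_normalizer_iff]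
      intro y
      have h1 : y ∈ Q ↔ g * y * g⁻¹ ∈ Q₁ := by
        constructor
        · intro hy
          exact Subgroup.mem_map.mpr ⟨y, hy, rfl⟩
        · rintro ⟨y', hy', hyy'⟩
          have : g * y' * g⁻¹ = g * y * g⁻¹ := hyy'
          have h2 : y' = y := by
            have := congrArg (fun x => g⁻¹ * x * g) this
            simpa [mul_assoc] using this
          rw [← h2]; exact hy'
      rw [h1, hh]
      have : h * (g * y * g⁻¹) * h⁻¹ = h * g * y * (h * g)⁻¹ := by group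
      rw [this]
    refine ⟨(h * g)⁻¹, G.inv_mem (G.mul_mem hhH.1 hgG), Subgroup.inv_mem _ hn', fun s hs => ?_⟩
    have h1 : (h * g)⁻¹ = g₀ * h⁻¹ := by rw [hg]; group
    rw [h1, Perm.mul_apply]
    have h2 : h⁻¹ s = s := by
      rw [Perm.inv_eq_iff_eq]
      exact (hhH.2 s hs).symm
    rw [h2]
    exact hg₀ s hs
  -- Step 2
  let e : S ≃ S₁ := Finset.equivOfCardEq (hS.trans hS₁.symm)
  let b : α → α := fun a => if h : a ∈ S then ((e ⟨a, h⟩ : S₁) : α) else a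
  have hb : ∀ s (hs : s ∈ S), b s = ((e ⟨s, hs⟩ : S₁) : α) := fun s hs => dif_pos hs
  have hbS₁ : ∀ s ∈ S, b s ∈ S₁ := by
    intro s hs
    rw [hb s hs]
    exact (e ⟨s, hs⟩).2
  have hbinj : Set.InjOn b (S : Set α) := by
    intro x hx y hy hxy
    rw [hb x hx, hb y hy] at hxy
    have := e.injective (Subtype.ext hxy)
    exact congrArg Subtype.val this
  obtain ⟨n₁, hn₁G, hn₁N, hn₁⟩ := step1 b hbinj (fun s hs => hS₁Φ _ (hbS₁ s hs))
  have hφbinj : Set.InjOn (fun a => φ (b a)) (S : Set α) := by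
    intro x hx y hy hxy
    exact hbinj hx hy (hφ (hbS₁ x hx) (hbS₁ y hy) hxy)
  obtain ⟨n₂, hn₂G, hn₂N, hn₂⟩ := step1 (fun a => φ (b a)) hφbinj
    (fun s hs => hφΦ _ (hbS₁ s hs))
  refine ⟨n₂ * n₁⁻¹, G.mul_mem hn₂G (G.inv_mem hn₁G),
    Subgroup.mul_mem _ hn₂N (Subgroup.inv_mem _ hn₁N), fun s₁ hs₁ => ?_⟩
  set s : S := e.symm ⟨s₁, hs₁⟩ with hs
  have h1 : b s.1 = s₁ := by
    rw [hb s.1 s.2]
    have : e ⟨s.1, s.2⟩ = ⟨s₁, hs₁⟩ := by
      rw [hs]; simp
    rw [this]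
  have h2 : n₁⁻¹ s₁ = s.1 := by
    rw [Perm.inv_eq_iff_eq, hn₁ s.1 s.2, h1]
  rw [Perm.mul_apply, h2, hn₂ s.1 s.2, h1]

end Cfsg.Agent.Lib.Helper22.MillerT
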