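import Mathlib
import Cfsg.Agent.Lib.Helper22.MillerE

/-!
# Miller's theorem, part F: the small cases `r = 3, 4` with a Sylow subgroup of order `p`.
-/

set_option autoImplicit false

universe u

namespace Cfsg.Agent.Lib.Helper22.MillerT

open Equiv Equiv.Perm MulAction
open scoped commutatorElement Pointwise

theorem comm_mem_centralizer_of_card_prime {G : Type*} [Group G] (Q : Subgroup G) (p : ℕ)
    [hp : Fact p.Prime] (hcard : Nat.card Q = p) (u v : G)
    (hu : u ∈ Subgroup.normalizer (Q : Set G)) (hv : v ∈ Subgroup.normalizer (Q : Set G)) :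
    ⁅u, v⁆ ∈ Subgroup.centralizer (Q : Set G) := by
  haveI : IsCyclic Q := isCyclic_of_prime_card hcard
  have hautcomm : ∀ φ₁ φ₂ : MulAut Q, φ₁ * φ₂ = φ₂ * φ₁ := by
    intro φ₁ φ₂
    apply (IsCyclic.mulAutMulEquiv Q).injective
    rw [map_mul, map_mul, mul_comm]
  have h1 : Q.normalizerMonoidHom ⁅(⟨u, hu⟩ : Subgroup.normalizer (Q : Set G)), ⟨v, hv⟩⁆ = 1 := by
    rw [map_commutatorElement, commutatorElement_eq_one_iff_commute]
    exact hautcomm _ _
  have h2 : ⁅(⟨u, hu⟩ : Subgroup.normalizer (Q : Set G)), ⟨v, hv⟩⁆ ∈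
      Q.normalizerMonoidHom.ker := h1
  rw [Subgroup.normalizerMonoidHom_ker, Subgroup.mem_subgroupOf] at h2
  exact h2

set_option maxRecDepth 100000 in
theorem fin2_comm : ∀ a b : Perm (Fin 2), ⁅a, b⁆ = 1 := by decide

set_option maxRecDepth 100000 in
theorem fin3_alt_comm : ∀ x y : Perm (Fin 3), Perm.sign x = 1 → Perm.sign y = 1 → x * y = y * x := by
  decide

theorem sign_comm_eq_one {T : Type*} [Fintype T] [DecidableEq T] (a b : Perm T) :
    Perm.sign ⁅a, b⁆ = 1 := by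
  rw [map_commutatorElement]
  exact commutatorElement_eq_one_iff_commute.mpr (Commute.all _ _)

theorem fin3_double_comm : ∀ a b c d : Perm (Fin 3), ⁅⁅a, b⁆, ⁅c, d⁆⁆ = 1 := by
  intro a b c d
  rw [commutatorElement_eq_one_iff_commute]
  exact fin3_alt_comm _ _ (sign_comm_eq_one a b) (sign_comm_eq_one c d)

theorem perm_comm_of_card_le_two {T : Type*} [Fintype T] [DecidableEq T]
    (h : Fintype.card T ≤ 2) (a b : Perm T) : ⁅a, b⁆ = 1 := by
  obtain ⟨ι⟩ : Nonempty (T ↪ Fin 2) := Function.Embedding.nonempty_of_card_le (by simpa using h)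
  apply viaEmbeddingHom_injective ι
  rw [map_commutatorElement, map_one]
  exact fin2_comm _ _

theorem perm_double_comm_of_card_le_three {T : Type*} [Fintype T] [DecidableEq T]
    (h : Fintype.card T ≤ 3) (a b c d : Perm T) : ⁅⁅a, b⁆, ⁅c, d⁆⁆ = 1 := by
  obtain ⟨ι⟩ : Nonempty (T ↪ Fin 3) := Function.Embedding.nonempty_of_card_le (by simpa using h)
  apply viaEmbeddingHom_injective ι
  rw [map_commutatorElement, map_commutatorElement, map_commutatorElement, map_one]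
  exact fin3_double_comm _ _ _ _

def t3 : Perm (Fin 3) := ⁅(swap 0 1 : Perm (Fin 3)), (swap 0 2 : Perm (Fin 3))⁆
def t4 : Perm (Fin 4) := ⁅⁅(swap 0 1 : Perm (Fin 4)), (swap 0 2 : Perm (Fin 4))⁆,
  ⁅(swap 0 1 : Perm (Fin 4)), (swap 0 3 : Perm (Fin 4))⁆⁆

set_option maxRecDepth 100000 in
theorem t3_facts' : t3 * t3 * t3 = 1 ∧ t3 ≠ 1 ∧ t3 * t3 ≠ 1 := by decide

set_option maxRecDepth 100000 in
theorem t4_facts' : t4 * t4 = 1 ∧ t4 ≠ 1 := by decide

theorem t3_facts : t3 ^ 3 = 1 ∧ t3 ^ 1 ≠ 1 ∧ t3 ^ 2 ≠ 1 := by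
  refine ⟨?_, ?_, ?_⟩
  · rw [pow_succ, pow_two]; exact t3_facts'.1
  · rw [pow_one]; exact t3_facts'.2.1
  · rw [pow_two]; exact t3_facts'.2.2

theorem t4_facts : t4 ^ 2 = 1 ∧ t4 ^ 1 ≠ 1 := by
  refine ⟨?_, ?_⟩
  · rw [pow_two]; exact t4_facts'.1
  · rw [pow_one]; exact t4_facts'.2

theorem t3_pow_ne_one (p : ℕ) (hp : p.Prime) (hp3 : p ≠ 3) : t3 ^ p ≠ 1 := by
  rw [pow_eq_pow_mod p t3_facts.1]
  have h3 : ¬ 3 ∣ p := by
    intro h
    exact hp3 ((Nat.prime_dvd_prime_iff_eq Nat.prime_three hp).mp h).symm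
  have h4 : p % 3 = 1 ∨ p % 3 = 2 := by omega
  rcases h4 with h | h <;> rw [h]
  · exact t3_facts.2.1
  · exact t3_facts.2.2

theorem t4_pow_ne_one (p : ℕ) (hp : p.Prime) (hp2 : p ≠ 2) : t4 ^ p ≠ 1 := by
  rw [pow_eq_pow_mod p t4_facts.1]
  have h4 : p % 2 = 1 := by
    rcases hp.eq_two_or_odd with h | h
    · exact absurd h hp2
    · exact h
  rw [h4]
  exact t4_facts.2

variable {α : Type u} [Fintype α] [DecidableEq α]

theorem pow_fix_of_centralizer (p : ℕ) (Q : Subgroup (Perm α)) (hcard : Nat.card Q = p)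
    (c : Perm α) (hc : c ∈ Subgroup.centralizer (Q : Set (Perm α))) (a : α)
    (hstab : c ∈ stabSet (MulAction.orbit Q a)) : (c ^ p) a = a := by
  have h1 : c a ∈ MulAction.orbit Q a := (hstab a).mpr (MulAction.mem_orbit_self a)
  obtain ⟨⟨y, hy⟩, hya⟩ := h1
  have hya' : y a = c a := hya
  have hcomm : ∀ j : ℕ, ∀ x, c ((y ^ j) x) = (y ^ j) (c x) := by
    intro j x
    have h2 := Subgroup.mem_centralizer_iff.mp hc (y ^ j) (Q.pow_mem hy j)
    have h3 := congrArg (fun f : Perm α => f x) h2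
    simpa [Perm.mul_apply] using h3.symm
  have hpow : ∀ j : ℕ, (c ^ j) a = (y ^ j) a := by
    intro j
    induction j with
    | zero => simp
    | succ j ih =>
      rw [pow_succ', Perm.mul_apply, ih, hcomm, ← hya', ← Perm.mul_apply, ← pow_succ]
  rw [hpow p]
  have h4 : (⟨y, hy⟩ : Q) ^ Nat.card Q = 1 := pow_card_eq_one'
  have h5 : y ^ p = 1 := by
    rw [hcard] at h4
    exact congrArg Subtype.val h4
  rw [h5]
  rfl

/-- The small cases. -/
theorem small_case (p : ℕ) [hp : Fact p.Prime] (Q N : Subgroup (Perm α))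
    (hcardQ : Nat.card Q = p) (hNQ : N ≤ Subgroup.normalizer (Q : Set (Perm α)))
    (horb : ∀ a, a ∈ fixSet Q ∨ Nat.card (MulAction.orbit Q a) = p) (k : ℕ)
    (hm : Fintype.card α = Nat.card (fixSet Q) + k * p)
    [Fintype (fixSet Q)] [DecidableEq (fixSet Q)]
    (hsurj : Function.Surjective
      (resHom N (fixSet Q) (fun g hg a => normalizer_fixSet Q g (hNQ hg) a)))
    (hcase : (3 ≤ Fintype.card (fixSet Q) ∧ k ≤ 2 ∧ p ≠ 3) ∨
      (4 ≤ Fintype.card (fixSet Q) ∧ k ≤ 3 ∧ p ≠ 2)) :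
    ∃ g ∈ N, g ≠ 1 ∧ ∀ a, a ∉ fixSet Q → g a = a := by
  classical
  obtain ⟨T, hT, π, hTk, hker⟩ := orbit_kernel p Q N hNQ horb k hm
  set ρ := resHom N (fixSet Q) (fun g hg a => normalizer_fixSet Q g (hNQ hg) a) with hρ
  -- general conclusion from a suitable element `c`
  have key : ∀ c : N, π c = 1 → (c : Perm α) ∈ Subgroup.centralizer (Q : Set (Perm α)) →
      (ρ c) ^ p ≠ 1 → ∃ g ∈ N, g ≠ 1 ∧ ∀ a, a ∉ fixSet Q → g a = a := by
    intro c hπ hcent hne
    refine ⟨((c ^ p : N) : Perm α), (c ^ p).2, ?_, ?_⟩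
    · intro h
      apply hne
      have : c ^ p = 1 := Subtype.ext h
      rw [← map_pow, this, map_one]
    · intro a ha
      have h1 : ((c ^ p : N) : Perm α) = (c : Perm α) ^ p := by simp
      rw [h1]
      exact pow_fix_of_centralizer p Q hcardQ _ hcent a (hker c hπ a ha)
  rcases hcase with ⟨h3, hk, hp3⟩ | ⟨h4, hk, hp2⟩
  · obtain ⟨ι⟩ : Nonempty (Fin 3 ↪ fixSet Q) :=
      Function.Embedding.nonempty_of_card_le (by simpa using h3)
    obtain ⟨g₁, hg₁⟩ := hsurj (viaEmbeddingHom ι (swap 0 1))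
    obtain ⟨g₂, hg₂⟩ := hsurj (viaEmbeddingHom ι (swap 0 2))
    apply key ⁅g₁, g₂⁆
    · rw [map_commutatorElement]
      exact perm_comm_of_card_le_two (by omega) _ _
    · exact comm_mem_centralizer_of_card_prime Q p hcardQ _ _ (hNQ g₁.2) (hNQ g₂.2)
    · rw [map_commutatorElement, hg₁, hg₂, ← map_commutatorElement, ← map_pow]
      intro h
      apply t3_pow_ne_one p hp.out hp3
      apply viaEmbeddingHom_injective ι
      rw [map_one]
      exact h
  · obtain ⟨ι⟩ : Nonempty (Fin 4 ↪ fixSet Q) :=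
      Function.Embedding.nonempty_of_card_le (by simpa using h4)
    obtain ⟨g₁, hg₁⟩ := hsurj (viaEmbeddingHom ι (swap 0 1))
    obtain ⟨g₂, hg₂⟩ := hsurj (viaEmbeddingHom ι (swap 0 2))
    obtain ⟨g₃, hg₃⟩ := hsurj (viaEmbeddingHom ι (swap 0 3))
    apply key ⁅⁅g₁, g₂⁆, ⁅g₁, g₃⁆⁆
    · rw [map_commutatorElement, map_commutatorElement, map_commutatorElement]
      exact perm_double_comm_of_card_le_three (by omega) _ _ _ _
    · have hn : ∀ g g' : N, ((⁅g, g'⁆ : N) : Perm α) ∈ Subgroup.normalizer (Q : Set (Perm α)) :=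
        fun g g' => hNQ (⁅g, g'⁆ : N).2
      exact comm_mem_centralizer_of_card_prime Q p hcardQ _ _ (hn g₁ g₂) (hn g₁ g₃)
    · rw [map_commutatorElement, map_commutatorElement, map_commutatorElement, hg₁, hg₂, hg₃,
        ← map_commutatorElement, ← map_commutatorElement, ← map_commutatorElement, ← map_pow]
      intro h
      apply t4_pow_ne_one p hp.out hp2
      apply viaEmbeddingHom_injective ι
      rw [map_one]
      exact h

end Cfsg.Agent.Lib.Helper22.MillerT
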