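import Mathlib
import Cfsg.Agent.Lib.Helper22.MillerF

/-!
# Miller's theorem, part G: the exceptional case, a 4-transitive group of degree 9.
-/

set_option autoImplicit false

universe u

namespace Cfsg.Agent.Lib.Helper22.MillerT

open Equiv Equiv.Perm MulAction
open scoped commutatorElement Pointwise

variable {α : Type u} [Fintype α] [DecidableEq α]

theorem imp_five_of_five_cycle (G : Subgroup (Perm α)) (h9 : Fintype.card α = 9)
    (hG : IsPreprimitive G α) (g : Perm α) (hg : g ∈ G) (hgc : g.IsCycle)
    (h5 : g.support.card = 5) : IsMultiplyPretransitive G α 5 := by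
  classical
  have hcard : Nat.card α = 9 := by rw [Nat.card_eq_fintype_card, h9]
  suffices IsMultiplyPreprimitive G α (3 + 2) from
    IsMultiplyPreprimitive.isMultiplyPretransitive ..
  apply hG.isMultiplyPreprimitive (s := (g.supportᶜ : Set α))
  · apply Nat.add_left_cancel
    rw [Set.ncard_add_ncard_compl, Set.ncard_coe_finset, h5, hcard]
  · rw [hcard]; norm_num
  have := isPretransitive_of_isCycle_mem hgc hg
  apply IsPreprimitive.of_prime_card
  convert Nat.prime_five
  rw [Nat.card_eq_fintype_card, Fintype.card_subtype, ← h5]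
  apply congr_arg
  ext x
  simp [SubMulAction.mem_ofFixingSubgroup_iff]

/-- Step A: a nontrivial element with at least four fixed points. -/
theorem deg_nine_of_fix_four (G : Subgroup (Perm α)) (h9 : Fintype.card α = 9)
    (hG : IsMultiplyPretransitive G α 4) (g : Perm α) (hg : g ∈ G) (hg1 : g ≠ 1)
    (hs : g.support.card ≤ 5) : alternatingGroup α ≤ G := by
  classical
  have h2 : IsMultiplyPretransitive G α 2 := by
    have : (4 : ℕ) ≤ Nat.card α := by rw [Nat.card_eq_fintype_card, h9]; norm_num
    exact isMultiplyPretransitive_of_le (by norm_num) this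
  have hprim : IsPreprimitive G α := isPreprimitive_of_is_two_pretransitive h2
  have hsmall : ∀ u : Perm α, u ∈ G → u ≠ 1 → u.support.card ≤ 4 → alternatingGroup α ≤ G := by
    intro u hu hu1 hus
    exact alt_le_of_small_support G 4 (by norm_num) hG (by omega) u hu hu1 hus (by omega)
  by_cases h4 : g.support.card ≤ 4
  · exact hsmall g hg hg1 h4
  have hord1 : orderOf g ≠ 1 := by
    rw [Ne, orderOf_eq_one_iff]; exact hg1
  have hord0 : orderOf g ≠ 0 := (orderOf_pos g).ne'
  set q := (orderOf g).minFac with hq
  have hqp : q.Prime := Nat.minFac_prime hord1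
  have hqd : q ∣ orderOf g := Nat.minFac_dvd _
  set g' := g ^ (orderOf g / q) with hg'
  have hg'ord : orderOf g' = q := orderOf_pow_orderOf_div hord0 hqd
  have hg'G : g' ∈ G := G.pow_mem hg _
  have hg'1 : g' ≠ 1 := by
    intro h
    rw [h, orderOf_one] at hg'ord
    exact hqp.one_lt.ne hg'ord
  have hg's : g'.support.card ≤ 5 :=
    le_trans (Finset.card_le_card (support_pow_le g _)) hs
  by_cases h4' : g'.support.card ≤ 4
  · exact hsmall g' hg'G hg'1 h4'
  have h5 : g'.support.card = 5 := by omega
  obtain ⟨m, hm⟩ := cycleType_prime_order (σ := g') (by rw [hg'ord]; exact hqp)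
  have hsum : (m + 1) * q = 5 := by
    have := sum_cycleType g'
    rw [hm, Multiset.sum_replicate, smul_eq_mul, hg'ord, h5] at this
    exact this
  have hq5 : q = 5 := by
    have : q ∣ 5 := Dvd.intro_left _ hsum
    exact (Nat.prime_dvd_prime_iff_eq hqp Nat.prime_five).mp this
  have hm0 : m = 0 := by
    rw [hq5] at hsum; omega
  have hcyc : g'.IsCycle := by
    rw [← card_cycleType_eq_one, hm, hm0]
    simp
  have h5t := imp_five_of_five_cycle G h9 hprim g' hg'G hcyc h5
  exact alt_le_of_small_support G 5 (by norm_num) h5t (by omega) g' hg'G hg'1 (by omega) (by omega)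

theorem fixG_eq_map (G : Subgroup (Perm α)) (S : Finset α) :
    fixG G S = (fixingSubgroup G (S : Set α)).map G.subtype := by
  ext g
  constructor
  · rintro ⟨hgG, hg⟩
    refine Subgroup.mem_map.mpr ⟨⟨g, hgG⟩, ?_, rfl⟩
    rw [mem_fixingSubgroup_iff]
    intro y hy
    exact hg y hy
  · rintro ⟨g', hg', rfl⟩
    have hg'' : g' ∈ fixingSubgroup G (S : Set α) := hg'
    rw [mem_fixingSubgroup_iff] at hg''
    exact ⟨g'.2, fun s hs => hg'' s hs⟩

theorem card_fixG (G : Subgroup (Perm α)) (S : Finset α) :
    Nat.card (fixG G S) = Nat.card (fixingSubgroup G (S : Set α)) := by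
  rw [fixG_eq_map]
  exact Subgroup.card_map_of_injective (Subgroup.subtype_injective _)

/-- In the sharp case the group has order 3024 and two-point stabilizers have order 42. -/
theorem sharp_cards (G : Subgroup (Perm α)) (h9 : Fintype.card α = 9)
    (hG : IsMultiplyPretransitive G α 4)
    (hsharp : ∀ g ∈ G, g ≠ 1 → 6 ≤ g.support.card) :
    Nat.card G = 3024 ∧ ∀ a b : α, a ≠ b → Nat.card (fixG G {a, b}) = 42 := by
  classical
  have hcard : Nat.card α = 9 := by rw [Nat.card_eq_fintype_card, h9]
  have h2 : IsMultiplyPretransitive G α 2 := by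
    have : (4 : ℕ) ≤ Nat.card α := by rw [hcard]; norm_num
    exact isMultiplyPretransitive_of_le (by norm_num) this
  have hG3024 : Nat.card G = 3024 := by
    obtain ⟨t, -, ht⟩ := Finset.exists_subset_card_eq (s := (Finset.univ : Finset α)) (n := 4)
      (by rw [Finset.card_univ, h9]; norm_num)
    have h1 := hG.index_of_fixingSubgroup_mul (s := (t : Set α)) (by rw [Set.ncard_coe_finset, ht])
    have hbot : fixingSubgroup G (t : Set α) = ⊥ := by
      rw [eq_bot_iff]
      intro g hg
      rw [mem_fixingSubgroup_iff] at hg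
      rw [Subgroup.mem_bot]
      by_contra hne
      have hne' : (g : Perm α) ≠ 1 := fun h => hne (Subtype.ext h)
      have h6 := hsharp g g.2 hne'
      have hsub : (g : Perm α).support ⊆ tᶜ := by
        intro y hy
        rw [Finset.mem_compl]
        intro hyt
        exact (Perm.mem_support.mp hy) (hg y hyt)
      have := Finset.card_le_card hsub
      rw [Finset.card_compl, ht, h9] at this
      omega
    rw [hbot, Subgroup.index_bot, hcard] at h1
    have h9f : (9 : ℕ).factorial = 362880 := by decide
    have h5f : (9 - 4 : ℕ).factorial = 120 := by decide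
    rw [h9f, h5f] at h1
    omega
  refine ⟨hG3024, fun a b hab => ?_⟩
  rw [card_fixG]
  have h1 := h2.index_of_fixingSubgroup_mul (s := (({a, b} : Finset α) : Set α))
    (by rw [Set.ncard_coe_finset, Finset.card_pair hab])
  rw [hcard] at h1
  have h9f : (9 : ℕ).factorial = 362880 := by decide
  have h7f : (9 - 2 : ℕ).factorial = 5040 := by decide
  rw [h9f, h7f] at h1
  have h3 := Subgroup.card_mul_index (fixingSubgroup G ((({a, b} : Finset α) : Set α)))
  rw [hG3024] at h3
  have h4 : (fixingSubgroup G ((({a, b} : Finset α) : Set α))).index = 72 := by omega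
  rw [h4] at h3
  omega

end Cfsg.Agent.Lib.Helper22.MillerT
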