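import Mathlib
import Cfsg.Agent.Lib.Helper22.MillerG

/-!
# Miller's theorem, part H: no sharply 4-transitive group of degree 9 (via Sylow 7).
-/

set_option autoImplicit false

universe u

namespace Cfsg.Agent.Lib.Helper22.MillerT

open Equiv Equiv.Perm MulAction
open scoped commutatorElement Pointwise

/-- In a group of order 42 all elements of order 7 lie in one cyclic subgroup. -/
theorem mem_zpowers_of_order_seven {H : Type*} [Group H] [Finite H] (hH : Nat.card H = 42)
    (x y : H) (hx : orderOf x = 7) (hy : orderOf y = 7) : y ∈ Subgroup.zpowers x := by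
  classical
  by_contra hcon
  haveI : Fact (Nat.Prime 7) := ⟨by norm_num⟩
  set Z := Subgroup.zpowers x with hZ
  set Y := Subgroup.zpowers y with hY
  have hcZ : Nat.card Z = 7 := by rw [hZ, Nat.card_zpowers, hx]
  have hcY : Nat.card Y = 7 := by rw [hY, Nat.card_zpowers, hy]
  have hinf : ∀ g, g ∈ Z → g ∈ Y → g = 1 := by
    intro g hgZ hgY
    by_contra hg1
    have h1 : Subgroup.zpowers (⟨g, hgY⟩ : Y) = ⊤ :=
      zpowers_eq_top_of_prime_card hcY (fun h => hg1 (congrArg Subtype.val h))
    have h2 : (⟨y, Subgroup.mem_zpowers y⟩ : Y) ∈ Subgroup.zpowers (⟨g, hgY⟩ : Y) := by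
      rw [h1]; trivial
    obtain ⟨k, hk⟩ := Subgroup.mem_zpowers_iff.mp h2
    have h3 : g ^ k = y := by
      have := congrArg Subtype.val hk
      simpa using this
    apply hcon
    rw [← h3]
    exact Z.zpow_mem hgZ k
  let f : Z × Y → H := fun zy => (zy.1 : H) * (zy.2 : H)
  have hf : Function.Injective f := by
    rintro ⟨z₁, y₁⟩ ⟨z₂, y₂⟩ h
    have h' : (z₁ : H) * (y₁ : H) = (z₂ : H) * (y₂ : H) := h
    have h1 : (z₂ : H)⁻¹ * (z₁ : H) = (y₂ : H) * (y₁ : H)⁻¹ := by
      have := congrArg (fun t => (z₂ : H)⁻¹ * t * (y₁ : H)⁻¹) h'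
      simpa [mul_assoc] using this
    have h2 : (z₂ : H)⁻¹ * (z₁ : H) = 1 :=
      hinf _ (Z.mul_mem (Z.inv_mem z₂.2) z₁.2) (h1 ▸ Y.mul_mem y₂.2 (Y.inv_mem y₁.2))
    have h3 : (y₂ : H) * (y₁ : H)⁻¹ = 1 := by rw [← h1, h2]
    have h4 : (z₁ : H) = z₂ := by
      rw [inv_mul_eq_one] at h2; exact h2.symm
    have h5 : (y₁ : H) = y₂ := by
      rw [mul_inv_eq_one] at h3; exact h3.symm
    exact Prod.ext (Subtype.ext h4) (Subtype.ext h5)
  have h1 := Nat.card_le_card_of_injective f hf
  rw [Nat.card_prod, hcZ, hcY, hH] at h1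
  omega

variable {α : Type u} [Fintype α] [DecidableEq α]

theorem seven_cycle (x : Perm α) (h9 : Fintype.card α = 9) (hx : orderOf x = 7) :
    x.IsCycle ∧ ∃ a b, a ≠ b ∧ x.supportᶜ = {a, b} := by
  obtain ⟨m, hm⟩ := cycleType_prime_order (σ := x) (by rw [hx]; norm_num)
  have hsum := sum_cycleType x
  rw [hm, Multiset.sum_replicate, smul_eq_mul, hx] at hsum
  have hle := Finset.card_le_univ x.support
  rw [h9] at hle
  have hm0 : m = 0 := by omega
  have hcyc : x.IsCycle := by
    rw [← card_cycleType_eq_one, hm, hm0]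
    simp
  refine ⟨hcyc, ?_⟩
  have hc : x.supportᶜ.card = 2 := by
    rw [Finset.card_compl, h9, ← hsum, hm0]
  obtain ⟨a, b, hab, h⟩ := Finset.card_eq_two.mp hc
  exact ⟨a, b, hab, h⟩

theorem commute_cycle_agree (x c : Perm α) (hx : x.IsCycle) (hc : Commute c x) :
    ∃ j : ℤ, ∀ y ∈ x.support, c y = (x ^ j) y := by
  obtain ⟨o, ho⟩ := hx.nonempty_support
  have hco : c o ∈ x.support := (mem_support_iff_of_commute hc o).mpr ho
  obtain ⟨j, hj⟩ := hx.sameCycle (mem_support.mp ho) (mem_support.mp hco)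
  refine ⟨j, fun y hy => ?_⟩
  obtain ⟨m, hm⟩ := hx.sameCycle (mem_support.mp ho) (mem_support.mp hy)
  have h1 : c ((x ^ m) o) = (x ^ m) (c o) := by
    have := (Commute.zpow_right hc m).eq
    have h2 := congrArg (fun f : Perm α => f o) this
    simpa [Perm.mul_apply] using h2
  rw [← hm, h1, ← hj, ← Perm.mul_apply, ← Perm.mul_apply, ← zpow_add, ← zpow_add, add_comm]

theorem eq_zpow_of_commute_fix (x c : Perm α) (hx : x.IsCycle) (hc : Commute c x) (a b : α)
    (hab : x.supportᶜ = {a, b}) (hca : c a = a) (hcb : c b = b) : ∃ j : ℤ, c = x ^ j := by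
  obtain ⟨j, hj⟩ := commute_cycle_agree x c hx hc
  refine ⟨j, ?_⟩
  ext y
  by_cases hy : y ∈ x.support
  · exact hj y hy
  · have hy' : y ∈ x.supportᶜ := Finset.mem_compl.mpr hy
    have hxy : x y = y := Perm.notMem_support.mp hy
    rw [zpow_apply_eq_self_of_apply_eq_self hxy]
    rw [hab, Finset.mem_insert, Finset.mem_singleton] at hy'
    rcases hy' with h | h
    · rw [h, hca]
    · rw [h, hcb]

theorem pow_seven_eq_swap (x c : Perm α) (hx : x.IsCycle) (hx7 : x ^ 7 = 1) (hc : Commute c x)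
    (a b : α) (hne : a ≠ b) (hab : x.supportᶜ = {a, b}) (hca : c a = b) : c ^ 7 = swap a b := by
  obtain ⟨j, hj⟩ := commute_cycle_agree x c hx hc
  have ha : a ∉ x.support := by
    have : a ∈ x.supportᶜ := by rw [hab]; simp
    exact Finset.mem_compl.mp this
  have hb : b ∉ x.support := by
    have : b ∈ x.supportᶜ := by rw [hab]; simp
    exact Finset.mem_compl.mp this
  have hxa : x a = a := Perm.notMem_support.mp ha
  have hxb : x b = b := Perm.notMem_support.mp hb
  have hcb : c b = a := by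
    have h1 : c b ∉ x.support := fun h => hb ((mem_support_iff_of_commute hc b).mp h)
    have h2 : c b ∈ x.supportᶜ := Finset.mem_compl.mpr h1
    rw [hab, Finset.mem_insert, Finset.mem_singleton] at h2
    rcases h2 with h | h
    · exact h
    · exfalso
      have : c b = c a := by rw [h, hca]
      exact hne (c.injective this).symm
  have hceq : c = x ^ j * swap a b := by
    ext y
    rw [Perm.mul_apply]
    by_cases hy : y ∈ x.support
    · have hya : y ≠ a := fun h => ha (h ▸ hy)
      have hyb : y ≠ b := fun h => hb (h ▸ hy)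
      rw [swap_apply_of_ne_of_ne hya hyb]
      exact hj y hy
    · have hy' : y ∈ x.supportᶜ := Finset.mem_compl.mpr hy
      rw [hab, Finset.mem_insert, Finset.mem_singleton] at hy'
      rcases hy' with h | h
      · rw [h, swap_apply_left, zpow_apply_eq_self_of_apply_eq_self hxb, hca]
      · rw [h, swap_apply_right, zpow_apply_eq_self_of_apply_eq_self hxa, hcb]
  have hcomm : Commute (x ^ j) (swap a b) := by
    have := mul_swap_eq_swap_mul (x ^ j) a b
    rw [zpow_apply_eq_self_of_apply_eq_self hxa, zpow_apply_eq_self_of_apply_eq_self hxb] at this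
    exact this
  rw [hceq, hcomm.mul_pow]
  have h1 : (x ^ j) ^ 7 = 1 := by
    rw [← zpow_natCast, ← zpow_mul, mul_comm, zpow_mul, zpow_natCast, hx7, one_zpow]
  have h2 : (swap a b) ^ 7 = swap a b := by
    have hs : swap a b * swap a b = 1 := swap_mul_self a b
    have h3 : (swap a b) ^ 7 = (swap a b * swap a b) ^ 3 * swap a b := by
      rw [← pow_two, ← pow_mul, ← pow_succ]
    rw [h3, hs, one_pow, one_mul]
  rw [h1, h2, one_mul]

end Cfsg.Agent.Lib.Helper22.MillerT
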