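import Mathlib
import Cfsg.Agent.Lib.Helper22.MillerH

/-!
# Miller's theorem, part I: a 4-transitive group of degree 9 contains `A_9`.
-/

set_option autoImplicit false

universe u

namespace Cfsg.Agent.Lib.Helper22.MillerT

open Equiv Equiv.Perm MulAction
open scoped commutatorElement Pointwise

variable {α : Type u} [Fintype α] [DecidableEq α]

theorem conj_pow_of_acts {G : Type*} [Group G] (x g h : G) (i l : ℕ)
    (hg : g * x * g⁻¹ = x ^ i) (hh : h * x * h⁻¹ = x ^ l) :
    (g * h) * x * (g * h)⁻¹ = x ^ (i * l) := by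
  have h1 : (g * h) * x * (g * h)⁻¹ = g * (h * x * h⁻¹) * g⁻¹ := by group
  rw [h1, hh, ← conj_pow, hg, ← pow_mul]

theorem commute_of_conj_eq {G : Type*} [Group G] (g x : G) (h : g * x * g⁻¹ = x) :
    Commute g x := by
  show g * x = x * g
  have h2 := congrArg (fun t => t * g) h
  simpa [mul_assoc] using h2

theorem no_sharp_nine (G : Subgroup (Perm α)) (h9 : Fintype.card α = 9)
    (hG : IsMultiplyPretransitive G α 4)
    (hsharp : ∀ g ∈ G, g ≠ 1 → 6 ≤ g.support.card) : False := by
  classical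
  obtain ⟨hG3024, h42⟩ := sharp_cards G h9 hG hsharp
  haveI : Fact (Nat.Prime 7) := ⟨by norm_num⟩
  haveI : Fact (Nat.Prime 2) := ⟨Nat.prime_two⟩
  obtain ⟨x', hx'⟩ := exists_prime_orderOf_dvd_card' (G := G) 7 (by rw [hG3024]; norm_num)
  set x : Perm α := (x' : Perm α) with hxdef
  have hxG : x ∈ G := x'.2
  have hx : orderOf x = 7 := by rw [hxdef, Subgroup.orderOf_coe]; exact hx'
  obtain ⟨hcyc, a, b, hab, hcompl⟩ := seven_cycle x h9 hx
  have hx7 : x ^ 7 = 1 := by rw [← hx]; exact pow_orderOf_eq_one x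
  have ha : a ∉ x.support := by
    have : a ∈ x.supportᶜ := by rw [hcompl]; simp
    exact Finset.mem_compl.mp this
  have hb : b ∉ x.support := by
    have : b ∈ x.supportᶜ := by rw [hcompl]; simp
    exact Finset.mem_compl.mp this
  have hxa : x a = a := Perm.notMem_support.mp ha
  have hxb : x b = b := Perm.notMem_support.mp hb
  set H := fixG G {a, b} with hHdef
  have hH : Nat.card H = 42 := h42 a b hab
  have hxH : x ∈ H := ⟨hxG, by
    intro s hs
    rw [Finset.mem_insert, Finset.mem_singleton] at hs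
    rcases hs with h | h <;> rw [h] <;> assumption⟩
  have hmemH : ∀ y, y ∈ G → y a = a → y b = b → y ∈ H := by
    intro y hyG hya hyb
    refine ⟨hyG, ?_⟩
    intro s hs
    rw [Finset.mem_insert, Finset.mem_singleton] at hs
    rcases hs with h | h <;> rw [h] <;> assumption
  -- uniqueness of the subgroup of order 7
  have hU : ∀ y, y ∈ H → orderOf y = 7 → ∃ i : ℕ, y = x ^ i := by
    intro y hyH hy
    have h1 := mem_zpowers_of_order_seven hH (⟨x, hxH⟩ : H) ⟨y, hyH⟩
      (by rw [Subgroup.orderOf_mk]; exact hx) (by rw [Subgroup.orderOf_mk]; exact hy)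
    obtain ⟨k, hk⟩ := Subgroup.mem_zpowers_iff.mp h1
    have hk' : x ^ k = y := by
      have := congrArg Subtype.val hk
      simpa using this
    refine ⟨(k % 7).toNat, ?_⟩
    have h2 : ((k % 7).toNat : ℤ) = k % 7 := Int.toNat_of_nonneg (Int.emod_nonneg k (by norm_num))
    rw [← zpow_natCast, h2, ← hk']
    have := zpow_mod_orderOf x k
    rw [hx] at this
    exact this.symm
  -- conjugation by elements preserving {a, b}
  have hconj : ∀ g, g ∈ G → ((g a = a ∧ g b = b) ∨ (g a = b ∧ g b = a)) →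
      ∃ i : ℕ, g * x * g⁻¹ = x ^ i := by
    intro g hgG hg
    apply hU
    · apply hmemH
      · exact G.mul_mem (G.mul_mem hgG hxG) (G.inv_mem hgG)
      · rcases hg with ⟨h1, h2⟩ | ⟨h1, h2⟩
        · have h3 : g⁻¹ a = a := by rw [Perm.inv_eq_iff_eq, h1]
          simp only [Perm.mul_apply, h3, hxa, h1]
        · have h3 : g⁻¹ a = b := by rw [Perm.inv_eq_iff_eq, h2]
          simp only [Perm.mul_apply, h3, hxb, h2]
      · rcases hg with ⟨h1, h2⟩ | ⟨h1, h2⟩
        · have h3 : g⁻¹ b = b := by rw [Perm.inv_eq_iff_eq, h2]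
          simp only [Perm.mul_apply, h3, hxb, h2]
        · have h3 : g⁻¹ b = a := by rw [Perm.inv_eq_iff_eq, h1]
          simp only [Perm.mul_apply, h3, hxa, h1]
    · have : g * x * g⁻¹ = MulAut.conj g x := by simp [MulAut.conj_apply]
      rw [this, MulEquiv.orderOf_eq, hx]
  -- the element τ swapping a and b
  have h2t : TT G 2 := TT_of_imp_le G 4 2 hG (by norm_num) (by omega)
  obtain ⟨τ, hτG, hτ⟩ := h2t {a, b} (swap a b) (Finset.card_pair hab)
    (fun y _ z _ h => (swap a b).injective h)
  have hτa : τ a = b := by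
    have := hτ a (by simp); rwa [swap_apply_left] at this
  have hτb : τ b = a := by
    have := hτ b (by simp); rwa [swap_apply_right] at this
  -- an involution μ in H
  obtain ⟨μ', hμ'⟩ := exists_prime_orderOf_dvd_card' (G := H) 2 (by rw [hH]; norm_num)
  set μ : Perm α := (μ' : Perm α) with hμdef
  have hμH : μ ∈ H := μ'.2
  have hμG : μ ∈ G := hμH.1
  have hμ2 : orderOf μ = 2 := by rw [hμdef, Subgroup.orderOf_coe]; exact hμ'
  have hμa : μ a = a := hμH.2 a (by simp)
  have hμb : μ b = b := hμH.2 b (by simp)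
  have hμsq : μ * μ = 1 := by
    rw [← pow_two, ← hμ2]; exact pow_orderOf_eq_one μ
  obtain ⟨l, hl⟩ := hconj μ hμG (Or.inl ⟨hμa, hμb⟩)
  obtain ⟨i, hi⟩ := hconj τ hτG (Or.inr ⟨hτa, hτb⟩)
  -- commuting elements fixing a and b are powers of x
  have hcomm_fix : ∀ c, Commute c x → c a = a → c b = b → orderOf c ∣ 7 := by
    intro c hc hca hcb
    obtain ⟨j, hj⟩ := eq_zpow_of_commute_fix x c hcyc hc a b hcompl hca hcb
    rw [hj, ← hx]
    exact orderOf_dvd_of_mem_zpowers (Subgroup.zpow_mem_zpowers x j)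
  -- the exponent of μ is 6 mod 7
  have hxne : x ≠ 1 := by
    intro h; rw [h, orderOf_one] at hx; norm_num at hx
  have hl2 : x ^ (l * l) = x ^ 1 := by
    have := conj_pow_of_acts x μ μ l l hl hl
    rw [hμsq] at this
    rw [← this, pow_one]; group
  have hlmod : l * l ≡ 1 [MOD 7] := by
    have := pow_eq_pow_iff_modEq.mp hl2
    rwa [hx] at this
  have hl6 : l % 7 = 6 := by
    have hl1 : l % 7 ≠ 1 := by
      intro h
      have h1 : x ^ l = x := by
        rw [← pow_mod_orderOf, hx, h, pow_one]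
      have hc : Commute μ x := commute_of_conj_eq μ x (by rw [hl, h1])
      have := hcomm_fix μ hc hμa hμb
      rw [hμ2] at this
      norm_num at this
    have h3 : (l % 7) * (l % 7) % 7 = 1 := by
      have := hlmod
      unfold Nat.ModEq at this
      rw [Nat.mul_mod] at this
      simpa using this
    have h4 : l % 7 < 7 := Nat.mod_lt _ (by norm_num)
    interval_cases (l % 7) <;> simp_all
  -- the exponent of τ³
  have hτ3 : (τ * τ * τ) * x * (τ * τ * τ)⁻¹ = x ^ (i * i * i) := by
    have h1 := conj_pow_of_acts x τ τ i i hi hi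
    exact conj_pow_of_acts x (τ * τ) τ (i * i) i h1 hi
  have hi0 : i % 7 ≠ 0 := by
    intro h
    have h1 : x ^ i = 1 := by
      rw [← pow_mod_orderOf, hx, h, pow_zero]
    rw [h1] at hi
    have : x = 1 := by
      have h2 := congrArg (fun t => τ⁻¹ * t * τ) hi
      simpa [mul_assoc] using h2
    exact hxne this
  have hi3 : (i * i * i) % 7 = 1 ∨ (i * i * i) % 7 = 6 := by
    have h3 : (i * i * i) % 7 = ((i % 7) * (i % 7) % 7 * (i % 7)) % 7 := by
      rw [Nat.mul_mod (i * i) i 7, Nat.mul_mod i i 7]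
    have h4 : i % 7 < 7 := Nat.mod_lt _ (by norm_num)
    rw [h3]
    interval_cases (i % 7) <;> simp_all
  have hτ3a : (τ * τ * τ) a = b := by
    simp only [Perm.mul_apply, hτa, hτb]
  have hτ3G : τ * τ * τ ∈ G := G.mul_mem (G.mul_mem hτG hτG) hτG
  -- produce w commuting with x and swapping a, b
  obtain ⟨w, hwG, hwc, hwa⟩ : ∃ w, w ∈ G ∧ Commute w x ∧ w a = b := by
    rcases hi3 with h | h
    · refine ⟨τ * τ * τ, hτ3G, ?_, hτ3a⟩
      have h1 : x ^ (i * i * i) = x := by
        rw [← pow_mod_orderOf, hx, h, pow_one]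
      rw [h1] at hτ3
      exact commute_of_conj_eq _ x hτ3
    · refine ⟨τ * τ * τ * μ, G.mul_mem hτ3G hμG, ?_, ?_⟩
      · have h1 := conj_pow_of_acts x (τ * τ * τ) μ (i * i * i) l hτ3 hl
        have h2 : x ^ (i * i * i * l) = x := by
          rw [← pow_mod_orderOf, hx, Nat.mul_mod, h, hl6]
          norm_num
        rw [h2] at h1
        exact commute_of_conj_eq _ x h1
      · rw [Perm.mul_apply, hμa, hτ3a]
  have hswap : swap a b ∈ G := by
    rw [← pow_seven_eq_swap x w hcyc hx7 hwc a b hab hcompl hwa]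
    exact G.pow_mem hwG 7
  have h6 := hsharp (swap a b) hswap (by
    intro h
    have := congrArg (fun f : Perm α => f a) h
    simp only [swap_apply_left, Perm.one_apply] at this
    exact hab this.symm)
  rw [card_support_swap hab] at h6
  norm_num at h6

/-- A 4-transitive permutation group of degree 9 contains the alternating group. -/
theorem deg_nine (G : Subgroup (Perm α)) (h9 : Fintype.card α = 9)
    (hG : IsMultiplyPretransitive G α 4) : alternatingGroup α ≤ G := by
  by_cases h : ∃ g ∈ G, g ≠ 1 ∧ g.support.card ≤ 5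
  · obtain ⟨g, hg, hg1, hs⟩ := h
    exact deg_nine_of_fix_four G h9 hG g hg hg1 hs
  · exfalso
    push Not at h
    apply no_sharp_nine G h9 hG
    intro g hg hg1
    have := h g hg hg1
    omega

end Cfsg.Agent.Lib.Helper22.MillerT
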