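import Mathlib
import Cfsg.Agent.Lib.Helper22.MillerI

/-!
# Miller's theorem, part J: consequences of Witt's lemma and counting lemmas for the main proof.
-/

set_option autoImplicit false

universe u

namespace Cfsg.Agent.Lib.Helper22.MillerT

open Equiv Equiv.Perm MulAction
open scoped commutatorElement Pointwise

variable {α : Type u} [Fintype α] [DecidableEq α]

theorem fixedPoints_eq_fixSet (Q : Subgroup (Perm α)) : MulAction.fixedPoints Q α = fixSet Q := by
  ext a
  constructor
  · intro h y hy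
    exact h ⟨y, hy⟩
  · intro h y
    exact h y.1 y.2

theorem card_fixSet_modEq (p : ℕ) [hp : Fact p.Prime] (Q : Subgroup (Perm α)) (hQ : IsPGroup p Q) :
    Fintype.card α ≡ Nat.card (fixSet Q) [MOD p] := by
  have := hQ.card_modEq_card_fixedPoints α
  rw [Nat.card_eq_fintype_card, fixedPoints_eq_fixSet] at this
  exact this

/-- Witt's lemma gives multiple transitivity of the normalizer on the fixed points. -/
theorem imp_range_of_witt (p : ℕ) [hp : Fact p.Prime] (G : Subgroup (Perm α)) (t : ℕ)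
    (hG : TT G t) (S : Finset α) (hS : S.card = t) (P : Sylow p (fixG G S))
    (Q : Subgroup (Perm α)) (hQdef : Q = (P : Subgroup (fixG G S)).map (fixG G S).subtype)
    (N : Subgroup (Perm α)) (hN : N = G ⊓ Subgroup.normalizer (Q : Set (Perm α)))
    [Fintype (fixSet Q)] [DecidableEq (fixSet Q)]
    (hNΦ : ∀ g ∈ N, ∀ a, g a ∈ fixSet Q ↔ a ∈ fixSet Q) :
    IsMultiplyPretransitive (resHom N (fixSet Q) hNΦ).range (fixSet Q) t := by
  classical
  apply imp_of_TT
  intro S' φ' hS' hφ'
  let S₁ : Finset α := S'.map ⟨Subtype.val, Subtype.val_injective⟩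
  let φ : α → α := fun a => if h : a ∈ fixSet Q then ((φ' ⟨a, h⟩ : fixSet Q) : α) else a
  have hφs : ∀ s : fixSet Q, φ s.1 = (φ' s : α) := by
    intro s
    simp only [φ, dif_pos s.2]
  have hS₁ : S₁.card = t := by rw [Finset.card_map, hS']
  have hmemS₁ : ∀ a, a ∈ S₁ ↔ ∃ s ∈ S', (s : α) = a := by
    intro a
    simp [S₁]
  have hφinj : Set.InjOn φ (S₁ : Set α) := by
    intro a ha b hb hab
    obtain ⟨s, hs, rfl⟩ := (hmemS₁ a).mp ha
    obtain ⟨s', hs', rfl⟩ := (hmemS₁ b).mp hb
    rw [hφs, hφs] at hab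
    have := hφ' hs hs' (Subtype.ext hab)
    rw [this]
  obtain ⟨n, hnG, hnN, hn⟩ := witt p G t hG S hS P Q hQdef S₁ φ hS₁ hφinj
    (by
      intro a ha
      obtain ⟨s, _, rfl⟩ := (hmemS₁ a).mp ha
      exact s.2)
    (by
      intro a ha
      obtain ⟨s, _, rfl⟩ := (hmemS₁ a).mp ha
      rw [hφs]
      exact (φ' s).2)
  have hnmem : n ∈ N := by rw [hN]; exact ⟨hnG, hnN⟩
  refine ⟨resHom N (fixSet Q) hNΦ ⟨n, hnmem⟩, ⟨⟨n, hnmem⟩, rfl⟩, ?_⟩
  intro s hs
  apply Subtype.ext
  rw [resHom_apply]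
  show n s.1 = _
  rw [hn s.1 ((hmemS₁ s.1).mpr ⟨s, hs, rfl⟩), hφs]

/-- If the fixed point set of the Sylow subgroup is exactly the base set, the normalizer induces
the full symmetric group on it. -/
theorem surj_of_witt (p : ℕ) [hp : Fact p.Prime] (G : Subgroup (Perm α)) (t : ℕ)
    (hG : TT G t) (S : Finset α) (hS : S.card = t) (P : Sylow p (fixG G S))
    (Q : Subgroup (Perm α)) (hQdef : Q = (P : Subgroup (fixG G S)).map (fixG G S).subtype)
    (N : Subgroup (Perm α)) (hN : N = G ⊓ Subgroup.normalizer (Q : Set (Perm α)))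
    (hNΦ : ∀ g ∈ N, ∀ a, g a ∈ fixSet Q ↔ a ∈ fixSet Q)
    (hfix : fixSet Q = (S : Set α)) :
    Function.Surjective (resHom N (fixSet Q) hNΦ) := by
  classical
  intro σ'
  let φ : α → α := fun a => if h : a ∈ fixSet Q then ((σ' ⟨a, h⟩ : fixSet Q) : α) else a
  have hφs : ∀ s : fixSet Q, φ s.1 = (σ' s : α) := by
    intro s
    simp only [φ, dif_pos s.2]
  have hSΦ : ∀ s ∈ S, s ∈ fixSet Q := by
    intro s hs
    rw [hfix]; exact hs
  have hφinj : Set.InjOn φ (S : Set α) := by
    intro a ha b hb hab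
    have h1 := hφs ⟨a, hSΦ a ha⟩
    have h2 := hφs ⟨b, hSΦ b hb⟩
    simp only at h1 h2
    rw [h1, h2] at hab
    have := σ'.injective (Subtype.ext hab)
    exact congrArg Subtype.val this
  obtain ⟨n, hnG, hnN, hn⟩ := witt p G t hG S hS P Q hQdef S φ hS hφinj hSΦ
    (by
      intro a ha
      have h1 := hφs ⟨a, hSΦ a ha⟩
      simp only at h1
      rw [h1]
      exact (σ' _).2)
  have hnmem : n ∈ N := by rw [hN]; exact ⟨hnG, hnN⟩
  refine ⟨⟨n, hnmem⟩, ?_⟩
  ext s
  rw [resHom_apply]
  show n s.1 = _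
  have hsS : s.1 ∈ S := by
    have h1 : s.1 ∈ fixSet Q := s.2
    have h2 : s.1 ∈ (S : Set α) := hfix ▸ h1
    exact h2
  rw [hn s.1 hsS, hφs]

/-- The pointwise stabilizer of `r` points in an `(r+1)`-transitive group is transitive on the
remaining points, so its order is divisible by their number. -/
theorem card_compl_dvd_card_fixG (G : Subgroup (Perm α)) (r : ℕ) (hG : TT G (r + 1))
    (S : Finset α) (hS : S.card = r) (ω : α) (hω : ω ∉ S) :
    (Fintype.card α - r) ∣ Nat.card (fixG G S) := by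
  classical
  set H := fixG G S with hH
  have h1 : (MulAction.stabilizer H ω).index = (MulAction.orbit H ω).ncard :=
    MulAction.index_stabilizer H ω
  have h2 : MulAction.orbit H ω = ((Sᶜ : Finset α) : Set α) := by
    ext a
    rw [Finset.mem_coe, Finset.mem_compl]
    constructor
    · rintro ⟨⟨h, hh⟩, rfl⟩ haS
      have h3 : h ω ∈ S := haS
      have h4 : h (h ω) = h ω := hh.2 _ h3
      exact hω ((h.injective h4) ▸ h3)
    · intro haS
      let φ : α → α := fun y => if y = ω then a else y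
      have hφ : Set.InjOn φ ((insert ω S : Finset α) : Set α) := by
        intro y hy z hz hyz
        rw [Finset.mem_coe, Finset.mem_insert] at hy hz
        simp only [φ] at hyz
        by_cases h1 : y = ω <;> by_cases h2 : z = ω
        · rw [h1, h2]
        · rw [if_pos h1, if_neg h2] at hyz
          exact absurd (hyz ▸ (hz.resolve_left h2)) haS
        · rw [if_neg h1, if_pos h2] at hyz
          exact absurd (hyz.symm ▸ (hy.resolve_left h1)) haS
        · rwa [if_neg h1, if_neg h2] at hyz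
      obtain ⟨σ, hσG, hσ⟩ := hG (insert ω S) φ (by rw [Finset.card_insert_of_notMem hω, hS]) hφ
      have hσH : σ ∈ H := by
        refine ⟨hσG, fun s hs => ?_⟩
        have := hσ s (Finset.mem_insert_of_mem hs)
        have hsω : s ≠ ω := fun h => hω (h ▸ hs)
        simpa [φ, hsω] using this
      refine ⟨⟨σ, hσH⟩, ?_⟩
      have := hσ ω (Finset.mem_insert_self ω S)
      simpa [φ] using this
  rw [h2, Set.ncard_coe_finset, Finset.card_compl, hS] at h1
  rw [← h1]
  exact Subgroup.index_dvd_card _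

/-- If the `(r+1)`-point stabilizer has order prime to `p`, every `p`-subgroup of the `r`-point
stabilizer acts semiregularly outside the `r` points. -/
theorem semiregular_of_not_dvd (p : ℕ) [hp : Fact p.Prime] (G : Subgroup (Perm α)) (r : ℕ)
    (hG : TT G (r + 1)) (S : Finset α) (hS : S.card = r) (ω : α) (hω : ω ∉ S)
    (hnd : ¬ p ∣ Nat.card (fixG G (insert ω S))) (Q : Subgroup (Perm α)) (hQ : IsPGroup p Q)
    (hQH : Q ≤ fixG G S) :
    ∀ y ∈ Q, y ≠ 1 → ∀ a, a ∉ S → y a ≠ a := by
  classical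
  intro y hy hy1 a haS hya
  apply hnd
  -- an element of order p fixing a
  obtain ⟨i, hi⟩ := (IsPGroup.iff_orderOf.mp hQ) ⟨y, hy⟩
  rw [Subgroup.orderOf_mk] at hi
  have hi0 : i ≠ 0 := by
    intro h
    rw [h, pow_zero, orderOf_eq_one_iff] at hi
    exact hy1 hi
  have hpd : p ∣ orderOf y := by
    rw [hi]; exact dvd_pow_self p hi0
  set z := y ^ (orderOf y / p) with hz
  have hzord : orderOf z = p := orderOf_pow_orderOf_div (orderOf_pos y).ne' hpd
  have hzQ : z ∈ Q := Q.pow_mem hy _
  have hza : z a = a := by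
    rw [hz]
    exact pow_apply_eq_self_of_apply_eq_self hya _
  -- move a to ω
  let φ : α → α := fun x => if x = a then ω else x
  have hφ : Set.InjOn φ ((insert a S : Finset α) : Set α) := by
    intro u hu v hv huv
    rw [Finset.mem_coe, Finset.mem_insert] at hu hv
    simp only [φ] at huv
    by_cases h1 : u = a <;> by_cases h2 : v = a
    · rw [h1, h2]
    · rw [if_pos h1, if_neg h2] at huv
      exact absurd (huv ▸ (hv.resolve_left h2)) hω
    · rw [if_neg h1, if_pos h2] at huv
      exact absurd (huv.symm ▸ (hu.resolve_left h1)) hω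
    · rwa [if_neg h1, if_neg h2] at huv
  obtain ⟨σ, hσG, hσ⟩ := hG (insert a S) φ (by rw [Finset.card_insert_of_notMem haS, hS]) hφ
  have hσa : σ a = ω := by
    have := hσ a (Finset.mem_insert_self a S)
    simpa [φ] using this
  have hσs : ∀ s ∈ S, σ s = s := by
    intro s hs
    have := hσ s (Finset.mem_insert_of_mem hs)
    have hsa : s ≠ a := fun h => haS (h ▸ hs)
    simpa [φ, hsa] using this
  have hσinv : ∀ s ∈ S, σ⁻¹ s = s := by
    intro s hs
    rw [Perm.inv_eq_iff_eq, hσs s hs]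
  have hσinvω : σ⁻¹ ω = a := by
    rw [Perm.inv_eq_iff_eq, hσa]
  set z' := σ * z * σ⁻¹ with hz'
  have hz'mem : z' ∈ fixG G (insert ω S) := by
    refine ⟨G.mul_mem (G.mul_mem hσG (hQH hzQ).1) (G.inv_mem hσG), ?_⟩
    intro s hs
    rw [Finset.mem_insert] at hs
    rcases hs with h | h
    · rw [h, hz', Perm.mul_apply, Perm.mul_apply, hσinvω, hza, hσa]
    · rw [hz', Perm.mul_apply, Perm.mul_apply, hσinv s h, (hQH hzQ).2 s h, hσs s h]
  have hz'ord : orderOf z' = p := by
    have : z' = MulAut.conj σ z := by simp [hz', MulAut.conj_apply]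
    rw [this, MulEquiv.orderOf_eq, hzord]
  have h1 : orderOf (⟨z', hz'mem⟩ : fixG G (insert ω S)) = p := by
    rw [Subgroup.orderOf_mk]; exact hz'ord
  rw [← h1]
  exact orderOf_dvd_natCard _

end Cfsg.Agent.Lib.Helper22.MillerT
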