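import Mathlib
import Cfsg.Agent.Lib.Helper22.MillerJ

/-!
# Miller's theorem: if `n = kp + r` with `p` prime, `1 ≤ k < p`, `r > k`, `(k, r) ≠ (1, 2)`, then an
`(r+1)`-transitive group of degree `n` contains `A_n`.
-/

set_option autoImplicit false

universe u

namespace Cfsg.Agent.Lib.Helper22.MillerT

open Equiv Equiv.Perm MulAction
open scoped commutatorElement Pointwise

set_option maxHeartbeats 1000000 in
theorem miller_main : ∀ (k : ℕ) {α : Type u} [Fintype α] [DecidableEq α] (G : Subgroup (Perm α))
    (p r : ℕ), p.Prime → Fintype.card α = k * p + r → 1 ≤ k → k < p → k < r →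
    ¬(k = 1 ∧ r = 2) → IsMultiplyPretransitive G α (r + 1) → alternatingGroup α ≤ G := by
  intro k
  induction k using Nat.strong_induction_on with
  | _ k ih =>
  intro α _ _ G p r hp hn hk hkp hkr hex hG
  classical
  haveI : Fact p.Prime := ⟨hp⟩
  have hr3 : 3 ≤ r := by omega
  have hp2 : 2 ≤ p := hp.two_le
  have hkp_pos : 0 < k * p := Nat.mul_pos (by omega) (by omega)
  have hnr : r + 1 ≤ Fintype.card α := by omega
  have hnr' : r + 1 ≤ Nat.card α := by rwa [Nat.card_eq_fintype_card]
  -- easy case
  by_cases hsmall : Fintype.card α ≤ r + 3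
  · apply IsMultiplyPretransitive.alternatingGroup_le
    have h1 : Nat.card α - 2 ≤ r + 1 := by rw [Nat.card_eq_fintype_card]; omega
    exact isMultiplyPretransitive_of_le h1 hnr'
  push Not at hsmall
  have hkp4 : 4 ≤ k * p := by omega
  have hkpp : k * p + p ≤ p ^ 2 := by
    have : (k + 1) * p ≤ p * p := Nat.mul_le_mul_right p (by omega)
    rw [pow_two]; linarith
  have hTT : TT G (r + 1) := TT_of_imp G (r + 1) hG
  have hfin : ∀ g ∈ G, g ≠ 1 → g.support.card ≤ r + 1 → alternatingGroup α ≤ G := by
    intro g hg hg1 hgs
    exact alt_le_of_small_support G (r + 1) (by omega) hG hnr g hg hg1 hgs (by omega)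
  -- base sets
  obtain ⟨Sp, -, hSp⟩ := Finset.exists_subset_card_eq (s := (Finset.univ : Finset α)) (n := r + 1)
    (by rw [Finset.card_univ]; exact hnr)
  obtain ⟨ω, hωSp⟩ : Sp.Nonempty := by
    rw [← Finset.card_pos, hSp]; omega
  set S := Sp.erase ω with hSdef
  have hωS : ω ∉ S := Finset.notMem_erase ω Sp
  have hS : S.card = r := by
    rw [hSdef, Finset.card_erase_of_mem hωSp, hSp]; rfl
  have hSpeq : Sp = insert ω S := by
    rw [hSdef, Finset.insert_erase hωSp]
  by_cases hA : p ∣ Nat.card (fixG G Sp)
  · ------------------------------------------------------------------ Case A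
    obtain ⟨P⟩ := (inferInstance : Nonempty (Sylow p (fixG G Sp)))
    set Q : Subgroup (Perm α) := (P : Subgroup (fixG G Sp)).map (fixG G Sp).subtype with hQdef
    have hQ : IsPGroup p Q := P.isPGroup'.map _
    have hQH : Q ≤ fixG G Sp := by
      rintro _ ⟨z, _, rfl⟩
      exact z.2
    have hcardQ : Nat.card Q = Nat.card P :=
      Subgroup.card_map_of_injective (Subgroup.subtype_injective _)
    have hpQ : p ∣ Nat.card Q := by
      rw [hcardQ]; exact P.dvd_card_of_dvd_card hA
    -- a nontrivial element of Q
    obtain ⟨y, hyQ, hy1⟩ : ∃ y ∈ Q, y ≠ 1 := by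
      by_contra hcon
      push Not at hcon
      have : Q = ⊥ := by
        rw [eq_bot_iff]
        intro y hy
        rw [Subgroup.mem_bot]
        exact hcon y hy
      rw [this, Subgroup.card_bot] at hpQ
      exact hp.one_lt.ne' (Nat.dvd_one.mp hpQ)
    have horb : ∀ a, a ∈ fixSet Q ∨ Nat.card (MulAction.orbit Q a) = p := by
      intro a
      exact orbit_card_of_pgroup p Q hQ Sp (fun y hy s hs => (hQH hy).2 s hs)
        (by rw [hSp, hn]; omega) a
    haveI : Fintype (fixSet Q) := Fintype.ofFinite _
    -- cardinality of the fixed point set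
    set c := Fintype.card (fixSet Q) with hc
    have hcnat : Nat.card (fixSet Q) = c := by rw [Nat.card_eq_fintype_card]
    have hmod : Fintype.card α ≡ c [MOD p] := by
      have := card_fixSet_modEq p Q hQ
      rwa [hcnat] at this
    have hc_lower : r + 1 ≤ c := by
      have h1 : Sp.card ≤ c := by
        rw [hc]
        have : Function.Injective (fun s : Sp => (⟨s.1, fun y hy => (hQH hy).2 s.1 s.2⟩ : fixSet Q)) := by
          intro s s' h
          exact Subtype.ext (congrArg (fun t : fixSet Q => (t : α)) h)
        have := Fintype.card_le_of_injective _ this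
        rwa [Fintype.card_coe] at this
      omega
    have hc_upper : c < Fintype.card α := by
      obtain ⟨a, ha⟩ : ∃ a, y a ≠ a := by
        by_contra hcon
        push Not at hcon
        exact hy1 (Perm.ext hcon)
      have haΦ : a ∉ fixSet Q := fun h => ha (h y hyQ)
      rw [hc]
      have : Fintype.card (fixSet Q) < Fintype.card α := by
        apply Fintype.card_lt_of_injective_of_notMem (fun s : fixSet Q => s.1) Subtype.val_injective (b := a)
        rintro ⟨s, hs⟩
        exact haΦ (hs ▸ s.2)
      exact this
    have hrc : r ≡ c [MOD p] := by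
      have h1 : k * p + r ≡ c [MOD p] := hn ▸ hmod
      have h2 : k * p + r ≡ r [MOD p] := by
        have : k * p ≡ 0 [MOD p] := (Nat.modEq_zero_iff_dvd).mpr (Dvd.intro_left k rfl)
        simpa using this.add_right r
      exact h2.symm.trans h1
    have hdvd : p ∣ c - r := (Nat.modEq_iff_dvd' (by omega)).mp hrc
    obtain ⟨j, hj⟩ := hdvd
    have hcj : c = j * p + r := by
      have : c - r = p * j := hj
      rw [mul_comm] at this
      omega
    have hj1 : 1 ≤ j := by
      rcases Nat.eq_zero_or_pos j with h | h
      · rw [h] at hcj; omega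
      · exact h
    have hjk : j < k := by
      have h1 : j * p + r < k * p + r := by rw [← hcj, ← hn]; exact hc_upper
      have h2 : j * p < k * p := by omega
      exact Nat.lt_of_mul_lt_mul_right h2
    -- the normalizer
    set N : Subgroup (Perm α) := G ⊓ Subgroup.normalizer (Q : Set (Perm α)) with hNdef
    have hNQ : N ≤ Subgroup.normalizer (Q : Set (Perm α)) := inf_le_right
    have hNG : N ≤ G := inf_le_left
    have hIMP := imp_range_of_witt p G (r + 1) hTT Sp hSp P Q hQdef N hNdef
      (fun g hg a => normalizer_fixSet Q g (hNQ hg) a)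
    have hAlt := ih j hjk
      (resHom N (fixSet Q) (fun g hg a => normalizer_fixSet Q g (hNQ hg) a)).range
      p r hp hcj.symm.symm hj1 (by omega) (by omega) (by omega) hIMP
    have hm : Fintype.card α = Nat.card (fixSet Q) + (k - j) * p := by
      rw [hcnat, hcj, hn, Nat.sub_mul]
      have : j * p ≤ k * p := Nat.mul_le_mul_right p hjk.le
      omega
    obtain ⟨g, hgN, hg1, hgs⟩ := exists_small_support_of_alt_fix p Q N hQ hNQ horb (k - j) hm hAlt
      (by rw [← hc, hcj]; nlinarith) (by rw [← hc, hcj]; nlinarith)
    exact hfin g (hNG hgN) hg1 (by omega)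
  · ------------------------------------------------------------------ Case B
    have hA' : ¬ p ∣ Nat.card (fixG G (insert ω S)) := by rwa [← hSpeq]
    have hdvdH : (Fintype.card α - r) ∣ Nat.card (fixG G S) :=
      card_compl_dvd_card_fixG G r hTT S hS ω hωS
    have hpH : p ∣ Nat.card (fixG G S) := by
      refine dvd_trans ?_ hdvdH
      have : Fintype.card α - r = k * p := by omega
      rw [this]
      exact Dvd.intro_left k rfl
    have hTTr : TT G r := TT_of_imp_le G (r + 1) r hG (by omega) hnr
    obtain ⟨P⟩ := (inferInstance : Nonempty (Sylow p (fixG G S)))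
    set Q : Subgroup (Perm α) := (P : Subgroup (fixG G S)).map (fixG G S).subtype with hQdef
    have hQ : IsPGroup p Q := P.isPGroup'.map _
    have hQH : Q ≤ fixG G S := by
      rintro _ ⟨z, _, rfl⟩
      exact z.2
    have hcardQP : Nat.card Q = Nat.card P :=
      Subgroup.card_map_of_injective (Subgroup.subtype_injective _)
    have hpQ : p ∣ Nat.card Q := by
      rw [hcardQP]; exact P.dvd_card_of_dvd_card hpH
    obtain ⟨y, hyQ, hy1⟩ : ∃ y ∈ Q, y ≠ 1 := by
      by_contra hcon
      push Not at hcon
      have : Q = ⊥ := by
        rw [eq_bot_iff]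
        intro y hy
        rw [Subgroup.mem_bot]
        exact hcon y hy
      rw [this, Subgroup.card_bot] at hpQ
      exact hp.one_lt.ne' (Nat.dvd_one.mp hpQ)
    have hsemi := semiregular_of_not_dvd p G r hTT S hS ω hωS hA' Q hQ hQH
    have hfix : fixSet Q = (S : Set α) := by
      ext a
      constructor
      · intro ha
        by_contra haS
        exact hsemi y hyQ hy1 a haS (ha y hyQ)
      · intro ha z hz
        exact (hQH hz).2 a ha
    have horb : ∀ a, a ∈ fixSet Q ∨ Nat.card (MulAction.orbit Q a) = p := by
      intro a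
      exact orbit_card_of_pgroup p Q hQ S (fun y hy s hs => (hQH hy).2 s hs)
        (by rw [hS, hn]; omega) a
    -- card Q = p
    have hcardQ : Nat.card Q = p := by
      have hωΦ : ω ∉ fixSet Q := by rw [hfix]; exact hωS
      have h1 : Nat.card (MulAction.orbit Q ω) = p := (horb ω).resolve_left hωΦ
      have h2 : (MulAction.stabilizer Q ω).index = (MulAction.orbit Q ω).ncard :=
        MulAction.index_stabilizer Q ω
      have h3 : MulAction.stabilizer Q ω = ⊥ := by
        rw [eq_bot_iff]
        intro z hz
        rw [Subgroup.mem_bot]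
        by_contra hz1
        have hz1' : (z : Perm α) ≠ 1 := fun h => hz1 (Subtype.ext h)
        exact hsemi z z.2 hz1' ω hωS hz
      rw [h3, Subgroup.index_bot] at h2
      rw [h2, ← Nat.card_coe_set_eq, h1]
    set N : Subgroup (Perm α) := G ⊓ Subgroup.normalizer (Q : Set (Perm α)) with hNdef
    have hNQ : N ≤ Subgroup.normalizer (Q : Set (Perm α)) := inf_le_right
    have hNG : N ≤ G := inf_le_left
    have hsurj := surj_of_witt p G r hTTr S hS P Q hQdef N hNdef
      (fun g hg a => normalizer_fixSet Q g (hNQ hg) a) hfix
    haveI : Fintype (fixSet Q) := Fintype.ofFinite _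
    have hcardΦ : Fintype.card (fixSet Q) = r := by
      rw [← hS]
      exact Fintype.card_of_subtype S (fun x => by rw [hfix]; rfl)
    have hm : Fintype.card α = Nat.card (fixSet Q) + k * p := by
      rw [Nat.card_eq_fintype_card, hcardΦ, hn]; omega
    have hsupp : ∀ g : Perm α, (∀ a, a ∉ fixSet Q → g a = a) → g.support.card ≤ r + 1 := by
      intro g hg
      have hsub : g.support ⊆ S := by
        intro a ha
        by_contra haS
        have : a ∉ fixSet Q := by rw [hfix]; exact haS
        exact (Perm.mem_support.mp ha) (hg a this)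
      have := Finset.card_le_card hsub
      omega
    by_cases hr5 : 5 ≤ r
    · have hAlt : alternatingGroup (fixSet Q) ≤
          (resHom N (fixSet Q) (fun g hg a => normalizer_fixSet Q g (hNQ hg) a)).range := by
        rw [MonoidHom.range_eq_top.mpr hsurj]
        exact le_top
      obtain ⟨g, hgN, hg1, hgs⟩ := exists_small_support_of_alt_fix p Q N hQ hNQ horb k hm hAlt
        (by rw [hcardΦ]; exact hr5) (by rw [hcardΦ]; omega)
      exact hfin g (hNG hgN) hg1 (by omega)
    · push Not at hr5
      by_cases hr4 : r = 4
      · -- r = 4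
        have hp2' : p ≠ 2 := by
          intro h
          rw [h] at hkp hkp4
          omega
        obtain ⟨g, hgN, hg1, hgfix⟩ := small_case p Q N hcardQ hNQ horb k hm hsurj
          (Or.inr ⟨by rw [hcardΦ, hr4], by omega, hp2'⟩)
        exact hfin g (hNG hgN) hg1 (hsupp g hgfix)
      · have hr3' : r = 3 := by omega
        by_cases hp3 : p = 3
        · -- the exceptional case: n = 9
          have hk2 : k = 2 := by
            rw [hp3] at hkp hkp4
            omega
          have h9 : Fintype.card α = 9 := by rw [hn, hk2, hp3, hr3']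
          have hG4 : IsMultiplyPretransitive G α 4 := by
            have := hG
            rw [hr3'] at this
            exact this
          exact deg_nine G h9 hG4
        · obtain ⟨g, hgN, hg1, hgfix⟩ := small_case p Q N hcardQ hNQ horb k hm hsurj
            (Or.inl ⟨by rw [hcardΦ, hr3'], by omega, hp3⟩)
          exact hfin g (hNG hgN) hg1 (hsupp g hgfix)

end Cfsg.Agent.Lib.Helper22.MillerT
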