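import Mathlib
import Cfsg.Agent.Lib.Helper28.OTDefs
import Cfsg.Agent.Lib.Helper14.S5673TRSTD
import Cfsg.Agent.Lib.Helper18.S5704FOBRIDGE

/-!
# S5681 / S5709 skeleton (v3, PART 7) : the small BRIDGE lemmas  (helper22)

`quadFormOdd_smul`, `quadFormOdd_polar_bilinear`, `no_ts2_of_minus`, `two_ne_zero_of_odd` - exact statements of
`notes/S5681Skel_helper28.lean.txt`.
-/

set_option autoImplicit false
set_option linter.unusedSectionVars false
set_option linter.unusedVariables false

namespace Cfsg.Agent.Lib.Helper22.OTBridgeS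

open Matrix Module
open Cfsg.Agent.Lib.Helper28.OT
open Cfsg.Agent.Lib.Helper3.SpT (bf)

/-- BRIDGE-ODD: `quadFormOdd m F` is a quadratic form -/
theorem quadFormOdd_smul {F : Type*} [Field F] (m : ℕ) (c : F) (v : Unit ⊕ (Fin m ⊕ Fin m) → F) :
    Cfsg.quadFormOdd m F (c • v) = c ^ 2 * Cfsg.quadFormOdd m F v := by
  unfold Cfsg.quadFormOdd
  rw [mul_add, Finset.mul_sum]
  congr 1
  · simp only [Pi.smul_apply, smul_eq_mul]
    ring
  · apply Finset.sum_congr rfl
    intro i _
    simp only [Pi.smul_apply, smul_eq_mul]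
    ring

theorem quadFormOdd_polar_bilinear {F : Type*} [Field F] (m : ℕ) :
    Cfsg.Geo.IsBilinearForm (QuadraticMap.polar (Cfsg.quadFormOdd m F)) :=
  Cfsg.Agent.Lib.Helper14.S5673TRSTD.isBilinearForm_polar_quadFormOdd m

/-- the Gram form of a scaled Gram matrix -/
theorem bf_smul_gram {F : Type*} [Field F] {κ : Type} [Fintype κ] [DecidableEq κ] (f : (κ → F) → (κ → F) → F)
    (hf : Cfsg.Geo.IsBilinearForm f) (c : F) (x y : κ → F) :
    bf (c • Cfsg.Geo.gramMatrix f) x y = c * f x y := by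
  rw [Cfsg.Agent.Lib.Helper18.S5704BRIDGE.bf_smul_mat, ← Cfsg.Agent.Lib.Helper18.S5704BRIDGE.bilin_eq_bf hf]

/-- BRIDGE-MINUS: a symmetric form on `F^4` that is not of plus type has no totally singular line -/
theorem no_ts2_of_minus {F : Type*} [Field F] [Fintype F] (f₂ : (Fin 4 → F) → (Fin 4 → F) → F)
    (hf₂ : Cfsg.Geo.IsSymmetricForm f₂) (hf₂m : ¬ Cfsg.Geo.IsPlusTypeOn (fun v : Fin 4 → F => f₂ v v) ⊤) (c : F) (hc : c ≠ 0) :
    ¬ ∃ u1 u2 : Fin 4 → F, Ts2 (c • Cfsg.Geo.gramMatrix f₂) u1 u2 := by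
  rintro ⟨u1, u2, h⟩
  apply hf₂m
  have h11 : f₂ u1 u1 = 0 := by
    have := h.h11
    rw [bf_smul_gram f₂ hf₂.bilinear] at this
    exact (mul_eq_zero.1 this).resolve_left hc
  have h12 : f₂ u1 u2 = 0 := by
    have := h.h12
    rw [bf_smul_gram f₂ hf₂.bilinear] at this
    exact (mul_eq_zero.1 this).resolve_left hc
  have h22 : f₂ u2 u2 = 0 := by
    have := h.h22
    rw [bf_smul_gram f₂ hf₂.bilinear] at this
    exact (mul_eq_zero.1 this).resolve_left hc
  have h21 : f₂ u2 u1 = 0 := by rw [hf₂.symm, h12]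
  refine ⟨Submodule.span F {u1, u2}, le_top, ?_, ?_⟩
  · intro w hw
    obtain ⟨c1, c2, rfl⟩ := Submodule.mem_span_pair.mp hw
    change f₂ (c1 • u1 + c2 • u2) (c1 • u1 + c2 • u2) = 0
    rw [hf₂.bilinear.add_left, hf₂.bilinear.add_right, hf₂.bilinear.add_right, hf₂.bilinear.smul_left,
      hf₂.bilinear.smul_left, hf₂.bilinear.smul_right, hf₂.bilinear.smul_right, hf₂.bilinear.smul_left,
      hf₂.bilinear.smul_left, hf₂.bilinear.smul_right, hf₂.bilinear.smul_right, h11, h12, h21, h22]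
    ring
  · have hli : LinearIndependent F ![u1, u2] := by
      rw [LinearIndependent.pair_iff]
      intro s t hst
      exact h.indep s t hst
    have hspan : Submodule.span F {u1, u2} = Submodule.span F (Set.range ![u1, u2]) := by
      congr 1
      ext x
      simp only [Set.mem_insert_iff, Set.mem_singleton_iff, Matrix.range_cons, Matrix.range_empty, Set.union_empty,
        Set.union_singleton]
      exact or_comm
    rw [hspan, finrank_span_eq_card hli, finrank_top, Module.finrank_fin_fun]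
    rfl

theorem two_ne_zero_of_odd {F : Type*} [Field F] [Fintype F] (hodd : Odd (Fintype.card F)) : (2 : F) ≠ 0 := by
  intro h2
  have hchar : CharP F 2 := CharTwo.of_one_ne_zero_of_two_eq_zero one_ne_zero h2
  obtain ⟨k, hk⟩ := FiniteField.card F 2
  rw [hk.2] at hodd
  exact (Nat.not_odd_iff_even.2 ((Nat.even_pow.2 ⟨even_two, PNat.ne_zero k⟩))) hodd

end Cfsg.Agent.Lib.Helper22.OTBridgeS
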