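import Mathlib
import Cfsg.Agent.Lib.Helper28.OTDefs
import Cfsg.Agent.Lib.Helper28.OTExitDefs
import Cfsg.Agent.Lib.Helper8.OTRootA
import Cfsg.Agent.Lib.Helper3.SpTL1b

/-!
# S5681 / S5709 EXIT skeleton, block X2 : calculus of `Q_L` and `Z_L`  (helper22)

Exact statements of `notes/S5681Exit_helper28.lean.txt`:
`mem_LpPerp_iff`, `Lp_le_LpPerp`, `img_LpPerp`, `InQ_conj`, `InQ_comm`.
-/

set_option autoImplicit false
set_option linter.unusedSectionVars false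
set_option linter.unusedVariables false

namespace Cfsg.Agent.Lib.Helper22.OTX2

open Matrix Module
open Cfsg.Agent.Lib.Helper16.Tens Cfsg.Agent.Lib.Helper10.TensFund
open Cfsg.Agent.Lib.Helper3.SpT (bf E adj uni Over)
open Cfsg.Agent.Lib.Helper13.TensSO (OrthG IsoG)
open Cfsg.Agent.Lib.Helper28.OT Cfsg.Agent.Lib.Helper28.OTX
open scoped Kronecker

variable {F : Type*} [Field F] [Fintype F] {a b : ℕ}
variable {J1 : Matrix (Fin a) (Fin a) F} {J2 : Matrix (Fin b) (Fin b) F}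
variable {k1 k2 : Fin b → F}

theorem bf_rowL (k : Fin b → F) (v : Fin a × Fin b → F) (i : Fin a) :
    bf J2 (Cfsg.Agent.Lib.Helper8.OTRootA.rowL i v) k = ctr (J2 *ᵥ k) v i := by
  unfold bf
  rw [ctr_apply]
  rfl

theorem ctr_eq_zero_of_perp (hJ1 : OrthG J1) (k : Fin b → F) (v : Fin a × Fin b → F)
    (hv : ∀ u' : Fin a → F, bf (J1 ⊗ₖ J2) v (pur u' k) = 0) : ctr (J2 *ᵥ k) v = 0 := by
  apply hJ1.nondeg
  intro u'
  rw [← Cfsg.Agent.Lib.Helper3.SpT.bf_kron_pur_right]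
  exact hv u'

/-- X2 (a) : `U ⊗ π^⊥ = (U ⊗ π)^⊥` -/
theorem mem_LpPerp_iff (hJ1 : OrthG J1) (hJ2 : OrthG J2) (h : Ts2 J2 k1 k2) (v : Fin a × Fin b → F) :
    v ∈ LpPerp (a := a) J2 k1 k2 ↔ ∀ x ∈ Lp (a := a) k1 k2, bf (J1 ⊗ₖ J2) v x = 0 := by
  constructor
  · intro hv x hx
    unfold LpPerp tW at hv
    unfold Lp tW at hx
    induction hv using Submodule.span_induction with
    | mem v hv =>
      obtain ⟨u, w, hw, rfl⟩ := hv
      induction hx using Submodule.span_induction with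
      | mem x hx =>
        obtain ⟨u', w', hw', rfl⟩ := hx
        obtain ⟨c1, c2, rfl⟩ := Submodule.mem_span_pair.mp hw'
        rw [Cfsg.Agent.Lib.Helper3.SpT.bf_kron_pur, Cfsg.Agent.Lib.Helper3.SpT.bf_add_right,
          Cfsg.Agent.Lib.Helper3.SpT.bf_smul_right, Cfsg.Agent.Lib.Helper3.SpT.bf_smul_right, hw.1, hw.2]
        ring
      | zero => simp
      | add y y' _ _ hy hy' => rw [Cfsg.Agent.Lib.Helper3.SpT.bf_add_right, hy, hy', add_zero]
      | smul c y _ hy => rw [Cfsg.Agent.Lib.Helper3.SpT.bf_smul_right, hy, mul_zero]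
    | zero => simp
    | add y y' _ _ hy hy' => rw [Cfsg.Agent.Lib.Helper3.SpT.bf_add_left, hy, hy', add_zero]
    | smul c y _ hy => rw [Cfsg.Agent.Lib.Helper3.SpT.bf_smul_left, hy, mul_zero]
  · intro hv
    have h1 : ctr (J2 *ᵥ k1) v = 0 :=
      ctr_eq_zero_of_perp hJ1 k1 v (fun u' => hv _ (pur_mem_tW u' (Submodule.subset_span (by simp))))
    have h2 : ctr (J2 *ᵥ k2) v = 0 :=
      ctr_eq_zero_of_perp hJ1 k2 v (fun u' => hv _ (pur_mem_tW u' (Submodule.subset_span (by simp))))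
    unfold LpPerp
    rw [Cfsg.Agent.Lib.Helper8.OTRootA.mem_tW_iff]
    intro i
    rw [mem_piPerp_iff, bf_rowL, bf_rowL, h1, h2]
    exact ⟨rfl, rfl⟩

theorem span_le_piPerp (hJ2 : OrthG J2) (h : Ts2 J2 k1 k2) : Submodule.span F {k1, k2} ≤ piPerp J2 k1 k2 := by
  rw [Submodule.span_le]
  rintro x (rfl | rfl)
  · exact ⟨h.h11, h.h12⟩
  · exact ⟨by rw [hJ2.symm, h.h12], h.h22⟩

/-- X2 (b) -/
theorem Lp_le_LpPerp (hJ2 : OrthG J2) (h : Ts2 J2 k1 k2) : Lp (a := a) k1 k2 ≤ LpPerp (a := a) J2 k1 k2 :=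
  tW_mono (span_le_piPerp hJ2 h)

theorem bf_act_inv_left {g : GL (Fin a × Fin b) F} (hg : g ∈ IsoG (J1 ⊗ₖ J2)) (v x : Fin a × Fin b → F) :
    bf (J1 ⊗ₖ J2) (act g⁻¹ v) x = bf (J1 ⊗ₖ J2) v (act g x) := by
  have := hg (act g⁻¹ v) x
  rw [← act_apply, ← act_apply, act_act_inv] at this
  exact this.symm

theorem img_inv_eq {m : GL (Fin a × Fin b) F} {P : Submodule F (Fin a × Fin b → F)} (hP : img m P = P) :
    img m⁻¹ P = P := by
  conv_lhs => rw [← hP]
  rw [← img_mul, inv_mul_cancel, img_one]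

theorem act_mem_of_img {m : GL (Fin a × Fin b) F} {P : Submodule F (Fin a × Fin b → F)} (hP : img m P = P)
    {v : Fin a × Fin b → F} (hv : v ∈ P) : act m v ∈ P := by
  rw [← hP]
  exact ⟨v, hv, rfl⟩

/-- X2 (c) : an isometry stabilising `L` stabilises `L^⊥` -/
theorem img_LpPerp (hJ1 : OrthG J1) (hJ2 : OrthG J2) (h : Ts2 J2 k1 k2) (m : GL (Fin a × Fin b) F) (hm : m ∈ IsoG (J1 ⊗ₖ J2))
    (hmL : img m (Lp (a := a) k1 k2) = Lp (a := a) k1 k2) :
    img m (LpPerp (a := a) J2 k1 k2) = LpPerp (a := a) J2 k1 k2 := by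
  ext v
  rw [mem_img_iff, mem_LpPerp_iff hJ1 hJ2 h, mem_LpPerp_iff hJ1 hJ2 h]
  constructor
  · intro hv x hx
    have hx' : act m⁻¹ x ∈ Lp (a := a) k1 k2 := act_mem_of_img (img_inv_eq hmL) hx
    have := hv _ hx'
    rw [bf_act_inv_left hm, act_act_inv] at this
    exact this
  · intro hv x hx
    rw [bf_act_inv_left hm]
    exact hv _ (act_mem_of_img hmL hx)

/-- X2 (d) : the shape of `Q_L` is invariant under conjugation by an isometry stabilising `L` -/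
theorem InQ_conj (hJ1 : OrthG J1) (hJ2 : OrthG J2) (h : Ts2 J2 k1 k2) (m : GL (Fin a × Fin b) F) (hm : m ∈ IsoG (J1 ⊗ₖ J2))
    (hmL : img m (Lp (a := a) k1 k2) = Lp (a := a) k1 k2) {g : GL (Fin a × Fin b) F} (hg : InQ J2 k1 k2 g) :
    InQ J2 k1 k2 (m * g * m⁻¹) := by
  have hmP := img_LpPerp hJ1 hJ2 h m hm hmL
  have key : ∀ v, act (m * g * m⁻¹) v - v = act m (act g (act m⁻¹ v) - act m⁻¹ v) := by
    intro v
    rw [act_mul, act_mul, map_sub, act_act_inv]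
  constructor
  · intro v
    rw [key]
    exact act_mem_of_img hmP (hg.top _)
  · intro v hv
    rw [key]
    exact act_mem_of_img hmL (hg.mid _ (act_mem_of_img (img_inv_eq hmP) hv))
  · intro v hv
    have := key v
    rw [hg.fix _ (act_mem_of_img (img_inv_eq hmL) hv), sub_self, map_zero] at this
    exact sub_eq_zero.mp this

/-- the inverse of an element of `Q_L`-shape stabilises `L^⊥` -/
theorem InQ_inv_mem (hJ2 : OrthG J2) (h : Ts2 J2 k1 k2) {g : GL (Fin a × Fin b) F} (hg : InQ J2 k1 k2 g)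
    {v : Fin a × Fin b → F} (hv : v ∈ LpPerp (a := a) J2 k1 k2) : act g⁻¹ v ∈ LpPerp (a := a) J2 k1 k2 := by
  have hl := hg.mid v hv
  have e : act g (v - (act g v - v)) = v := by
    rw [map_sub, hg.fix _ hl]
    abel
  have e2 : act g⁻¹ v = v - (act g v - v) := by
    conv_lhs => rw [← e]
    rw [act_inv_act]
  rw [e2]
  exact Submodule.sub_mem _ hv (Lp_le_LpPerp hJ2 h hl)

/-- X2 (e) : `[Q_L, Q_L] ≤ Z_L` -/
theorem InQ_comm (hJ2 : OrthG J2) (h : Ts2 J2 k1 k2) {g g' : GL (Fin a × Fin b) F} (hg : InQ J2 k1 k2 g) (hg' : InQ J2 k1 k2 g') :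
    InZ J2 k1 k2 (g * g' * g⁻¹ * g'⁻¹) := by
  have key : ∀ v, ∃ w, (v ∈ LpPerp (a := a) J2 k1 k2 → w ∈ LpPerp (a := a) J2 k1 k2) ∧
      act (g * g' * g⁻¹ * g'⁻¹) v - v =
        (act g (act g' w - w) - (act g' w - w)) - (act g' (act g w - w) - (act g w - w)) := by
    intro v
    obtain ⟨w, hw⟩ : ∃ w, w = act g⁻¹ (act g'⁻¹ v) := ⟨_, rfl⟩
    refine ⟨w, fun hv => ?_, ?_⟩
    · rw [hw]
      exact InQ_inv_mem hJ2 h hg (InQ_inv_mem hJ2 h hg' hv)
    have e1 : act (g * g' * g⁻¹ * g'⁻¹) v = act g (act g' w) := by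
      rw [hw, act_mul, act_mul, act_mul]
    have e2 : act g' (act g w) = v := by
      rw [hw, act_act_inv, act_act_inv]
    calc act (g * g' * g⁻¹ * g'⁻¹) v - v = act g (act g' w) - act g' (act g w) := by rw [e1, e2]
      _ = _ := by
        simp only [map_sub]
        abel
  constructor
  · intro v
    obtain ⟨w, -, hw⟩ := key v
    rw [hw]
    exact Submodule.sub_mem _ (hg.mid _ (hg'.top w)) (hg'.mid _ (hg.top w))
  · intro v hv
    obtain ⟨w, hw1, hw⟩ := key v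
    have hwP := hw1 hv
    have a1 : act g (act g' w - w) = act g' w - w := hg.fix _ (hg'.mid _ hwP)
    have a2 : act g' (act g w - w) = act g w - w := hg'.fix _ (hg.mid _ hwP)
    rw [a1, a2, sub_self, sub_self, sub_zero] at hw
    exact sub_eq_zero.mp hw

end Cfsg.Agent.Lib.Helper22.OTX2
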