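import Mathlib
import Cfsg.Agent.H5.SmallOrdD
import Cfsg.Agent.S1010
import Cfsg.Agent.Lib.Helper2.IndexTwo
import Cfsg.Agent.Lib.Helper22.SylowInter

/-!
# No non-abelian simple group of order 4200 (helper22, for S0983)

`|G| = 2³·3·5²·7`.  `n₅ ∈ {6, 21, 56}`: `6` is too small an index, `21` is impossible in any group
(S1010).  If `n₅ = 56 ≢ 1 (mod 25)`, two Sylow 5-subgroups `P ≠ R` meet in `D` of order 5 and
`N = N(D) ≥ P, R` has `|N| = |N ∩ N(P)|·n₅(N)` with `|N ∩ N(P)| ∈ {25, 75}`; as `G` has no proper
subgroup of index `< 10` this forces `|N| = 150`, but a group of order 150 has a normal Sylow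
5-subgroup (inside its subgroup of index 2).
-/

set_option autoImplicit false
set_option linter.unusedSectionVars false
set_option maxRecDepth 100000

namespace Cfsg.Agent.Lib.Helper22.Ord4200

open Cfsg.H5.SmallOrd Cfsg.Agent.Lib.Helper22.SylowInter
open scoped Nat

/-- A group of order 150 has only one Sylow 5-subgroup. -/
theorem sylow5_eq_of_card_150 {N : Type*} [Group N] [Finite N] (h : Nat.card N = 150)
    (Q Q' : Sylow 5 N) : Q = Q' := by
  haveI h2 : Fact (Nat.Prime 2) := ⟨by norm_num⟩
  haveI h5 : Fact (Nat.Prime 5) := ⟨by norm_num⟩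
  obtain ⟨T⟩ : Nonempty (Sylow 2 N) := inferInstance
  have hT : Nat.card (T : Subgroup N) = 2 := by
    have := sylow_card 2 1 75 (by norm_num) (by rw [h]; norm_num) T
    simpa using this
  have hcyc : IsCyclic (T : Subgroup N) := by
    have : Fact (Nat.card (T : Subgroup N)).Prime := ⟨by rw [hT]; exact Nat.prime_two⟩
    exact isCyclic_of_prime_card rfl
  obtain ⟨M, hM⟩ := Cfsg.Agent.Lib.Helper2.exists_index_two_of_cyclic_sylow
    (by rw [h]; decide) T hcyc
  have hMc : Nat.card M = 75 := by
    have := Subgroup.card_mul_index M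
    rw [hM, h] at this
    omega
  -- every Sylow 5-subgroup lies in `M`
  have hle : ∀ S : Sylow 5 N, (S : Subgroup N) ≤ M := by
    intro S x hx
    have hSc : Nat.card (S : Subgroup N) = 5 ^ 2 :=
      sylow_card 5 2 6 (by norm_num) (by rw [h]; norm_num) S
    have hx25 : x ^ 25 = 1 := by
      have h1 : (⟨x, hx⟩ : (S : Subgroup N)) ^ Nat.card (S : Subgroup N) = 1 := pow_card_eq_one'
      rw [hSc] at h1
      have h2 := congrArg Subtype.val h1
      simpa using h2
    have hxx : x * x ∈ M := Subgroup.mul_self_mem_of_index_two hM x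
    have : x = (x * x) ^ 13 := by
      rw [← pow_two, ← pow_mul]
      calc x = x ^ 25 * x := by rw [hx25, one_mul]
        _ = x ^ (2 * 13) := by rw [← pow_succ]
    rw [this]
    exact Subgroup.pow_mem M hxx 13
  -- `M` has a unique Sylow 5-subgroup
  have hss : Subsingleton (Sylow 5 M) := by
    obtain ⟨S⟩ : Nonempty (Sylow 5 M) := inferInstance
    have hidx := sylow_index 5 2 3 (by norm_num) (by rw [hMc]; norm_num) S
    have hdvd : Nat.card (Sylow 5 M) ∣ 3 := by
      rw [← hidx]
      exact S.card_dvd_index
    have hmod : Nat.card (Sylow 5 M) % 5 = 1 := by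
      have := card_sylow_modEq_one 5 M
      unfold Nat.ModEq at this
      rw [this]
    have hle3 := Nat.le_of_dvd (by norm_num) hdvd
    have h1 : Nat.card (Sylow 5 M) = 1 := by
      interval_cases (Nat.card (Sylow 5 M)) <;> omega
    exact (Nat.card_eq_one_iff_unique.mp h1).1
  have heq : Q.subtype (hle Q) = Q'.subtype (hle Q') := Subsingleton.elim _ _
  have h2' : ((Q.subtype (hle Q) : Sylow 5 M) : Subgroup M) =
      ((Q'.subtype (hle Q') : Sylow 5 M) : Subgroup M) := congrArg _ heq
  rw [Sylow.coe_subtype, Sylow.coe_subtype] at h2'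
  apply Sylow.ext
  have h3 := congrArg (Subgroup.map M.subtype) h2'
  rw [Subgroup.subgroupOf_map_subtype, Subgroup.subgroupOf_map_subtype,
    inf_eq_left.mpr (hle Q), inf_eq_left.mpr (hle Q')] at h3
  exact h3

variable {G : Type*} [Group G] [Finite G]

theorem no_4200 [IsSimpleGroup G] (hG : ¬ IsMulCommutative G) : Nat.card G ≠ 4200 := by
  intro hn
  classical
  haveI h5 : Fact (Nat.Prime 5) := ⟨by norm_num⟩
  have hcard : Nat.card G = 5 ^ 2 * 168 := by rw [hn]; norm_num
  obtain ⟨h1, h2, h3, h4⟩ := sylow_num hG 5 2 168 (by norm_num) (by norm_num) (by norm_num) hcard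
  have hle := Nat.le_of_dvd (by norm_num) h1
  have h21 : Nat.card (Sylow 5 G) ≠ 21 := Cfsg.Agent.S1010.result
  -- the only possible value is `n₅ = 56`
  have h56 : Nat.card (Sylow 5 G) = 56 := by
    rw [hn] at h4
    have hdiv : Nat.card (Sylow 5 G) ∈ Nat.divisors 168 := by
      rw [Nat.mem_divisors]; exact ⟨h1, by norm_num⟩
    have hdivs : Nat.divisors 168 = {1, 2, 3, 4, 6, 7, 8, 12, 14, 21, 24, 28, 42, 56, 84, 168} := by
      decide +kernel
    rw [hdivs] at hdiv
    simp only [Finset.mem_insert, Finset.mem_singleton] at hdiv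
    rcases hdiv with h | h | h | h | h | h | h | h | h | h | h | h | h | h | h | h <;>
      rw [h] at h2 h3 h4 <;> first | omega | (exfalso; revert h4; decide) | exact h | (exact absurd h h21)
  obtain ⟨P, R, j, k, i, hPR, hD, hPN, hRN, hj, hk, hi, hj1, hj2, hk1, hk2, hN, hjki, hi1, hfac⟩ :=
    inter_cfg hG 5 168 (by norm_num) (by norm_num) hcard (by rw [h56]; norm_num)
  -- `|N_G(P)| = 75`
  have hNP : Nat.card (Subgroup.normalizer ((P : Subgroup G) : Set G)) = 75 := by
    have hidx : Nat.card (Sylow 5 G) =
        (Subgroup.normalizer ((P : Subgroup G) : Set G)).index :=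
      Sylow.card_eq_index_normalizer P
    have := Subgroup.card_mul_index (Subgroup.normalizer ((P : Subgroup G) : Set G))
    rw [← hidx, h56, hn] at this
    omega
  rw [hNP] at hj2
  rw [hn] at hjki hfac
  -- `j ∈ {25, 75}`
  have hj' : j = 25 ∨ j = 75 := by
    obtain ⟨a, ha⟩ := hj1
    obtain ⟨b, hb⟩ := hj2
    have : a * b = 3 := by
      have : 25 * (a * b) = 25 * 3 := by
        calc 25 * (a * b) = (5 ^ 2 * a) * b := by ring
          _ = 75 := by rw [← ha, ← hb]
      omega
    have ha3 : a ∣ 3 := Dvd.intro _ this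
    have := (Nat.dvd_prime (by norm_num : Nat.Prime 3)).mp ha3
    rcases this with rfl | rfl
    · left; omega
    · right; omega
  -- `|N| = 150`
  have h150 : Nat.card (Subgroup.normalizer
      (((P : Subgroup G) ⊓ (R : Subgroup G) : Subgroup G) : Set G)) = 150 := by
    rw [hN]
    rcases hj' with rfl | rfl
    · -- `k * i = 168`
      have hki : k * i = 168 := by
        have h : 25 * (k * i) = 25 * 168 := by rw [← mul_assoc, hjki]
        exact Nat.eq_of_mul_eq_mul_left (by norm_num) h
      have hkd : k ∈ Nat.divisors 168 := by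
        rw [Nat.mem_divisors]; exact ⟨Dvd.intro _ hki, by norm_num⟩
      have hdivs : Nat.divisors 168 =
          {1, 2, 3, 4, 6, 7, 8, 12, 14, 21, 24, 28, 42, 56, 84, 168} := by
        decide +kernel
      rw [hdivs] at hkd
      simp only [Finset.mem_insert, Finset.mem_singleton] at hkd
      rcases hkd with h | h | h | h | h | h | h | h | h | h | h | h | h | h | h | h <;>
        subst h <;> first | omega | skip
      · -- k = 21, i = 8
        have : i = 8 := by omega
        subst this
        exfalso; revert hfac; decide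
      · -- k = 56, i = 3
        have : i = 3 := by omega
        subst this
        exfalso; revert hfac; decide
    · -- `75 k i = 4200`, `k i = 56`
      have hki : k * i = 56 := by
        have h : 75 * (k * i) = 75 * 56 := by rw [← mul_assoc, hjki]
        exact Nat.eq_of_mul_eq_mul_left (by norm_num) h
      have hkd : k ∈ Nat.divisors 56 := by
        rw [Nat.mem_divisors]; exact ⟨Dvd.intro _ hki, by norm_num⟩
      have hdivs : Nat.divisors 56 = {1, 2, 4, 7, 8, 14, 28, 56} := by decide +kernel
      rw [hdivs] at hkd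
      simp only [Finset.mem_insert, Finset.mem_singleton] at hkd
      rcases hkd with h | h | h | h | h | h | h | h <;> subst h <;> omega
  -- two distinct Sylow 5-subgroups in a group of order 150
  set N : Subgroup G := Subgroup.normalizer
      (((P : Subgroup G) ⊓ (R : Subgroup G) : Subgroup G) : Set G) with hNdef
  have heq : P.subtype hPN = R.subtype hRN := sylow5_eq_of_card_150 h150 _ _
  apply hPR
  have h2' : ((P.subtype hPN : Sylow 5 N) : Subgroup N) =
      ((R.subtype hRN : Sylow 5 N) : Subgroup N) := congrArg _ heq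
  rw [Sylow.coe_subtype, Sylow.coe_subtype] at h2'
  apply Sylow.ext
  have h3' := congrArg (Subgroup.map N.subtype) h2'
  rw [Subgroup.subgroupOf_map_subtype, Subgroup.subgroupOf_map_subtype,
    inf_eq_left.mpr hPN, inf_eq_left.mpr hRN] at h3'
  exact h3'

end Cfsg.Agent.Lib.Helper22.Ord4200
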