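import Mathlib
import Cfsg.Prelude.Def_Perm

/-!
# Perfect groups of semi-affine maps of a finite field are trivial (helper22)

The semi-affine group `x ↦ a φ(x) + b` of a finite field `F` is soluble of derived length at most
three: ring automorphisms of `F` commute, so commutators of semi-affine maps are affine, commutators
of affine maps are translations, and translations commute.  Hence a group with `commutator G = ⊤`
that embeds in the semi-affine group is commutative.
-/

set_option autoImplicit false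

namespace Cfsg.Agent.Lib.Helper22.SemiaffineSolv

open scoped commutatorElement

section field

variable {F : Type*} [Field F]

/-- ring automorphisms of a finite field commute -/
theorem ringEquiv_comm [Finite F] (φ ψ : F ≃+* F) (x : F) : φ (ψ x) = ψ (φ x) := by
  obtain ⟨p, hchar⟩ := CharP.exists F
  have := hchar
  have hp : Fact p.Prime := ⟨CharP.char_is_prime F p⟩
  let _ : Algebra (ZMod p) F := ZMod.algebra F p
  have hcomm : ∀ θ : F ≃+* F, ∀ z : ZMod p,
      θ (algebraMap (ZMod p) F z) = algebraMap (ZMod p) F z := by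
    intro θ z
    have h := Subsingleton.elim ((θ : F →+* F).comp (algebraMap (ZMod p) F))
      (algebraMap (ZMod p) F)
    exact RingHom.congr_fun h z
  let φ' : F ≃ₐ[ZMod p] F := AlgEquiv.ofRingEquiv (f := φ) (hcomm φ)
  let ψ' : F ≃ₐ[ZMod p] F := AlgEquiv.ofRingEquiv (f := ψ) (hcomm ψ)
  let _ : CommGroup (F ≃ₐ[ZMod p] F) := IsCyclic.commGroup
  have h : φ' * ψ' = ψ' * φ' := mul_comm φ' ψ'
  have h2 := AlgEquiv.congr_fun h x
  exact h2

/-- the affine maps `x ↦ a x + b`, `a ≠ 0` -/
def affineGrp (F : Type*) [Field F] : Subgroup (Equiv.Perm F) where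
  carrier := {σ | ∃ a : F, a ≠ 0 ∧ ∃ b : F, ∀ x, σ x = a * x + b}
  one_mem' := ⟨1, one_ne_zero, 0, fun x => by simp⟩
  mul_mem' := by
    rintro σ τ ⟨a, ha, b, hσ⟩ ⟨c, hc, d, hτ⟩
    refine ⟨a * c, mul_ne_zero ha hc, a * d + b, fun x => ?_⟩
    simp only [Equiv.Perm.coe_mul, Function.comp_apply, hτ, hσ]
    ring
  inv_mem' := by
    rintro σ ⟨a, ha, b, hσ⟩
    refine ⟨a⁻¹, inv_ne_zero ha, -(a⁻¹ * b), fun x => ?_⟩
    apply σ.injective
    rw [Equiv.Perm.inv_def, Equiv.apply_symm_apply, hσ]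
    field_simp
    ring

/-- the translations `x ↦ x + b` -/
def translGrp (F : Type*) [Field F] : Subgroup (Equiv.Perm F) where
  carrier := {σ | ∃ b : F, ∀ x, σ x = x + b}
  one_mem' := ⟨0, fun x => by simp⟩
  mul_mem' := by
    rintro σ τ ⟨b, hσ⟩ ⟨d, hτ⟩
    refine ⟨d + b, fun x => ?_⟩
    simp only [Equiv.Perm.coe_mul, Function.comp_apply, hτ, hσ]
    ring
  inv_mem' := by
    rintro σ ⟨b, hσ⟩
    refine ⟨-b, fun x => ?_⟩
    apply σ.injective
    rw [Equiv.Perm.inv_def, Equiv.apply_symm_apply, hσ]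
    ring

theorem commutator_apply_eq (σ τ : Equiv.Perm F) (x : F) :
    ⁅σ, τ⁆ (τ (σ x)) = σ (τ x) := by
  rw [commutatorElement_def]
  simp

/-- commutators of semi-affine maps of a finite field are affine -/
theorem commutator_mem_affineGrp [Finite F] {σ τ : Equiv.Perm F}
    (hσ : σ ∈ Cfsg.semiaffineGroup F) (hτ : τ ∈ Cfsg.semiaffineGroup F) :
    ⁅σ, τ⁆ ∈ affineGrp F := by
  obtain ⟨a, b, φ, hσ⟩ := hσ
  obtain ⟨c, d, ψ, hτ⟩ := hτ
  have ha : (a : F) ≠ 0 := a.ne_zero
  have hc : (c : F) ≠ 0 := c.ne_zero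
  have hψa : ψ (a : F) ≠ 0 := by
    intro h
    exact ha ((map_eq_zero_iff ψ ψ.injective).mp h)
  have hφc : φ (c : F) ≠ 0 := by
    intro h
    exact hc ((map_eq_zero_iff φ φ.injective).mp h)
  -- the key identity in terms of `y = φ (ψ x)`
  have key : ∀ y : F, ⁅σ, τ⁆ ((c : F) * ψ (a : F) * y + ((c : F) * ψ b + d)) =
      (a : F) * φ (c : F) * y + ((a : F) * φ d + b) := by
    intro y
    have h := commutator_apply_eq σ τ (ψ.symm (φ.symm y))
    rw [hσ (ψ.symm (φ.symm y)), hτ, hτ (ψ.symm (φ.symm y)), hσ] at h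
    simp only [map_add, map_mul] at h
    rw [← ringEquiv_comm φ ψ (ψ.symm (φ.symm y))] at h
    simp only [RingEquiv.apply_symm_apply] at h
    have e1 : (c : F) * ψ (a : F) * y + ((c : F) * ψ b + d) =
        (c : F) * (ψ (a : F) * y + ψ b) + d := by ring
    rw [e1, h]
    ring
  refine ⟨(a : F) * φ (c : F) * ((c : F) * ψ (a : F))⁻¹,
    mul_ne_zero (mul_ne_zero ha hφc) (inv_ne_zero (mul_ne_zero hc hψa)),
    ((a : F) * φ d + b) - (a : F) * φ (c : F) * ((c : F) * ψ (a : F))⁻¹ * ((c : F) * ψ b + d),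
    fun z => ?_⟩
  have h := key (((c : F) * ψ (a : F))⁻¹ * (z - ((c : F) * ψ b + d)))
  have h1 : (c : F) * ψ (a : F) * (((c : F) * ψ (a : F))⁻¹ * (z - ((c : F) * ψ b + d))) +
      ((c : F) * ψ b + d) = z := by
    field_simp
    ring
  rw [h1] at h
  rw [h]
  ring

/-- commutators of affine maps are translations -/
theorem commutator_mem_translGrp {σ τ : Equiv.Perm F}
    (hσ : σ ∈ affineGrp F) (hτ : τ ∈ affineGrp F) : ⁅σ, τ⁆ ∈ translGrp F := by
  obtain ⟨a, ha, b, hσ⟩ := hσ
  obtain ⟨c, hc, d, hτ⟩ := hτ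
  have key : ∀ x : F, ⁅σ, τ⁆ (c * (a * x + b) + d) = a * (c * x + d) + b := by
    intro x
    have h := commutator_apply_eq σ τ x
    rwa [hσ x, hτ, hτ x, hσ] at h
  refine ⟨(a * d + b) - (c * b + d), fun z => ?_⟩
  have h := key ((c * a)⁻¹ * (z - (c * b + d)))
  have h1 : c * (a * ((c * a)⁻¹ * (z - (c * b + d))) + b) + d = z := by
    field_simp
    ring
  rw [h1] at h
  rw [h]
  field_simp
  ring

/-- translations commute -/
theorem translGrp_comm {σ τ : Equiv.Perm F}
    (hσ : σ ∈ translGrp F) (hτ : τ ∈ translGrp F) : σ * τ = τ * σ := by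
  obtain ⟨b, hσ⟩ := hσ
  obtain ⟨d, hτ⟩ := hτ
  ext x
  simp only [Equiv.Perm.coe_mul, Function.comp_apply, hτ, hσ]
  ring

end field

/-- A perfect group which embeds in the semi-affine group of a finite field is commutative. -/
theorem comm_of_perfect_of_semiaffine {G : Type*} [Group G] {F : Type*} [Field F] [Finite F]
    (hperf : commutator G = ⊤) (f : G →* Equiv.Perm F) (hinj : Function.Injective f)
    (hf : ∀ g : G, f g ∈ Cfsg.semiaffineGroup F) (a b : G) : a * b = b * a := by
  have h1 : ∀ g : G, f g ∈ affineGrp F := by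
    intro g
    have hg : g ∈ commutator G := by rw [hperf]; trivial
    rw [commutator_def] at hg
    have hle : ⁅(⊤ : Subgroup G), ⊤⁆ ≤ (affineGrp F).comap f := by
      rw [Subgroup.commutator_le]
      intro g₁ _ g₂ _
      rw [Subgroup.mem_comap, map_commutatorElement]
      exact commutator_mem_affineGrp (hf g₁) (hf g₂)
    exact hle hg
  have h2 : ∀ g : G, f g ∈ translGrp F := by
    intro g
    have hg : g ∈ commutator G := by rw [hperf]; trivial
    rw [commutator_def] at hg
    have hle : ⁅(⊤ : Subgroup G), ⊤⁆ ≤ (translGrp F).comap f := by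
      rw [Subgroup.commutator_le]
      intro g₁ _ g₂ _
      rw [Subgroup.mem_comap, map_commutatorElement]
      exact commutator_mem_translGrp (h1 g₁) (h1 g₂)
    exact hle hg
  apply hinj
  rw [map_mul, map_mul]
  exact translGrp_comm (h2 a) (h2 b)

end Cfsg.Agent.Lib.Helper22.SemiaffineSolv
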