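import Mathlib
import Cfsg.Agent.H5.SylowTupleS
import Cfsg.Agent.S0732
import Cfsg.Agent.Lib.Helper22.SemiaffineSolv

/-!
# No non-abelian simple group of order 4960 (helper22, for S0983)

`n₃₁ = 32`, so `G` acts faithfully and transitively on `31 + 1` points with `|G| = 32·31·5`.
By S0732 (`d = 5 < 31`, `5 ≠ 30`, `10 ≠ 30`) the group is a group of semi-affine maps of a finite
field, hence soluble; but a non-abelian simple group is perfect.
-/

set_option autoImplicit false
set_option linter.unusedSectionVars false
set_option maxRecDepth 100000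

namespace Cfsg.Agent.Lib.Helper22.Ord4960

open Cfsg.H5.SmallOrd Cfsg.H5.SylowTuple Cfsg.Agent.Lib.Helper22.SemiaffineSolv

variable {G : Type*} [Group G] [Finite G]

theorem commutator_eq_top_of_simple [IsSimpleGroup G] (hG : ¬ IsMulCommutative G) :
    commutator G = ⊤ := by
  rcases (inferInstance : (commutator G).Normal).eq_bot_or_eq_top with h | h
  · exfalso
    apply hG
    rw [commutator_eq_bot_iff_center_eq_top] at h
    refine ⟨⟨fun a b => ?_⟩⟩
    have ha : a ∈ Subgroup.center G := by rw [h]; trivial
    exact ((Subgroup.mem_center_iff.mp ha) b).symm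
  · exact h

/-- A non-abelian simple group acting transitively on a set with more than one point acts
faithfully. -/
theorem toPermHom_injective_of_simple [IsSimpleGroup G] (α : Type*) [MulAction G α]
    [MulAction.IsPretransitive G α] [Nontrivial α] :
    Function.Injective (MulAction.toPermHom G α) := by
  rw [← MonoidHom.ker_eq_bot_iff]
  rcases (inferInstance : (MulAction.toPermHom G α).ker.Normal).eq_bot_or_eq_top with h | h
  · exact h
  · exfalso
    obtain ⟨x, y, hxy⟩ := exists_pair_ne α
    obtain ⟨g, hg⟩ := MulAction.exists_smul_eq G x y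
    have hgk : g ∈ (MulAction.toPermHom G α).ker := by rw [h]; trivial
    rw [MonoidHom.mem_ker] at hgk
    have : MulAction.toPermHom G α g x = x := by rw [hgk]; rfl
    rw [MulAction.toPermHom_apply, MulAction.toPerm_apply, hg] at this
    exact hxy this.symm

theorem no_4960 [IsSimpleGroup G] (hG : ¬ IsMulCommutative G) : Nat.card G ≠ 4960 := by
  intro hn
  classical
  haveI h31 : Fact (Nat.Prime 31) := ⟨by norm_num⟩
  haveI h2 : Fact (Nat.Prime 2) := ⟨by norm_num⟩
  obtain ⟨t31, ht31, hp31, hsd31⟩ :=
    exists_mem_triples hG 4960 31 hn (by norm_num) (by norm_num) (by norm_num) (by norm_num)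
  have htr31 : triples 4960 31 = [(32, 5, 1)] := by decide +kernel
  rw [htr31, List.mem_singleton] at ht31
  subst ht31
  have hsd : IsSD G 31 32 5 1 := hsd31
  -- the action on the 32 Sylow 31-subgroups
  let α := Sylow 31 G
  haveI : Fintype α := Fintype.ofFinite α
  have hα : Fintype.card α = 31 + 1 := by
    rw [← Nat.card_eq_fintype_card]
    exact hsd.card_sylow
  haveI : Nontrivial α := by
    rw [← Fintype.one_lt_card_iff_nontrivial, hα]
    norm_num
  have hinj : Function.Injective (MulAction.toPermHom G α) := toPermHom_injective_of_simple α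
  let H : Subgroup (Equiv.Perm α) := (MulAction.toPermHom G α).range
  haveI : MulAction.IsPretransitive H α := by
    refine ⟨fun x y => ?_⟩
    obtain ⟨g, hg⟩ := MulAction.exists_smul_eq G x y
    exact ⟨⟨MulAction.toPermHom G α g, ⟨g, rfl⟩⟩, hg⟩
  have hH : Nat.card H = (31 + 1) * 31 * 5 := by
    rw [← Nat.card_congr (MonoidHom.ofInjective hinj).toEquiv, hn]
  rcases Cfsg.Agent.S0732.result (p := 31) (d := 5) h31.out hα H hH (by norm_num) with
    ⟨h, -⟩ | ⟨h, -⟩ | ⟨q, hq, -, -, e, he⟩
  · omega
  · omega
  · haveI : Fact q.Prime := ⟨hq⟩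
    let f : G →* Equiv.Perm (GaloisField 2 q) :=
      (Equiv.permCongrHom e).toMonoidHom.comp (MulAction.toPermHom G α)
    have hfinj : Function.Injective f := by
      intro x y hxy
      exact hinj ((Equiv.permCongrHom e).injective hxy)
    have hf : ∀ g : G, f g ∈ Cfsg.semiaffineGroup (GaloisField 2 q) := by
      intro g
      exact he ⟨MulAction.toPermHom G α g, ⟨g, rfl⟩⟩
    apply hG
    refine ⟨⟨fun a b => ?_⟩⟩
    exact comm_of_perfect_of_semiaffine (commutator_eq_top_of_simple hG) f hfinj hf a b

end Cfsg.Agent.Lib.Helper22.Ord4960
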