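import Mathlib
import Cfsg.Agent.H5.SmallOrdD

/-!
# Counting Sylow subgroups through a subgroup of order `p` (helper22, for S0983)

`P` a Sylow `p`-subgroup of order `p²`, `D ≤ P` of order `p`, `N = N_G(D)`, `M = N_G(P)`.

* `card_normalizer_le`: `|N| ≤ |N ∩ M| · #{R Sylow : D ≤ R}` (the `N`-orbit of `P`).
* `double_count`: `|M| · (#{R : D ≤ R} - 1) ≤ (n_p - 1) · |N ∩ M|`: the `|M : N ∩ M|` conjugates of `D`
  under `M` lie in pairwise disjoint families of Sylow subgroups different from `P`.
-/

set_option autoImplicit false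
set_option linter.unusedSectionVars false

namespace Cfsg.Agent.Lib.Helper22.SylowInterCount

open Cfsg.H5.SmallOrd

variable {G : Type*} [Group G] [Finite G]

theorem mem_smul_sylow_iff {p : ℕ} (g x : G) (R : Sylow p G) :
    x ∈ ((g • R : Sylow p G) : Subgroup G) ↔ g⁻¹ * x * g ∈ (R : Subgroup G) := by
  rw [Sylow.coe_subgroup_smul, Subgroup.mem_pointwise_smul_iff_inv_smul_mem]
  simp [MulAut.smul_def, mul_assoc]

/-- `|N_G(D)| ≤ |N_G(D) ∩ N_G(P)| · #{R : D ≤ R}` for `D ≤ P`. -/
theorem card_normalizer_le {p : ℕ} [Fact p.Prime] (P : Sylow p G) (D : Subgroup G)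
    (hDP : D ≤ (P : Subgroup G)) :
    Nat.card (Subgroup.normalizer (D : Set G)) ≤
      Nat.card (Subgroup.normalizer (D : Set G) ⊓
        Subgroup.normalizer ((P : Subgroup G) : Set G) : Subgroup G) *
      Nat.card {R : Sylow p G // D ≤ (R : Subgroup G)} := by
  set N : Subgroup G := Subgroup.normalizer (D : Set G) with hN
  have hstab : MulAction.stabilizer N P =
      (Subgroup.normalizer ((P : Subgroup G) : Set G)).subgroupOf N := by
    ext n
    rw [MulAction.mem_stabilizer_iff, Subgroup.smul_def, Sylow.smul_eq_iff_mem_normalizer,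
      Subgroup.mem_subgroupOf]
    rfl
  have h1 := Subgroup.card_mul_index (MulAction.stabilizer N P)
  rw [MulAction.index_stabilizer, hstab, card_subgroupOf_eq_card_inf] at h1
  rw [← h1]
  apply Nat.mul_le_mul_left
  have hsub : MulAction.orbit N P ⊆ {R : Sylow p G | D ≤ (R : Subgroup G)} := by
    rintro R ⟨n, rfl⟩
    intro d hd
    change d ∈ ((n • P : Sylow p G) : Subgroup G)
    rw [Subgroup.smul_def, mem_smul_sylow_iff]
    apply hDP
    have hn : (n : G)⁻¹ ∈ Subgroup.normalizer (D : Set G) := Subgroup.inv_mem _ n.2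
    have := (Subgroup.mem_normalizer_iff.mp hn d).mp hd
    simpa using this
  have h2 := Set.ncard_le_ncard hsub (Set.toFinite _)
  rw [← Nat.card_coe_set_eq {R : Sylow p G | D ≤ (R : Subgroup G)}] at h2
  exact h2

/-- a conjugate of `D` under `N_G(P)` lying in another Sylow subgroup `R` is `P ∩ R` -/
theorem map_conj_eq_inf {p : ℕ} [hp : Fact p.Prime] (P : Sylow p G)
    (hPc : Nat.card (P : Subgroup G) = p ^ 2) (D : Subgroup G) (hDP : D ≤ (P : Subgroup G))
    (hDc : Nat.card D = p) {m : G} (hm : m ∈ Subgroup.normalizer ((P : Subgroup G) : Set G))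
    (R : Sylow p G) (hR : R ≠ P) (hr : ∀ d ∈ D, m * d * m⁻¹ ∈ (R : Subgroup G)) :
    D.map (MulAut.conj m).toMonoidHom = (P : Subgroup G) ⊓ (R : Subgroup G) := by
  have hle : D.map (MulAut.conj m).toMonoidHom ≤ (P : Subgroup G) ⊓ (R : Subgroup G) := by
    rintro x ⟨d, hd, rfl⟩
    simp only [MulEquiv.coe_toMonoidHom, MulAut.conj_apply]
    exact ⟨(Subgroup.mem_normalizer_iff.mp hm d).mp (hDP hd), hr d hd⟩
  apply Subgroup.eq_of_le_of_card_ge hle
  rw [Subgroup.card_map_of_injective (MulAut.conj m).injective, hDc]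
  have hdvd : Nat.card ((P : Subgroup G) ⊓ (R : Subgroup G) : Subgroup G) ∣ p ^ 2 := by
    rw [← hPc]
    exact Subgroup.card_dvd_of_le inf_le_left
  obtain ⟨j, hj, hij⟩ := (Nat.dvd_prime_pow hp.out).mp hdvd
  have hj2 : j ≠ 2 := by
    rintro rfl
    apply hR
    have h1 : (P : Subgroup G) ⊓ (R : Subgroup G) = (P : Subgroup G) :=
      Subgroup.eq_of_le_of_card_ge inf_le_left (by rw [hij, hPc])
    exact (sylow_eq_of_le p P R (inf_eq_left.mp h1)).symm
  have hj1 : j ≤ 1 := by omega
  rw [hij]
  calc p ^ j ≤ p ^ 1 := Nat.pow_le_pow_right hp.out.pos hj1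
    _ = p := pow_one p

/-- The double count. -/
theorem double_count {p : ℕ} [hp : Fact p.Prime] (P : Sylow p G)
    (hPc : Nat.card (P : Subgroup G) = p ^ 2) (D : Subgroup G) (hDP : D ≤ (P : Subgroup G))
    (hDc : Nat.card D = p) :
    Nat.card (Subgroup.normalizer ((P : Subgroup G) : Set G)) *
        (Nat.card {R : Sylow p G // D ≤ (R : Subgroup G)} - 1) ≤
      (Nat.card (Sylow p G) - 1) *
        Nat.card (Subgroup.normalizer (D : Set G) ⊓
          Subgroup.normalizer ((P : Subgroup G) : Set G) : Subgroup G) := by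
  classical
  set M : Subgroup G := Subgroup.normalizer ((P : Subgroup G) : Set G) with hM
  set N : Subgroup G := Subgroup.normalizer (D : Set G) with hN
  haveI : Fintype M := Fintype.ofFinite _
  haveI : Fintype (Sylow p G) := Fintype.ofFinite _
  haveI : Fintype (N ⊓ M : Subgroup G) := Fintype.ofFinite _
  let r : M → Sylow p G → Prop := fun m R => ∀ d ∈ D, (m : G) * d * (m : G)⁻¹ ∈ (R : Subgroup G)
  let t : Finset (Sylow p G) := Finset.univ.erase P
  let A : Finset (Sylow p G) :=
    (Finset.univ.filter (fun R : Sylow p G => D ≤ (R : Subgroup G))).erase P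
  have key := Finset.sum_card_bipartiteAbove_eq_sum_card_bipartiteBelow r
    (s := (Finset.univ : Finset M)) (t := t)
  have hL : ∀ m ∈ (Finset.univ : Finset M), A.card ≤ (Finset.bipartiteAbove r t m).card := by
    intro m _
    apply Finset.card_le_card_of_injOn (fun R => (m : G) • R)
    · intro R hR
      have hR' : R ≠ P ∧ D ≤ (R : Subgroup G) := by
        have := Finset.mem_erase.mp hR
        exact ⟨this.1, (Finset.mem_filter.mp this.2).2⟩
      rw [Finset.mem_coe, Finset.mem_bipartiteAbove]
      refine ⟨Finset.mem_erase.mpr ⟨?_, Finset.mem_univ _⟩, ?_⟩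
      · intro h
        apply hR'.1
        have hmP : (m : G) • P = P := Sylow.smul_eq_iff_mem_normalizer.mpr m.2
        rw [← hmP] at h
        exact MulAction.injective (m : G) h
      · intro d hd
        rw [mem_smul_sylow_iff]
        have : (m : G)⁻¹ * ((m : G) * d * (m : G)⁻¹) * (m : G) = d := by group
        rw [this]
        exact hR'.2 hd
    · intro R _ R' _ h
      exact MulAction.injective (m : G) h
  have hU : ∀ R ∈ t, (Finset.bipartiteBelow r Finset.univ R).card ≤
      Fintype.card (N ⊓ M : Subgroup G) := by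
    intro R hR
    have hRP : R ≠ P := (Finset.mem_erase.mp hR).1
    rcases Finset.eq_empty_or_nonempty (Finset.bipartiteBelow r Finset.univ R) with he | ⟨m₀, hm₀⟩
    · rw [he]; simp
    · have hr₀ : r m₀ R := ((Finset.mem_bipartiteBelow _).mp hm₀).2
      have e₀ := map_conj_eq_inf P hPc D hDP hDc m₀.2 R hRP hr₀
      have hmem : ∀ m : M, r m R → (m₀ : G)⁻¹ * (m : G) ∈ (N ⊓ M : Subgroup G) := by
        intro m hrm
        have e := map_conj_eq_inf P hPc D hDP hDc m.2 R hRP hrm
        rw [Subgroup.mem_inf]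
        refine ⟨?_, Subgroup.mul_mem _ (Subgroup.inv_mem _ m₀.2) m.2⟩
        rw [hN, Subgroup.mem_normalizer_iff]
        intro h
        constructor
        · intro hh
          have h1 : (m : G) * h * (m : G)⁻¹ ∈ D.map (MulAut.conj (m : G)).toMonoidHom :=
            ⟨h, hh, by simp [MulAut.conj_apply]⟩
          rw [e, ← e₀] at h1
          obtain ⟨d, hd, hdeq⟩ := h1
          simp only [MulEquiv.coe_toMonoidHom, MulAut.conj_apply] at hdeq
          have : (m₀ : G)⁻¹ * (m : G) * h * ((m₀ : G)⁻¹ * (m : G))⁻¹ = d := by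
            calc (m₀ : G)⁻¹ * (m : G) * h * ((m₀ : G)⁻¹ * (m : G))⁻¹
                = (m₀ : G)⁻¹ * ((m : G) * h * (m : G)⁻¹) * (m₀ : G) := by group
              _ = (m₀ : G)⁻¹ * ((m₀ : G) * d * (m₀ : G)⁻¹) * (m₀ : G) := by rw [hdeq]
              _ = d := by group
          rw [this]
          exact hd
        · intro hh
          have h1 : (m₀ : G) * ((m₀ : G)⁻¹ * (m : G) * h * ((m₀ : G)⁻¹ * (m : G))⁻¹) * (m₀ : G)⁻¹ ∈
              D.map (MulAut.conj (m₀ : G)).toMonoidHom :=
            ⟨_, hh, by simp [MulAut.conj_apply]⟩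
          rw [e₀, ← e] at h1
          obtain ⟨d, hd, hdeq⟩ := h1
          simp only [MulEquiv.coe_toMonoidHom, MulAut.conj_apply] at hdeq
          have : h = d := by
            have h2 : (m : G) * d * (m : G)⁻¹ = (m : G) * h * (m : G)⁻¹ := by
              rw [hdeq]; group
            have h3 := mul_right_cancel h2
            exact (mul_left_cancel h3).symm
          rw [this]
          exact hd
      have hcard := Finset.card_le_card_of_injOn
        (s := Finset.bipartiteBelow r Finset.univ R) (t := (Finset.univ : Finset (N ⊓ M : Subgroup G)))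
        (fun m => if h : r m R then (⟨(m₀ : G)⁻¹ * (m : G), hmem m h⟩ : (N ⊓ M : Subgroup G)) else 1)
        (fun m _ => Finset.mem_coe.mpr (Finset.mem_univ _))
        (by
          intro m hm m' hm' h
          have hrm : r m R := ((Finset.mem_bipartiteBelow _).mp (Finset.mem_coe.mp hm)).2
          have hrm' : r m' R := ((Finset.mem_bipartiteBelow _).mp (Finset.mem_coe.mp hm')).2
          simp only [dif_pos hrm, dif_pos hrm'] at h
          have h2 := congrArg Subtype.val h
          simp only at h2
          exact Subtype.ext (mul_left_cancel h2))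
      rwa [Finset.card_univ] at hcard
  have hA : A.card = Nat.card {R : Sylow p G // D ≤ (R : Subgroup G)} - 1 := by
    have hmem : P ∈ Finset.univ.filter (fun R : Sylow p G => D ≤ (R : Subgroup G)) :=
      Finset.mem_filter.mpr ⟨Finset.mem_univ _, hDP⟩
    rw [Finset.card_erase_of_mem hmem, Nat.card_eq_fintype_card, Fintype.card_subtype]
  have ht : t.card = Nat.card (Sylow p G) - 1 := by
    rw [Finset.card_erase_of_mem (Finset.mem_univ _), Finset.card_univ, Nat.card_eq_fintype_card]
  calc Nat.card M * (Nat.card {R : Sylow p G // D ≤ (R : Subgroup G)} - 1)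
      = ∑ _m ∈ (Finset.univ : Finset M), A.card := by
        rw [Finset.sum_const, Finset.card_univ, smul_eq_mul, hA, Nat.card_eq_fintype_card]
    _ ≤ ∑ m ∈ (Finset.univ : Finset M), (Finset.bipartiteAbove r t m).card :=
        Finset.sum_le_sum hL
    _ = ∑ R ∈ t, (Finset.bipartiteBelow r Finset.univ R).card := key
    _ ≤ ∑ _R ∈ t, Fintype.card (N ⊓ M : Subgroup G) := Finset.sum_le_sum hU
    _ = (Nat.card (Sylow p G) - 1) * Nat.card (N ⊓ M : Subgroup G) := by
        rw [Finset.sum_const, smul_eq_mul, ht]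
        congr 1
        exact Nat.card_eq_fintype_card.symm

end Cfsg.Agent.Lib.Helper22.SylowInterCount
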