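import Mathlib
import Cfsg.Agent.H5.SylowTupleS
import Cfsg.Agent.Lib.Helper7.SylowPrime
import Cfsg.Agent.Lib.Helper10.Ord7920A
import Cfsg.Agent.Lib.Helper22.SylowInter
import Cfsg.Agent.Lib.Helper22.SylowInterCount

/-!
# No non-abelian simple group of order 5600 (helper22, for S0983)

`|G| = 2⁵·5²·7`, `n₅ ∈ {16, 56}` and `|C(P₇)| ∈ {7, 56}`.
* `n₅ = 16`: `|N(P₅)| = 350`, an element of order 7 normalizing `P₅` (order 25, `7 ∤ 24`) commutes
  with a non-trivial element of `P₅`, so `5 ∣ |C(P₇)|`: impossible.
* `n₅ = 56 ≢ 1 (mod 25)`: `D = P ∩ R` of order 5, `N = N(D)`; the arithmetic of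
  `|N| = |N ∩ N(P)|·n₅(N)` forces `|N| = 400` and `N ∩ N(P) = P`.  Then `D` lies in at least
  16 Sylow 5-subgroups and has `100/25 = 4` conjugates under `N(P)`, which gives `4·15 = 60 > 55`
  Sylow 5-subgroups other than `P`.
-/

set_option autoImplicit false
set_option linter.unusedSectionVars false
set_option maxRecDepth 100000

namespace Cfsg.Agent.Lib.Helper22.Ord5600

open Cfsg.H5.SmallOrd Cfsg.H5.SylowTuple Cfsg.Agent.Lib.Helper22.SylowInter
  Cfsg.Agent.Lib.Helper22.SylowInterCount
open scoped Nat

variable {G : Type*} [Group G] [Finite G]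

theorem no_5600 [IsSimpleGroup G] (hG : ¬ IsMulCommutative G) : Nat.card G ≠ 5600 := by
  intro hn
  classical
  haveI h5 : Fact (Nat.Prime 5) := ⟨by norm_num⟩
  haveI h7 : Fact (Nat.Prime 7) := ⟨by norm_num⟩
  have hcard : Nat.card G = 5 ^ 2 * 224 := by rw [hn]; norm_num
  -- Sylow 7 data
  obtain ⟨t7, ht7, hp7, hsd7⟩ :=
    exists_mem_triples hG 5600 7 hn (by norm_num) (by norm_num) (by norm_num) (by norm_num)
  have htr7 : triples 5600 7 = [(50, 2, 8), (400, 2, 1)] := by decide +kernel
  rw [htr7] at ht7
  have hC7 : ∀ P7 : Sylow 7 G,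
      ¬ 5 ∣ Nat.card (Subgroup.centralizer ((P7 : Subgroup G) : Set G)) := by
    intro P7
    simp only [List.mem_cons, List.not_mem_nil, or_false] at ht7
    rcases ht7 with rfl | rfl
    · have hsd : IsSD G 7 50 2 8 := hsd7
      rw [hsd.card_C P7]; norm_num
    · have hsd : IsSD G 7 400 2 1 := hsd7
      rw [hsd.card_C P7]; norm_num
  have hP7c : ∀ P7 : Sylow 7 G, Nat.card (P7 : Subgroup G) = 7 := by
    intro P7
    have := sylow_card 7 1 800 (by norm_num) (by rw [hn]; norm_num) P7
    simpa using this
  -- Sylow 5 numbers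
  obtain ⟨h1, h2, h3, h4⟩ := sylow_num hG 5 2 224 (by norm_num) (by norm_num) (by norm_num) hcard
  have hn5 : Nat.card (Sylow 5 G) = 16 ∨ Nat.card (Sylow 5 G) = 56 := by
    have hdiv : Nat.card (Sylow 5 G) ∈ Nat.divisors 224 := by
      rw [Nat.mem_divisors]; exact ⟨h1, by norm_num⟩
    have hdivs : Nat.divisors 224 = {1, 2, 4, 7, 8, 14, 16, 28, 32, 56, 112, 224} := by
      decide +kernel
    rw [hdivs] at hdiv
    simp only [Finset.mem_insert, Finset.mem_singleton] at hdiv
    rcases hdiv with h | h | h | h | h | h | h | h | h | h | h | h <;>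
      rw [h] at h2 h3 <;> first | omega | (left; exact h) | (right; exact h)
  obtain ⟨P⟩ : Nonempty (Sylow 5 G) := inferInstance
  have hPc : ∀ P : Sylow 5 G, Nat.card (P : Subgroup G) = 5 ^ 2 :=
    fun P => sylow_card 5 2 224 (by norm_num) hcard P
  have hNPmul : ∀ P : Sylow 5 G, Nat.card (Sylow 5 G) *
      Nat.card (Subgroup.normalizer ((P : Subgroup G) : Set G)) = 5600 := by
    intro P
    have hidx : Nat.card (Sylow 5 G) =
        (Subgroup.normalizer ((P : Subgroup G) : Set G)).index :=
      Sylow.card_eq_index_normalizer P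
    have := Subgroup.card_mul_index (Subgroup.normalizer ((P : Subgroup G) : Set G))
    rw [← hidx, hn] at this
    rw [mul_comm]; exact this
  rcases hn5 with h16 | h56
  · -- `n₅ = 16`, `|N(P)| = 350`
    have hNP : Nat.card (Subgroup.normalizer ((P : Subgroup G) : Set G)) = 350 := by
      have := hNPmul P
      rw [h16] at this
      omega
    have h7dvd : 7 ∣ Nat.card (Subgroup.normalizer ((P : Subgroup G) : Set G)) := by
      rw [hNP]; norm_num
    obtain ⟨y, hy⟩ := exists_prime_orderOf_dvd_card' 7 h7dvd
    have hy' : orderOf (y : G) = 7 := by rw [Subgroup.orderOf_coe]; exact hy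
    set Q : Subgroup G := Subgroup.zpowers (y : G) with hQ
    have hQc : Nat.card Q = 7 := by rw [hQ, Nat.card_zpowers, hy']
    have hQN : Q ≤ Subgroup.normalizer ((P : Subgroup G) : Set G) := by
      rw [hQ, Subgroup.zpowers_le]; exact y.2
    have hQP : ∀ z ∈ Q, ∀ g ∈ (P : Subgroup G), z * g * z⁻¹ ∈ (P : Subgroup G) := by
      intro z hz g hg
      exact (Subgroup.mem_normalizer_iff.mp (hQN hz) g).mp hg
    obtain ⟨z, hzQ, hz1, g, hgP, hg1, hcomm⟩ :=
      Cfsg.Agent.Lib.Helper10.Ord7920.exists_commute_of_not_dvd Q (P : Subgroup G) hQP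
        (by rw [hQc, hPc P]; norm_num)
    have hz7 : orderOf z = 7 := by
      have hdvd : orderOf z ∣ 7 := by
        rw [← hy']
        exact orderOf_dvd_of_mem_zpowers hzQ
      rcases (Nat.dvd_prime (by norm_num : Nat.Prime 7)).mp hdvd with h | h
      · exact absurd (orderOf_eq_one_iff.mp h) hz1
      · exact h
    obtain ⟨P7⟩ : Nonempty (Sylow 7 G) := inferInstance
    have hdvd := Cfsg.Agent.Lib.Helper7.SylowPrime.orderOf_dvd_card_centralizer P7 (hP7c P7) hz7
      hcomm.symm
    have hg25 : orderOf g ∣ 5 ^ 2 := by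
      rw [← hPc P]
      have := orderOf_dvd_natCard (⟨g, hgP⟩ : (P : Subgroup G))
      rwa [Subgroup.orderOf_mk] at this
    obtain ⟨a, ha, hga⟩ := (Nat.dvd_prime_pow (by norm_num : Nat.Prime 5)).mp hg25
    have ha0 : a ≠ 0 := by
      rintro rfl
      rw [pow_zero] at hga
      exact hg1 (orderOf_eq_one_iff.mp hga)
    apply hC7 P7
    refine Nat.dvd_trans ?_ hdvd
    rw [hga]
    exact dvd_pow_self 5 ha0
  · -- `n₅ = 56`
    obtain ⟨P, R, j, k, i, hPR, hD, hPN, hRN, hj, hk, hi, hj1, hj2, hk1, hk2, hN, hjki, hi1,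
      hfac⟩ := inter_cfg hG 5 224 (by norm_num) (by norm_num) hcard (by rw [h56]; norm_num)
    have hNP : Nat.card (Subgroup.normalizer ((P : Subgroup G) : Set G)) = 100 := by
      have := hNPmul P
      rw [h56] at this
      omega
    rw [hNP] at hj2
    rw [hn] at hjki hfac
    -- `j ∈ {25, 50, 100}`
    have hj' : j = 25 ∨ j = 50 ∨ j = 100 := by
      obtain ⟨a, ha⟩ := hj1
      obtain ⟨b, hb⟩ := hj2
      have hab : a * b = 4 := by
        have : 25 * (a * b) = 25 * 4 := by
          calc 25 * (a * b) = (5 ^ 2 * a) * b := by ring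
            _ = 100 := by rw [← ha, ← hb]
        omega
      have ha4 : a ∣ 4 := Dvd.intro _ hab
      have hale : a ≤ 4 := Nat.le_of_dvd (by norm_num) ha4
      interval_cases a <;> omega
    -- `j = 25`, `k = 16`, `i = 14`
    have hjk : j = 25 ∧ k = 16 := by
      rcases hj' with rfl | rfl | rfl
      · have hki : k * i = 224 := by
          have h : 25 * (k * i) = 25 * 224 := by rw [← mul_assoc, hjki]
          exact Nat.eq_of_mul_eq_mul_left (by norm_num) h
        have hkd : k ∈ Nat.divisors 224 := by
          rw [Nat.mem_divisors]; exact ⟨Dvd.intro _ hki, by norm_num⟩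
        have hdivs : Nat.divisors 224 = {1, 2, 4, 7, 8, 14, 16, 28, 32, 56, 112, 224} := by
          decide +kernel
        rw [hdivs] at hkd
        simp only [Finset.mem_insert, Finset.mem_singleton] at hkd
        rcases hkd with h | h | h | h | h | h | h | h | h | h | h | h <;>
          subst h <;> first | omega | skip
        · -- k = 56, i = 4
          have : i = 4 := by omega
          subst this
          exfalso; revert hfac; decide
      · have hki : k * i = 112 := by
          have h : 50 * (k * i) = 50 * 112 := by rw [← mul_assoc, hjki]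
          exact Nat.eq_of_mul_eq_mul_left (by norm_num) h
        have hkd : k ∈ Nat.divisors 112 := by
          rw [Nat.mem_divisors]; exact ⟨Dvd.intro _ hki, by norm_num⟩
        have hdivs : Nat.divisors 112 = {1, 2, 4, 7, 8, 14, 16, 28, 56, 112} := by
          decide +kernel
        rw [hdivs] at hkd
        simp only [Finset.mem_insert, Finset.mem_singleton] at hkd
        rcases hkd with h | h | h | h | h | h | h | h | h | h <;>
          subst h <;> first | omega | skip
        · -- k = 16, i = 7
          have : i = 7 := by omega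
          subst this
          exfalso; revert hfac; decide
        · -- k = 56, i = 2
          have : i = 2 := by omega
          subst this
          exfalso; revert hfac; decide
      · have hki : k * i = 56 := by
          have h : 100 * (k * i) = 100 * 56 := by rw [← mul_assoc, hjki]
          exact Nat.eq_of_mul_eq_mul_left (by norm_num) h
        have hkd : k ∈ Nat.divisors 56 := by
          rw [Nat.mem_divisors]; exact ⟨Dvd.intro _ hki, by norm_num⟩
        have hdivs : Nat.divisors 56 = {1, 2, 4, 7, 8, 14, 28, 56} := by decide +kernel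
        rw [hdivs] at hkd
        simp only [Finset.mem_insert, Finset.mem_singleton] at hkd
        rcases hkd with h | h | h | h | h | h | h | h <;> subst h <;> omega
    obtain ⟨rfl, rfl⟩ := hjk
    -- the count
    set D : Subgroup G := (P : Subgroup G) ⊓ (R : Subgroup G) with hDdef
    have hDP : D ≤ (P : Subgroup G) := inf_le_left
    have hC1 := card_normalizer_le P D hDP
    have hC2 := double_count P (hPc P) D hDP hD
    rw [hN, hj] at hC1
    rw [hNP, hj, h56] at hC2
    have h16 : 16 ≤ Nat.card {R : Sylow 5 G // D ≤ (R : Subgroup G)} := by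
      by_contra hlt
      push Not at hlt
      have : 25 * Nat.card {R : Sylow 5 G // D ≤ (R : Subgroup G)} ≤ 25 * 15 :=
        Nat.mul_le_mul_left 25 (by omega)
      omega
    have : 100 * 15 ≤ 100 * (Nat.card {R : Sylow 5 G // D ≤ (R : Subgroup G)} - 1) :=
      Nat.mul_le_mul_left 100 (by omega)
    omega

end Cfsg.Agent.Lib.Helper22.Ord5600
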