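import Mathlib

/-!
# Arithmetic for the order 5760 (helper22, S0980)
-/

set_option autoImplicit false

namespace Cfsg.Agent.Lib.Helper22.Ord5760

/-- the degree equation `1 + δ d₁ + ε' x₀ = 0` of the principal 5-block -/
theorem degree_arith (δ ε' : ℤ) (d₁ x₀ : ℕ) (hδ : δ = 1 ∨ δ = -1) (hε : ε' = 1 ∨ ε' = -1)
    (hd : d₁ ∣ 5760) (hd1 : d₁ ≠ 1) (hdsq : d₁ * d₁ ≤ 5760) (hx : x₀ ∣ 5760)
    (hmod : (5 : ℤ) ∣ (d₁ : ℤ) - δ) (hdeg : 1 + δ * (d₁ : ℤ) + ε' * (x₀ : ℤ) = 0) :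
    δ = -1 ∧ ε' = 1 ∧ ((d₁ = 4 ∧ x₀ = 3) ∨ (d₁ = 9 ∧ x₀ = 8)) := by
  have hd75 : d₁ ≤ 75 := by
    by_contra h
    have h76 : 76 ≤ d₁ := by omega
    have := Nat.mul_le_mul h76 h76
    omega
  have hd0 : 0 < d₁ := Nat.pos_of_dvd_of_pos hd (by norm_num)
  clear hdsq
  rcases hδ with rfl | rfl
  · exfalso
    have h3 : d₁ = 6 ∨ d₁ = 16 ∨ d₁ = 36 := by
      clear hdeg hx
      interval_cases d₁ <;> omega
    rcases hε with rfl | rfl
    · omega
    · rcases h3 with rfl | rfl | rfl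
      · obtain rfl : x₀ = 7 := by omega
        omega
      · obtain rfl : x₀ = 17 := by omega
        omega
      · obtain rfl : x₀ = 37 := by omega
        omega
  · have h4 : d₁ = 4 ∨ d₁ = 9 ∨ d₁ = 24 ∨ d₁ = 64 := by
      clear hdeg hx
      interval_cases d₁ <;> omega
    rcases hε with rfl | rfl
    · refine ⟨rfl, rfl, ?_⟩
      rcases h4 with rfl | rfl | rfl | rfl
      · left; exact ⟨rfl, by omega⟩
      · right; exact ⟨rfl, by omega⟩
      · exfalso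
        obtain rfl : x₀ = 23 := by omega
        omega
      · exfalso
        obtain rfl : x₀ = 63 := by omega
        omega
    · exfalso
      rcases h4 with rfl | rfl | rfl | rfl <;> omega

/-- the case of degrees `(9, 8)`: `|C(t)| ≤ 64` -/
theorem final_98 (c : ℕ) (b : ℤ) (hb2 : b ≤ 8)
    (h : 5 * (c : ℤ) ^ 2 = 80 * (b - 8) ^ 2) : (c : ℤ) = 4 * (8 - b) := by
  have h1 : ((c : ℤ) - 4 * (8 - b)) * ((c : ℤ) + 4 * (8 - b)) = 0 := by
    ring_nf
    ring_nf at h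
    linarith
  rcases mul_eq_zero.mp h1 with h2 | h2 <;> omega

/-- the case of degrees `(4, 3)` is impossible -/
theorem final_43 (c : ℕ) (b : ℤ) (hc : 0 < c) (hb1 : -3 ≤ b) (hb2 : b ≤ 3)
    (h : 5 * (c : ℤ) ^ 2 = 480 * (b - 3) ^ 2) : False := by
  have hc60 : c ≤ 59 := by
    by_contra hcon
    have h60 : (60 : ℤ) ≤ (c : ℤ) := by omega
    have h1 : (b - 3) ^ 2 ≤ 36 := by nlinarith
    nlinarith
  interval_cases b <;> interval_cases c <;> omega

end Cfsg.Agent.Lib.Helper22.Ord5760
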