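import Cfsg.Agent.Lib.Helper11.ExcDegree5
import Cfsg.Agent.Lib.Helper21.BSWCountE
import Cfsg.Agent.Lib.Helper10.Ord7920J
import Cfsg.Agent.H5.SmallOrdBasic

/-!
# Tools for the order 5760 (helper22, S0980)

* `sq_sum_one`: a sum of nonzero integer squares equal to 1 has exactly one term;
* `master_sum`: splitting `∑ χ, F χ * conj (χ x)` along the exceptional family of
  `exc_degree_main2`;
* `isConj_of_mul_eq`: an involution `a` with `a * b = x` (`b` an involution) is conjugate to the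
  involution `t` inverting `x`;
* `exists_two_central_involution`.
-/

set_option autoImplicit false

open Cfsg
open Cfsg.Agent.Lib.Helper2
open Cfsg.Agent.Lib.Helper11
open Cfsg.Agent.Lib.Helper21.BSWCount
open scoped ComplexConjugate

namespace Cfsg.Agent.Lib.Helper22.Ord5760

theorem sq_sum_one {ι : Type*} [DecidableEq ι] (T : Finset ι) (m : ι → ℤ)
    (hm : ∀ χ ∈ T, m χ ≠ 0) (hs : ∑ χ ∈ T, m χ ^ 2 = 1) :
    ∃ χ, T = {χ} ∧ (m χ = 1 ∨ m χ = -1) := by
  have hge1 : ∀ χ ∈ T, (1 : ℤ) ≤ m χ ^ 2 := by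
    intro χ hχ
    have h1 := hm χ hχ
    have : 0 < m χ ^ 2 := by positivity
    omega
  have hcard : (T.card : ℤ) ≤ 1 := by
    rw [← hs]
    have := Finset.sum_le_sum hge1
    simpa using this
  have hne : T.Nonempty := by
    rw [Finset.nonempty_iff_ne_empty]
    intro h
    rw [h, Finset.sum_empty] at hs
    omega
  have hc1 : T.card = 1 := by
    have := Finset.card_pos.mpr hne
    omega
  obtain ⟨χ, hχ⟩ := Finset.card_eq_one.mp hc1
  refine ⟨χ, hχ, ?_⟩
  rw [hχ, Finset.sum_singleton] at hs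
  have h1 : (m χ - 1) * (m χ + 1) = 0 := by ring_nf; ring_nf at hs; omega
  rcases mul_eq_zero.mp h1 with h | h
  · left; omega
  · right; omega

section Master

variable {G : Type*} [Group G] [Fintype G] (H L : Subgroup G) [Fintype L]

theorem master_sum [Fintype (IrrCharacter G)] [Fintype (ExcIdx H L)]
    [hK : (H.subgroupOf L).Normal]
    (hcent : ∀ h ∈ H, h ≠ 1 → ∀ x ∈ L, x * h = h * x → x ∈ H)
    (hab : ∀ a ∈ H, ∀ b ∈ H, a * b = b * a)
    (ε m₀ : ℤ) (f : ExcIdx H L → IrrCharacter G) (Nz : Finset (IrrCharacter G))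
    (m : IrrCharacter G → ℤ) (hinj : Function.Injective f)
    (hNz : ∀ χ, χ ∈ Nz ↔ χ ∉ Set.range f ∧ m χ ≠ 0)
    (hm : ∀ χ ∉ Set.range f, ∀ g ∈ H, g ≠ 1 → (χ : G → ℂ) g = (m χ : ℂ))
    (hf : ∀ θ : ExcIdx H L, ∀ x : L, (x : G) ∈ H → x ≠ 1 →
      (f θ : G → ℂ) x = (m₀ : ℂ) + (ε : ℂ) * (θ.1 : L → ℂ) x)
    (x : L) (hxH : (x : G) ∈ H) (hx1 : x ≠ 1)
    (F : IrrCharacter G → ℂ) (B : ℂ) (hF : ∀ θ, F (f θ) = B) :
    ∑ χ : IrrCharacter G, F χ * conj ((χ : G → ℂ) (x : G))
      = ∑ χ ∈ Nz, F χ * (m χ : ℂ)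
        + B * ((Fintype.card (ExcIdx H L) : ℂ) * (m₀ : ℂ) - (ε : ℂ)) := by
  classical
  have hx1' : (x : G) ≠ 1 := fun h => hx1 (Subtype.ext h)
  have hS1 := exc_sum_apply H L hcent hab x hxH hx1
  have hS1c : ∑ θ : ExcIdx H L, conj ((θ.1 : L → ℂ) x) = -1 := by
    rw [← map_sum, hS1]
    simp
  rw [← Finset.sum_add_sum_compl (Finset.univ.image f),
    Finset.sum_image (fun a _ b _ h => hinj h), add_comm]
  congr 1
  · -- non-exceptional part
    have hsub : Nz ⊆ (Finset.univ.image f)ᶜ := by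
      intro χ hχ
      rw [Finset.mem_compl]
      intro h
      apply ((hNz χ).1 hχ).1
      obtain ⟨θ, -, hθ⟩ := Finset.mem_image.1 h
      exact ⟨θ, hθ⟩
    rw [← Finset.sum_subset hsub]
    · apply Finset.sum_congr rfl
      intro χ hχ
      rw [hm χ ((hNz χ).1 hχ).1 (x : G) hxH hx1', map_intCast]
    · intro χ hχ hχN
      rw [Finset.mem_compl] at hχ
      have hr : χ ∉ Set.range f := by
        rintro ⟨θ, hθ⟩
        exact hχ (Finset.mem_image.2 ⟨θ, Finset.mem_univ _, hθ⟩)
      have h0 : m χ = 0 := by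
        by_contra h
        exact hχN ((hNz χ).2 ⟨hr, h⟩)
      rw [hm χ hr (x : G) hxH hx1', h0]
      simp
  · -- exceptional part
    have hterm : ∀ θ : ExcIdx H L, F (f θ) * conj ((f θ : G → ℂ) (x : G))
        = B * (m₀ : ℂ) + B * (ε : ℂ) * conj ((θ.1 : L → ℂ) x) := by
      intro θ
      rw [hF θ, hf θ x hxH hx1, map_add, map_mul, map_intCast, map_intCast]
      ring
    rw [Finset.sum_congr rfl (fun θ _ => hterm θ), Finset.sum_add_distrib, Finset.sum_const,
      Finset.card_univ, nsmul_eq_mul, ← Finset.mul_sum, hS1c]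
    ring

end Master

section Invol

variable {G : Type*} [Group G]

/-- If `a`, `b` are involutions with `a * b = x`, where `C(x) = ⟨x⟩` has odd order and the
involution `t` inverts `x`, then `a` is conjugate to `t`. -/
theorem isConj_of_mul_eq {t x a b : G} (hodd : Odd (orderOf x))
    (hC : Subgroup.centralizer ({x} : Set G) = Subgroup.zpowers x)
    (htx : t * x * t⁻¹ = x⁻¹) (haa : a * a = 1) (hbb : b * b = 1)
    (hab : a * b = x) : IsConj t a := by
  have hainv : a⁻¹ = a := inv_eq_of_mul_eq_one_left haa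
  have hbinv : b⁻¹ = b := inv_eq_of_mul_eq_one_left hbb
  have h1 : a * x * a⁻¹ = x⁻¹ := by
    rw [← hab, mul_inv_rev, hainv, hbinv]
    calc a * (a * b) * a = (a * a) * b * a := by group
      _ = b * a := by rw [haa, one_mul]
  have h2 : t⁻¹ * x⁻¹ * t = x := by
    have : x⁻¹ = t * x * t⁻¹ := htx.symm
    rw [this]; group
  have h3 : a * x = x⁻¹ * a := by
    have := congrArg (· * a) h1
    simpa [mul_assoc] using this
  have hmem : t⁻¹ * a ∈ Subgroup.zpowers x := by
    rw [← hC, Subgroup.mem_centralizer_iff]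
    intro z hz
    rw [Set.mem_singleton_iff] at hz
    subst hz
    calc z * (t⁻¹ * a) = (t⁻¹ * z⁻¹ * t) * (t⁻¹ * a) := by rw [h2]
      _ = t⁻¹ * (z⁻¹ * a) := by group
      _ = t⁻¹ * (a * z) := by rw [h3]
      _ = t⁻¹ * a * z := by group
  have := isConj_mul_of_mem_zpowers hodd htx hmem
  rwa [mul_inv_cancel_left] at this

/-- centralizers of conjugate elements have the same order -/
theorem card_centralizer_eq_of_isConj {u v : G} (h : IsConj u v) :
    Nat.card (Subgroup.centralizer ({u} : Set G)) = Nat.card (Subgroup.centralizer ({v} : Set G)) := by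
  obtain ⟨c, hc⟩ := isConj_iff.mp h
  refine Nat.card_congr
    { toFun := fun g => ⟨c * (g : G) * c⁻¹, ?_⟩
      invFun := fun g => ⟨c⁻¹ * (g : G) * c, ?_⟩
      left_inv := fun g => Subtype.ext (by simp [mul_assoc])
      right_inv := fun g => Subtype.ext (by simp [mul_assoc]) }
  · have hg := Subgroup.mem_centralizer_iff.mp g.2 u rfl
    rw [Subgroup.mem_centralizer_iff]
    intro y hy
    rw [Set.mem_singleton_iff] at hy
    subst hy
    rw [← hc]
    calc c * u * c⁻¹ * (c * (g : G) * c⁻¹) = c * (u * (g : G)) * c⁻¹ := by group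
      _ = c * ((g : G) * u) * c⁻¹ := by rw [hg]
      _ = c * (g : G) * c⁻¹ * (c * u * c⁻¹) := by group
  · have hg := Subgroup.mem_centralizer_iff.mp g.2 v rfl
    rw [Subgroup.mem_centralizer_iff]
    intro y hy
    rw [Set.mem_singleton_iff] at hy
    subst hy
    have hu : y = c⁻¹ * v * c := by rw [← hc]; group
    rw [hu]
    calc c⁻¹ * v * c * (c⁻¹ * (g : G) * c) = c⁻¹ * (v * (g : G)) * c := by group
      _ = c⁻¹ * ((g : G) * v) * c := by rw [hg]
      _ = c⁻¹ * (g : G) * c * (c⁻¹ * v * c) := by group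

/-- a 2-central involution -/
theorem exists_two_central_involution [Finite G] (hG : Nat.card G = 5760) :
    ∃ z : G, z * z = 1 ∧ z ≠ 1 ∧ 128 ∣ Nat.card (Subgroup.centralizer ({z} : Set G)) := by
  have : Fact (Nat.Prime 2) := ⟨by norm_num⟩
  obtain ⟨S⟩ : Nonempty (Sylow 2 G) := inferInstance
  have hS : Nat.card (S : Subgroup G) = 2 ^ 7 :=
    Cfsg.H5.SmallOrd.sylow_card 2 7 45 (by norm_num) (by rw [hG]; norm_num) S
  have hne : (S : Subgroup G) ≠ ⊥ := by
    intro h
    rw [h, Subgroup.card_bot] at hS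
    norm_num at hS
  obtain ⟨z, hzS, hz2, hzc⟩ :=
    Cfsg.Agent.Lib.Helper10.Ord7920.exists_central_involution (T := (S : Subgroup G))
      (Q := (S : Subgroup G)) S.isPGroup' le_rfl
      (fun u hu g hg => Subgroup.mul_mem _ (Subgroup.mul_mem _ hu hg) (Subgroup.inv_mem _ hu)) hne
  refine ⟨z, ?_, ?_, ?_⟩
  · have := pow_orderOf_eq_one z
    rwa [hz2, pow_two] at this
  · intro h
    rw [h, orderOf_one] at hz2
    omega
  · have hle : (S : Subgroup G) ≤ Subgroup.centralizer ({z} : Set G) := by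
      intro u hu
      rw [Subgroup.mem_centralizer_iff]
      intro y hy
      rw [Set.mem_singleton_iff] at hy
      subst hy
      exact (hzc u hu).eq
    have := Subgroup.card_dvd_of_le hle
    rw [hS] at this
    norm_num at this
    exact this

end Invol

end Cfsg.Agent.Lib.Helper22.Ord5760
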