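import Cfsg.Agent.S0904
import Cfsg.Agent.Lib.Helper7.PrimeSylowNC
import Cfsg.Agent.Lib.Helper7.PairCount2
import Cfsg.Agent.Lib.Helper11.ExcSimple
import Cfsg.Agent.Lib.Helper11.Clifford5
import Cfsg.Agent.Lib.Helper2.PermLemma
import Cfsg.Agent.Lib.Helper25.Kernel
import Cfsg.Agent.Lib.Helper21.BSWCountF
import Cfsg.Agent.Lib.Helper22.Ord5760A
import Cfsg.Agent.Lib.Helper22.Ord5760B

/-!
# No simple group of order 5760 (helper22, S0980)

`5760 = 2^7 * 3^2 * 5`.  A Sylow 5-subgroup `P = ⟨x⟩` is self-centralising (S0904) with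
`|N(P)| = 10`.  helper11's exceptional characters give the principal 5-block `1, χ₁, Θ, Θ'` with
`χ₁(x) = -1`, `Θ(x) + Θ'(x) = 1` and degrees `(χ₁(1), Θ(1)) = (4, 3)` or `(9, 8)`.  For an
involution `s`, column orthogonality against `x` gives `χ₁(s) = 1 + Θ(s)`, and the number of
pairs `(s₁, s₂)` of conjugates of `s` with `s₁ s₂ = x` is `480 (Θ(s) - 3)^2 / |C(s)|^2` resp.
`80 (Θ(s) - 8)^2 / |C(s)|^2`.  For the involution `t` inverting `x` this number is `5`
(helper21's `bsw_identity`): `(4, 3)` is impossible and `(9, 8)` forces `|C(t)| = 4 (8 - Θ(t)) ≤ 64`.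
So a 2-central involution `z` is not conjugate to `t`, its number of pairs is `0`, hence
`Θ(z) = 8 = Θ(1)`, `z ∈ ker Θ = G`, `Θ(t) = 8`, `|C(t)| = 0`: contradiction.
-/

set_option autoImplicit false
set_option linter.style.haveILetI false

open Cfsg
open Cfsg.Agent.Lib.Helper2
open Cfsg.Agent.Lib.Helper7
open Cfsg.Agent.Lib.Helper11
open Cfsg.Agent.Lib.Helper21.BSWCount
open scoped ComplexConjugate

namespace Cfsg.Agent.Lib.Helper22.Ord5760

set_option maxHeartbeats 1600000 in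
theorem no_5760_core {G : Type*} [Group G] [Finite G] [IsSimpleGroup G] : Nat.card G ≠ 5760 := by
  intro hG
  classical
  haveI : Fact (Nat.Prime 5) := ⟨by norm_num⟩
  obtain ⟨S⟩ : Nonempty (Sylow 5 G) := inferInstance
  have hC := Cfsg.Agent.S0904.result 2 3 5 7 2 Nat.prime_two Nat.prime_three (by norm_num)
    (by norm_num) (by norm_num) (by rw [hG]; norm_num) S
  have hC' : Subgroup.centralizer ((S : Subgroup G) : Set G) = (S : Subgroup G) := hC
  have hS : Nat.card (S : Subgroup G) = 5 :=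
    card_eq_prime_of_sylow S (by rw [hG]; norm_num) (by rw [hG]; norm_num)
  have hrel := Cfsg.Agent.Lib.Helper10.Ord7920.relIndex_dvd_pred_of_card_prime (S : Subgroup G)
    (by norm_num : Nat.Prime 5) hS
  rw [hC'] at hrel
  have hle : (S : Subgroup G) ≤ Subgroup.normalizer ((S : Subgroup G) : Set G) :=
    Subgroup.le_normalizer
  have hN : Nat.card (Subgroup.normalizer ((S : Subgroup G) : Set G))
      = 5 * (S : Subgroup G).relIndex (Subgroup.normalizer ((S : Subgroup G) : Set G)) := by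
    have h1 := Subgroup.card_mul_index
      ((S : Subgroup G).subgroupOf (Subgroup.normalizer ((S : Subgroup G) : Set G)))
    rw [Nat.card_congr (Subgroup.subgroupOfEquivOfLe hle).toEquiv, hS] at h1
    exact h1.symm
  have hn5 : Nat.card (Sylow 5 G) = (Subgroup.normalizer ((S : Subgroup G) : Set G)).index :=
    Sylow.card_eq_index_normalizer S
  have hmod : Nat.card (Sylow 5 G) ≡ 1 [MOD 5] := card_sylow_modEq_one 5 G
  have hidx := Subgroup.card_mul_index (Subgroup.normalizer ((S : Subgroup G) : Set G))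
  rw [hN, hG, ← hn5] at hidx
  have hrelidx : ((S : Subgroup G).subgroupOf
      (Subgroup.normalizer ((S : Subgroup G) : Set G))).index
      = (S : Subgroup G).relIndex (Subgroup.normalizer ((S : Subgroup G) : Set G)) := rfl
  set e := (S : Subgroup G).relIndex (Subgroup.normalizer ((S : Subgroup G) : Set G)) with he
  set n := Nat.card (Sylow 5 G) with hn
  have he2 : e = 2 := by
    have h4 : e ∣ 4 := hrel
    have hle4 : e ≤ 4 := Nat.le_of_dvd (by norm_num) h4
    have hmod' : n % 5 = 1 := hmod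
    interval_cases e <;> omega
  rw [he2] at hN hrelidx
  obtain ⟨x, t, hox, hzx, hCx, htN, htt, ht1, htx⟩ :=
    exists_local_setup (S : Subgroup G) (by norm_num : Nat.Prime 5) (by norm_num) hS hC'
      (by rw [hN]; norm_num)
  have hodd : Odd (orderOf x) := by rw [hox]; decide
  have hx1 : x ≠ 1 := by
    intro h
    rw [h, orderOf_one] at hox
    omega
  haveI : Fintype G := Fintype.ofFinite G
  haveI : Fintype (IrrCharacter G) := Fintype.ofFinite _
  have hna : ¬ ∀ a b : G, a * b = b * a :=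
    not_comm_of_normalizer_card_lt (S : Subgroup G) (by rw [hN, hG]; norm_num)
  -- exceptional characters
  set P : Subgroup G := (S : Subgroup G) with hPdef
  set L : Subgroup G := Subgroup.normalizer (P : Set G) with hLdef
  haveI : Fintype L := Fintype.ofFinite _
  have hp5 : Nat.Prime 5 := by norm_num
  have hHn : ∀ y ∈ L, ∀ h ∈ P, y * h * y⁻¹ ∈ P := by
    intro y hy h hh
    exact (Subgroup.mem_normalizer_iff.1 hy h).1 hh
  have hab : ∀ a ∈ P, ∀ b ∈ P, a * b = b * a := by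
    intro a ha b hb
    have ha' : a ∈ Subgroup.centralizer (P : Set G) := by rw [hC']; exact ha
    exact ((Subgroup.mem_centralizer_iff.1 ha') b hb).symm
  have hcent : ∀ h ∈ P, h ≠ 1 → ∀ y ∈ L, y * h = h * y → y ∈ P := by
    intro h hh hh1 y _ hyh
    rw [← hC', Subgroup.mem_centralizer_iff]
    intro w hw
    have hw' : w ∈ Subgroup.zpowers h := by
      rw [zpowers_eq_of_prime_card P hp5 hS hh hh1]
      exact hw
    obtain ⟨k, rfl⟩ := Subgroup.mem_zpowers_iff.1 hw'
    have hc : Commute y h := hyh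
    exact (hc.zpow_right k).symm.eq
  have hTI := isTISubset_of_prime_card P hp5 hS
  haveI hKn : (P.subgroupOf L).Normal := subgroupOf_normal_of_conj P L hHn
  haveI : Fintype (ExcIdx P L) := Fintype.ofFinite _
  have hcm := exc_card_mul P L hle hcent hab
  rw [hrelidx, hS] at hcm
  have hcardE : Fintype.card (ExcIdx P L) = 2 := by omega
  have hcardE' : Nat.card (ExcIdx P L) = 2 := by rw [Nat.card_eq_fintype_card, hcardE]
  obtain ⟨ε, m₀, x₀, f, Nz, m, d, hε, hinj, hd, hdf, htriv, hmtriv, hNz, hm, hdvd5, hfval, hfoff,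
    hnorm, hdeg, -⟩ := exc_degree_main2 P L hHn hcent hTI rfl hab (by rw [hcardE'])
  rw [hcardE', hrelidx] at hnorm
  rw [hcardE'] at hdeg
  push_cast at hnorm hdeg
  set τ : IrrCharacter G := trivialIrr G with hτ
  have hτv : ∀ g : G, (τ : G → ℂ) g = 1 := fun g => rfl
  have hτNz : τ ∈ Nz := (hNz τ).2 ⟨htriv, by rw [hmtriv]; norm_num⟩
  have hdτ : d τ = 1 := by
    have := hd τ
    rw [hτv] at this
    exact_mod_cast this.symm
  set T := Nz.erase τ with hT
  have hNzsum : ∀ {M : Type} [AddCommMonoid M] (F : IrrCharacter G → M),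
      ∑ χ ∈ Nz, F χ = F τ + ∑ χ ∈ T, F χ := by
    intro M _ F
    rw [Finset.add_sum_erase Nz F hτNz]
  have hTm : ∀ χ ∈ T, m χ ≠ 0 := fun χ hχ => ((hNz χ).1 (Finset.mem_of_mem_erase hχ)).2
  have hk : 0 ≤ m₀ * (m₀ - ε) := by
    rcases hε with rfl | rfl
    · rcases le_or_gt m₀ 0 with h | h <;> nlinarith
    · rcases le_or_gt 0 m₀ with h | h <;> nlinarith
  have hTnn : 0 ≤ ∑ χ ∈ T, m χ ^ 2 := Finset.sum_nonneg (fun χ _ => sq_nonneg _)
  rw [hNzsum, hmtriv] at hnorm
  have hkk : ∑ χ ∈ T, m χ ^ 2 + 2 * (m₀ * (m₀ - ε)) = 1 := by linear_combination hnorm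
  have hT1k : ∑ χ ∈ T, m χ ^ 2 = 1 ∧ m₀ * (m₀ - ε) = 0 := by
    generalize m₀ * (m₀ - ε) = k at hk hkk
    generalize ∑ χ ∈ T, m χ ^ 2 = s at hTnn hkk
    omega
  obtain ⟨hT1, hk0⟩ := hT1k
  obtain ⟨χ₁, hTχ, hδ⟩ := sq_sum_one T m hTm hT1
  have hχ₁T : χ₁ ∈ T := by rw [hTχ]; simp
  have hχ₁Nz : χ₁ ∈ Nz := Finset.mem_of_mem_erase hχ₁T
  have hχ₁τ : χ₁ ≠ τ := Finset.ne_of_mem_erase hχ₁T
  have hχ₁r : χ₁ ∉ Set.range f := ((hNz χ₁).1 hχ₁Nz).1
  have hNz2 : ∀ {M : Type} [AddCommMonoid M] (F : IrrCharacter G → M),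
      ∑ χ ∈ Nz, F χ = F τ + F χ₁ := by
    intro M _ F
    rw [hNzsum, hTχ, Finset.sum_singleton]
  have hε'1 : 2 * m₀ - ε = 1 ∨ 2 * m₀ - ε = -1 := by
    rcases mul_eq_zero.mp hk0 with h | h <;> rcases hε with h1 | h1 <;> omega
  rw [hNz2, hmtriv, hdτ] at hdeg
  -- degrees
  have hdvd : ∀ χ : IrrCharacter G, d χ ∣ 5760 := by
    intro χ
    obtain ⟨d', h1, h2⟩ := IsIrrCharacter.exists_degree_dvd_card χ.2
    have : (d χ : ℂ) = (d' : ℂ) := by rw [← hd χ, h1]
    have h3 : d χ = d' := by exact_mod_cast this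
    rw [h3, ← hG]
    exact h2
  have hdsum : ∑ χ : IrrCharacter G, d χ * d χ = 5760 := by
    have h := sum_irr_mul_one (1 : G)
    rw [if_pos rfl, hG] at h
    have h2 : ∑ χ : IrrCharacter G, (χ : G → ℂ) 1 * (χ : G → ℂ) 1
        = ((∑ χ : IrrCharacter G, d χ * d χ : ℕ) : ℂ) := by
      push_cast
      apply Finset.sum_congr rfl
      intro χ _
      rw [hd χ]
    rw [h2] at h
    exact_mod_cast h
  have hdsq : ∀ χ : IrrCharacter G, d χ * d χ ≤ 5760 := by
    intro χ
    rw [← hdsum]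
    exact Finset.single_le_sum (f := fun χ => d χ * d χ) (fun _ _ => Nat.zero_le _)
      (Finset.mem_univ χ)
  have hd1 : d χ₁ ≠ 1 := by
    intro h1
    apply hχ₁τ
    apply eq_trivialIrr_of_degree_one hna χ₁
    rw [hd χ₁, h1]
    simp
  obtain ⟨θa⟩ : Nonempty (ExcIdx P L) := Fintype.card_pos_iff.mp (by rw [hcardE]; norm_num)
  have hx₀dvd : x₀ ∣ 5760 := by rw [← hdf θa]; exact hdvd (f θa)
  have hmod5 : (5 : ℤ) ∣ (d χ₁ : ℤ) - m χ₁ := by
    have := hdvd5 χ₁ hχ₁r
    rwa [hS] at this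
  obtain ⟨hδ1, hε1, hcases⟩ := degree_arith (m χ₁) (2 * m₀ - ε) (d χ₁) x₀ hδ hε'1 (hdvd χ₁) hd1
    (hdsq χ₁) hx₀dvd hmod5 (by linear_combination hdeg)
  -- the master identity
  have hxP : x ∈ P := by rw [← hzx]; exact Subgroup.mem_zpowers x
  have hxL1 : (⟨x, hle hxP⟩ : L) ≠ 1 := fun h => hx1 (congrArg Subtype.val h)
  have hmaster : ∀ (F : IrrCharacter G → ℂ) (B : ℂ), (∀ θ, F (f θ) = B) →
      ∑ χ : IrrCharacter G, F χ * conj ((χ : G → ℂ) x) = F τ - F χ₁ + B := by
    intro F B hF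
    have h := master_sum P L hcent hab ε m₀ f Nz m hinj hNz hm hfval ⟨x, hle hxP⟩ hxP hxL1 F B hF
    rw [hNz2, hmtriv, hcardE, hδ1] at h
    have h3 : ((2 : ℕ) : ℂ) * (m₀ : ℂ) - (ε : ℂ) = 1 := by
      have : (((2 * m₀ - ε : ℤ)) : ℂ) = 1 := by rw [hε1]; simp
      push_cast at this
      exact this
    rw [h3] at h
    rw [h]
    push_cast
    ring
  -- involutions
  have hinvol : ∀ s : G, s * s = 1 → s ≠ 1 →
      (1 : ℂ) - (χ₁ : G → ℂ) s + (f θa : G → ℂ) s = 0 ∧
      ∑ χ : IrrCharacter G,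
        ((χ : G → ℂ) s * (χ : G → ℂ) s / (χ : G → ℂ) 1) * conj ((χ : G → ℂ) x)
        = 1 - (χ₁ : G → ℂ) s * (χ₁ : G → ℂ) s / (d χ₁ : ℂ)
          + (f θa : G → ℂ) s * (f θa : G → ℂ) s / (x₀ : ℂ) := by
    intro s hss hs1
    have hsP : ∀ k : G, k * s * k⁻¹ ∉ P := by
      intro k hk
      have h2 : (k * s * k⁻¹) ^ 2 = 1 := by
        rw [pow_two]
        calc k * s * k⁻¹ * (k * s * k⁻¹) = k * (s * s) * k⁻¹ := by group
          _ = 1 := by rw [hss]; group
      have h5 : orderOf (k * s * k⁻¹) ∣ 5 := by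
        have := orderOf_dvd_natCard (⟨_, hk⟩ : P)
        rwa [Subgroup.orderOf_mk, hS] at this
      have h2' := orderOf_dvd_of_pow_eq_one h2
      have h1 : orderOf (k * s * k⁻¹) = 1 := by
        have := Nat.dvd_gcd h5 h2'
        simpa using this
      rw [orderOf_eq_one_iff] at h1
      apply hs1
      calc s = k⁻¹ * (k * s * k⁻¹) * k := by group
        _ = 1 := by rw [h1]; group
    have hnc : ¬ IsConj s x := by
      intro h
      obtain ⟨c, hc⟩ := isConj_iff.mp h
      apply hsP c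
      rw [hc]; exact hxP
    have hoff : ∀ θ, (f θ : G → ℂ) s = (f θa : G → ℂ) s := fun θ => hfoff θ θa s hsP
    constructor
    · have h := hmaster (fun χ => (χ : G → ℂ) s) _ hoff
      rw [column_orthogonality s x, if_neg hnc] at h
      simp only [hτv] at h
      exact h.symm
    · have h := hmaster (fun χ => (χ : G → ℂ) s * (χ : G → ℂ) s / (χ : G → ℂ) 1)
        ((f θa : G → ℂ) s * (f θa : G → ℂ) s / (x₀ : ℂ)) (by
          intro θ
          show (f θ : G → ℂ) s * (f θ : G → ℂ) s / (f θ : G → ℂ) 1 = _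
          rw [hoff θ, hd (f θ), hdf θ])
      rw [h]
      simp only [hτv, hd χ₁]
      ring
  -- the involution `t`
  obtain ⟨ht_lin, ht_sum⟩ := hinvol t htt ht1
  have hid := bsw_identity t x hodd hCx htt htx
  rw [hox, hG] at hid
  have hid2 : ∑ χ : IrrCharacter G,
      (χ : G → ℂ) t * (χ : G → ℂ) t * (χ : G → ℂ) x⁻¹ / (χ : G → ℂ) 1
      = ∑ χ : IrrCharacter G,
        ((χ : G → ℂ) t * (χ : G → ℂ) t / (χ : G → ℂ) 1) * conj ((χ : G → ℂ) x) := by
    apply Finset.sum_congr rfl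
    intro χ _
    rw [IrrCharacter.apply_inv χ x]
    ring
  rw [hid2, ht_sum] at hid
  haveI : Fintype (Subgroup.zpowers x) := Fintype.ofFinite _
  obtain ⟨a', l', hal, -, hbt⟩ := exists_value_at_involution hodd htt ht1 htx
    (IsIrrCharacter.isCharacter (f θa).2)
  obtain ⟨b, hb⟩ : ∃ b : ℤ, b = 2 * (a' : ℤ) - (l' : ℤ) := ⟨_, rfl⟩
  have hbt' : (f θa : G → ℂ) t = (b : ℂ) := by
    rw [hbt, hb]; push_cast; ring
  obtain ⟨n', hn'1, hn'2⟩ :=
    IsCharacter.exists_degree_norm_le (IsIrrCharacter.isCharacter (f θa).2)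
  have hn'x : n' = x₀ := by
    have := hd (f θa)
    rw [hn'1, hdf θa] at this
    exact_mod_cast this
  have hbabs : |b| ≤ (x₀ : ℤ) := by
    have h1 : ‖((b : ℤ) : ℂ)‖ ≤ (x₀ : ℝ) := by
      rw [← hbt', ← hn'x]; exact hn'2 t
    rw [Complex.norm_intCast] at h1
    exact_mod_cast h1
  have hat : (χ₁ : G → ℂ) t = 1 + (b : ℂ) := by
    rw [hbt'] at ht_lin
    linear_combination -ht_lin
  rw [hat, hbt'] at hid
  set c : ℕ := Nat.card (Subgroup.centralizer ({t} : Set G)) with hc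
  have hcpos : 0 < c := Nat.card_pos
  rcases hcases with ⟨hd4, hx3⟩ | ⟨hd9, hx8⟩
  · -- degrees (4, 3)
    rw [hd4, hx3] at hid
    have h5 : 5 * (c : ℤ) ^ 2 = 480 * (b - 3) ^ 2 := by
      have : ((5 * (c : ℤ) ^ 2 : ℤ) : ℂ) = ((480 * (b - 3) ^ 2 : ℤ) : ℂ) := by
        push_cast
        push_cast at hid
        rw [hid]
        ring
      exact_mod_cast this
    rw [hx3] at hbabs
    have hb3 := abs_le.mp hbabs
    exact final_43 c b hcpos (by omega) (by omega) h5
  · -- degrees (9, 8)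
    rw [hd9, hx8] at hid
    have h5 : 5 * (c : ℤ) ^ 2 = 80 * (b - 8) ^ 2 := by
      have : ((5 * (c : ℤ) ^ 2 : ℤ) : ℂ) = ((80 * (b - 8) ^ 2 : ℤ) : ℂ) := by
        push_cast
        push_cast at hid
        rw [hid]
        ring
      exact_mod_cast this
    rw [hx8] at hbabs
    have hb8 := abs_le.mp hbabs
    have hcb := final_98 c b (by omega) h5
    -- a 2-central involution
    obtain ⟨z, hzz, hz1, hz128⟩ := exists_two_central_involution hG
    have hncz : ¬ IsConj t z := by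
      intro h
      have h1 := card_centralizer_eq_of_isConj h
      rw [← hc] at h1
      rw [← h1] at hz128
      have := Nat.le_of_dvd hcpos hz128
      omega
    have hempty : Nat.card {p : G × G // IsConj z p.1 ∧ IsConj z p.2 ∧ p.1 * p.2 = x} = 0 := by
      rw [Nat.card_eq_zero]
      left
      constructor
      rintro ⟨⟨p1, p2⟩, h1, h2, h3⟩
      have hinv : ∀ q : G, IsConj z q → q * q = 1 := by
        intro q hq
        obtain ⟨g, hg⟩ := isConj_iff.1 hq
        rw [← hg]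
        calc g * z * g⁻¹ * (g * z * g⁻¹) = g * (z * z) * g⁻¹ := by group
          _ = 1 := by rw [hzz]; group
      have h4 : IsConj t p1 := isConj_of_mul_eq hodd hCx htx (hinv p1 h1) (hinv p2 h2) h3
      exact hncz (h4.trans h1.symm)
    have hpc := card_centralizer_mul_card_pairs2 z z x
    rw [hempty, hG] at hpc
    have hzsum0 : ∑ χ : IrrCharacter G,
        conj ((χ : G → ℂ) z * (χ : G → ℂ) z / (χ : G → ℂ) 1) * (χ : G → ℂ) x = 0 := by
      have h5760 : ((5760 : ℕ) : ℂ) ≠ 0 := by norm_num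
      have : ((5760 : ℕ) : ℂ) * ∑ χ : IrrCharacter G,
          conj ((χ : G → ℂ) z * (χ : G → ℂ) z / (χ : G → ℂ) 1) * (χ : G → ℂ) x = 0 := by
        rw [← hpc]; simp
      exact (mul_eq_zero.mp this).resolve_left h5760
    have hzsum : ∑ χ : IrrCharacter G,
        ((χ : G → ℂ) z * (χ : G → ℂ) z / (χ : G → ℂ) 1) * conj ((χ : G → ℂ) x) = 0 := by
      have h1 := congrArg conj hzsum0
      rw [map_sum, map_zero] at h1
      rw [← h1]
      apply Finset.sum_congr rfl
      intro χ _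
      rw [map_mul, Complex.conj_conj]
    obtain ⟨hz_lin, hz_sum⟩ := hinvol z hzz hz1
    rw [hzsum, hd9, hx8] at hz_sum
    have haz : (χ₁ : G → ℂ) z = 1 + (f θa : G → ℂ) z := by linear_combination -hz_lin
    rw [haz] at hz_sum
    have hBz : ((f θa : G → ℂ) z - 8) ^ 2 = 0 := by
      push_cast at hz_sum
      linear_combination (-72 : ℂ) * hz_sum
    have hBz8 : (f θa : G → ℂ) z = 8 := by
      have := pow_eq_zero_iff (two_ne_zero) |>.mp hBz
      linear_combination this
    -- the kernel of the exceptional character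
    obtain ⟨K, hKn, hK⟩ :=
      Cfsg.Agent.Lib.Helper25.exists_kernel (IsIrrCharacter.isCharacter (f θa).2)
    have h1val : (f θa : G → ℂ) 1 = 8 := by rw [hd (f θa), hdf θa, hx8]; norm_num
    have hzK : z ∈ K := (hK z).2 (by rw [hBz8, h1val])
    have hKtop : K = ⊤ := by
      rcases hKn.eq_bot_or_eq_top with h | h
      · rw [h, Subgroup.mem_bot] at hzK
        exact absurd hzK hz1
      · exact h
    have htK : t ∈ K := by rw [hKtop]; trivial
    have h8 : (b : ℂ) = 8 := by rw [← hbt', (hK t).1 htK, h1val]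
    have hb8' : b = 8 := by exact_mod_cast h8
    rw [hb8'] at hcb
    omega

/-- No simple group of order 5760 (in the form requested by the S0983 assembly). -/
theorem no_5760 {G : Type*} [Group G] [Finite G] [IsSimpleGroup G]
    (_hG : ¬ IsMulCommutative G) : Nat.card G ≠ 5760 :=
  no_5760_core

end Cfsg.Agent.Lib.Helper22.Ord5760
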