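import Mathlib
import Cfsg.Prelude.Def_Blocks
import Cfsg.Agent.Lib.Helper25.CharBasic

set_option autoImplicit false

/-! S4640 farm (architect helper24), leaf [K]: counting a block through the fibres of restriction. -/

namespace Cfsg.Agent.Lib.Helper24.PIdx

open Cfsg

variable {G : Type*} [Group G] [Fintype G]

/-- [K] counting through the fibres of restriction -/
theorem card_eq_mul (N : Subgroup G) (b : Set (Cfsg.IrrCharacter N))
    (B : Set (Cfsg.IrrCharacter G)) (m : ℕ)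
    (h3 : ∀ χ ∈ B, ∃ θ ∈ b, ∀ n : N, (χ : G → ℂ) n = (θ : N → ℂ) n)
    (h4 : ∀ θ ∈ b,
      Nat.card {χ : Cfsg.IrrCharacter G // χ ∈ B ∧ ∀ n : N, (χ : G → ℂ) n = (θ : N → ℂ) n} = m) :
    Nat.card B = m * Nat.card b := by
  classical
  have : Finite (Cfsg.IrrCharacter N) := Cfsg.Agent.Lib.Helper25.instFiniteIrr'
  have : Finite (Cfsg.IrrCharacter G) := Cfsg.Agent.Lib.Helper25.instFiniteIrr'
  have : Fintype b := Fintype.ofFinite _
  let Fib : b → Type _ := fun θ =>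
    {χ : Cfsg.IrrCharacter G // χ ∈ B ∧
      ∀ n : N, (χ : G → ℂ) n = ((θ : Cfsg.IrrCharacter N) : N → ℂ) n}
  let f : (Σ θ : b, Fib θ) → B := fun x => ⟨x.2.1, x.2.2.1⟩
  have hf : Function.Bijective f := by
    constructor
    · rintro ⟨θ, χ, h1, h2⟩ ⟨θ', χ', h1', h2'⟩ h
      have hχ : χ = χ' := congrArg Subtype.val h
      subst hχ
      have hθ : θ = θ' := by
        apply Subtype.ext
        apply Subtype.ext
        funext n
        rw [← h2 n, ← h2' n]
      subst hθ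
      rfl
    · rintro ⟨χ, hχ⟩
      obtain ⟨θ, hθ, hres⟩ := h3 χ hχ
      exact ⟨⟨⟨θ, hθ⟩, ⟨χ, hχ, hres⟩⟩, rfl⟩
  have e : (Σ θ : b, Fib θ) ≃ B := Equiv.ofBijective f hf
  rw [← Nat.card_congr e, Nat.card_sigma]
  have h5 : ∀ θ : b, Nat.card (Fib θ) = m := fun θ => h4 θ.1 θ.2
  simp only [h5]
  rw [Finset.sum_const, Finset.card_univ, smul_eq_mul, Nat.card_eq_fintype_card, mul_comm]

end Cfsg.Agent.Lib.Helper24.PIdx
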