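import Cfsg.Agent.Lib.Helper22.Sp63Pow
import Cfsg.Agent.Lib.Helper9.Sp63Ord

/-!
# The prime graph of `PSp₆(3)`  (helper22; L side of S3664 in the exact shapes of `notes/S3664Skel_helper3.lean.txt`)

Glue of `Helper22.Sp63Pow` (exponent bounds via the palindromic characteristic polynomial) and
`Helper9.Sp63Ord` (witnesses, prime divisors of the order).
-/

set_option autoImplicit false

namespace Cfsg.Agent.Lib.Helper22.PSp63

variable {F : Type*} [Field F] [Fintype F]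

/-- (L-UP) every element of `PSp(6,3)` is killed by one of these exponents -/
theorem psp63_upper (hF : Fintype.card F = 3) (x : Cfsg.PSp 3 F) :
    ∃ n ∈ ({6, 7, 8, 9, 12, 13, 14, 15, 18, 20, 24, 30, 36} : Finset ℕ), x ^ n = 1 :=
  Cfsg.Agent.Lib.Helper22.Sp63Pow.psp6_pow_raw hF x

/-- (L-WIT) witnesses for the vertices `2, 3, 5, 7, 13` and the edges `2-3, 2-5, 2-7, 3-5` -/
theorem psp63_wit (hF : Fintype.card F = 3) :
    ∀ n ∈ ({6, 10, 13, 14, 15} : Finset ℕ), ∃ x : Cfsg.PSp 3 F, orderOf x = n := by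
  intro n hn
  simp only [Finset.mem_insert, Finset.mem_singleton] at hn
  rcases hn with rfl | rfl | rfl | rfl | rfl
  · exact Cfsg.Agent.Lib.Helper9.Sp63Ord.exists_orderOf hF 6 (by decide)
  · exact Cfsg.Agent.Lib.Helper9.Sp63Ord.exists_orderOf hF 10 (by decide)
  · exact Cfsg.Agent.Lib.Helper9.Sp63Ord.exists_orderOf_prime hF 13 (by decide)
  · exact Cfsg.Agent.Lib.Helper9.Sp63Ord.exists_orderOf hF 14 (by decide)
  · exact Cfsg.Agent.Lib.Helper9.Sp63Ord.exists_orderOf hF 15 (by decide)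

/-- the prime graph of `PSp(6,3)`: vertices `2, 3, 5, 7, 13`, edges `2-3, 2-5, 2-7, 3-5` -/
theorem psp63_graph (hF : Fintype.card F = 3) :
    (∀ p : ℕ, p.Prime → (p ∣ Nat.card (Cfsg.PSp 3 F) ↔ p ∈ ({2, 3, 5, 7, 13} : Finset ℕ))) ∧
    (∀ p q : ℕ, p.Prime → q.Prime → p ≠ q →
      ((∃ g : Cfsg.PSp 3 F, orderOf g = p * q) ↔ p * q ∈ ({6, 10, 14, 15} : Finset ℕ))) := by
  refine ⟨fun p hp => Cfsg.Agent.Lib.Helper9.Sp63Ord.prime_dvd_card_iff hF p hp, ?_⟩
  intro p q hp hq hpq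
  constructor
  · intro h
    have := Cfsg.Agent.Lib.Helper22.Sp63Pow.mul_mem_of_orderOf hF p q hp hq hpq h
    simp only [Finset.mem_insert, Finset.mem_singleton] at this ⊢
    tauto
  · intro h
    simp only [Finset.mem_insert, Finset.mem_singleton] at h
    rcases h with h | h | h | h <;> rw [h]
    · exact Cfsg.Agent.Lib.Helper9.Sp63Ord.exists_orderOf hF 6 (by decide)
    · exact Cfsg.Agent.Lib.Helper9.Sp63Ord.exists_orderOf hF 10 (by decide)
    · exact Cfsg.Agent.Lib.Helper9.Sp63Ord.exists_orderOf hF 14 (by decide)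
    · exact Cfsg.Agent.Lib.Helper9.Sp63Ord.exists_orderOf hF 15 (by decide)

end Cfsg.Agent.Lib.Helper22.PSp63
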