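import Mathlib
import Cfsg.Agent.Lib.Helper18.PermIdem2

/-!
# Row-reduced certificates for `Helper18.PermIdem.exists_irr_of_int`

For a transitive action, invariant matrices are determined by their row at the base point, and products of
invariant matrices are invariant.  So the matrix identities `F * F = s • F`, `A_k * F = lam k • F` only have to be
checked on the row of the base point, and `trace F = n * F b b`.
-/

set_option autoImplicit false

namespace Cfsg.Agent.Lib.Helper22.PermIdemRow

variable {G : Type*} [Group G] {n : ℕ}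

/-- invariance of an integer matrix under the permutation action -/
def Inv (σ : G →* Equiv.Perm (Fin n)) (M : Matrix (Fin n) (Fin n) ℤ) : Prop :=
  ∀ g i j, M (σ g i) (σ g j) = M i j

theorem Inv.mul {σ : G →* Equiv.Perm (Fin n)} {M N : Matrix (Fin n) (Fin n) ℤ}
    (hM : Inv σ M) (hN : Inv σ N) : Inv σ (M * N) := by
  intro g i j
  rw [Matrix.mul_apply, Matrix.mul_apply]
  rw [← Equiv.sum_comp (σ g) (fun z => M (σ g i) z * N z (σ g j))]
  apply Finset.sum_congr rfl
  intro z _
  rw [hM, hN]

theorem Inv.smul {σ : G →* Equiv.Perm (Fin n)} {M : Matrix (Fin n) (Fin n) ℤ}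
    (hM : Inv σ M) (c : ℤ) : Inv σ (c • M) := by
  intro g i j
  rw [Matrix.smul_apply, Matrix.smul_apply, hM]

theorem Inv.eq_of_row {σ : G →* Equiv.Perm (Fin n)} {M N : Matrix (Fin n) (Fin n) ℤ}
    (hM : Inv σ M) (hN : Inv σ N) (b : Fin n) (htrans : ∀ x, ∃ g, σ g b = x)
    (h : ∀ y, M b y = N b y) : M = N := by
  ext i j
  obtain ⟨g, rfl⟩ := htrans i
  have e : j = σ g ((σ g)⁻¹ j) := by simp
  rw [e, hM, hN, h]

theorem inv_of_coloring {r : ℕ} (σ : G →* Equiv.Perm (Fin n)) (C : Fin n → Fin n → Fin r)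
    (hC : ∀ g i j, C (σ g i) (σ g j) = C i j) (f : Fin r → ℤ) :
    Inv σ (Matrix.of fun i j => f (C i j)) := by
  intro g i j
  simp only [Matrix.of_apply, hC]

/-- row-reduced version of `Helper18.PermIdem.exists_irr_of_int` -/
theorem exists_irr_of_int_row [Finite G] {r : ℕ}
    (σ : G →* Equiv.Perm (Fin n)) (b : Fin n)
    (C : Fin n → Fin n → Fin r) (hC : ∀ g i j, C (σ g i) (σ g j) = C i j)
    (htrans : ∀ x, ∃ g, σ g b = x)
    (hstab : ∀ y y', C b y = C b y' → ∃ g, σ g b = b ∧ σ g y = y')
    (f : Fin r → ℤ) (s : ℤ) (hs : s ≠ 0) (d : ℕ) (hd : 0 < d)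
    (hF2 : ∀ y, ∑ z, f (C b z) * f (C z y) = s * f (C b y))
    (htr : (n : ℤ) * f (C b b) = s * d)
    (lam : Fin r → ℤ)
    (hF : ∀ k y, ∑ z, (if C b z = k then f (C z y) else 0) = lam k * f (C b y)) :
    ∃ χ : Cfsg.IrrCharacter G, Cfsg.charDegree (χ : G → ℂ) = d := by
  classical
  set F : Matrix (Fin n) (Fin n) ℤ := Matrix.of fun i j => f (C i j) with hFdef
  have hFinv : Inv σ F := inv_of_coloring σ C hC f
  refine Cfsg.Agent.Lib.Helper18.PermIdem.exists_irr_of_int σ b C hC htrans hstab F f
    (fun i j => rfl) s hs d hd ?_ ?_ lam ?_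
  · apply Inv.eq_of_row (hFinv.mul hFinv) (hFinv.smul s) b htrans
    intro y
    rw [Matrix.mul_apply, Matrix.smul_apply, smul_eq_mul]
    have hb : F b y = f (C b y) := rfl
    rw [hb, ← hF2 y]
    apply Finset.sum_congr rfl
    intro z _
    rfl
  · rw [Matrix.trace]
    have hdiag : ∀ i, F i i = f (C b b) := by
      intro i
      obtain ⟨g, rfl⟩ := htrans i
      exact hFinv g b b
    simp only [Matrix.diag_apply, hdiag, Finset.sum_const, Finset.card_univ, Fintype.card_fin,
      nsmul_eq_mul]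
    exact htr
  · intro k
    have hAinv : Inv σ (Matrix.of fun i j => if C i j = k then (1 : ℤ) else 0) := by
      have := inv_of_coloring σ C hC (fun c => if c = k then (1 : ℤ) else 0)
      exact this
    apply Inv.eq_of_row (hAinv.mul hFinv) (hFinv.smul (lam k)) b htrans
    intro y
    rw [Matrix.mul_apply, Matrix.smul_apply, smul_eq_mul]
    have hb : F b y = f (C b y) := rfl
    rw [hb, ← hF k y]
    apply Finset.sum_congr rfl
    intro z _
    have hz : F z y = f (C z y) := rfl
    rw [hz, Matrix.of_apply]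
    split_ifs <;> simp

end Cfsg.Agent.Lib.Helper22.PermIdemRow
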