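import Mathlib
import Cfsg.Agent.Lib.Helper9.SpGenD

/-!
# S2281 farm-out FO-1 (helper22), part A: coordinates for `Sp_4`

Vectors of `Fin 2 ⊕ Fin 2 → F` as quadruples `vec4 a b c d = a e₀ + b e₁ + c f₀ + d f₁`, matrices given
by four columns, a Gram criterion for membership in the symplectic group.
-/

set_option autoImplicit false

namespace Cfsg.Agent.Lib.Helper22.RU

open Matrix Cfsg.Agent.Lib.Helper6 Cfsg.Agent.Lib.Helper9.SpGen

section coords
variable {F : Type*} [Field F]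

local notation "ff" => Cfsg.sympForm 2 F
local notation "VV" => (Fin 2 ⊕ Fin 2 → F)
local notation "GG" => Matrix.symplecticGroup (Fin 2) F
local notation "Mat" => Matrix (Fin 2 ⊕ Fin 2) (Fin 2 ⊕ Fin 2) F

/-- the vector `a e₀ + b e₁ + c f₀ + d f₁` -/
def vec4 (a b c d : F) : VV := Sum.elim ![a, b] ![c, d]

@[simp] theorem vec4_inl0 (a b c d : F) : vec4 a b c d (Sum.inl 0) = a := rfl
@[simp] theorem vec4_inl1 (a b c d : F) : vec4 a b c d (Sum.inl 1) = b := rfl
@[simp] theorem vec4_inr0 (a b c d : F) : vec4 a b c d (Sum.inr 0) = c := rfl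
@[simp] theorem vec4_inr1 (a b c d : F) : vec4 a b c d (Sum.inr 1) = d := rfl

theorem vec4_eta (x : VV) :
    x = vec4 (x (Sum.inl 0)) (x (Sum.inl 1)) (x (Sum.inr 0)) (x (Sum.inr 1)) := by
  funext c
  rcases c with i | i <;> fin_cases i <;> rfl

theorem vec4_ext {x y : VV} (h0 : x (Sum.inl 0) = y (Sum.inl 0)) (h1 : x (Sum.inl 1) = y (Sum.inl 1))
    (h2 : x (Sum.inr 0) = y (Sum.inr 0)) (h3 : x (Sum.inr 1) = y (Sum.inr 1)) : x = y := by
  funext c
  rcases c with i | i <;> fin_cases i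
  · exact h0
  · exact h1
  · exact h2
  · exact h3

theorem vec4_congr {a b c d a' b' c' d' : F} (h0 : a = a') (h1 : b = b') (h2 : c = c') (h3 : d = d') :
    vec4 a b c d = vec4 a' b' c' d' := by
  rw [h0, h1, h2, h3]

theorem vec4_add (a b c d a' b' c' d' : F) :
    vec4 a b c d + vec4 a' b' c' d' = vec4 (a + a') (b + b') (c + c') (d + d') := by
  apply vec4_ext <;> simp

theorem vec4_smul (l a b c d : F) : l • vec4 a b c d = vec4 (l * a) (l * b) (l * c) (l * d) := by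
  apply vec4_ext <;> simp

theorem vec4_neg (a b c d : F) : - vec4 a b c d = vec4 (-a) (-b) (-c) (-d) := by
  apply vec4_ext <;> simp

theorem vec4_eq_zero_iff (a b c d : F) : vec4 a b c d = 0 ↔ a = 0 ∧ b = 0 ∧ c = 0 ∧ d = 0 := by
  constructor
  · intro h
    refine ⟨?_, ?_, ?_, ?_⟩
    · simpa using congrFun h (Sum.inl 0)
    · simpa using congrFun h (Sum.inl 1)
    · simpa using congrFun h (Sum.inr 0)
    · simpa using congrFun h (Sum.inr 1)
  · rintro ⟨rfl, rfl, rfl, rfl⟩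
    apply vec4_ext <;> simp

theorem e0_eq : (e 0 : VV) = vec4 1 0 0 0 := by
  apply vec4_ext <;> simp [e_inl, e_inr]

theorem e1_eq : (e 1 : VV) = vec4 0 1 0 0 := by
  apply vec4_ext <;> simp [e_inl, e_inr]

theorem f0_eq : (f 0 : VV) = vec4 0 0 1 0 := by
  apply vec4_ext <;> simp [f_inl, f_inr]

theorem f1_eq : (f 1 : VV) = vec4 0 0 0 1 := by
  apply vec4_ext <;> simp [f_inl, f_inr]

theorem ff_vec4 (a b c d a' b' c' d' : F) :
    ff (vec4 a b c d) (vec4 a' b' c' d') = (c * a' - a * c') + (d * b' - b * d') := by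
  rw [sympForm_eq_sum, Fin.sum_univ_two]
  simp

/-- the matrix with given columns -/
def mat4 (c0 c1 c2 c3 : VV) : Mat := Matrix.of fun r c => (Sum.elim ![c0, c1] ![c2, c3] c) r

theorem mat4_mulVec (c0 c1 c2 c3 : VV) (x0 x1 x2 x3 : F) :
    mat4 c0 c1 c2 c3 *ᵥ vec4 x0 x1 x2 x3 = x0 • c0 + x1 • c1 + x2 • c2 + x3 • c3 := by
  funext r
  simp only [mat4, mulVec, dotProduct, Matrix.of_apply, Fintype.sum_sum_type, Fin.sum_univ_two,
    Sum.elim_inl, Sum.elim_inr, Matrix.cons_val_zero, Matrix.cons_val_one, Matrix.head_cons,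
    vec4, Pi.add_apply, Pi.smul_apply, smul_eq_mul]
  ring

/-- Gram criterion -/
theorem mat4_mem (c0 c1 c2 c3 : VV) (h01 : ff c0 c1 = 0) (h02 : ff c0 c2 = -1) (h03 : ff c0 c3 = 0)
    (h12 : ff c1 c2 = 0) (h13 : ff c1 c3 = -1) (h23 : ff c2 c3 = 0) :
    mat4 c0 c1 c2 c3 ∈ Matrix.symplecticGroup (Fin 2) F := by
  rw [mem_symplecticGroup_iff_preserves]
  intro u v
  have h10 : ff c1 c0 = 0 := by rw [sympForm_swap, h01, neg_zero]
  have h20 : ff c2 c0 = 1 := by rw [sympForm_swap, h02, neg_neg]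
  have h30 : ff c3 c0 = 0 := by rw [sympForm_swap, h03, neg_zero]
  have h21 : ff c2 c1 = 0 := by rw [sympForm_swap, h12, neg_zero]
  have h31 : ff c3 c1 = 1 := by rw [sympForm_swap, h13, neg_neg]
  have h32 : ff c3 c2 = 0 := by rw [sympForm_swap, h23, neg_zero]
  rw [vec4_eta u, vec4_eta v, mat4_mulVec, mat4_mulVec, ff_vec4]
  simp only [sympForm_add_left, sympForm_add_right, sympForm_smul_left, sympForm_smul_right,
    sympForm_self, h01, h02, h03, h12, h13, h23, h10, h20, h30, h21, h31, h32]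
  ring

/-- the group element with given columns -/
def grp4 (c0 c1 c2 c3 : VV) (h01 : ff c0 c1 = 0) (h02 : ff c0 c2 = -1) (h03 : ff c0 c3 = 0)
    (h12 : ff c1 c2 = 0) (h13 : ff c1 c3 = -1) (h23 : ff c2 c3 = 0) : GG :=
  ⟨mat4 c0 c1 c2 c3, mat4_mem c0 c1 c2 c3 h01 h02 h03 h12 h13 h23⟩

theorem act_grp4 (c0 c1 c2 c3 : VV) (h01 : ff c0 c1 = 0) (h02 : ff c0 c2 = -1) (h03 : ff c0 c3 = 0)
    (h12 : ff c1 c2 = 0) (h13 : ff c1 c3 = -1) (h23 : ff c2 c3 = 0) (x0 x1 x2 x3 : F) :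
    act (grp4 c0 c1 c2 c3 h01 h02 h03 h12 h13 h23) (vec4 x0 x1 x2 x3)
      = x0 • c0 + x1 • c1 + x2 • c2 + x3 • c3 :=
  mat4_mulVec c0 c1 c2 c3 x0 x1 x2 x3

/-- the Coxeter element in coordinates -/
theorem act_cox_vec4 (a b c d : F) : act (cox 1 F) (vec4 a b c d) = vec4 (-d) a b c := by
  apply vec4_ext
  · have := act_cox_inl_zero (n := 1) (F := F) (vec4 a b c d)
    rw [this]; rfl
  · have := act_cox_inl_succ (n := 1) (F := F) (vec4 a b c d) 0
    exact this
  · have := act_cox_inr_zero (n := 1) (F := F) (vec4 a b c d)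
    rw [this]; rfl
  · have := act_cox_inr_succ (n := 1) (F := F) (vec4 a b c d) 0
    exact this

/-- the transvection along `e₀` in coordinates -/
theorem act_T_e0 (t a b c d : F) : act (T (e 0 : VV) t) (vec4 a b c d) = vec4 (a + t * c) b c d := by
  rw [act_T, form_e_right, e0_eq, vec4_smul, vec4_add]
  apply vec4_congr <;> simp

end coords

end Cfsg.Agent.Lib.Helper22.RU
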