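import Mathlib
import Cfsg.Agent.Lib.Helper22.RUSp4A

/-!
# S2281 farm-out FO-1 (helper22), part B: the two conjugators in characteristic 2

For `k * ki = 1` and a parameter `t0` we write down two explicit elements `cg1`, `cg2` of `Sp_4(F)`
(`char F = 2`) and compute the conjugates `cV1`, `cV2` of the Coxeter element `cox 1 F` under them.
-/

set_option autoImplicit false

namespace Cfsg.Agent.Lib.Helper22.RU

open Matrix Cfsg.Agent.Lib.Helper6 Cfsg.Agent.Lib.Helper9.SpGen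

section conj
variable {F : Type*} [Field F]

local notation "ff" => Cfsg.sympForm 2 F
local notation "VV" => (Fin 2 ⊕ Fin 2 → F)
local notation "GG" => Matrix.symplecticGroup (Fin 2) F
local notation "Mat" => Matrix (Fin 2 ⊕ Fin 2) (Fin 2 ⊕ Fin 2) F

/-- first conjugator -/
def cg1 (h2 : (2 : F) = 0) (k ki : F) (hk : k * ki = 1) : GG :=
  grp4 (vec4 0 0 1 0) (vec4 0 0 1 ki) (vec4 1 k 1 ki) (vec4 0 k 1 0)
    (by rw [ff_vec4]; ring)
    (by rw [ff_vec4]; linear_combination h2)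
    (by rw [ff_vec4]; ring)
    (by rw [ff_vec4]; linear_combination h2 + hk)
    (by rw [ff_vec4]; linear_combination h2 + hk)
    (by rw [ff_vec4]; linear_combination hk)

theorem act_cg1 (h2 : (2 : F) = 0) (k ki : F) (hk : k * ki = 1) (x0 x1 x2 x3 : F) :
    act (cg1 h2 k ki hk) (vec4 x0 x1 x2 x3)
      = vec4 x2 (k * x2 + k * x3) (x0 + x1 + x2 + x3) (ki * x1 + ki * x2) := by
  unfold cg1
  rw [act_grp4]
  simp only [vec4_smul, vec4_add]
  apply vec4_congr <;> ring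

theorem act_cg1_pre (h2 : (2 : F) = 0) (k ki : F) (hk : k * ki = 1) (a b c d : F) :
    act (cg1 h2 k ki hk) (vec4 (a + b * ki + c + d * k) (a + d * k) a (a + b * ki)) = vec4 a b c d := by
  rw [act_cg1]
  apply vec4_congr
  · ring
  · linear_combination (a * k) * h2 + b * hk
  · linear_combination (2 * a + b * ki + d * k) * h2
  · linear_combination (a * ki) * h2 + d * hk

theorem act_cg1_inv (h2 : (2 : F) = 0) (k ki : F) (hk : k * ki = 1) (a b c d : F) :
    act (cg1 h2 k ki hk)⁻¹ (vec4 a b c d)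
      = vec4 (a + b * ki + c + d * k) (a + d * k) a (a + b * ki) := by
  rw [← act_cg1_pre h2 k ki hk a b c d, act_inv_act]

/-- first conjugate of the Coxeter element -/
def cV1 (h2 : (2 : F) = 0) (k ki : F) (hk : k * ki = 1) : GG :=
  cg1 h2 k ki hk * cox 1 F * (cg1 h2 k ki hk)⁻¹

theorem act_cV1 (h2 : (2 : F) = 0) (k ki : F) (hk : k * ki = 1) (a b c d : F) :
    act (cV1 h2 k ki hk) (vec4 a b c d) = vec4 (a + d * k) (d * k ^ 2) c (b * ki ^ 2 + c * ki) := by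
  unfold cV1
  rw [act_mul, act_mul, act_cg1_inv, act_cox_vec4, act_cg1]
  apply vec4_congr
  · ring
  · linear_combination (a * k) * h2
  · linear_combination (a + d * k) * h2
  · linear_combination (a * ki + d) * h2 + (2 * d) * hk

/-- second conjugator -/
def cg2 (h2 : (2 : F) = 0) (k ki : F) (hk : k * ki = 1) (t0 : F) : GG :=
  grp4 (vec4 0 (k * t0) 1 0) (vec4 (t0 ^ 2 + t0) 0 1 (ki * (1 + t0)))
    (vec4 (1 + t0) (k * (1 + t0)) 1 ki) (vec4 (t0 ^ 2) k 1 (ki * t0))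
    (by rw [ff_vec4]; linear_combination (-t0 - t0 ^ 2) * hk)
    (by rw [ff_vec4]; linear_combination h2 + (-t0) * hk)
    (by rw [ff_vec4]; linear_combination (-t0 ^ 2) * hk)
    (by rw [ff_vec4]; linear_combination (1 + t0) * h2 + (1 + 2 * t0 + t0 ^ 2) * hk)
    (by rw [ff_vec4]; linear_combination h2 + (1 + t0) * hk)
    (by rw [ff_vec4]; linear_combination (-t0) * h2 + (1 - t0 - t0 ^ 2) * hk)

theorem act_cg2 (h2 : (2 : F) = 0) (k ki : F) (hk : k * ki = 1) (t0 : F) (x0 x1 x2 x3 : F) :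
    act (cg2 h2 k ki hk t0) (vec4 x0 x1 x2 x3)
      = vec4 (x1 * (t0 ^ 2 + t0) + x2 * (1 + t0) + x3 * t0 ^ 2)
          (x0 * (k * t0) + x2 * (k * (1 + t0)) + x3 * k) (x0 + x1 + x2 + x3)
          (x1 * (ki * (1 + t0)) + x2 * ki + x3 * (ki * t0)) := by
  unfold cg2
  rw [act_grp4]
  simp only [vec4_smul, vec4_add]
  apply vec4_congr <;> ring

theorem act_cg2_pre (h2 : (2 : F) = 0) (k ki : F) (hk : k * ki = 1) (t0 : F) (a b c d : F) :
    act (cg2 h2 k ki hk t0)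
      (vec4 (c * (1 + t0) + a + d * k * (1 + t0) + b * ki) (c * t0 ^ 2 + a + d * k + b * ki * t0)
        (a + d * k * t0) (c * (t0 ^ 2 + t0) + a + b * ki * (1 + t0))) = vec4 a b c d := by
  rw [act_cg2]
  apply vec4_congr
  · linear_combination (a*t0 + a*t0^2 + b*ki*t0^2 + b*ki*t0^3 + c*t0^3 + c*t0^4 + d*k*t0 + d*k*t0^2) * h2
  · linear_combination (a*k + a*k*t0 + b*t0 + c*k*t0 + c*k*t0^2 + d*k^2*t0 + d*k^2*t0^2) * h2
      + (b + 2*b*t0) * hk
  · linear_combination (2*a + b*ki + b*ki*t0 + c*t0 + c*t0^2 + d*k + d*k*t0) * h2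
  · linear_combination (a*ki + a*ki*t0 + b*ki^2*t0 + b*ki^2*t0^2 + c*ki*t0^2 + c*ki*t0^3 + d*t0) * h2
      + (d + 2*d*t0) * hk

theorem act_cg2_inv (h2 : (2 : F) = 0) (k ki : F) (hk : k * ki = 1) (t0 : F) (a b c d : F) :
    act (cg2 h2 k ki hk t0)⁻¹ (vec4 a b c d)
      = vec4 (c * (1 + t0) + a + d * k * (1 + t0) + b * ki) (c * t0 ^ 2 + a + d * k + b * ki * t0)
        (a + d * k * t0) (c * (t0 ^ 2 + t0) + a + b * ki * (1 + t0)) := by
  rw [← act_cg2_pre h2 k ki hk t0 a b c d, act_inv_act]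

/-- second conjugate of the Coxeter element -/
def cV2 (h2 : (2 : F) = 0) (k ki : F) (hk : k * ki = 1) (t0 : F) : GG :=
  cg2 h2 k ki hk t0 * cox 1 F * (cg2 h2 k ki hk t0)⁻¹

theorem act_cV2 (h2 : (2 : F) = 0) (k ki : F) (hk : k * ki = 1) (t0 : F) (a b c d : F) :
    act (cV2 h2 k ki hk t0) (vec4 a b c d)
      = vec4 (a + d * k + (t0 ^ 2 + t0) * c) (d * k ^ 2) c (b * ki ^ 2 + c * ki) := by
  unfold cV2
  rw [act_mul, act_mul, act_cg2_inv, act_cox_vec4, act_cg2]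
  apply vec4_congr
  · linear_combination (a*t0 + a*t0^2 + b*ki*t0 + b*ki*t0^2 + c*t0^2 + c*t0^3 + d*k*t0 + d*k*t0^2 + d*k*t0^3) * h2
  · linear_combination (a*k + d*k^2*t0) * h2
  · linear_combination (a + d*k + d*k*t0) * h2
  · linear_combination (a*ki + a*ki*t0 + b*ki^2*t0 + c*ki*t0 + c*ki*t0^2 + d + d*t0 + d*t0^2) * h2
      + (2*d + 2*d*t0 + 2*d*t0^2) * hk

/-- `cV2 = T(e₀, t0² + t0) * cV1` -/
theorem cV2_eq (h2 : (2 : F) = 0) (k ki : F) (hk : k * ki = 1) (t0 : F) :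
    cV2 h2 k ki hk t0 = T (e 0 : VV) (t0 ^ 2 + t0) * cV1 h2 k ki hk := by
  apply ext_act
  intro x
  rw [vec4_eta x, act_mul, act_cV1, act_cV2, act_T_e0]

/-- the element `u * cV1 * u` scales `e₀` -/
theorem act_ucV1u_e0 (h2 : (2 : F) = 0) (k ki : F) (hk : k * ki = 1) :
    act (cox 1 F * cV1 h2 k ki hk * cox 1 F) (e 0 : VV) = (-ki ^ 2) • (e 0 : VV) := by
  rw [act_mul, act_mul, e0_eq, act_cox_vec4, act_cV1, act_cox_vec4, vec4_smul]
  apply vec4_congr <;> ring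

/-- the linking vector -/
theorem act_cV1_f1 (h2 : (2 : F) = 0) (k ki : F) (hk : k * ki = 1) :
    ki ^ 2 • act (cV1 h2 k ki hk) (f 1 : VV) = (e 1 : VV) + ki • (e 0 : VV) := by
  rw [f1_eq, act_cV1, vec4_smul, e1_eq, e0_eq, vec4_smul, vec4_add]
  apply vec4_congr
  · linear_combination (ki) * hk
  · linear_combination (1 + k * ki) * hk
  · ring
  · ring

end conj

end Cfsg.Agent.Lib.Helper22.RU
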