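import Mathlib
import Cfsg.Agent.Lib.Helper22.RUSp4B
import Cfsg.Agent.Lib.Helper25.RU34

/-!
# S2281 farm-out FO-1 (helper22): `Sp_4(q)`, `q ≥ 4` even, is generated by three conjugate regular
unipotent elements

`sp4_even`: exact signature of `notes/S2281_farmout_sigs_A.lean.txt`.
-/

set_option autoImplicit false

namespace Cfsg.Agent.Lib.Helper22.RU

open Matrix Cfsg.Agent.Lib.Helper6 Cfsg.Agent.Lib.Helper9.SpGen

section main
variable {F : Type*} [Field F]

local notation "ff" => Cfsg.sympForm 2 F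
local notation "VV" => (Fin 2 ⊕ Fin 2 → F)
local notation "GG" => Matrix.symplecticGroup (Fin 2) F
local notation "Mat" => Matrix (Fin 2 ⊕ Fin 2) (Fin 2 ⊕ Fin 2) F

/-- `cox - 1` in coordinates -/
theorem cox_sub_one_mulVec (a b c d : F) :
    (((cox 1 F : GG) : Mat) - 1) *ᵥ vec4 a b c d = vec4 (-d - a) (a - b) (b - c) (c - d) := by
  rw [sub_mulVec, one_mulVec, ← act_def, act_cox_vec4, sub_eq_add_neg, vec4_neg, vec4_add]
  apply vec4_congr <;> ring

theorem cox_sub_one_pow_four (h2 : (2 : F) = 0) : (((cox 1 F : GG) : Mat) - 1) ^ 4 = 0 := by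
  apply matrix_ext_mulVec
  intro x
  rw [vec4_eta x, pow_succ, pow_succ, pow_succ, pow_one, ← mulVec_mulVec, ← mulVec_mulVec,
    ← mulVec_mulVec, cox_sub_one_mulVec, cox_sub_one_mulVec, cox_sub_one_mulVec,
    cox_sub_one_mulVec, zero_mulVec]
  generalize x (Sum.inl 0) = a
  generalize x (Sum.inl 1) = b
  generalize x (Sum.inr 0) = c
  generalize x (Sum.inr 1) = d
  rw [vec4_eq_zero_iff]
  refine ⟨?_, ?_, ?_, ?_⟩
  · linear_combination (2 * b - 3 * c + 2 * d) * h2
  · linear_combination (-2 * a + 2 * c - 3 * d) * h2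
  · linear_combination (3 * a - 2 * b + 2 * d) * h2
  · linear_combination (-2 * a + 3 * b - 2 * c) * h2

theorem cox_sub_one_pow_three : (((cox 1 F : GG) : Mat) - 1) ^ 3 ≠ 0 := by
  intro h
  have h1 : ((((cox 1 F : GG) : Mat) - 1) ^ 3) *ᵥ vec4 1 0 0 0 = 0 := by rw [h, zero_mulVec]
  rw [pow_succ, pow_succ, pow_one, ← mulVec_mulVec, ← mulVec_mulVec, cox_sub_one_mulVec,
    cox_sub_one_mulVec, cox_sub_one_mulVec, vec4_eq_zero_iff] at h1
  have := h1.1
  have h3 : (-1 : F) = 0 := by linear_combination this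
  exact one_ne_zero (neg_eq_zero.mp h3)

/-- a subgroup of `Sp_4` containing the Coxeter element, the root group of `e₀` and the transvections
along one vector `e₁ + s e₀` is everything -/
theorem final_vec (L : Subgroup GG) (hc : cox 1 F ∈ L) (hT : ∀ t : F, T (e 0 : VV) t ∈ L)
    (s : F) (hs : s ≠ 0) (hlink : ∀ t : F, T ((e 1 : VV) + s • (e 0 : VV)) t ∈ L) : L = ⊤ := by
  set X : Set VV := {v | ∀ t : F, T v t ∈ L} with hX
  have Xinv : ∀ k ∈ L, ∀ v ∈ X, act k v ∈ X := by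
    intro k hk v hv t
    rw [← conj_T]
    exact L.mul_mem (L.mul_mem hk (hv t)) (L.inv_mem hk)
  have H1 : ∀ u v, u ∈ X → v ∈ X → ff u v ≠ 0 → ∀ l : F, u + l • v ∈ X := by
    intro u v hu hv huv l
    have := Xinv (T v (l / ff u v)) (hv _) u hu
    rw [act_T, div_mul_cancel₀ l huv] at this
    exact this
  have H2 : ∀ u, u ∈ X → ∀ l : F, l ≠ 0 → l • u ∈ X := by
    intro u hu l _ t
    rw [T_smul]
    exact hu _
  have he0 : (e 0 : VV) ∈ X := hT
  have he1 : (e 1 : VV) ∈ X := by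
    have h := Xinv _ hc _ he0
    have e : act (cox 1 F) (e 0 : VV) = (e 1 : VV) := by
      rw [e0_eq, e1_eq, act_cox_vec4]
      apply vec4_congr <;> simp
    rwa [e] at h
  have hf0 : (f 0 : VV) ∈ X := by
    have h := Xinv _ hc _ he1
    have e : act (cox 1 F) (e 1 : VV) = (f 0 : VV) := by
      rw [e1_eq, f0_eq, act_cox_vec4]
      apply vec4_congr <;> simp
    rwa [e] at h
  have hf1 : (f 1 : VV) ∈ X := by
    have h := Xinv _ hc _ hf0
    have e : act (cox 1 F) (f 0 : VV) = (f 1 : VV) := by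
      rw [f0_eq, f1_eq, act_cox_vec4]
      apply vec4_congr <;> simp
    rwa [e] at h
  have h01 : ∀ i : Fin 2, i = 0 ∨ i = 1 := by decide
  have H3 : ∀ i : Fin 2, (e i : VV) ∈ X ∧ (f i : VV) ∈ X := by
    intro i
    rcases h01 i with rfl | rfl
    · exact ⟨he0, hf0⟩
    · exact ⟨he1, hf1⟩
  have H4 : ∀ i j : Fin 2, j.val + 1 = i.val →
      ∃ s : F, s ≠ 0 ∧ (e i : VV) + s • (e j : VV) ∈ X := by
    intro i j hij
    rcases h01 i with rfl | rfl
    · exfalso
      simp at hij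
    · rcases h01 j with rfl | rfl
      · exact ⟨s, hs, hlink⟩
      · exfalso
        simp at hij
  have hall := closure_lemma X H1 H2 H3 H4
  rw [eq_top_iff, ← Cfsg.Agent.S0765.result (F := F) 2]
  apply (Subgroup.closure_le L).mpr
  rintro A ⟨w, c, hA⟩
  have hAT : A = T w c := Subtype.ext hA
  rw [hAT]
  by_cases hw : w = 0
  · rw [hw]
    have : T (0 : VV) c = 1 := by
      apply ext_act
      intro x
      rw [act_T, act_one, smul_zero, add_zero]
    rw [this]
    exact L.one_mem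
  · exact hall w hw c

/-- the main theorem, from a generating scalar -/
theorem sp4_even_of (h2 : (2 : F) = 0) (ki l : F) (hki : ki ^ 2 = l) (hl0 : l ≠ 0) (hl1 : l ≠ 1)
    (hgen : ∀ A : AddSubgroup F, (∃ a ∈ A, a ≠ 0) → (∀ a ∈ A, l ^ 2 * a ∈ A) → A = ⊤) :
    ∃ u g h : GG,
      IsNilpotent ((u : Mat) - 1) ∧ ((u : Mat) - 1) ^ 3 ≠ 0 ∧
      Subgroup.closure ({u, g * u * g⁻¹, h * u * h⁻¹} : Set GG) = ⊤ := by
  have hki0 : ki ≠ 0 := by
    rintro rfl
    apply hl0
    rw [← hki]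
    ring
  have hk : ki⁻¹ * ki = 1 := inv_mul_cancel₀ hki0
  set k : F := ki⁻¹ with hkdef
  have hcc : l ^ 2 + l ≠ 0 := by
    intro h
    have h3 : l * (l + 1) = 0 := by linear_combination h
    rcases mul_eq_zero.mp h3 with h4 | h4
    · exact hl0 h4
    · apply hl1
      linear_combination h4 - h2
  refine ⟨cox 1 F, cg1 h2 k ki hk, cg2 h2 k ki hk l, ⟨4, cox_sub_one_pow_four h2⟩,
    cox_sub_one_pow_three, ?_⟩
  change Subgroup.closure ({cox 1 F, cV1 h2 k ki hk, cV2 h2 k ki hk l} : Set GG) = ⊤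
  set H : Subgroup GG := Subgroup.closure ({cox 1 F, cV1 h2 k ki hk, cV2 h2 k ki hk l} : Set GG)
    with hH
  have hu : cox 1 F ∈ H := Subgroup.subset_closure (by simp)
  have hV1 : cV1 h2 k ki hk ∈ H := Subgroup.subset_closure (by simp)
  have hV2 : cV2 h2 k ki hk l ∈ H := Subgroup.subset_closure (by simp)
  -- the root element
  have hTcc : T (e 0 : VV) (l ^ 2 + l) ∈ H := by
    have h := H.mul_mem hV2 (H.inv_mem hV1)
    rw [cV2_eq, mul_inv_cancel_right] at h
    exact h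
  -- multiplying the parameter by `l ^ 2`
  have hconj : ∀ a : F, T (e 0 : VV) a ∈ H → T (e 0 : VV) (l ^ 2 * a) ∈ H := by
    intro a ha
    have hh : cox 1 F * cV1 h2 k ki hk * cox 1 F ∈ H := H.mul_mem (H.mul_mem hu hV1) hu
    have h := H.mul_mem (H.mul_mem hh ha) (H.inv_mem hh)
    rw [conj_T, act_ucV1u_e0, T_smul] at h
    have e : (-ki ^ 2) ^ 2 * a = l ^ 2 * a := by
      rw [← hki]
      ring
    rwa [e] at h
  let A : AddSubgroup F :=
    { carrier := {a | T (e 0 : VV) a ∈ H}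
      add_mem' := by
        intro a b ha hb
        show T (e 0 : VV) (a + b) ∈ H
        rw [← T_add]
        exact H.mul_mem ha hb
      zero_mem' := by
        show T (e 0 : VV) 0 ∈ H
        rw [T_zero]
        exact H.one_mem
      neg_mem' := by
        intro a ha
        show T (e 0 : VV) (-a) ∈ H
        rw [← T_inv]
        exact H.inv_mem ha }
  have hA : A = ⊤ := hgen A ⟨l ^ 2 + l, hTcc, hcc⟩ (fun a ha => hconj a ha)
  have hT : ∀ t : F, T (e 0 : VV) t ∈ H := by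
    intro t
    have : t ∈ A := by
      rw [hA]
      exact AddSubgroup.mem_top t
    exact this
  -- the link
  have hlink : ∀ t : F, T ((e 1 : VV) + ki • (e 0 : VV)) t ∈ H := by
    intro t
    rw [← act_cV1_f1 h2 k ki hk, T_smul, ← conj_T]
    have hf1 : ∀ t : F, T (f 1 : VV) t ∈ H := by
      intro t
      have e : (f 1 : VV) = act (cox 1 F * cox 1 F * cox 1 F) (e 0 : VV) := by
        rw [act_mul, act_mul, e0_eq, f1_eq, act_cox_vec4, act_cox_vec4, act_cox_vec4]
        apply vec4_congr <;> simp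
      rw [e, ← conj_T]
      have h3 : cox 1 F * cox 1 F * cox 1 F ∈ H := H.mul_mem (H.mul_mem hu hu) hu
      exact H.mul_mem (H.mul_mem h3 (hT t)) (H.inv_mem h3)
    exact H.mul_mem (H.mul_mem hV1 (hf1 _)) (H.inv_mem hV1)
  exact final_vec H hu hT ki hki0 hlink

end main

/-- **FO-1**: `Sp_4(q)`, `q ≥ 4` even, is generated by three conjugates of a regular unipotent
element. -/
theorem sp4_even {F : Type*} [Field F] [Fintype F] (h2 : (2 : F) = 0) (hq : 4 ≤ Fintype.card F) :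
    ∃ u g h : Matrix.symplecticGroup (Fin 2) F,
      IsNilpotent ((u : Matrix (Fin 2 ⊕ Fin 2) (Fin 2 ⊕ Fin 2) F) - 1) ∧
      ((u : Matrix (Fin 2 ⊕ Fin 2) (Fin 2 ⊕ Fin 2) F) - 1) ^ 3 ≠ 0 ∧
      Subgroup.closure ({u, g * u * g⁻¹, h * u * h⁻¹} : Set (Matrix.symplecticGroup (Fin 2) F)) = ⊤ := by
  obtain ⟨l, hl0, hl1, _, hgen⟩ := Cfsg.Agent.Lib.Helper25.RU.exists_gen_scalar (F := F) hq
  have : CharP F 2 := CharTwo.of_one_ne_zero_of_two_eq_zero one_ne_zero h2
  have hch : ringChar F = 2 := ringChar.eq F 2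
  obtain ⟨ki, hki⟩ := FiniteField.isSquare_of_char_two hch l
  exact sp4_even_of h2 ki l (by rw [hki]; ring) hl0 hl1 hgen

end Cfsg.Agent.Lib.Helper22.RU
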