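import Mathlib
import Cfsg.Prelude.Def_LocalStructure
import Cfsg.Agent.Lib.Helper9.Layer
import Cfsg.Agent.Lib.Helper17.Basic

/-!
# S2860 farm-out, pieces FO-A1 and FO-A2 (helper22)

`qs_normal_dichotomy` and `qs_commutator_pgroup` with the exact statements of
`notes/S2860Skel_helper27.lean.txt`.
-/

set_option autoImplicit false

namespace Cfsg.Agent.Lib.Helper22.S2860A

open Subgroup
open scoped commutatorElement

/-- If `X/K` is a `p`-group (in the elementwise form) and `O_p(X) = 1`, then the centralizer of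
the normal subgroup `K` has order prime to `p`. -/
theorem card_centralizer_coprime {X : Type*} [Group X] [Finite X] {p : ℕ} [Fact p.Prime]
    (K : Subgroup X) [K.Normal] (hO : Cfsg.pCore p X = ⊥)
    (hidx : ∀ x : X, ∃ k : ℕ, x ^ p ^ k ∈ K) :
    (Nat.card (centralizer (K : Set X))).Coprime p := by
  have hp : p.Prime := Fact.out
  set Cen : Subgroup X := centralizer (K : Set X) with hCen
  -- `X ⧸ K` is a `p`-group
  have hpq : IsPGroup p (X ⧸ K) := by
    intro g
    induction g using QuotientGroup.induction_on with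
    | H x =>
      obtain ⟨k, hk⟩ := hidx x
      refine ⟨k, ?_⟩
      rw [← QuotientGroup.mk_pow]
      exact (QuotientGroup.eq_one_iff _).mpr hk
  have hnilq : Group.IsNilpotent (X ⧸ K) := hpq.isNilpotent
  let f : ↥Cen →* X ⧸ K := (QuotientGroup.mk' K).comp Cen.subtype
  have hker : f.ker ≤ center ↥Cen := by
    intro c hc
    rw [MonoidHom.mem_ker] at hc
    have hcK : (c : X) ∈ K := by
      have : ((c : X) : X ⧸ K) = 1 := hc
      exact (QuotientGroup.eq_one_iff _).mp this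
    rw [Subgroup.mem_center_iff]
    intro d
    apply Subtype.ext
    have hd := Subgroup.mem_centralizer_iff.mp d.2 (c : X) hcK
    simpa using hd.symm
  have hnil : Group.IsNilpotent ↥Cen := Subgroup.isNilpotent_of_ker_le_center f hker
  have hsyl : ∀ P : Sylow p ↥Cen, (P : Subgroup ↥Cen).Normal := fun P => inferInstance
  rw [Nat.coprime_comm, Nat.Prime.coprime_iff_not_dvd hp]
  intro hdvd
  obtain ⟨P⟩ : Nonempty (Sylow p ↥Cen) := inferInstance
  have := hsyl P
  have : (P : Subgroup ↥Cen).Characteristic := Sylow.characteristic_of_normal P inferInstance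
  have hQn : ((P : Subgroup ↥Cen).map Cen.subtype).Normal := inferInstance
  have hQp : IsPGroup p ((P : Subgroup ↥Cen).map Cen.subtype) := P.2.map _
  have hQ : (P : Subgroup ↥Cen).map Cen.subtype ≤ Cfsg.pCore p X :=
    Cfsg.Agent.Lib.Helper17.le_pCore hQn hQp
  rw [hO, le_bot_iff, Subgroup.map_eq_bot_iff_of_injective _ Cen.subtype_injective] at hQ
  have h1 := P.dvd_card_of_dvd_card hdvd
  rw [hQ, Subgroup.card_bot] at h1
  exact hp.one_lt.ne' (Nat.dvd_one.mp h1)

/-- FO-A1. -/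
theorem qs_normal_dichotomy {X : Type*} [Group X] [Finite X] {p : ℕ} [Fact p.Prime]
    (K : Subgroup X) [K.Normal] (hK : Cfsg.IsQuasisimple ↥K) (hO : Cfsg.pCore p X = ⊥)
    (hidx : ∀ x : X, ∃ k : ℕ, x ^ p ^ k ∈ K) (N : Subgroup X) [N.Normal] :
    K ≤ N ∨ (N ≤ K ∧ (∀ n ∈ N, ∀ k ∈ K, n * k = k * n) ∧ (Nat.card N).Coprime p) := by
  have hperf : ⁅K, K⁆ = K := Subgroup.isPerfect_iff.mp hK.1
  rcases Cfsg.Agent.Lib.Helper9.qs_normal_le_center_or_eq_top hK (N.subgroupOf K) with h | h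
  swap
  · left; exact Subgroup.subgroupOf_eq_top.mp h
  right
  have hNK : ∀ n ∈ N, n ∈ K → ∀ k ∈ K, k * n = n * k := by
    intro n hn hnK k hk
    have h1 : (⟨n, hnK⟩ : K) ∈ N.subgroupOf K := Subgroup.mem_subgroupOf.mpr hn
    have h2 := Subgroup.mem_center_iff.mp (h h1) ⟨k, hk⟩
    exact congrArg Subtype.val h2
  have hcen : N ≤ centralizer (K : Set X) := by
    rw [← Subgroup.commutator_eq_bot_iff_le_centralizer]
    have h1 : ⁅⁅K, N⁆, K⁆ = ⊥ := by
      rw [Subgroup.commutator_eq_bot_iff_le_centralizer]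
      intro x hx
      have hx' : x ∈ K ⊓ N := Subgroup.commutator_le_inf K N hx
      rw [Subgroup.mem_centralizer_iff]
      intro k hk
      exact hNK x hx'.2 hx'.1 k hk
    have h2 : ⁅⁅N, K⁆, K⁆ = ⊥ := by rw [Subgroup.commutator_comm N K]; exact h1
    have h3 := Subgroup.commutator_commutator_eq_bot_of_rotate (H₁ := K) (H₂ := K) (H₃ := N) h1 h2
    rw [hperf] at h3
    rw [Subgroup.commutator_comm]; exact h3
  have hcop : (Nat.card N).Coprime p :=
    Nat.Coprime.coprime_dvd_left (Subgroup.card_dvd_of_le hcen)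
      (card_centralizer_coprime K hO hidx)
  refine ⟨?_, ?_, hcop⟩
  · intro n hn
    obtain ⟨k, hk⟩ := hidx n
    have hord : orderOf n ∣ Nat.card N := Subgroup.orderOf_dvd_natCard N hn
    have hc : (p ^ k).Coprime (orderOf n) :=
      Nat.Coprime.pow_left k (Nat.Coprime.coprime_dvd_left hord hcop).symm
    obtain ⟨m, hm⟩ := exists_pow_eq_self_of_coprime hc
    rw [← hm]
    exact K.pow_mem hk m
  · intro n hn k hk
    exact (Subgroup.mem_centralizer_iff.mp (hcen hn) k hk).symm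

/-- FO-A2. -/
theorem qs_commutator_pgroup {X : Type*} [Group X] [Finite X] {p : ℕ} [Fact p.Prime]
    (K : Subgroup X) [K.Normal] (hK : Cfsg.IsQuasisimple ↥K) (hO : Cfsg.pCore p X = ⊥)
    (hidx : ∀ x : X, ∃ k : ℕ, x ^ p ^ k ∈ K) (Y : Subgroup X) (hY : IsPGroup p Y) (hY1 : Y ≠ ⊥) :
    ⁅K, Y⁆ = K := by
  have hp : p.Prime := Fact.out
  have hperf : ⁅K, K⁆ = K := Subgroup.isPerfect_iff.mp hK.1
  have hle : ⁅K, Y⁆ ≤ K := Subgroup.commutator_le_left K Y
  have hnorm : ∀ a ∈ K, ∀ h ∈ ⁅K, Y⁆, a * h * a⁻¹ ∈ ⁅K, Y⁆ := by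
    intro a ha h hh
    rw [Subgroup.commutator_def] at hh ⊢
    induction hh using Subgroup.closure_induction with
    | mem x hx =>
      obtain ⟨k, hk, y, hy, rfl⟩ := hx
      have e : a * ⁅k, y⁆ * a⁻¹ = ⁅a * k, y⁆ * ⁅a, y⁆⁻¹ := by
        simp only [commutatorElement_def]; group
      rw [e]
      exact mul_mem (subset_closure ⟨a * k, K.mul_mem ha hk, y, hy, rfl⟩)
        (inv_mem (subset_closure ⟨a, ha, y, hy, rfl⟩))
    | one => simp
    | mul x y _ _ hx hy =>
      have e : a * (x * y) * a⁻¹ = (a * x * a⁻¹) * (a * y * a⁻¹) := by group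
      rw [e]; exact mul_mem hx hy
    | inv x _ hx =>
      have e : a * x⁻¹ * a⁻¹ = (a * x * a⁻¹)⁻¹ := by group
      rw [e]; exact inv_mem hx
  have : (⁅K, Y⁆.subgroupOf K).Normal := ⟨fun n hn g => by
    rw [Subgroup.mem_subgroupOf] at hn ⊢
    exact hnorm g g.2 n hn⟩
  rcases Cfsg.Agent.Lib.Helper9.qs_normal_le_center_or_eq_top hK (⁅K, Y⁆.subgroupOf K) with h | h
  swap
  · exact le_antisymm hle (Subgroup.subgroupOf_eq_top.mp h)
  exfalso
  have h1 : ⁅⁅K, Y⁆, K⁆ = ⊥ := by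
    rw [Subgroup.commutator_eq_bot_iff_le_centralizer]
    intro x hx
    rw [Subgroup.mem_centralizer_iff]
    intro k hk
    have hxK := hle hx
    have h2 := Subgroup.mem_center_iff.mp
      (h (show (⟨x, hxK⟩ : K) ∈ ⁅K, Y⁆.subgroupOf K from Subgroup.mem_subgroupOf.mpr hx)) ⟨k, hk⟩
    exact congrArg Subtype.val h2
  have h2 : ⁅⁅Y, K⁆, K⁆ = ⊥ := by rw [Subgroup.commutator_comm Y K]; exact h1
  have h3 := Subgroup.commutator_commutator_eq_bot_of_rotate (H₁ := K) (H₂ := K) (H₃ := Y) h1 h2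
  rw [hperf] at h3
  have hYc : Y ≤ centralizer (K : Set X) := by
    rw [← Subgroup.commutator_eq_bot_iff_le_centralizer, Subgroup.commutator_comm]; exact h3
  rcases qs_normal_dichotomy K hK hO hidx (centralizer (K : Set X)) with h4 | h4
  · have h5 : ⁅K, K⁆ = ⊥ := Subgroup.commutator_eq_bot_iff_le_centralizer.mpr h4
    rw [hperf] at h5
    have hnt := Cfsg.Agent.Lib.Helper9.qs_nontrivial hK
    exact (Subgroup.nontrivial_iff_ne_bot K).mp hnt h5
  · have hcop := h4.2.2
    have hYcop : (Nat.card Y).Coprime p :=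
      Nat.Coprime.coprime_dvd_left (Subgroup.card_dvd_of_le hYc) hcop
    obtain ⟨n, hn⟩ := IsPGroup.iff_card.mp hY
    rcases Nat.eq_zero_or_pos n with rfl | hn0
    · rw [pow_zero] at hn
      exact hY1 (Subgroup.card_eq_one.mp hn)
    · rw [hn] at hYcop
      have : p ∣ 1 := by
        have h6 : p ∣ Nat.gcd (p ^ n) p := Nat.dvd_gcd (dvd_pow_self p hn0.ne') dvd_rfl
        rwa [hYcop] at h6
      exact hp.one_lt.ne' (Nat.dvd_one.mp this)

end Cfsg.Agent.Lib.Helper22.S2860A
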