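import Mathlib
import Cfsg.Prelude.Def_LocalStructure
import Cfsg.Agent.Lib.Helper17.FpfDefs
import Cfsg.Agent.Lib.Helper23.SL2Model

/-! FO-1 of helper17's S2863 farm-out: `TwoRootProp p Y` in `SL₂(F)`, `Y` a `p`-subgroup of order `|F|`. -/

set_option autoImplicit false

namespace Cfsg.Agent.Lib.Helper22.S2863

open Matrix Cfsg.Agent.Lib.Helper17.Fpf Cfsg.Agent.Lib.Helper3.SL2 Cfsg.Agent.Lib.Helper23.SL2Model
open scoped Pointwise

section Key

variable {F : Type} [Field F]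

/-- the key matrix lemma with a chosen non-eigenvector `(x, y)` -/
lemma key_aux (m : Matrix.SpecialLinearGroup (Fin 2) F) (x y : F)
    (ha : (m.1 0 0 * x + m.1 0 1 * y - x) * y - (m.1 1 0 * x + m.1 1 1 * y - y) * x ≠ 0)
    (htr : m.1 0 0 + m.1 1 1 - 2 ≠ 0) :
    ∃ (s : Matrix.SpecialLinearGroup (Fin 2) F) (a b : F), a ≠ 0 ∧ b ≠ 0 ∧
      m = s * (upper a * lower b) * s⁻¹ := by
  obtain ⟨v1, hv1⟩ : ∃ v1, v1 = m.1 0 0 * x + m.1 0 1 * y - x := ⟨_, rfl⟩
  obtain ⟨v2, hv2⟩ : ∃ v2, v2 = m.1 1 0 * x + m.1 1 1 * y - y := ⟨_, rfl⟩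
  obtain ⟨a, hadef⟩ : ∃ a, a = v1 * y - v2 * x := ⟨_, rfl⟩
  rw [← hv1, ← hv2, ← hadef] at ha
  obtain ⟨b, hbdef⟩ : ∃ b, b = (m.1 0 0 + m.1 1 1 - 2) / a := ⟨_, rfl⟩
  have hb : b ≠ 0 := by
    rw [hbdef]; exact div_ne_zero htr ha
  have hab : a * b = m.1 0 0 + m.1 1 1 - 2 := by
    rw [hbdef]; field_simp
  have hdet := det_eq_one m
  let s : Matrix.SpecialLinearGroup (Fin 2) F :=
    ⟨!![v1 / a, x; v2 / a, y], by
      rw [Matrix.det_fin_two_of]
      field_simp
      rw [hadef]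
      ring⟩
  have hs00 : s.1 0 0 = v1 / a := rfl
  have hs01 : s.1 0 1 = x := rfl
  have hs10 : s.1 1 0 = v2 / a := rfl
  have hs11 : s.1 1 1 = y := rfl
  refine ⟨s, a, b, ha, hb, ?_⟩
  rw [eq_mul_inv_iff_mul_eq]
  obtain ⟨n00, n01, n10, n11⟩ := mul_entries (upper a) (lower b)
  simp only [upper_00, upper_01, upper_10, upper_11, lower_00, lower_01, lower_10, lower_11,
    one_mul, mul_one, mul_zero, zero_add] at n00 n01 n10 n11
  obtain ⟨l00, l01, l10, l11⟩ := mul_entries m s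
  obtain ⟨r00, r01, r10, r11⟩ := mul_entries s (upper a * lower b)
  apply ext2
  · rw [l00, r00, n00, n10, hs00, hs01, hs10]
    have h1 : m.1 0 0 * (v1 / a) + m.1 0 1 * (v2 / a) - (v1 / a * (1 + a * b) + x * b)
        = (m.1 0 0 * v1 + m.1 0 1 * v2 - v1 * (1 + a * b) - x * (a * b)) / a := by
      field_simp
      ring
    have h2 : m.1 0 0 * v1 + m.1 0 1 * v2 - v1 * (1 + a * b) - x * (a * b) = 0 := by
      rw [hab, hv1, hv2]
      linear_combination (-x) * hdet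
    rw [h2, zero_div] at h1
    exact sub_eq_zero.mp h1
  · rw [l01, r01, n01, n11, hs00, hs01, hs11]
    have : v1 / a * a = v1 := by field_simp
    rw [this, hv1]; ring
  · rw [l10, r10, n00, n10, hs00, hs10, hs11]
    have h1 : m.1 1 0 * (v1 / a) + m.1 1 1 * (v2 / a) - (v2 / a * (1 + a * b) + y * b)
        = (m.1 1 0 * v1 + m.1 1 1 * v2 - v2 * (1 + a * b) - y * (a * b)) / a := by
      field_simp
      ring
    have h2 : m.1 1 0 * v1 + m.1 1 1 * v2 - v2 * (1 + a * b) - y * (a * b) = 0 := by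
      rw [hab, hv1, hv2]
      linear_combination (-y) * hdet
    rw [h2, zero_div] at h1
    exact sub_eq_zero.mp h1
  · rw [l11, r11, n01, n11, hs01, hs10, hs11]
    have : v2 / a * a = v2 := by field_simp
    rw [this, hv2]; ring

/-- the key matrix lemma: a non-scalar `m ∈ SL₂(F)` with `tr m ≠ 2` is conjugate to
`upper a * lower b` with `a, b ≠ 0`. -/
lemma key (m : Matrix.SpecialLinearGroup (Fin 2) F)
    (hns : ¬ (m.1 0 1 = 0 ∧ m.1 1 0 = 0 ∧ m.1 0 0 = m.1 1 1))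
    (htr : m.1 0 0 + m.1 1 1 - 2 ≠ 0) :
    ∃ (s : Matrix.SpecialLinearGroup (Fin 2) F) (a b : F), a ≠ 0 ∧ b ≠ 0 ∧
      m = s * (upper a * lower b) * s⁻¹ := by
  by_cases h10 : m.1 1 0 = 0
  · by_cases h01 : m.1 0 1 = 0
    · have hne : m.1 0 0 ≠ m.1 1 1 := fun h => hns ⟨h01, h10, h⟩
      apply key_aux m 1 1 _ htr
      rw [h10, h01]
      intro h
      apply hne
      linear_combination h
    · apply key_aux m 0 1 _ htr
      intro h
      apply h01
      linear_combination h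
  · apply key_aux m 1 0 _ htr
    intro h
    apply h10
    linear_combination (-1 : F) * h

/-- the Weyl element -/
def w0 : Matrix.SpecialLinearGroup (Fin 2) F :=
  ⟨!![0, 1; -1, 0], by rw [Matrix.det_fin_two_of]; ring⟩

lemma w0_conj (b : F) : (w0 : Matrix.SpecialLinearGroup (Fin 2) F) * upper (-b) * w0⁻¹ = lower b := by
  rw [mul_inv_eq_iff_eq_mul]
  obtain ⟨l00, l01, l10, l11⟩ := mul_entries (w0 : Matrix.SpecialLinearGroup (Fin 2) F) (upper (-b))
  obtain ⟨r00, r01, r10, r11⟩ := mul_entries (lower b) (w0 : Matrix.SpecialLinearGroup (Fin 2) F)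
  have w00 : (w0 : Matrix.SpecialLinearGroup (Fin 2) F).1 0 0 = 0 := rfl
  have w01 : (w0 : Matrix.SpecialLinearGroup (Fin 2) F).1 0 1 = 1 := rfl
  have w10 : (w0 : Matrix.SpecialLinearGroup (Fin 2) F).1 1 0 = -1 := rfl
  have w11 : (w0 : Matrix.SpecialLinearGroup (Fin 2) F).1 1 1 = 0 := rfl
  apply ext2
  · rw [l00, r00, w00, w01, w10]; simp
  · rw [l01, r01, w00, w01, w11]; simp
  · rw [l10, r10, w00, w10, w11]; simp
  · rw [l11, r11, w01, w10, w11]; simp

/-- trace `2` elements are `p`-elements in characteristic `p` -/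
lemma pow_char_eq_one (p : ℕ) [Fact p.Prime] [CharP F p] (z : Matrix.SpecialLinearGroup (Fin 2) F)
    (htr : z.1 0 0 + z.1 1 1 = 2) : z ^ p = 1 := by
  have hp : p.Prime := Fact.out
  have hdet := det_eq_one z
  obtain ⟨N, hN⟩ : ∃ N : Matrix (Fin 2) (Fin 2) F, N = z.1 - 1 := ⟨_, rfl⟩
  have hNN : N * N = 0 := by
    have h11 : z.1 1 1 = 2 - z.1 0 0 := by linear_combination htr
    rw [h11] at hdet
    ext i j
    fin_cases i <;> fin_cases j <;>
      simp [hN, Matrix.mul_apply, Fin.sum_univ_two, h11] <;>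
      first | ring1 | linear_combination (-1 : F) * hdet
  have hNp : N ^ p = 0 := by
    have : p = 2 + (p - 2) := by have := hp.two_le; omega
    rw [this, pow_add, pow_two, hNN, zero_mul]
  have hz : z.1 = 1 + N := by rw [hN]; abel
  apply Subtype.ext
  rw [Matrix.SpecialLinearGroup.coe_pow, hz, add_pow_char_of_commute _ (Commute.one_left N), one_pow,
    hNp, add_zero]
  rfl

end Key

section Main

variable {F : Type} [Field F]

/-- from a conjugate of `upper a * lower b` to the two-root form, for `Y = c U c⁻¹` -/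
lemma final (Y : Subgroup (Matrix.SpecialLinearGroup (Fin 2) F))
    (c : Matrix.SpecialLinearGroup (Fin 2) F)
    (hF1 : ∀ x, x ∈ Y ↔ ∃ t : F, x = c * upper t * c⁻¹)
    (T s₀ : Matrix.SpecialLinearGroup (Fin 2) F) (a b : F) (ha : a ≠ 0) (hb : b ≠ 0)
    (hT : T = s₀ * (upper a * lower b) * s₀⁻¹) :
    ∃ s g y y' : Matrix.SpecialLinearGroup (Fin 2) F, y ∈ Y ∧ y ≠ 1 ∧ y' ∈ Y ∧ y' ≠ 1 ∧
      g ∉ Subgroup.normalizer (Y : Set (Matrix.SpecialLinearGroup (Fin 2) F)) ∧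
      T = s * (y * (g * y' * g⁻¹)) * s⁻¹ := by
  have hup1 : ∀ t : F, t ≠ 0 → c * upper t * c⁻¹ ≠ 1 := by
    intro t ht h
    apply ht
    have h1 : upper t = 1 := by
      have : upper t = c⁻¹ * (c * upper t * c⁻¹) * c := by group
      rw [this, h]; group
    have := congrArg (fun g : Matrix.SpecialLinearGroup (Fin 2) F => g.1 0 1) h1
    simpa using this
  refine ⟨s₀ * c⁻¹, c * w0 * c⁻¹, c * upper a * c⁻¹, c * upper (-b) * c⁻¹,
    (hF1 _).2 ⟨a, rfl⟩, hup1 a ha, (hF1 _).2 ⟨-b, rfl⟩, hup1 (-b) (neg_ne_zero.mpr hb), ?_, ?_⟩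
  · intro hN
    rw [Subgroup.mem_normalizer_iff] at hN
    have h1 := (hN (c * upper 1 * c⁻¹)).1 ((hF1 _).2 ⟨1, rfl⟩)
    obtain ⟨t, ht⟩ := (hF1 _).1 h1
    have h2 : (w0 : Matrix.SpecialLinearGroup (Fin 2) F) * upper (-(-1 : F)) * w0⁻¹ = upper t := by
      have : (w0 : Matrix.SpecialLinearGroup (Fin 2) F) * upper (-(-1 : F)) * w0⁻¹
          = c⁻¹ * (c * w0 * c⁻¹ * (c * upper 1 * c⁻¹) * (c * w0 * c⁻¹)⁻¹) * c := by
        rw [neg_neg]; group
      rw [this, ht]; group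
    rw [w0_conj] at h2
    have := congrArg (fun g : Matrix.SpecialLinearGroup (Fin 2) F => g.1 1 0) h2
    simp at this
  · rw [hT, ← w0_conj b]
    group

theorem FO1_sl2_twoRoot [Fintype F] {p : ℕ} [Fact p.Prime]
    (Y : Subgroup (Matrix.SpecialLinearGroup (Fin 2) F))
    (hYp : IsPGroup p Y) (hYcard : Nat.card Y = Fintype.card F) : TwoRootProp p Y := by
  classical
  have hp : p.Prime := Fact.out
  have hq : 1 < Fintype.card F := Fintype.one_lt_card
  -- char F = p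
  obtain ⟨n, hn⟩ := hYp.exists_card_eq
  have hpF : p ∣ Fintype.card F := by
    rw [← hYcard, hn]
    have : n ≠ 0 := by
      rintro rfl
      rw [hn, pow_zero] at hYcard
      omega
    exact dvd_pow_self p this
  obtain ⟨r, hr⟩ := CharP.exists F
  have := hr
  obtain ⟨k, hrp, hk⟩ := FiniteField.card F r
  have hpr : r = p := by
    rw [hk] at hpF
    exact ((Nat.prime_dvd_prime_iff_eq hp hrp).1 (hp.dvd_of_dvd_pow hpF)).symm
  subst hpr
  -- Y is Sylow
  have hYS : Nat.card Y = r ^ (Nat.card (SpecialLinearGroup (Fin 2) F)).factorization r := by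
    rw [pow_factorization_eq r, hYcard]
  obtain ⟨YS, hYScoe⟩ : ∃ YS : Sylow r (SpecialLinearGroup (Fin 2) F), (YS : Subgroup _) = Y :=
    ⟨Sylow.ofCard Y hYS, Sylow.coe_ofCard Y hYS⟩
  obtain ⟨c, hc⟩ := exists_smul_eq r YS
  have hYconj : Y = MulAut.conj c • (U : Subgroup (SpecialLinearGroup (Fin 2) F)) := by
    rw [← hYScoe, ← hc, Sylow.coe_subgroup_smul, coe_USylow]
  have hF1 : ∀ x, x ∈ Y ↔ ∃ t : F, x = c * upper t * c⁻¹ := by
    intro x
    rw [hYconj, Subgroup.mem_pointwise_smul_iff_inv_smul_mem, MulAut.smul_def, ← map_inv,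
      MulAut.conj_apply, mem_U_iff]
    constructor
    · rintro ⟨t, ht⟩
      exact ⟨t, by rw [← ht]; group⟩
    · rintro ⟨t, rfl⟩
      exact ⟨t, by group⟩
  -- main argument
  intro x hx
  have hopos : orderOf x ≠ 0 := (orderOf_pos x).ne'
  obtain ⟨l, hl, hldvd, hlp⟩ : ∃ l : ℕ, l.Prime ∧ l ∣ orderOf x ∧ l ≠ r := by
    by_contra hcon
    push Not at hcon
    apply hx
    exact ⟨_, Nat.eq_prime_pow_of_unique_prime_dvd hopos (fun {d} hd hdvd => hcon d hd hdvd)⟩
  obtain ⟨z, hzdef⟩ : ∃ z, z = x ^ (orderOf x / l) := ⟨_, rfl⟩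
  have hz : orderOf z = l := by
    rw [hzdef]; exact orderOf_pow_orderOf_div hopos hldvd
  have hz1 : z ≠ 1 := by
    intro h
    rw [h, orderOf_one] at hz
    exact hl.one_lt.ne hz
  have htr : z.1 0 0 + z.1 1 1 - 2 ≠ 0 := by
    intro h
    have h1 : z ^ r = 1 := pow_char_eq_one r z (by linear_combination h)
    have h2 : l ∣ r := hz ▸ orderOf_dvd_of_pow_eq_one h1
    exact hlp ((Nat.prime_dvd_prime_iff_eq hl hrp).1 h2)
  by_cases hsc : z.1 0 1 = 0 ∧ z.1 1 0 = 0 ∧ z.1 0 0 = z.1 1 1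
  · -- scalar case
    obtain ⟨h01, h10, h0011⟩ := hsc
    have hdet := det_eq_one z
    rw [h01, h10, ← h0011] at hdet
    -- `z` is central
    have hcen : z ∈ Subgroup.center (Matrix.SpecialLinearGroup (Fin 2) F) := by
      rw [Subgroup.mem_center_iff]
      intro g
      obtain ⟨l00, l01, l10, l11⟩ := mul_entries g z
      obtain ⟨r00, r01, r10, r11⟩ := mul_entries z g
      apply ext2
      · rw [l00, r00, h01, h10]; ring
      · rw [l01, r01, h01, ← h0011]; ring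
      · rw [l10, r10, h10, ← h0011]; ring
      · rw [l11, r11, h01, h10, ← h0011]; ring
    -- m = z * upper 1
    obtain ⟨m, hmdef⟩ : ∃ m, m = z * upper (1 : F) := ⟨_, rfl⟩
    obtain ⟨m00, m01, m10, m11⟩ := mul_entries z (upper (1 : F))
    rw [← hmdef] at m00 m01 m10 m11
    simp only [upper_00, upper_01, upper_10, upper_11, mul_one, mul_zero, add_zero, zero_add,
      h01, h10, ← h0011] at m00 m01 m10 m11
    have hl0 : z.1 0 0 ≠ 0 := by
      intro h
      rw [h] at hdet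
      simp at hdet
    have hmns : ¬ (m.1 0 1 = 0 ∧ m.1 1 0 = 0 ∧ m.1 0 0 = m.1 1 1) := by
      rintro ⟨h, -, -⟩
      rw [m01] at h
      exact hl0 h
    have hmtr : m.1 0 0 + m.1 1 1 - 2 ≠ 0 := by
      rw [m00, m11]
      rw [← h0011] at htr
      exact htr
    obtain ⟨s, a, b, ha, hb, hms⟩ := key m hmns hmtr
    have hT : z * (c * upper 1 * c⁻¹) = (c * s) * (upper a * lower b) * (c * s)⁻¹ := by
      have h1 : z * (c * upper 1 * c⁻¹) = c * (z * upper 1) * c⁻¹ := by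
        have := Subgroup.mem_center_iff.mp hcen c
        calc z * (c * upper 1 * c⁻¹) = (z * c) * upper 1 * c⁻¹ := by group
          _ = (c * z) * upper 1 * c⁻¹ := by rw [this]
          _ = c * (z * upper 1) * c⁻¹ := by group
      rw [h1, ← hmdef, hms]
      group
    obtain ⟨s', g, y, y', hy, hy1, hy', hy'1, hg, hfin⟩ :=
      final Y c hF1 _ (c * s) a b ha hb hT
    refine ⟨orderOf x / l, c * upper 1 * c⁻¹, s', g, y, y', (hF1 _).2 ⟨1, rfl⟩, Or.inr ?_, hy, hy1,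
      hy', hy'1, hg, ?_⟩
    · rw [← hzdef]; exact hcen
    · rw [← hzdef]; exact hfin
  · obtain ⟨s, a, b, ha, hb, hzs⟩ := key z hsc htr
    obtain ⟨s', g, y, y', hy, hy1, hy', hy'1, hg, hfin⟩ := final Y c hF1 z s a b ha hb hzs
    refine ⟨orderOf x / l, 1, s', g, y, y', Y.one_mem, Or.inl rfl, hy, hy1, hy', hy'1, hg, ?_⟩
    rw [mul_one, ← hzdef]
    exact hfin

end Main

end Cfsg.Agent.Lib.Helper22.S2863
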