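import Mathlib
import Cfsg.Prelude.Def_DegreeGraph
import Cfsg.Agent.Lib.Helper25.Codegree

/-!
# S3670 glue: the character degree graph of a group of order 6048 with irreducible degrees divisible by 6, 14, 21
-/

set_option autoImplicit false

namespace Cfsg.Agent.Lib.Helper22.S3670Glue

open Cfsg

theorem prime_dvd_6048 {p : ℕ} (hp : p.Prime) (h : p ∣ 6048) : p = 2 ∨ p = 3 ∨ p = 7 := by
  have h1 : (6048 : ℕ) = 2 ^ 5 * 3 ^ 3 * 7 := by norm_num
  rw [h1] at h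
  rcases (Nat.Prime.dvd_mul hp).mp h with h2 | h2
  · rcases (Nat.Prime.dvd_mul hp).mp h2 with h3 | h3
    · left
      exact (Nat.prime_dvd_prime_iff_eq hp Nat.prime_two).mp (hp.dvd_of_dvd_pow h3)
    · right; left
      exact (Nat.prime_dvd_prime_iff_eq hp Nat.prime_three).mp (hp.dvd_of_dvd_pow h3)
  · right; right
    exact (Nat.prime_dvd_prime_iff_eq hp (by norm_num)).mp h2

theorem graph_of_data {G : Type*} [Group G] [Finite G] (hcard : Nat.card G = 6048)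
    (h6 : ∃ χ : IrrCharacter G, 6 ∣ charDegree (χ : G → ℂ))
    (h14 : ∃ χ : IrrCharacter G, 14 ∣ charDegree (χ : G → ℂ))
    (h21 : ∃ χ : IrrCharacter G, 21 ∣ charDegree (χ : G → ℂ)) :
    degreePrimes G = {p | p = 2 ∨ p = 3 ∨ p = 7} ∧
    ∀ p q : ℕ, (degreeGraph G).Adj p q ↔
      (p ≠ q ∧ (p = 2 ∨ p = 3 ∨ p = 7) ∧ (q = 2 ∨ q = 3 ∨ q = 7)) := by
  obtain ⟨χ6, hχ6⟩ := h6
  obtain ⟨χ14, hχ14⟩ := h14
  obtain ⟨χ21, hχ21⟩ := h21
  have hdvd : ∀ d ∈ charDegrees G, d ∣ 6048 := by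
    rintro d ⟨χ, rfl⟩
    rw [← hcard]
    exact Cfsg.Agent.Lib.Helper25.charDegree_dvd_card χ.2
  have m6 : charDegree (χ6 : G → ℂ) ∈ charDegrees G := ⟨χ6, rfl⟩
  have m14 : charDegree (χ14 : G → ℂ) ∈ charDegrees G := ⟨χ14, rfl⟩
  have m21 : charDegree (χ21 : G → ℂ) ∈ charDegrees G := ⟨χ21, rfl⟩
  constructor
  · ext p
    constructor
    · rintro ⟨hp, d, hd, hpd⟩
      exact prime_dvd_6048 hp (dvd_trans hpd (hdvd d hd))
    · rintro (rfl | rfl | rfl)
      · exact ⟨Nat.prime_two, _, m6, dvd_trans (by norm_num) hχ6⟩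
      · exact ⟨Nat.prime_three, _, m6, dvd_trans (by norm_num) hχ6⟩
      · exact ⟨by norm_num, _, m14, dvd_trans (by norm_num) hχ14⟩
  · intro p q
    constructor
    · rintro ⟨hne, hp, hq, d, hd, hpq⟩
      refine ⟨hne, ?_, ?_⟩
      · exact prime_dvd_6048 hp (dvd_trans (dvd_trans (dvd_mul_right p q) hpq) (hdvd d hd))
      · exact prime_dvd_6048 hq (dvd_trans (dvd_trans (dvd_mul_left q p) hpq) (hdvd d hd))
    · rintro ⟨hne, hp, hq⟩
      have p2 := Nat.prime_two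
      have p3 := Nat.prime_three
      have p7 : Nat.Prime 7 := by norm_num
      rcases hp with rfl | rfl | rfl <;> rcases hq with rfl | rfl | rfl
      · exact absurd rfl hne
      · exact ⟨hne, p2, p3, _, m6, dvd_trans (by norm_num) hχ6⟩
      · exact ⟨hne, p2, p7, _, m14, dvd_trans (by norm_num) hχ14⟩
      · exact ⟨hne, p3, p2, _, m6, dvd_trans (by norm_num) hχ6⟩
      · exact absurd rfl hne
      · exact ⟨hne, p3, p7, _, m21, dvd_trans (by norm_num) hχ21⟩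
      · exact ⟨hne, p7, p2, _, m14, dvd_trans (by norm_num) hχ14⟩
      · exact ⟨hne, p7, p3, _, m21, dvd_trans (by norm_num) hχ21⟩
      · exact absurd rfl hne

end Cfsg.Agent.Lib.Helper22.S3670Glue
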