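import Mathlib
import Cfsg.Prelude.Def_GeometricClasses
import Cfsg.Agent.Lib.Helper16.TensDefs

/-!
# S5637 FO-T2a : the elements of `N0` acting trivially on `hyp ψ0` and on the quotient are root elements
-/

set_option autoImplicit false
set_option linter.unusedSimpArgs false
set_option linter.unusedVariables false

namespace Cfsg.Agent.Lib.Helper22.S5637T2a

open Matrix Module Cfsg.Agent.Lib.Helper16.Tens
open scoped Kronecker

variable {F : Type*} [Field F] {a b : ℕ}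

/-- a nonzero vector in the kernel of `ψ0 ≠ 0`, `b ≥ 2`, together with a coordinate where it does not vanish -/
theorem exists_ker_ne_zero (hb : 2 ≤ b) (ψ0 : Fin b → F) (hψ0 : ψ0 ≠ 0) :
    ∃ (w₀ : Fin b → F) (j' : Fin b), w₀ j' ≠ 0 ∧ w₀ ⬝ᵥ ψ0 = 0 := by
  classical
  obtain ⟨j, hj⟩ : ∃ j, ψ0 j ≠ 0 := by
    by_contra hall
    push Not at hall
    exact hψ0 (funext hall)
  obtain ⟨j', hjj'⟩ : ∃ j' : Fin b, j' ≠ j := by
    by_cases h0 : j = ⟨0, by omega⟩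
    · exact ⟨⟨1, by omega⟩, by rw [h0]; simp [Fin.ext_iff]⟩
    · exact ⟨⟨0, by omega⟩, fun h => h0 h.symm⟩
  refine ⟨ψ0 j • Pi.single j' 1 - ψ0 j' • Pi.single j 1, j', ?_, ?_⟩
  · simp only [Pi.sub_apply, Pi.smul_apply, Pi.single_eq_same, smul_eq_mul, mul_one,
      Pi.single_eq_of_ne hjj', mul_zero, sub_zero]
    exact hj
  · rw [sub_dotProduct, smul_dotProduct, smul_dotProduct, single_dotProduct, single_dotProduct,
      one_mul, one_mul, smul_eq_mul, smul_eq_mul]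
    ring

theorem exists_dual (ψ0 : Fin b → F) (hψ0 : ψ0 ≠ 0) : ∃ ws : Fin b → F, ws ⬝ᵥ ψ0 = 1 := by
  classical
  obtain ⟨j, hj⟩ : ∃ j, ψ0 j ≠ 0 := by
    by_contra hall
    push Not at hall
    exact hψ0 (funext hall)
  exact ⟨Pi.single j (ψ0 j)⁻¹, by rw [single_dotProduct, inv_mul_cancel₀ hj]⟩

theorem eq_root_of_kron_radical (ha : 1 ≤ a) (hab : a < b) (ψ0 : Fin b → F) (hψ0 : ψ0 ≠ 0)
    (n : GL (Fin a × Fin b) F) (hn : n ∈ Cfsg.Geo.kroneckerSubgroup a b F)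
    (h1 : ∀ v, act n v - v ∈ hyp ψ0) (h2 : ∀ v ∈ hyp (a := a) ψ0, act n v = v) :
    ∃ (k : Fin b → F) (h : ψ0 ⬝ᵥ k = 0), n = rootGL k ψ0 h := by
  classical
  obtain ⟨A, B, hAB⟩ := (mem_kron_iff n).mp hn
  obtain ⟨Am, hAm⟩ : ∃ Am : Matrix (Fin a) (Fin a) F, Am = (A : Matrix (Fin a) (Fin a) F) := ⟨_, rfl⟩
  obtain ⟨Bm, hBm⟩ : ∃ Bm : Matrix (Fin b) (Fin b) F, Bm = (B : Matrix (Fin b) (Fin b) F) := ⟨_, rfl⟩
  rw [← hAm, ← hBm] at hAB
  have hact : ∀ (u : Fin a → F) (w : Fin b → F), act n (pur u w) = pur (Am *ᵥ u) (Bm *ᵥ w) := by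
    intro u w
    rw [act_apply, hAB, kron_mulVec_pur]
  obtain ⟨i0⟩ : Nonempty (Fin a) := ⟨⟨0, by omega⟩⟩
  -- step 1/2 : `A` is a scalar
  obtain ⟨w₀, j', hw₀j, hw₀⟩ := exists_ker_ne_zero (by omega) ψ0 hψ0
  have hfix : ∀ u : Fin a → F, pur (Am *ᵥ u) (Bm *ᵥ w₀) = pur u w₀ := by
    intro u
    rw [← hact]
    exact h2 _ (pur_mem_hyp hw₀ u)
  obtain ⟨β, hβ⟩ : ∃ β : F, β = (Bm *ᵥ w₀) j' := ⟨_, rfl⟩
  have hent : ∀ (u : Fin a → F) (i : Fin a), (Am *ᵥ u) i * β = u i * w₀ j' := by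
    intro u i
    have := congrFun (hfix u) (i, j')
    rw [pur_apply, pur_apply] at this
    rw [hβ]
    exact this
  have hβ0 : β ≠ 0 := by
    intro h0
    have := hent (Pi.single i0 1) i0
    rw [h0, mul_zero, Pi.single_eq_same, one_mul] at this
    exact hw₀j this.symm
  obtain ⟨lam, hlam⟩ : ∃ lam : F, lam = w₀ j' / β := ⟨_, rfl⟩
  have hlam0 : lam ≠ 0 := by
    rw [hlam]
    exact div_ne_zero hw₀j hβ0
  have hAu : ∀ u : Fin a → F, Am *ᵥ u = lam • u := by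
    intro u
    funext i
    rw [Pi.smul_apply, smul_eq_mul, hlam]
    have := hent u i
    field_simp
    linear_combination this
  have hAs : Am = lam • (1 : Matrix (Fin a) (Fin a) F) := by
    apply Matrix.mulVec_injective
    funext u
    rw [hAu, Matrix.smul_mulVec, Matrix.one_mulVec]
  -- step 3 : `n = 1 ⊗ B'`
  obtain ⟨B', hB'⟩ : ∃ B' : Matrix (Fin b) (Fin b) F, B' = lam • Bm := ⟨_, rfl⟩
  have hnB' : (n : Matrix (Fin a × Fin b) (Fin a × Fin b) F) =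
      (1 : Matrix (Fin a) (Fin a) F) ⊗ₖ B' := by
    rw [hAB, hAs, hB', Matrix.smul_kronecker, Matrix.kronecker_smul]
  have hact' : ∀ (u : Fin a → F) (w : Fin b → F), act n (pur u w) = pur u (B' *ᵥ w) := by
    intro u w
    rw [act_apply, hnB', kron_mulVec_pur, Matrix.one_mulVec]
  have he0 : (Pi.single i0 (1 : F) : Fin a → F) ≠ 0 := by
    intro h
    have := congrFun h i0
    rw [Pi.single_eq_same, Pi.zero_apply] at this
    exact one_ne_zero this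
  -- step 4
  have hker : ∀ w : Fin b → F, w ⬝ᵥ ψ0 = 0 → B' *ᵥ w = w := by
    intro w hw
    have := h2 _ (pur_mem_hyp hw (Pi.single i0 (1 : F)))
    rw [hact'] at this
    exact purR_injective he0 this
  obtain ⟨ws, hws⟩ := exists_dual ψ0 hψ0
  obtain ⟨k, hk⟩ : ∃ k : Fin b → F, k = B' *ᵥ ws - ws := ⟨_, rfl⟩
  have hk0 : ψ0 ⬝ᵥ k = 0 := by
    have h3 := h1 (pur (Pi.single i0 (1 : F)) ws)
    rw [hact', ← purR_apply, ← purR_apply, ← map_sub, purR_apply, ← hk, mem_hyp_iff, ctr_pur] at h3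
    have h4 := congrFun h3 i0
    rw [Pi.smul_apply, Pi.single_eq_same, smul_eq_mul, mul_one, Pi.zero_apply] at h4
    rw [dotProduct_comm]
    exact h4
  have hBw : ∀ w : Fin b → F, B' *ᵥ w = w + (ψ0 ⬝ᵥ w) • k := by
    intro w
    have hw' : (w - (w ⬝ᵥ ψ0) • ws) ⬝ᵥ ψ0 = 0 := by
      rw [sub_dotProduct, smul_dotProduct, hws, smul_eq_mul, mul_one, sub_self]
    have h3 := hker _ hw'
    rw [Matrix.mulVec_sub, Matrix.mulVec_smul] at h3
    rw [hk, dotProduct_comm ψ0 w, smul_sub]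
    have h4 : B' *ᵥ w = w - (w ⬝ᵥ ψ0) • ws + (w ⬝ᵥ ψ0) • B' *ᵥ ws := by
      rw [← h3]
      abel
    rw [h4]
    abel
  have hBeq : B' = 1 + vecMulVec k ψ0 := by
    apply Matrix.mulVec_injective
    funext w
    rw [hBw, Matrix.add_mulVec, Matrix.one_mulVec, Matrix.vecMulVec_mulVec]
    congr 1
    funext j
    simp only [Pi.smul_apply, smul_eq_mul, MulOpposite.smul_eq_mul_unop, MulOpposite.unop_op]
    ring
  refine ⟨k, hk0, ?_⟩
  apply Units.ext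
  rw [rootGL_val, hnB', hBeq]
  rfl

end Cfsg.Agent.Lib.Helper22.S5637T2a
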