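import Mathlib
import Cfsg.Agent.Lib.Helper28.SpSubfDefs

/-!
# S5650 FO-CFG (helper22, for helper28): the Heisenberg computation `good_of_config`

`hs p x c = sieg p x * T(p,c)` acts (for `x ⊥ p`) as `v ↦ v + B(v,p) x + B(v,x) p + c B(v,p) p`;
`hs p x c * hs p x' c' = hs p (x+x') (c+c'+B(x',x))`, `k hs(p,x,c) k⁻¹ = hs(kp,kx,c)`.
-/

set_option autoImplicit false

namespace Cfsg.Agent.Lib.Helper22.S5650

open Matrix Cfsg.Agent.Lib.Helper6 Cfsg.Agent.Lib.Helper13 Cfsg.Agent.Lib.Helper28.SpSubf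

variable {F : Type*} [Field F] {m : ℕ}

local notation "ff" => Cfsg.sympForm m F

/-- the Heisenberg element `sieg p x * T(p,c)` -/
def hs (p x : Fin m ⊕ Fin m → F) (c : F) : GL (Fin m ⊕ Fin m) F :=
  sieg p x * sympTransvGL p c

theorem hs_mulVec (p x : Fin m ⊕ Fin m → F) (c : F) (hpx : ff p x = 0)
    (v : Fin m ⊕ Fin m → F) :
    ((hs p x c : GL (Fin m ⊕ Fin m) F) : Matrix (Fin m ⊕ Fin m) (Fin m ⊕ Fin m) F) *ᵥ v =
      v + ff v p • x + ff v x • p + (c * ff v p) • p := by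
  unfold hs
  rw [Units.val_mul, ← mulVec_mulVec, sympTransvGL_mulVec, sieg_mulVec p x hpx]
  simp only [sympForm_add_left, sympForm_smul_left, sympForm_self, hpx]
  module

theorem hs_mul (p x x' : Fin m ⊕ Fin m → F) (c c' : F) (hx : ff p x = 0) (hx' : ff p x' = 0) :
    hs p x c * hs p x' c' = hs p (x + x') (c + c' + ff x' x) := by
  have hxx : ff p (x + x') = 0 := by rw [sympForm_add_right, hx, hx', add_zero]
  have hxp : ff x p = 0 := by rw [sympForm_swap, hx, neg_zero]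
  have hxp' : ff x' p = 0 := by rw [sympForm_swap, hx', neg_zero]
  apply gl_ext
  intro v
  rw [Units.val_mul, ← mulVec_mulVec, hs_mulVec p x' c' hx', hs_mulVec p x c hx,
    hs_mulVec p (x + x') _ hxx]
  simp only [sympForm_add_left, sympForm_add_right, sympForm_smul_left, sympForm_self, hx, hxp']
  module

theorem hs_zero_zero (p : Fin m ⊕ Fin m → F) : hs p 0 0 = 1 := by
  apply gl_ext
  intro v
  rw [hs_mulVec p 0 0 (sympForm_zero_right p), Units.val_one, one_mulVec]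
  simp only [sympForm_zero_right]
  module

theorem hs_zero_left (p : Fin m ⊕ Fin m → F) (c : F) : hs p 0 c = sympTransvGL p c := by
  apply gl_ext
  intro v
  rw [hs_mulVec p 0 c (sympForm_zero_right p), sympTransvGL_mulVec]
  simp only [sympForm_zero_right]
  module

theorem hs_zero_right (p x : Fin m ⊕ Fin m → F) : hs p x 0 = sieg p x := by
  unfold hs
  rw [sympTransvGL_zero, mul_one]

theorem hs_inv (p x : Fin m ⊕ Fin m → F) (c : F) (hx : ff p x = 0) :
    (hs p x c)⁻¹ = hs p (-x) (-c) := by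
  have hnx : ff p (-x) = 0 := by rw [sympForm_neg_right, hx, neg_zero]
  apply inv_eq_of_mul_eq_one_right
  rw [hs_mul p x (-x) c (-c) hx hnx]
  have h1 : x + -x = 0 := add_neg_cancel x
  have h2 : c + -c + ff (-x) x = 0 := by
    rw [sympForm_neg_left, sympForm_self]
    ring
  rw [h1, h2, hs_zero_zero]

theorem conj_hs (k : GL (Fin m ⊕ Fin m) F) (hk : k ∈ Cfsg.spGL m F)
    (p x : Fin m ⊕ Fin m → F) (c : F) :
    k * hs p x c * k⁻¹ = hs ((k : Matrix (Fin m ⊕ Fin m) (Fin m ⊕ Fin m) F) *ᵥ p)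
      ((k : Matrix (Fin m ⊕ Fin m) (Fin m ⊕ Fin m) F) *ᵥ x) c := by
  unfold hs
  rw [← conj_sieg k hk, ← conj_sympTransvGL k hk]
  group

/-- first commutator: `[T(w,1), sieg(p,z)] = hs p (β w) (-β²)`, `β = B(z,w)` -/
theorem comm_one (w p z : Fin m ⊕ Fin m → F) (hwp : ff w p = 0) (hzp : ff z p = 0) :
    sympTransvGL w 1 * sieg p z * (sympTransvGL w 1)⁻¹ * (sieg p z)⁻¹ =
      hs p (ff z w • w) (-(ff z w ^ 2)) := by
  have hpw : ff p w = 0 := by rw [sympForm_swap, hwp, neg_zero]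
  have hpz : ff p z = 0 := by rw [sympForm_swap, hzp, neg_zero]
  rw [conj_sieg _ (sympTransvGL_mem w 1), sympTransvGL_mulVec, sympTransvGL_mulVec, hpw,
    mul_zero, zero_smul, add_zero, one_mul, ← hs_zero_right p z, ← hs_zero_right p (z + _),
    hs_inv p z 0 hpz]
  have h1 : ff p (z + ff z w • w) = 0 := by
    rw [sympForm_add_right, sympForm_smul_right, hpz, hpw, mul_zero, add_zero]
  have hnz : ff p (-z) = 0 := by rw [sympForm_neg_right, hpz, neg_zero]
  rw [hs_mul p _ _ 0 (-0) h1 hnz]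
  have e1 : z + ff z w • w + -z = ff z w • w := by module
  have e2 : (0 : F) + -0 + ff (-z) (z + ff z w • w) = -(ff z w ^ 2) := by
    rw [sympForm_neg_left, sympForm_add_right, sympForm_smul_right, sympForm_self]
    ring
  rw [e1, e2]

/-- second commutator: `[sieg(b,y), hs p (β w) c] = hs p (β B(w,y) b) 0` -/
theorem comm_two (w p y b : Fin m ⊕ Fin m → F) (β c : F) (hwp : ff w p = 0)
    (hyp : ff y p = 0) (hbp : ff b p = 0) (hbw : ff b w = 0) (hby : ff b y = 0) :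
    sieg b y * hs p (β • w) c * (sieg b y)⁻¹ * (hs p (β • w) c)⁻¹ =
      hs p ((β * ff w y) • b) 0 := by
  have hpw : ff p w = 0 := by rw [sympForm_swap, hwp, neg_zero]
  have hpy : ff p y = 0 := by rw [sympForm_swap, hyp, neg_zero]
  have hpb : ff p b = 0 := by rw [sympForm_swap, hbp, neg_zero]
  have hwb : ff w b = 0 := by rw [sympForm_swap, hbw, neg_zero]
  have hpβw : ff p (β • w) = 0 := by rw [sympForm_smul_right, hpw, mul_zero]
  rw [conj_hs _ (sieg_mem b y), sieg_mulVec b y hby, sieg_mulVec b y hby, hpb, hpy,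
    zero_smul, zero_smul, add_zero, add_zero, hs_inv p (β • w) c hpβw]
  have e0 : β • w + ff (β • w) b • y + ff (β • w) y • b = β • w + (β * ff w y) • b := by
    rw [sympForm_smul_left, sympForm_smul_left, hwb, mul_zero, zero_smul, add_zero]
  rw [e0]
  have h1 : ff p (β • w + (β * ff w y) • b) = 0 := by
    rw [sympForm_add_right, sympForm_smul_right, sympForm_smul_right, hpw, hpb, mul_zero,
      mul_zero, add_zero]
  have h2 : ff p (-(β • w)) = 0 := by rw [sympForm_neg_right, hpβw, neg_zero]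
  rw [hs_mul p _ _ c (-c) h1 h2]
  have e1 : β • w + (β * ff w y) • b + -(β • w) = (β * ff w y) • b := by module
  have e2 : c + -c + ff (-(β • w)) (β • w + (β * ff w y) • b) = 0 := by
    simp only [sympForm_neg_left, sympForm_add_right, sympForm_smul_left, sympForm_smul_right,
      sympForm_self, hwb]
    ring
  rw [e1, e2]

/-- third step: `hs p (ν b₁) 0 * hs p (ν b₂) 0 * (hs p (ν (b₁+b₂)) 0)⁻¹ = T(p, ν² B(b₂,b₁))` -/
theorem comm_three (p b₁ b₂ : Fin m ⊕ Fin m → F) (ν : F) (hb₁p : ff b₁ p = 0)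
    (hb₂p : ff b₂ p = 0) :
    hs p (ν • b₁) 0 * hs p (ν • b₂) 0 * (hs p (ν • (b₁ + b₂)) 0)⁻¹ =
      sympTransvGL p (ν ^ 2 * ff b₂ b₁) := by
  have hpb₁ : ff p b₁ = 0 := by rw [sympForm_swap, hb₁p, neg_zero]
  have hpb₂ : ff p b₂ = 0 := by rw [sympForm_swap, hb₂p, neg_zero]
  have h1 : ff p (ν • b₁) = 0 := by rw [sympForm_smul_right, hpb₁, mul_zero]
  have h2 : ff p (ν • b₂) = 0 := by rw [sympForm_smul_right, hpb₂, mul_zero]
  have h3 : ff p (ν • (b₁ + b₂)) = 0 := by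
    rw [sympForm_smul_right, sympForm_add_right, hpb₁, hpb₂, add_zero, mul_zero]
  have h4 : ff p (ν • b₁ + ν • b₂) = 0 := by rw [sympForm_add_right, h1, h2, add_zero]
  have h5 : ff p (-(ν • (b₁ + b₂))) = 0 := by rw [sympForm_neg_right, h3, neg_zero]
  rw [hs_inv p _ 0 h3, hs_mul p _ _ 0 0 h1 h2, hs_mul p _ _ _ (-0) h4 h5]
  have e1 : ν • b₁ + ν • b₂ + -(ν • (b₁ + b₂)) = 0 := by module
  have e2 : (0 : F) + 0 + ff (ν • b₂) (ν • b₁) + -0 +
      ff (-(ν • (b₁ + b₂))) (ν • b₁ + ν • b₂) = ν ^ 2 * ff b₂ b₁ := by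
    have hsw : ff b₁ b₂ = - ff b₂ b₁ := sympForm_swap b₁ b₂
    simp only [sympForm_neg_left, sympForm_add_left, sympForm_add_right, sympForm_smul_left,
      sympForm_smul_right, sympForm_self, hsw]
    ring
  rw [e1, e2, hs_zero_left]

section main

variable (K : Subfield F)

theorem good_of_config (M : Subgroup (GL (Fin m ⊕ Fin m) F))
    (hHM : H1 K m ≤ M) (hMS : M ≤ Cfsg.spGL m F) (w : Fin m ⊕ Fin m → F)
    (hw : sympTransvGL w 1 ∈ M) (p z y b₁ b₂ : Fin m ⊕ Fin m → K) (hp : p ≠ 0)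
    (hwp : ff w (rv K p) = 0)
    (hzp : Cfsg.sympForm m K z p = 0) (hyp : Cfsg.sympForm m K y p = 0)
    (hb₁p : Cfsg.sympForm m K b₁ p = 0) (hb₂p : Cfsg.sympForm m K b₂ p = 0)
    (hb₁w : ff (rv K b₁) w = 0) (hb₂w : ff (rv K b₂) w = 0)
    (hb₁y : Cfsg.sympForm m K b₁ y = 0) (hb₂y : Cfsg.sympForm m K b₂ y = 0)
    (hb : Cfsg.sympForm m K b₂ b₁ = 1)
    (hν : (ff (rv K z) w * ff w (rv K y)) ^ 2 ∉ K) : Good K M := by
  -- F-level orthogonality relations
  have fzp : ff (rv K z) (rv K p) = 0 := by rw [sympForm_rv, hzp]; rfl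
  have fyp : ff (rv K y) (rv K p) = 0 := by rw [sympForm_rv, hyp]; rfl
  have fb₁p : ff (rv K b₁) (rv K p) = 0 := by rw [sympForm_rv, hb₁p]; rfl
  have fb₂p : ff (rv K b₂) (rv K p) = 0 := by rw [sympForm_rv, hb₂p]; rfl
  have fb₁y : ff (rv K b₁) (rv K y) = 0 := by rw [sympForm_rv, hb₁y]; rfl
  have fb₂y : ff (rv K b₂) (rv K y) = 0 := by rw [sympForm_rv, hb₂y]; rfl
  have fb : ff (rv K b₂) (rv K b₁) = 1 := by rw [sympForm_rv, hb]; rfl
  have fb₁₂p : ff (rv K (b₁ + b₂)) (rv K p) = 0 := by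
    rw [rv_add, sympForm_add_left, fb₁p, fb₂p, add_zero]
  have fb₁₂w : ff (rv K (b₁ + b₂)) w = 0 := by
    rw [rv_add, sympForm_add_left, hb₁w, hb₂w, add_zero]
  have fb₁₂y : ff (rv K (b₁ + b₂)) (rv K y) = 0 := by
    rw [rv_add, sympForm_add_left, fb₁y, fb₂y, add_zero]
  -- the first commutator lies in M
  have hsz : sieg (rv K p) (rv K z) ∈ M := hHM (rat_sieg_mem K p z)
  have hE : hs (rv K p) (ff (rv K z) w • w) (-(ff (rv K z) w ^ 2)) ∈ M := by
    rw [← comm_one w (rv K p) (rv K z) hwp fzp]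
    exact M.mul_mem (M.mul_mem (M.mul_mem hw hsz) (M.inv_mem hw)) (M.inv_mem hsz)
  -- the second commutators lie in M
  have hC : ∀ b : Fin m ⊕ Fin m → K, ff (rv K b) (rv K p) = 0 → ff (rv K b) w = 0 →
      ff (rv K b) (rv K y) = 0 →
      hs (rv K p) ((ff (rv K z) w * ff w (rv K y)) • rv K b) 0 ∈ M := by
    intro b hbp hbw hby
    rw [← comm_two w (rv K p) (rv K y) (rv K b) (ff (rv K z) w) (-(ff (rv K z) w ^ 2)) hwp fyp
      hbp hbw hby]
    have hk : sieg (rv K b) (rv K y) ∈ M := hHM (rat_sieg_mem K b y)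
    exact M.mul_mem (M.mul_mem (M.mul_mem hk hE) (M.inv_mem hk)) (M.inv_mem hE)
  have h1 := hC b₁ fb₁p hb₁w fb₁y
  have h2 := hC b₂ fb₂p hb₂w fb₂y
  have h3 := hC (b₁ + b₂) fb₁₂p fb₁₂w fb₁₂y
  rw [rv_add] at h3
  have hT := M.mul_mem (M.mul_mem h1 h2) (M.inv_mem h3)
  rw [comm_three (rv K p) (rv K b₁) (rv K b₂) _ fb₁p fb₂p, fb, mul_one] at hT
  exact ⟨p, _, hp, hν, hT⟩

end main

end Cfsg.Agent.Lib.Helper22.S5650
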