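import Mathlib
import Cfsg.Agent.Lib.Helper28.SpSubfDefs
import Cfsg.Agent.Lib.Helper22.S5650FOCFG
import Cfsg.Agent.Lib.Helper6.S5650FOFIELD

/-!
# S5650 FO-STD (helper22, for helper28): `good_of_std_iso` and `good_of_std_hyp`

The standard configurations `w = ω₁ e + ω₂ e'` fed into `good_of_config` (FO-CFG) with the
scalars of `exists_sq_not_mem` (FO-FIELD, helper6).
-/

set_option autoImplicit false

namespace Cfsg.Agent.Lib.Helper22.S5650

open Matrix Cfsg.Agent.Lib.Helper6 Cfsg.Agent.Lib.Helper13 Cfsg.Agent.Lib.Helper28.SpSubf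

section ring

variable {R : Type*} [CommRing R] {m : ℕ}

theorem sf_single_inl (x : Fin m ⊕ Fin m → R) (i : Fin m) :
    Cfsg.sympForm m R x (Pi.single (Sum.inl i) 1) = x (Sum.inr i) := by
  rw [sympForm_eq_sum]
  simp [Pi.single_apply]

theorem sf_single_inr (x : Fin m ⊕ Fin m → R) (i : Fin m) :
    Cfsg.sympForm m R x (Pi.single (Sum.inr i) 1) = - x (Sum.inl i) := by
  rw [sympForm_eq_sum]
  simp [Pi.single_apply]

end ring

variable {F : Type*} [Field F] {m : ℕ}

local notation "ff" => Cfsg.sympForm m F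

theorem rv_single_one (K : Subfield F) (j : Fin m ⊕ Fin m) :
    rv K (Pi.single j (1 : K)) = Pi.single j (1 : F) := by
  rw [rv_single]
  rfl

theorem good_of_std_iso [Finite F] (K : Subfield F) (M : Subgroup (GL (Fin m ⊕ Fin m) F))
    (hHM : H1 K m ≤ M) (hMS : M ≤ Cfsg.spGL m F) (i j k l : Fin m) (hij : i ≠ j) (hik : i ≠ k)
    (hil : i ≠ l) (hjk : j ≠ k) (hjl : j ≠ l) (hkl : k ≠ l) (ω₁ ω₂ : F)
    (hω : ∀ k₁ k₂ : K, (k₁ : F) * ω₁ + (k₂ : F) * ω₂ = 0 → k₁ = 0 ∧ k₂ = 0)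
    (h : sympTransvGL (ω₁ • rv K (Pi.single (Sum.inl i) 1) +
      ω₂ • rv K (Pi.single (Sum.inl j) 1)) 1 ∈ M) : Good K M := by
  obtain ⟨k₁, k₂, k₁', k₂', hk⟩ :=
    Cfsg.Agent.Lib.Helper6.S5650FOFIELD.exists_sq_not_mem K ω₁ ω₂ hω
  have hz : ff (rv K (k₁ • Pi.single (Sum.inr i) 1 + k₂ • Pi.single (Sum.inr j) 1))
      (ω₁ • rv K (Pi.single (Sum.inl i) 1) + ω₂ • rv K (Pi.single (Sum.inl j) 1)) =
      (k₁ : F) * ω₁ + (k₂ : F) * ω₂ := by
    simp only [rv_single_one, sympForm_add_right, sympForm_smul_right, sf_single_inl, rv_apply,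
      Pi.add_apply, Pi.smul_apply, smul_eq_mul, Pi.single_apply]
    simp [hij, hij.symm]
    ring
  have hy : ff (ω₁ • rv K (Pi.single (Sum.inl i) 1) + ω₂ • rv K (Pi.single (Sum.inl j) 1))
      (rv K (k₁' • Pi.single (Sum.inr i) 1 + k₂' • Pi.single (Sum.inr j) 1)) =
      -((k₁' : F) * ω₁ + (k₂' : F) * ω₂) := by
    rw [sympForm_swap]
    simp only [rv_single_one, sympForm_add_right, sympForm_smul_right, sf_single_inl, rv_apply,
      Pi.add_apply, Pi.smul_apply, smul_eq_mul, Pi.single_apply]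
    simp [hij, hij.symm]
    ring
  refine good_of_config K M hHM hMS _ h (Pi.single (Sum.inl k) 1)
    (k₁ • Pi.single (Sum.inr i) 1 + k₂ • Pi.single (Sum.inr j) 1)
    (k₁' • Pi.single (Sum.inr i) 1 + k₂' • Pi.single (Sum.inr j) 1)
    (Pi.single (Sum.inl l) 1) (Pi.single (Sum.inr l) 1) ?_ ?_ ?_ ?_ ?_ ?_ ?_ ?_ ?_ ?_ ?_ ?_
  · intro h0
    have := congrFun h0 (Sum.inl k)
    simp at this
  · simp only [rv_single_one, sf_single_inl, Pi.add_apply, Pi.smul_apply, smul_eq_mul,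
      Pi.single_apply]
    simp
  · simp only [sf_single_inl, Pi.add_apply, Pi.smul_apply, smul_eq_mul, Pi.single_apply]
    simp [hik.symm, hjk.symm]
  · simp only [sf_single_inl, Pi.add_apply, Pi.smul_apply, smul_eq_mul, Pi.single_apply]
    simp [hik.symm, hjk.symm]
  · simp only [sf_single_inl, Pi.single_apply]
    simp
  · simp only [sf_single_inl, Pi.single_apply]
    simp [hkl]
  · simp only [rv_single_one, sympForm_add_right, sympForm_smul_right, sf_single_inl,
      Pi.single_apply]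
    simp
  · simp only [rv_single_one, sympForm_add_right, sympForm_smul_right, sf_single_inl,
      Pi.single_apply]
    simp [hil, hjl]
  · simp only [sympForm_add_right, sympForm_smul_right, sf_single_inr, Pi.single_apply]
    simp [hil, hjl]
  · simp only [sympForm_add_right, sympForm_smul_right, sf_single_inr, Pi.single_apply]
    simp
  · simp only [sf_single_inl, Pi.single_apply]
    simp
  · rw [hz, hy]
    have e : (((k₁ : F) * ω₁ + (k₂ : F) * ω₂) * -((k₁' : F) * ω₁ + (k₂' : F) * ω₂)) ^ 2 =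
        (((k₁ : F) * ω₁ + (k₂ : F) * ω₂) * ((k₁' : F) * ω₁ + (k₂' : F) * ω₂)) ^ 2 := by ring
    rw [e]
    exact hk

theorem good_of_std_hyp [Finite F] (K : Subfield F) (M : Subgroup (GL (Fin m ⊕ Fin m) F))
    (hHM : H1 K m ≤ M) (hMS : M ≤ Cfsg.spGL m F) (i k l : Fin m) (hik : i ≠ k)
    (hil : i ≠ l) (hkl : k ≠ l) (ω₁ ω₂ : F)
    (hω : ∀ k₁ k₂ : K, (k₁ : F) * ω₁ + (k₂ : F) * ω₂ = 0 → k₁ = 0 ∧ k₂ = 0)
    (h : sympTransvGL (ω₁ • rv K (Pi.single (Sum.inr i) 1) +
      ω₂ • rv K (Pi.single (Sum.inl i) 1)) 1 ∈ M) : Good K M := by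
  obtain ⟨k₁, k₂, k₁', k₂', hk⟩ :=
    Cfsg.Agent.Lib.Helper6.S5650FOFIELD.exists_sq_not_mem K ω₁ ω₂ hω
  have hz : ff (rv K ((-k₁) • Pi.single (Sum.inl i) 1 + k₂ • Pi.single (Sum.inr i) 1))
      (ω₁ • rv K (Pi.single (Sum.inr i) 1) + ω₂ • rv K (Pi.single (Sum.inl i) 1)) =
      (k₁ : F) * ω₁ + (k₂ : F) * ω₂ := by
    simp only [rv_single_one, sympForm_add_right, sympForm_smul_right, sf_single_inl,
      sf_single_inr, rv_apply, Pi.add_apply, Pi.smul_apply, smul_eq_mul, Pi.single_apply]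
    simp
    ring
  have hy : ff (ω₁ • rv K (Pi.single (Sum.inr i) 1) + ω₂ • rv K (Pi.single (Sum.inl i) 1))
      (rv K ((-k₁') • Pi.single (Sum.inl i) 1 + k₂' • Pi.single (Sum.inr i) 1)) =
      -((k₁' : F) * ω₁ + (k₂' : F) * ω₂) := by
    rw [sympForm_swap]
    simp only [rv_single_one, sympForm_add_right, sympForm_smul_right, sf_single_inl,
      sf_single_inr, rv_apply, Pi.add_apply, Pi.smul_apply, smul_eq_mul, Pi.single_apply]
    simp
    ring
  refine good_of_config K M hHM hMS _ h (Pi.single (Sum.inl k) 1)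
    ((-k₁) • Pi.single (Sum.inl i) 1 + k₂ • Pi.single (Sum.inr i) 1)
    ((-k₁') • Pi.single (Sum.inl i) 1 + k₂' • Pi.single (Sum.inr i) 1)
    (Pi.single (Sum.inl l) 1) (Pi.single (Sum.inr l) 1) ?_ ?_ ?_ ?_ ?_ ?_ ?_ ?_ ?_ ?_ ?_ ?_
  · intro h0
    have := congrFun h0 (Sum.inl k)
    simp at this
  · simp only [rv_single_one, sf_single_inl, Pi.add_apply, Pi.smul_apply, smul_eq_mul,
      Pi.single_apply]
    simp [hik.symm]
  · simp only [sf_single_inl, Pi.add_apply, Pi.smul_apply, smul_eq_mul, Pi.single_apply]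
    simp [hik.symm]
  · simp only [sf_single_inl, Pi.add_apply, Pi.smul_apply, smul_eq_mul, Pi.single_apply]
    simp [hik.symm]
  · simp only [sf_single_inl, Pi.single_apply]
    simp
  · simp only [sf_single_inl, Pi.single_apply]
    simp [hkl]
  · simp only [rv_single_one, sympForm_add_right, sympForm_smul_right, sf_single_inl,
      sf_single_inr, Pi.single_apply]
    simp [hil]
  · simp only [rv_single_one, sympForm_add_right, sympForm_smul_right, sf_single_inl,
      sf_single_inr, Pi.single_apply]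
    simp [hil]
  · simp only [sympForm_add_right, sympForm_smul_right, sf_single_inl, sf_single_inr,
      Pi.single_apply]
    simp [hil]
  · simp only [sympForm_add_right, sympForm_smul_right, sf_single_inl, sf_single_inr,
      Pi.single_apply]
    simp [hil]
  · simp only [sf_single_inl, Pi.single_apply]
    simp
  · rw [hz, hy]
    have e : (((k₁ : F) * ω₁ + (k₂ : F) * ω₂) * -((k₁' : F) * ω₁ + (k₂' : F) * ω₂)) ^ 2 =
        (((k₁ : F) * ω₁ + (k₂ : F) * ω₂) * ((k₁' : F) * ω₁ + (k₂' : F) * ω₂)) ^ 2 := by ring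
    rw [e]
    exact hk

end Cfsg.Agent.Lib.Helper22.S5650
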