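import Mathlib
import Cfsg.Agent.Lib.Helper9.USubDefs
import Cfsg.Agent.Lib.Helper9.USubF

/-!
# S5658 side B, FO-B2b: an independent pair of coordinates (K-linear algebra in `F`)

`exists_indep_pair_aux` takes two distinct elements of norm `-1` of `K` as hypotheses (they come from
FO-B2a `exists_three_norm`).
-/

set_option autoImplicit false
set_option linter.unusedSectionVars false
set_option linter.unusedVariables false

namespace Cfsg.Agent.Lib.Helper22.S5658B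

open Matrix Cfsg.Agent.Lib.Helper6 Cfsg.Agent.S0779 Cfsg.Agent.S0781
open Cfsg.Agent.Lib.Helper13 Cfsg.Agent.Lib.Helper9.USub

variable {F : Type*} [Field F] [Fintype F] {q q₀ n : ℕ}

/-- `t ∈ K z` -/
def InK (K : Subfield F) (z t : F) : Prop := ∃ κ : K, t = (κ : F) * z

theorem inK_of_two (K : Subfield F) {a a' : F} (ha : a ∈ K) (ha' : a' ∈ K) (hne : a ≠ a')
    (x y z : F) (h1 : InK K z (x + a * y)) (h2 : InK K z (x + a' * y)) :
    InK K z x ∧ InK K z y := by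
  obtain ⟨κ, h1⟩ := h1
  obtain ⟨κ', h2⟩ := h2
  have hd : a - a' ≠ 0 := sub_ne_zero.mpr hne
  have hy : y = ((κ : F) - κ') / (a - a') * z := by
    field_simp
    linear_combination h1 - h2
  have hmem : ((κ : F) - κ') / (a - a') ∈ K :=
    K.div_mem (K.sub_mem κ.2 κ'.2) (K.sub_mem ha ha')
  refine ⟨?_, ⟨⟨_, hmem⟩, hy⟩⟩
  refine ⟨⟨(κ : F) - a * (((κ : F) - κ') / (a - a')), K.sub_mem κ.2 (K.mul_mem ha hmem)⟩, ?_⟩
  show x = ((κ : F) - a * (((κ : F) - κ') / (a - a'))) * z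
  have hx : x = κ * z - a * y := by linear_combination h1
  rw [hx, hy]; ring

/-- an impure vector has a nonzero coordinate and another one which is not a `K`-multiple of it -/
theorem exists_coords_of_not_pure {K : Subfield F} (w : Fin n → F) (hw : ¬ Pure K w) :
    ∃ i j : Fin n, w i ≠ 0 ∧ ∀ κ : K, w j ≠ (κ : F) * w i := by
  by_contra hcon
  push Not at hcon
  apply hw
  by_cases h0 : ∀ i, w i = 0
  · refine ⟨0, 0, ?_⟩
    ext i
    simp [h0 i]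
  · push Not at h0
    obtain ⟨i, hi⟩ := h0
    choose κ hκ using fun j => hcon i j hi
    refine ⟨w i, κ, ?_⟩
    ext j
    simp only [Pi.smul_apply, smul_eq_mul, rvec]
    rw [hκ j, mul_comm]

theorem exists_two_others (hn : 4 ≤ n) (i j : Fin n) :
    ∃ k l : Fin n, i ≠ k ∧ i ≠ l ∧ j ≠ k ∧ j ≠ l ∧ k ≠ l := by
  classical
  have hc : 1 < (Finset.univ \ ({i, j} : Finset (Fin n))).card := by
    have h1 : (Finset.univ \ ({i, j} : Finset (Fin n))).card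
        = n - ({i, j} : Finset (Fin n)).card := by
      rw [Finset.card_sdiff_of_subset (Finset.subset_univ _), Finset.card_univ, Fintype.card_fin]
    have h2 : ({i, j} : Finset (Fin n)).card ≤ 2 := Finset.card_le_two
    omega
  obtain ⟨k, hk, l, hl, hkl⟩ := Finset.one_lt_card.mp hc
  simp only [Finset.mem_sdiff, Finset.mem_univ, Finset.mem_insert, Finset.mem_singleton,
    true_and, not_or] at hk hl
  exact ⟨k, l, fun h => hk.1 h.symm, fun h => hl.1 h.symm, fun h => hk.2 h.symm,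
    fun h => hl.2 h.symm, hkl⟩

theorem exists_indep_pair_aux {K : Subfield F} [Fintype K] (D : SubD q q₀ K) (hn : 4 ≤ n)
    (w : Fin n → F) (hw : ¬ Pure K w)
    (a₁ a₂ : F) (h1K : a₁ ∈ K) (h2K : a₂ ∈ K) (hne : a₁ ≠ a₂)
    (hn1 : a₁ * a₁ ^ q = -1) (hn2 : a₂ * a₂ ^ q = -1) :
    ∃ (i j k l : Fin n) (a b : F), i ≠ j ∧ i ≠ k ∧ i ≠ l ∧ j ≠ k ∧ j ≠ l ∧ k ≠ l ∧
      a ∈ K ∧ b ∈ K ∧ a * a ^ q = -1 ∧ b * b ^ q = -1 ∧
      (w i) ^ q + a * (w k) ^ q ≠ 0 ∧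
      ∀ κ : K, (w j) ^ q + b * (w l) ^ q ≠ (κ : F) * ((w i) ^ q + a * (w k) ^ q) := by
  obtain ⟨i, j, hi, hj⟩ := exists_coords_of_not_pure w hw
  have hij : i ≠ j := by
    rintro rfl
    exact hj 1 (by simp)
  obtain ⟨k, l, hik, hil, hjk, hjl, hkl⟩ := exists_two_others hn i j
  have hq : 0 < q := q_pos D.hF
  -- x := W_i ≠ 0, z := W_j ∉ K x
  have hx0 : (w i) ^ q ≠ 0 := pow_ne_zero _ hi
  have hz : ¬ InK K ((w i) ^ q) ((w j) ^ q) := by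
    rintro ⟨κ, h⟩
    have h2 := congrArg (fun t => t ^ q) h
    simp only [mul_pow, pow_q_q D.hF] at h2
    exact hj ⟨(κ : F) ^ q, K.pow_mem κ.2 q⟩ h2
  have hz0 : (w j) ^ q ≠ 0 := by
    intro h0
    exact hz ⟨0, by simp [h0]⟩
  -- at most one bad `a`
  have hbadA : ¬ (InK K ((w j) ^ q) ((w i) ^ q + a₁ * (w k) ^ q) ∧
      InK K ((w j) ^ q) ((w i) ^ q + a₂ * (w k) ^ q)) := by
    rintro ⟨hA1, hA2⟩
    obtain ⟨⟨κ, hκ⟩, -⟩ := inK_of_two K h1K h2K hne _ _ _ hA1 hA2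
    have hκ0 : (κ : F) ≠ 0 := by
      intro h0
      rw [h0, zero_mul] at hκ
      exact hx0 hκ
    apply hz
    refine ⟨⟨(κ : F)⁻¹, K.inv_mem κ.2⟩, ?_⟩
    show (w j) ^ q = (κ : F)⁻¹ * (w i) ^ q
    rw [hκ, ← mul_assoc, inv_mul_cancel₀ hκ0, one_mul]
  -- a good `a`
  obtain ⟨a, haK, han, haG⟩ : ∃ a : F, a ∈ K ∧ a * a ^ q = -1 ∧
      ¬ InK K ((w j) ^ q) ((w i) ^ q + a * (w k) ^ q) := by
    by_cases h : InK K ((w j) ^ q) ((w i) ^ q + a₁ * (w k) ^ q)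
    · refine ⟨a₂, h2K, hn2, fun h' => hbadA ⟨h, h'⟩⟩
    · exact ⟨a₁, h1K, hn1, h⟩
  have ht0 : (w i) ^ q + a * (w k) ^ q ≠ 0 := by
    intro h0
    exact haG ⟨0, by simp [h0]⟩
  have hzt : ¬ InK K ((w i) ^ q + a * (w k) ^ q) ((w j) ^ q) := by
    rintro ⟨κ, hκ⟩
    have hκ0 : (κ : F) ≠ 0 := by
      intro h0
      rw [h0, zero_mul] at hκ
      exact hz0 hκ
    apply haG
    refine ⟨⟨(κ : F)⁻¹, K.inv_mem κ.2⟩, ?_⟩
    show (w i) ^ q + a * (w k) ^ q = (κ : F)⁻¹ * (w j) ^ q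
    rw [hκ, ← mul_assoc, inv_mul_cancel₀ hκ0, one_mul]
  have hbadB : ¬ (InK K ((w i) ^ q + a * (w k) ^ q) ((w j) ^ q + a₁ * (w l) ^ q) ∧
      InK K ((w i) ^ q + a * (w k) ^ q) ((w j) ^ q + a₂ * (w l) ^ q)) := by
    rintro ⟨hB1, hB2⟩
    exact hzt (inK_of_two K h1K h2K hne _ _ _ hB1 hB2).1
  obtain ⟨b, hbK, hbn, hbG⟩ : ∃ b : F, b ∈ K ∧ b * b ^ q = -1 ∧
      ¬ InK K ((w i) ^ q + a * (w k) ^ q) ((w j) ^ q + b * (w l) ^ q) := by
    by_cases h : InK K ((w i) ^ q + a * (w k) ^ q) ((w j) ^ q + a₁ * (w l) ^ q)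
    · refine ⟨a₂, h2K, hn2, fun h' => hbadB ⟨h, h'⟩⟩
    · exact ⟨a₁, h1K, hn1, h⟩
  refine ⟨i, j, k, l, a, b, hij, hik, hil, hjk, hjl, hkl, haK, hbK, han, hbn, ht0, ?_⟩
  intro κ hκ
  exact hbG ⟨κ, hκ⟩

/-- two distinct elements of norm `-1` in `K` -/
theorem exists_two_norm {K : Subfield F} [Fintype K] (D : SubD q q₀ K) :
    ∃ a a' : F, a ∈ K ∧ a' ∈ K ∧ a ≠ a' ∧ a * a ^ q = -1 ∧ a' * a' ^ q = -1 := by
  have hF := D.hF
  have hq0 : q ≠ 0 := (q_pos hF).ne'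
  obtain ⟨a, haK, ha⟩ := SubD_exists_norm D (-1) (K.neg_mem K.one_mem)
    (neg_ne_zero.mpr one_ne_zero) (by rw [neg_pow_q hF, one_pow])
  obtain ⟨l, hlK, hl⟩ := SubD_exists_ne D
  have hl0 : l ≠ 0 := by
    intro h0
    apply hl
    rw [h0, zero_pow hq0]
  have hlq0 : l ^ q ≠ 0 := pow_ne_zero q hl0
  have ha0 : a ≠ 0 := by
    intro h0
    rw [h0, zero_mul] at ha
    exact one_ne_zero (neg_eq_zero.mp ha.symm)
  refine ⟨a, a * (l ^ q / l), haK, K.mul_mem haK (K.div_mem (K.pow_mem hlK q) hlK), ?_, ha, ?_⟩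
  · intro h0
    apply hl
    have h1 : a * 1 = a * (l ^ q / l) := by rw [mul_one]; exact h0
    have h2 := mul_left_cancel₀ ha0 h1
    rw [eq_div_iff hl0, one_mul] at h2
    exact h2.symm
  · rw [mul_pow, div_pow, pow_q_q hF]
    have : a * (l ^ q / l) * (a ^ q * (l / l ^ q)) = a * a ^ q := by
      field_simp
    rw [this, ha]

/-- **FO-B2b** -/
theorem exists_indep_pair {K : Subfield F} [Fintype K] (D : SubD q q₀ K) (hn : 4 ≤ n)
    (w : Fin n → F) (hw : ¬ Pure K w) :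
    ∃ (i j k l : Fin n) (a b : F), i ≠ j ∧ i ≠ k ∧ i ≠ l ∧ j ≠ k ∧ j ≠ l ∧ k ≠ l ∧
      a ∈ K ∧ b ∈ K ∧ a * a ^ q = -1 ∧ b * b ^ q = -1 ∧
      (w i) ^ q + a * (w k) ^ q ≠ 0 ∧
      ∀ κ : K, (w j) ^ q + b * (w l) ^ q ≠ (κ : F) * ((w i) ^ q + a * (w k) ^ q) := by
  obtain ⟨a₁, a₂, h1K, h2K, hne, hn1, hn2⟩ := exists_two_norm D
  exact exists_indep_pair_aux D hn w hw a₁ a₂ h1K h2K hne hn1 hn2

end Cfsg.Agent.Lib.Helper22.S5658B
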