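import Mathlib
import Cfsg.Prelude.Def_GeometricClasses
import Cfsg.Agent.Lib.Helper7.AschDefs
import Cfsg.Agent.Lib.Helper12.S5630I8
import Cfsg.Agent.Lib.Helper12.AschDescent
import Cfsg.Agent.Lib.Helper6.Unitary
import Cfsg.Agent.Lib.Helper24.AschUDefs

/-!
# S5663, block U8 (`s_caseU`, the almost simple case) on helper24's skeleton  (helper22)

* `conjEquiv hF : F ≃+* F` is `x ↦ x ^ q` (for `|F| = q ^ 2`), `isUnitaryForm_hermForm hF : IsUnitaryForm (conjEquiv hF) (hermForm n F q)`;
* `realisable_of_fixesForm` : an absolutely irreducible subgroup of `GU_n(q)` fixing a non-degenerate bilinear form is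
  realisable over a proper subfield (helper12's Galois descent);
* `s_caseU_of` : the statement of the stub `s_caseU` of `notes/S5663Skel_helper24.lean.txt`, with the statement of the stub U5
  (`InClassU.of_realisable`) at the same `F n q` as an explicit hypothesis `hU5` (no stub is imported).
-/

set_option autoImplicit false

namespace Cfsg.Agent.Lib.Helper22.S5663U8

open Matrix Cfsg Cfsg.Geo Cfsg.Agent.Lib.Helper7.Asch Cfsg.Agent.Lib.Helper24.AschU
open scoped commutatorElement

variable {F : Type*} [Field F] [Fintype F] {n q : ℕ}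

/-- the involution `x ↦ x ^ q` of a field with `q ^ 2` elements, as a ring automorphism -/
noncomputable def conjEquiv (hF : Fintype.card F = q ^ 2) : F ≃+* F :=
  RingEquiv.ofBijective (Cfsg.Agent.Lib.Helper6.conjQ hF)
    (Function.Involutive.bijective (Cfsg.Agent.Lib.Helper6.conjQ_conjQ hF))

theorem conjEquiv_apply (hF : Fintype.card F = q ^ 2) (x : F) : conjEquiv hF x = x ^ q := rfl

theorem conjEquiv_ne_refl (hF : Fintype.card F = q ^ 2) : conjEquiv hF ≠ RingEquiv.refl F := by
  intro h
  apply Cfsg.Agent.Lib.Helper6.conjQ_ne_id hF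
  ext x
  have := congrArg (fun f : F ≃+* F => f x) h
  exact this

theorem conjEquiv_involutive (hF : Fintype.card F = q ^ 2) (x : F) : conjEquiv hF (conjEquiv hF x) = x :=
  Cfsg.Agent.Lib.Helper6.conjQ_conjQ hF x

/-- the standard hermitian form is a unitary form for `x ↦ x ^ q` -/
theorem isUnitaryForm_hermForm (hF : Fintype.card F = q ^ 2) :
    IsUnitaryForm (conjEquiv hF) (hermForm n F q) where
  ne_refl := conjEquiv_ne_refl hF
  involutive := conjEquiv_involutive hF
  add_left := Cfsg.Agent.S0779.herm_add_left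
  smul_left := Cfsg.Agent.S0779.herm_smul_left
  herm v w := by
    rw [conjEquiv_apply]
    exact (Cfsg.Agent.S0779.herm_conj hF w v).symm
  nondegenerate := by
    intro v hv
    constructor
    · by_contra hcon
      push Not at hcon
      apply hv
      apply Cfsg.Agent.Lib.Helper6.herm_nondeg hF
      intro y
      exact Cfsg.Agent.Lib.Helper6.herm_swap_zero hF (hcon y)
    · by_contra hcon
      push Not at hcon
      exact hv (Cfsg.Agent.Lib.Helper6.herm_nondeg hF v hcon)

/-- an absolutely irreducible subgroup of `GU_n(q)` fixing a non-degenerate bilinear form is realisable over a proper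
subfield (the fixed field of `x ↦ x ^ q`) -/
theorem realisable_of_fixesForm (hF : Fintype.card F = q ^ 2) (hn : 0 < n) (L : Subgroup (GL (Fin n) F))
    (hLU : L ≤ GU n F q) (hL : AbsIrr L) (b : (Fin n → F) → (Fin n → F) → F) (hb : IsBilinearForm b)
    (hnd : IsNondegenerateForm b) (hfix : FixesForm (matrixSet L) b) :
    ∃ F₀ : Subfield F, F₀ ≠ ⊤ ∧ RealisableOver F₀ (matrixSet L) := by
  refine ⟨Cfsg.Agent.Lib.Helper12.AschDescent.fixedField (conjEquiv hF),
    Cfsg.Agent.Lib.Helper12.AschDescent.fixedField_ne_top _ (conjEquiv_ne_refl hF), ?_⟩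
  refine Cfsg.Agent.Lib.Helper12.AschDescent.realisable_of_bilinear_unitary hn L hL b hb hnd hfix (conjEquiv hF)
    (hermForm n F q) (isUnitaryForm_hermForm hF) ?_
  rintro s ⟨x, hx, rfl⟩ u v
  exact hLU hx u v

/-- the polar form of a non-degenerate quadratic form is a non-degenerate bilinear form, fixed by whoever fixes the
quadratic form -/
theorem polar_data (Q : (Fin n → F) → F) (hQ : IsNondegenerateQuadraticForm Q) (S : Set (Matrix (Fin n) (Fin n) F))
    (hfix : FixesQuadForm S Q) :
    IsBilinearForm (QuadraticMap.polar Q) ∧ IsNondegenerateForm (QuadraticMap.polar Q) ∧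
      FixesForm S (QuadraticMap.polar Q) := by
  refine ⟨hQ.polar_bilinear, hQ.nondegenerate, ?_⟩
  intro s hs u v
  unfold QuadraticMap.polar
  rw [← Matrix.mulVec_add, hfix s hs, hfix s hs, hfix s hs]

/-- **U8** (`s_caseU` of helper24's skeleton, given the statement `hU5` of the stub U5 `InClassU.of_realisable`):
the almost simple case gives class 5 or the residual class -/
theorem s_caseU_of
    (hU5 : ∀ (L H : Subgroup (GL (Fin n) F)), H ≤ GU n F q → AbsIrr L → NormBy H L → ∀ F₀ : Subfield F, F₀ ≠ ⊤ →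
      RealisableOver F₀ (matrixSet L) →
      (∀ g ∈ L, ∃ c : F, c ∈ F₀ ∧ ∀ u v : Fin n → F,
        hermForm n F q ((g : Matrix (Fin n) (Fin n) F) *ᵥ u) ((g : Matrix (Fin n) (Fin n) F) *ᵥ v) =
          c * hermForm n F q u v) → InClassU n q H)
    (hF : Fintype.card F = q ^ 2) (hn : 3 ≤ n) (H L : Subgroup (GL (Fin n) F))
    (hHU : H ≤ GU n F q) (hH : AbsIrr H) (hQP : QP H)
    (hLH : L ≤ H) (hLs : ¬ L ≤ scalars (Fin n) F) (hperf : ⁅L, L⁆ = L) (hqs : SimpleModScal L)
    (hnorm : NormBy H L) : InClassU n q H ∨ InUnitaryResidualClass H := by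
  have hLabs : AbsIrr L := (hQP L hLH hnorm).resolve_left hLs
  have hLU : L ≤ GU n F q := hLH.trans hHU
  by_cases hex : ∃ F₀ : Subfield F, F₀ ≠ ⊤ ∧ RealisableOver F₀ (matrixSet L)
  · obtain ⟨F₀, h0, hreal⟩ := hex
    left
    refine hU5 L H hHU hLabs hnorm F₀ h0 hreal ?_
    intro x hx
    refine ⟨1, F₀.one_mem, fun u v => ?_⟩
    rw [one_mul]
    exact hLU hx u v
  right
  refine ⟨L, ⟨hLH, hnorm, hperf, Cfsg.Agent.Lib.Helper12.S5630I8.isSimpleGroup_quotient L hLs hqs,
    Cfsg.Agent.Lib.Helper12.S5630I8.not_comm_quotient L hLs hperf, ?_, hLabs, ?_⟩, ?_, ?_⟩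
  · intro h _ hh
    exact Cfsg.Agent.Lib.Helper12.S5630I8.mem_scalars_of_comm (by omega) L hLabs h
      (Cfsg.Agent.Lib.Helper12.S5630I8.comm_of_perfect L hperf h hh)
  · intro F₀ h0 hreal
    exact hex ⟨F₀, h0, hreal⟩
  · rintro ⟨Q, hQ, hfix⟩
    obtain ⟨h1, h2, h3⟩ := polar_data Q hQ _ hfix
    exact hex (realisable_of_fixesForm hF (by omega) L hLU hLabs _ h1 h2 h3)
  · rintro ⟨f, hf, hfix⟩
    exact hex (realisable_of_fixesForm hF (by omega) L hLU hLabs f hf.bilinear hf.nondegenerate hfix)

end Cfsg.Agent.Lib.Helper22.S5663U8
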