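import Mathlib
import Cfsg.Prelude.Def_GeometricClasses
import Cfsg.Agent.Lib.Helper7.AschDefs
import Cfsg.Agent.Lib.Helper6.Unitary
import Cfsg.Agent.Lib.Helper6.S5663U7M8
import Cfsg.Agent.Lib.Helper8.S5630I7E2
import Cfsg.Agent.Lib.Helper22.AschC7Defs
import Cfsg.Agent.Lib.Helper22.S5630I7A
import Cfsg.Agent.Lib.Helper22.S5663U7Defs
import Cfsg.Agent.Lib.Helper22.S5663U7Core
import Cfsg.Agent.Lib.Helper22.S5663U7Gram
import Cfsg.Agent.Lib.Helper22.GramX
import Cfsg.Agent.Lib.Helper22.C7Data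
import Cfsg.Agent.Lib.Helper22.S5663U8
import Cfsg.Agent.Lib.Helper24.AschUDefs

/-!
# S5663, block U7 (`c7_caseU`, the tensor-induced case) on helper24's skeleton  (helper22)

`c7_caseU_of` : the statement of the stub `c7_caseU` of `notes/S5663Skel_helper24.lean.txt`, with the statement of the stub U5
(`InClassU.of_realisable`) at the same `F n q` as an explicit hypothesis `hU5`.
-/

set_option autoImplicit false

namespace Cfsg.Agent.Lib.Helper22.S5663U7

open Matrix Cfsg Cfsg.Geo Cfsg.Agent.Lib.Helper7.Asch Cfsg.Agent.Lib.Helper22.AschC7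
  Cfsg.Agent.Lib.Helper22.S5630I7A Cfsg.Agent.Lib.Helper22.U7 Cfsg.Agent.Lib.Helper6
  Cfsg.Agent.Lib.Helper24.AschU Cfsg.Agent.Lib.Helper22.S5663U8
open scoped commutatorElement

variable {F : Type*} [Field F] [Fintype F] {n q : ℕ}

/-- `hermForm` is sesquilinear for `x ↦ x ^ q` -/
theorem isSesq_hermForm (hF : Fintype.card F = q ^ 2) :
    Cfsg.Agent.Lib.Helper23.S5630CoreF.IsSesq (conjEquiv hF) (hermForm n F q) where
  add_left := Cfsg.Agent.S0779.herm_add_left
  smul_left := Cfsg.Agent.S0779.herm_smul_left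
  add_right v x y := Cfsg.Agent.S0779.herm_add_right hF v x y
  smul_right c v x := by
    rw [Cfsg.Agent.S0779.herm_smul_right]
    rfl

/-- the Gram matrix of the form `gf q A` is `A` -/
theorem gramMatrix_gf {k : ℕ} (A : Matrix (Fin k) (Fin k) F) (hq : q ≠ 0) :
    gramMatrix (Cfsg.Agent.Lib.Helper6.S5663U7M8.gf q A) = A := by
  ext a b
  unfold gramMatrix Cfsg.Agent.Lib.Helper6.S5663U7M8.gf
  rw [Finset.sum_eq_single a]
  · rw [Finset.sum_eq_single b]
    · simp
    · intro b' _ hb'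
      rw [Pi.single_eq_of_ne hb', zero_pow hq, mul_zero]
    · intro h; exact absurd (Finset.mem_univ b) h
  · intro a' _ ha'
    apply Finset.sum_eq_zero
    intro b' _
    rw [Pi.single_eq_of_ne ha', zero_mul, zero_mul]
  · intro h; exact absurd (Finset.mem_univ a) h

/-- **U7** (`c7_caseU` of helper24's skeleton, given the statement `hU5` of the stub U5 `InClassU.of_realisable`):
the tensor-induced case gives class 7, or class 5 when the factors have dimension 2 -/
theorem c7_caseU_of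
    (hU5 : ∀ (L H : Subgroup (GL (Fin n) F)), H ≤ GU n F q → AbsIrr L → NormBy H L → ∀ F₀ : Subfield F, F₀ ≠ ⊤ →
      RealisableOver F₀ (matrixSet L) →
      (∀ g ∈ L, ∃ c : F, c ∈ F₀ ∧ ∀ u v : Fin n → F,
        hermForm n F q ((g : Matrix (Fin n) (Fin n) F) *ᵥ u) ((g : Matrix (Fin n) (Fin n) F) *ᵥ v) =
          c * hermForm n F q u v) → InClassU n q H)
    (hF : Fintype.card F = q ^ 2) (hn : 3 ≤ n) (H L : Subgroup (GL (Fin n) F))
    (hHU : H ≤ GU n F q) (hH : AbsIrr H) (hQP : QP H)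
    (hLH : L ≤ H) (hLs : ¬ L ≤ scalars (Fin n) F) (hperf : ⁅L, L⁆ = L) (hqs : SimpleModScal L)
    (hconj : ∀ h ∈ H, (∀ x ∈ L, h * x * h⁻¹ ∈ L) ∨
      (∀ x ∈ L, ∀ y ∈ L, (h * x * h⁻¹) * y = y * (h * x * h⁻¹)))
    (hnn : ¬ NormBy H L) : InClassU n q H := by
  obtain ⟨m, t, e, P, Y, Ls, i₀, hm, ht, hle, hYabs, hYspan, hYperf, hYns, hLs0, hLsH, hpos, hpos', hNabs, hNnorm,
    hNH, hNperf⟩ := Cfsg.Agent.Lib.Helper22.C7Data.c7_data_full hn H L hQP hLH hLs hperf hconj hnn
  have hq0 : q ≠ 0 := (Cfsg.Agent.S0779.q_pos hF).ne'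
  rcases (by omega : m = 2 ∨ 3 ≤ m) with rfl | hm3
  · -- factors of dimension two: a bilinear form, class 5
    obtain ⟨G, hGU, hpres⟩ := Cfsg.Agent.Lib.Helper22.U7Core.exists_gram_two (by omega) H e P hle
    have hNsim : (⨆ i, Ls i) ≤ similarityGroup (Cfsg.Agent.Lib.Helper8.S5630I7E.gf G) := by
      intro h hh
      obtain ⟨c, hc⟩ := hpres h (hNH hh)
      refine ⟨c, fun u v => ?_⟩
      rw [Cfsg.Agent.Lib.Helper8.S5630I7E.gf_mulVec, hc, Cfsg.Agent.Lib.Helper8.S5630I7E.gf_smul]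
    have hfix := Cfsg.Agent.Lib.Helper22.U7Core.fixesForm_of_perfect _ _ hNsim hNperf
    obtain ⟨F₀, h0, hreal⟩ := realisable_of_fixesForm hF (by omega) _ (hNH.trans hHU) hNabs _
      (Cfsg.Agent.Lib.Helper8.S5630I7E.gf_bilinear G) (Cfsg.Agent.Lib.Helper8.S5630I7E.gf_nondeg G hGU) hfix
    refine hU5 _ H hHU hNabs hNnorm F₀ h0 hreal ?_
    intro g hg
    refine ⟨1, F₀.one_mem, fun u v => ?_⟩
    rw [one_mul]
    exact (hNH.trans hHU) hg u v
  · -- factors of dimension at least three: class 7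
    have hfixH : FixesForm (matrixSet H) (hermForm n F q) := by
      rintro s ⟨x, hx, rfl⟩ u v
      exact hHU hx u v
    obtain ⟨c, B, lam, hc, hG, hB, hlam, hBfix⟩ :=
      Cfsg.Agent.Lib.Helper22.GramX.gram_of_data (conjEquiv hF) (conjEquiv_involutive hF) (hermForm n F q)
        (isSesq_hermForm hF) (isUnitaryForm_hermForm hF).nondegenerate H hfixH (by omega) (by omega) e P Y hYspan
        (fun i a ha => by
          obtain ⟨g, hg, hga⟩ := hpos i a ha
          exact ⟨g, hLsH i hg, hga⟩)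
    have hne : ∃ x : F, (conjQ hF) x ≠ x := by
      by_contra hcon
      push Not at hcon
      exact conjQ_ne_id hF (RingHom.ext hcon)
    obtain ⟨μ, hμ0, hμ⟩ := Cfsg.Agent.Lib.Helper22.U7Core.exists_herm_rep (conjQ hF) (conjQ_conjQ hF) hne B lam hlam
    have hB' : IsUnit (μ • B) := by
      obtain ⟨u, hu⟩ := hB
      refine ⟨⟨μ • (u : Matrix _ _ F), μ⁻¹ • ((u⁻¹ : (Matrix _ _ F)ˣ) : Matrix _ _ F), ?_, ?_⟩, by
        show μ • (u : Matrix _ _ F) = μ • B
        rw [hu]⟩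
      · rw [Matrix.smul_mul, Matrix.mul_smul, smul_smul, mul_inv_cancel₀ hμ0, one_smul, Units.mul_inv]
      · rw [Matrix.smul_mul, Matrix.mul_smul, smul_smul, inv_mul_cancel₀ hμ0, one_smul, Units.inv_mul]
    have hYfix : ∀ a ∈ Y, ((a : GL (Fin m) F) : Matrix (Fin m) (Fin m) F)ᵀ * (μ • B) *
        ((a : GL (Fin m) F) : Matrix (Fin m) (Fin m) F).map (conjQ hF) = μ • B := by
      intro a ha
      rw [Matrix.mul_smul, Matrix.smul_mul]
      congr 1
      exact hBfix a ha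
    have hex : ¬ (q = 2 ∧ m = 3) := by
      rintro ⟨rfl, rfl⟩
      have hbot := Cfsg.Agent.Lib.Helper22.U7Core.perfect_trivial_32 hF (μ • B) hB' hμ Y hYfix hYperf
      apply hYns
      rw [hbot]
      exact bot_le
    have hf₁ := Cfsg.Agent.Lib.Helper6.S5663U7M8.gf_unitary hF (μ • B) hB' hμ
    refine InClassU.of_tensorWreath H hHU m t e P (Cfsg.Agent.Lib.Helper6.S5663U7M8.gf q (μ • B)) hm3 ht hex hf₁
      ⟨c * (μ ^ t)⁻¹, mul_ne_zero hc (inv_ne_zero (pow_ne_zero t hμ0)), ?_⟩ hle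
    intro x y
    rw [Cfsg.Agent.Lib.Helper22.GramX.gramX_expand (conjEquiv hF) (hermForm n F q) (isSesq_hermForm hF) e P x y, hG,
      gramMatrix_gf _ hq0, Finset.mul_sum]
    refine Finset.sum_congr rfl (fun a _ => ?_)
    rw [Finset.mul_sum]
    refine Finset.sum_congr rfl (fun b _ => ?_)
    rw [Matrix.smul_apply, pt_apply, smul_eq_mul]
    simp only [Matrix.smul_apply, smul_eq_mul, Finset.prod_mul_distrib, Finset.prod_const, Finset.card_univ,
      Fintype.card_fin, conjEquiv_apply]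
    field_simp

end Cfsg.Agent.Lib.Helper22.S5663U7
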