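import Mathlib
import Cfsg.Agent.Lib.Helper7.SpExtDefs
import Cfsg.Agent.Lib.Helper7.SpExtBas
import Cfsg.Agent.Lib.Helper22.S5664FOIIa

/-!
# S5664 FO-IIb : the maximal pair is a `Config` (`config_of_max_aux`), with the three inputs
`finrank_pt`, `exists_root`, `finrank_eq_one_of_tau` as explicit hypotheses
-/

set_option autoImplicit false
set_option linter.unusedSimpArgs false
set_option linter.unusedVariables false

namespace Cfsg.Agent.Lib.Helper22.S5664II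

open Matrix Module Cfsg.Agent.Lib.Helper7.SpExt

variable {F : Type*} [Field F] {L : Type*} [Field L] [Algebra F L] {ι : Type} [Fintype ι]
  [DecidableEq ι] {ρ : L →ₐ[F] Matrix ι ι F} {f : (ι → F) →ₗ[F] (ι → F) →ₗ[F] F} {τ : L →ₗ[F] F}
  {B : (ι → F) →ₗ[F] (ι → F) →ₗ[F] L} {r : ℕ}

theorem config_of_max_aux (S : SpStr ρ f τ B) (hrk : finrank F L = r)
    (hfp : ∀ v : ι → F, v ≠ 0 → finrank F ↥(pt ρ v) = r)
    (hroot : ∀ (u : ι → F) (a : L),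
      ∃ g : GL ι F, IsRoot ρ B u a g ∧ IsRoot ρ B u (-a) g⁻¹ ∧ g ∈ SpL ρ B)
    (halg : ∀ (Y D : Submodule F L), Y ≠ ⊥ → D ≠ ⊥ →
      finrank F Y + finrank F D = finrank F L →
      (∀ y ∈ Y, ∀ d ∈ D, τ (d * y) = 0) →
      (∀ a : L, a ≠ 0 → (∃ y ∈ Y, y ≠ 0 ∧ a * y ∈ D) →
        ∀ y' ∈ Y, ∀ y'' ∈ Y, τ (a * y' * y'') = 0) → finrank F Y = 1)
    (H : Subgroup (GL ι F)) (hSpL : SpL ρ B ≤ H) (hH : H ≤ isom f)
    (v₁ v₀ : ι → F) (g₀ : GL ι F) (hg₀ : g₀ ∈ H) (hv₁ : v₁ ≠ 0) (hv₀ : v₀ ≠ 0)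
    (hne : pt ρ v₁ ⊓ Img ρ g₀ v₀ ≠ ⊥)
    (hf : ∃ x ∈ pt ρ v₁, ∃ y ∈ Img ρ g₀ v₀, f x y ≠ 0)
    (hmax : ∀ k k' w w', TPair ρ f H k k' w w' →
        finrank F ↥(Img ρ k w ⊓ Img ρ k' w') ≤ finrank F ↥(pt ρ v₁ ⊓ Img ρ g₀ v₀)) :
    Config ρ f H r v₁ v₀ g₀ := by
  classical
  refine ⟨hg₀, hv₁, hv₀, ?_, hf⟩
  obtain ⟨P₁, hP₁⟩ : ∃ P₁ : Submodule F (ι → F), P₁ = pt ρ v₁ := ⟨_, rfl⟩
  obtain ⟨P', hP'⟩ : ∃ P' : Submodule F (ι → F), P' = Img ρ g₀ v₀ := ⟨_, rfl⟩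
  obtain ⟨δ, hfin⟩ : ∃ δ, finrank F ↥(pt ρ v₁ ⊓ Img ρ g₀ v₀) = δ := ⟨_, rfl⟩
  rw [hfin] at hmax ⊢
  rw [← hP₁, ← hP'] at hne hfin hf
  have hfP' : finrank F ↥P' = r := by
    rw [hP']
    unfold Img
    rw [finrank_map_actL]
    exact hfp v₀ hv₀
  have hg₀iso : g₀ ∈ isom f := hH hg₀
  have hiso' : ∀ x ∈ P', ∀ y ∈ P', f x y = 0 := by
    rw [hP']
    exact Img_isotropic S hg₀iso v₀
  -- the functional ψ = B(., v₁)
  obtain ⟨ψ, hψ⟩ : ∃ ψ : (ι → F) →ₗ[F] L, ∀ v, ψ v = B v v₁ := ⟨B.flip v₁, fun v => rfl⟩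
  have hψP₁ : ∀ p ∈ P₁, ψ p = 0 := by
    intro p hp
    rw [hP₁] at hp
    obtain ⟨c, rfl⟩ := hp
    rw [orb_apply, hψ, S.lin, S.alt, mul_zero]
  have hψsmul : ∀ (c : L) (v : ι → F), ψ (ρ c *ᵥ v) = c * ψ v := by
    intro c v
    rw [hψ, hψ, S.lin]
  obtain ⟨Y, hY⟩ : ∃ Y : Submodule F L, Y = P'.map ψ := ⟨_, rfl⟩
  obtain ⟨D, hD⟩ : ∃ D : Submodule F L, D = P'.comap (orb ρ v₁) := ⟨_, rfl⟩
  have hfD : finrank F ↥D = δ := by
    have e : D.map (orb ρ v₁) = P₁ ⊓ P' := by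
      rw [hD, Submodule.map_comap_eq, hP₁]
      rfl
    rw [← hfin, ← e]
    exact (Submodule.equivMapOfInjective _ (orb_injective ρ hv₁) D).finrank_eq
  have h1δ : 1 ≤ δ := by
    by_contra hlt
    have h0 : finrank F ↥(P₁ ⊓ P') = 0 := by omega
    exact hne (Submodule.finrank_eq_zero.mp h0)
  have hmemD : ∀ c : L, c ∈ D ↔ ρ c *ᵥ v₁ ∈ P' := by
    intro c
    rw [hD]
    rfl
  -- hperp
  have hperp : ∀ y ∈ Y, ∀ d ∈ D, τ (d * y) = 0 := by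
    intro y hy d hd
    rw [hY] at hy
    obtain ⟨w, hw, rfl⟩ := hy
    have h1 := hiso' _ ((hmemD d).mp hd) w hw
    rw [f_rho_left S, B_skew S, ← hψ, mul_neg, map_neg, neg_eq_zero] at h1
    exact h1
  -- Y ≠ ⊥
  have hYne : Y ≠ ⊥ := by
    obtain ⟨x, hx, y, hy, hxy⟩ := hf
    rw [hP₁] at hx
    obtain ⟨c, rfl⟩ := hx
    rw [orb_apply, f_rho_left S, B_skew S, ← hψ] at hxy
    intro hbot
    have hmem : ψ y ∈ Y := by
      rw [hY]
      exact ⟨y, hy, rfl⟩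
    rw [hbot, Submodule.mem_bot] at hmem
    apply hxy
    rw [hmem, neg_zero, mul_zero, map_zero]
  -- the key claim
  have claimA : ∀ a : L, (∃ y' ∈ Y, ∃ y'' ∈ Y, τ (a * y' * y'') ≠ 0) →
      Y.map (LinearMap.mulLeft F a) ⊓ D = ⊥ ∧ P' ⊓ LinearMap.ker ψ = P₁ ⊓ P' := by
    rintro a ⟨y', hy', y'', hy'', hτ⟩
    obtain ⟨x, hx, -, hxS⟩ := hroot v₁ a
    have hxH : x ∈ H := hSpL hxS
    have hxact : ∀ v, act x v = v + ρ (a * ψ v) *ᵥ v₁ := by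
      intro v
      rw [hx v, hψ]
    have hxP₁ : ∀ p ∈ P₁, act x p = p := by
      intro p hp
      rw [hxact, hψP₁ p hp, mul_zero, rho_zero_mulVec, add_zero]
    rw [hY] at hy' hy''
    obtain ⟨w', hw', rfl⟩ := hy'
    obtain ⟨w, hw, rfl⟩ := hy''
    have hDle : P₁ ⊓ P' ≤ P' ⊓ P'.map (actL x) := by
      rintro p ⟨hp1, hp2⟩
      exact ⟨hp2, ⟨p, hp2, hxP₁ p hp1⟩⟩
    have hImg : Img ρ (x * g₀) v₀ = P'.map (actL x) := by
      rw [Img_mul, hP']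
    have hT : TPair ρ f H g₀ (x * g₀) v₀ v₀ := by
      refine ⟨hg₀, H.mul_mem hxH hg₀, hv₀, hv₀, ?_, w, ?_, act x w', ?_, ?_⟩
      · rw [hImg, ← hP']
        intro hbot
        apply hne
        rw [eq_bot_iff]
        exact le_trans hDle (le_of_eq hbot)
      · rw [← hP']
        exact hw
      · rw [hImg]
        exact ⟨w', hw', rfl⟩
      · rw [hxact, map_add, hiso' w hw w' hw', zero_add, f_rho_right S, ← hψ]
        exact hτ
    have hle := hmax _ _ _ _ hT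
    rw [hImg, ← hP'] at hle
    have hDeq : P₁ ⊓ P' = P' ⊓ P'.map (actL x) :=
      Submodule.eq_of_le_of_finrank_le hDle (by rw [hfin]; exact hle)
    constructor
    · rw [eq_bot_iff]
      rintro c ⟨hc1, hc2⟩
      rw [hY] at hc1
      obtain ⟨y, ⟨u₂, hu₂, rfl⟩, rfl⟩ := hc1
      have hc2' : ρ (a * ψ u₂) *ᵥ v₁ ∈ P' := (hmemD _).mp hc2
      have h1 : act x u₂ ∈ P' := by
        rw [hxact]
        exact P'.add_mem hu₂ hc2'
      have h2 : act x u₂ ∈ P'.map (actL x) := ⟨u₂, hu₂, rfl⟩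
      have h3 : act x u₂ ∈ P₁ ⊓ P' := by
        rw [hDeq]
        exact ⟨h1, h2⟩
      have h4 := hψP₁ _ h3.1
      rw [hxact, map_add, hψsmul, hψ v₁, S.alt, mul_zero, add_zero] at h4
      rw [Submodule.mem_bot, LinearMap.mulLeft_apply, h4, mul_zero]
    · apply le_antisymm
      · rintro p ⟨hp1, hp2⟩
        have hp2' : ψ p = 0 := hp2
        have hfix : act x p = p := by
          rw [hxact, hp2', mul_zero, rho_zero_mulVec, add_zero]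
        rw [hDeq]
        exact ⟨hp1, ⟨p, hp1, hfix⟩⟩
      · rintro p ⟨hp1, hp2⟩
        exact ⟨hp2, hψP₁ p hp1⟩
  -- a good `a`
  have hτne : τ ≠ 0 := tau_ne S hv₁
  obtain ⟨y₀, hy₀Y, hy₀⟩ := (Submodule.ne_bot_iff Y).mp hYne
  obtain ⟨c₀, hc₀⟩ : ∃ c, τ c ≠ 0 := by
    by_contra hcon
    push Not at hcon
    exact hτne (LinearMap.ext hcon)
  have hgood : ∃ y' ∈ Y, ∃ y'' ∈ Y, τ (c₀ / (y₀ * y₀) * y' * y'') ≠ 0 := by
    refine ⟨y₀, hy₀Y, y₀, hy₀Y, ?_⟩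
    have : c₀ / (y₀ * y₀) * y₀ * y₀ = c₀ := by
      field_simp
    rw [this]
    exact hc₀
  have hkerD := (claimA _ hgood).2
  -- finrank Y + δ = r
  have hfY : finrank F ↥Y + δ = r := by
    have hrn := LinearMap.finrank_range_add_finrank_ker (ψ.domRestrict P')
    rw [LinearMap.range_domRestrict, LinearMap.ker_domRestrict, hfP', ← hY] at hrn
    have e : ((LinearMap.ker ψ).comap P'.subtype).map P'.subtype = P' ⊓ LinearMap.ker ψ := by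
      rw [Submodule.map_comap_eq, Submodule.range_subtype]
    have h2 : finrank F ↥((LinearMap.ker ψ).comap P'.subtype) = δ := by
      rw [← hfin, ← hkerD, ← e]
      exact (Submodule.equivMapOfInjective _ P'.subtype_injective _).finrank_eq
    rw [h2] at hrn
    exact hrn
  have hDne : D ≠ ⊥ := by
    intro h
    rw [h, finrank_bot] at hfD
    omega
  have hone := halg Y D hYne hDne (by rw [hfD, hrk]; exact hfY) hperp
    (by
      intro a ha ⟨y, hyY, hy0, hayD⟩ y' hy' y'' hy''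
      by_contra hτ
      have hbot := (claimA a ⟨y', hy', y'', hy'', hτ⟩).1
      have hmem : a * y ∈ Y.map (LinearMap.mulLeft F a) ⊓ D :=
        ⟨⟨y, hyY, rfl⟩, hayD⟩
      rw [hbot, Submodule.mem_bot] at hmem
      exact (mul_ne_zero ha hy0) hmem)
  omega

end Cfsg.Agent.Lib.Helper22.S5664II
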