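import Mathlib
import Cfsg.Agent.Lib.Helper7.SpExtDefs
import Cfsg.Agent.Lib.Helper7.SpExtBas
import Cfsg.Agent.Lib.Helper18.S5664FOIIalg
import Cfsg.Agent.Lib.Helper22.S5664FOIIb

/-!
# S5664 FO-IIb : `config_of_max` with `exists_root` (FO-ROOT) as the only explicit hypothesis
-/

set_option autoImplicit false
set_option linter.unusedVariables false

namespace Cfsg.Agent.Lib.Helper22.S5664II

open Matrix Module Cfsg.Agent.Lib.Helper7.SpExt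

variable {F : Type*} [Field F] {L : Type*} [Field L] [Algebra F L] {ι : Type} [Fintype ι]
  [DecidableEq ι] {ρ : L →ₐ[F] Matrix ι ι F} {f : (ι → F) →ₗ[F] (ι → F) →ₗ[F] F} {τ : L →ₗ[F] F}
  {B : (ι → F) →ₗ[F] (ι → F) →ₗ[F] L} {r : ℕ}

theorem config_of_max_of_root (S : SpStr ρ f τ B) (hr : r.Prime) (hrk : finrank F L = r)
    (hroot : ∀ (u : ι → F) (a : L),
      ∃ g : GL ι F, IsRoot ρ B u a g ∧ IsRoot ρ B u (-a) g⁻¹ ∧ g ∈ SpL ρ B)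
    (H : Subgroup (GL ι F)) (hSpL : SpL ρ B ≤ H) (hH : H ≤ isom f)
    (v₁ v₀ : ι → F) (g₀ : GL ι F) (hg₀ : g₀ ∈ H) (hv₁ : v₁ ≠ 0) (hv₀ : v₀ ≠ 0)
    (hne : pt ρ v₁ ⊓ Img ρ g₀ v₀ ≠ ⊥)
    (hf : ∃ x ∈ pt ρ v₁, ∃ y ∈ Img ρ g₀ v₀, f x y ≠ 0)
    (hmax : ∀ k k' w w', TPair ρ f H k k' w w' →
        finrank F ↥(Img ρ k w ⊓ Img ρ k' w') ≤ finrank F ↥(pt ρ v₁ ⊓ Img ρ g₀ v₀)) :
    Config ρ f H r v₁ v₀ g₀ := by
  have hrp : (finrank F L).Prime := by rw [hrk]; exact hr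
  have hτ : τ ≠ 0 := tau_ne S hv₁
  refine config_of_max_aux S hrk ?_ hroot ?_ H hSpL hH v₁ v₀ g₀ hg₀ hv₁ hv₀ hne hf hmax
  · intro v hv
    rw [← hrk]
    exact LinearMap.finrank_range_of_inj (orb_injective ρ hv)
  · intro Y D hY hD hsum hperp h
    exact Cfsg.Agent.Lib.Helper18.S5664FOIIalg.finrank_eq_one_of_tau hrp τ hτ Y D hY hD hsum hperp h

end Cfsg.Agent.Lib.Helper22.S5664II
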