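import Mathlib
import Cfsg.Agent.Lib.Helper28.TensUDefs
import Cfsg.Agent.Lib.Helper13.TensorHerm
import Cfsg.Agent.Lib.Helper13.SUMax
import Cfsg.Agent.Lib.Helper6.Unitary
import Cfsg.Agent.Lib.Helper22.S5670FOBRIDGE

/-!
# S5670 FO-TRANS (helper22): `N0 ∩ SU` is transitive on the standard totally isotropic subspaces `U ⊗ k`

`SU_b` (even its subgroup generated by transvections) is transitive on the non-zero isotropic vectors for `b ≥ 3`
(helper6's `SUG.rel_iso`); take `n := 1 ⊗ₖ B`.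
-/

set_option autoImplicit false
set_option linter.unusedSectionVars false
set_option linter.unusedVariables false

namespace Cfsg.Agent.Lib.Helper22.S5670TRANS

open Matrix Module
open Cfsg.Agent.Lib.Helper16.Tens Cfsg.Agent.Lib.Helper10.TensFund Cfsg.Agent.Lib.Helper28.TensU
open scoped Kronecker

variable {F : Type*} [Field F] [Fintype F] {a b : ℕ} {q : ℕ}

local notation "K" => Cfsg.Geo.kroneckerSubgroup a b F
local notation "V" => (Fin a × Fin b → F)

open Cfsg.Agent.Lib.Helper13.TNM Cfsg.Agent.Lib.Helper6 Cfsg.Agent.Lib.Helper22.S5670BRIDGE in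
/-- `1 ⊗ₖ B` is unitary (and of determinant one) when `B` is -/
theorem one_kron_mem (hF : Fintype.card F = q ^ 2) (B : GL (Fin b) F)
    (hB : B ∈ Cfsg.GU b F q ⊓ Cfsg.Geo.specialLinear (Fin b) F) :
    kronGL (1 : GL (Fin a) F) B ∈ UG (Fin a × Fin b) F q ∧
      kronGL (1 : GL (Fin a) F) B ∈ Cfsg.Geo.specialLinear (Fin a × Fin b) F := by
  classical
  obtain ⟨σ, hσ⟩ : ∃ σ : F →+* F, σ = conjQ hF := ⟨_, rfl⟩
  have hσapp : ∀ x, σ x = x ^ q := by intro x; rw [hσ]; rfl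
  obtain ⟨hBU, hBS⟩ := hB
  have hdet : (B : Matrix (Fin b) (Fin b) F).det = 1 := by
    have h3 : Matrix.GeneralLinearGroup.det B = 1 := MonoidHom.mem_ker.mp hBS
    have h4 := congrArg Units.val h3
    rwa [Matrix.GeneralLinearGroup.val_det_apply] at h4
  have hBm : (B : Matrix (Fin b) (Fin b) F)ᵀ * 1 * (B : Matrix (Fin b) (Fin b) F).map σ = 1 := by
    rw [← preserves_iff (⇑σ) (map_zero σ) (map_one σ) (map_add σ) (map_mul σ)]
    intro x y
    rw [fog_one (⇑σ) hσapp, fog_one (⇑σ) hσapp]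
    exact hBU x y
  refine ⟨?_, ?_⟩
  · rw [mem_UG_iff]
    intro x y
    rw [← fog_one (⇑σ) hσapp, ← fog_one (⇑σ) hσapp]
    revert x y
    rw [preserves_iff (⇑σ) (map_zero σ) (map_one σ) (map_add σ) (map_mul σ)]
    rw [kronGL_val, kron_map, ← Matrix.kroneckerMap_transpose, ← Matrix.one_kronecker_one,
      ← Matrix.mul_kronecker_mul, ← Matrix.mul_kronecker_mul, hBm, Units.val_one, Matrix.transpose_one,
      one_mul, Matrix.map_one _ (map_zero σ) (map_one σ), one_mul]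
  · rw [mem_SL_iff, kronGL_val, Matrix.det_kronecker, hdet, Units.val_one, Matrix.det_one, one_pow, one_pow,
      one_mul]

open Cfsg.Agent.Lib.Helper13.TNM Cfsg.Agent.Lib.Helper6 Cfsg.Agent.Lib.Helper6.SUG Cfsg.Agent.Lib.Helper13 in
/-- FO-TRANS: `N0 ∩ SU` is transitive on the standard totally isotropic subspaces -/
theorem exists_kron_img_pt (hF : Fintype.card F = q ^ 2) (ha : 1 ≤ a) (hb : 3 ≤ b) (k k' : Fin b → F) (hk0 : k ≠ 0)
    (hk : hs q k k = 0) (hk'0 : k' ≠ 0) (hk' : hs q k' k' = 0) :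
    ∃ n : GL (Fin a × Fin b) F, n ∈ K ∧ n ∈ UG (Fin a × Fin b) F q ∧
      n ∈ Cfsg.Geo.specialLinear (Fin a × Fin b) F ∧ img n (pt (a := a) k) = pt k' := by
  classical
  obtain ⟨t, -, ht⟩ := rel_iso hF hb k k' hk0 hk'0 hk hk'
  obtain ⟨B, hBdef⟩ : ∃ B : GL (Fin b) F, B = suGL b F q t := ⟨_, rfl⟩
  have hBmem : B ∈ Cfsg.GU b F q ⊓ Cfsg.Geo.specialLinear (Fin b) F := by
    rw [hBdef]; exact suGL_mem t
  have hBk : (B : Matrix (Fin b) (Fin b) F) *ᵥ k = k' := by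
    rw [hBdef, suGL_mulVec, ht]
  obtain ⟨h1, h2⟩ := one_kron_mem (a := a) hF B hBmem
  refine ⟨kronGL 1 B, kronGL_mem 1 B, h1, h2, ?_⟩
  apply le_antisymm
  · rintro _ ⟨x, hx, rfl⟩
    obtain ⟨u, rfl⟩ := (mem_pt_iff k x).1 hx
    change act (kronGL 1 B) (pur u k) ∈ _
    rw [act_apply, kronGL_val, kron_mulVec_pur, hBk]
    exact pur_mem_pt _ _
  · intro v hv
    obtain ⟨u, rfl⟩ := (mem_pt_iff _ v).1 hv
    refine ⟨pur u k, pur_mem_pt _ _, ?_⟩
    change act (kronGL 1 B) (pur u k) = _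
    rw [act_apply, kronGL_val, kron_mulVec_pur, hBk, Units.val_one, Matrix.one_mulVec]

end Cfsg.Agent.Lib.Helper22.S5670TRANS
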