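import Mathlib
import Cfsg.Agent.Lib.Helper28.TensUDefs
import Cfsg.Agent.Lib.Helper26.S5670T3cDefs

/-!
# S5670 FO-T3c, pieces F-SUM, F-EPS, F-DELTA (helper22): pure matrix lemmas over `F_4`

`rk1_add_single` (F-SUM) is proved here outright; `exists_offdiag_aux` (F-EPS) and `exists_piD_aux` (F-DELTA) take the
facts F-TV (`tv_mem`), F-DIAG (`diag_mem`) and the `F_4` arithmetic as explicit hypotheses; the exact-signature wrappers
are in `S5670T3cFEDS.lean`.
-/

set_option autoImplicit false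
set_option linter.unusedSectionVars false
set_option linter.unusedVariables false

namespace Cfsg.Agent.Lib.Helper22.S5670T3cF

open Matrix Module
open Cfsg.Agent.Lib.Helper16.Tens Cfsg.Agent.Lib.Helper10.TensFund Cfsg.Agent.Lib.Helper28.TensU
  Cfsg.Agent.Lib.Helper26.T3c
open scoped Kronecker

variable {F : Type*} [Field F] {a b : ℕ} {q : ℕ}

/-- F-SUM : `(e_j + e_l)(e_j + e_l)^† = piD j l + eE j l 1` -/
theorem rk1_add_single (j l : Fin a) (hjl : j ≠ l) :
    rk1 2 (Pi.single j (1 : F) + Pi.single l (1 : F)) = piD j l + eE 2 j l (1 : F) := by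
  ext x y
  rw [rk1_apply, Matrix.add_apply, eE_apply]
  unfold piD
  rw [Matrix.diagonal_apply]
  simp only [Pi.add_apply, Pi.single_apply]
  have hlj : l ≠ j := Ne.symm hjl
  by_cases hxj : x = j
  · subst hxj
    by_cases hyj : y = x
    · subst hyj
      simp [hjl]
    · by_cases hyl : y = l
      · subst hyl
        simp [hjl, hlj]
      · have hxy : x ≠ y := Ne.symm hyj
        simp [hjl, hyj, hyl, hxy]
  · by_cases hxl : x = l
    · subst hxl
      by_cases hyj : y = j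
      · subst hyj
        simp [hjl, hlj]
      · by_cases hyl : y = x
        · subst hyl
          simp [hlj]
        · have hxy : x ≠ y := Ne.symm hyl
          simp [hlj, hyj, hyl, hxy]
    · simp [hxj, hxl]

/-- the entries of the conjugate of `S` by the transvection `1 + v v^†` -/
theorem tvS_apply (S : Matrix (Fin a) (Fin a) F) (v : Fin a → F) (c : F) (x y : Fin a) :
    (S + vecMulVec (S *ᵥ v) (cj 2 v) + vecMulVec v (cj 2 (S *ᵥ v)) + c • rk1 2 v) x y =
      S x y + (S *ᵥ v) x * v y ^ 2 + v x * (S *ᵥ v) y ^ 2 + c * (v x * v y ^ 2) := by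
  simp only [Matrix.add_apply, vecMulVec_apply, cj_apply, rk1_apply, Matrix.smul_apply, smul_eq_mul]

/-- sums against the indicator of four distinct points -/
theorem sum_four (g : Fin a → F) (i j k l : Fin a) (hij : i ≠ j) (hik : i ≠ k) (hil : i ≠ l) (hjk : j ≠ k)
    (hjl : j ≠ l) (hkl : k ≠ l) (w : Fin a → F)
    (hw : ∀ x, x ≠ i → x ≠ j → x ≠ k → x ≠ l → w x = 0) :
    ∑ x, g x * w x = g i * w i + g j * w j + g k * w k + g l * w l := by
  classical
  have hsub : ∀ x ∈ (Finset.univ : Finset (Fin a)), x ∉ ({i, j, k, l} : Finset (Fin a)) → g x * w x = 0 := by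
    intro x _ hx
    simp only [Finset.mem_insert, Finset.mem_singleton, not_or] at hx
    rw [hw x hx.1 hx.2.1 hx.2.2.1 hx.2.2.2, mul_zero]
  rw [← Finset.sum_subset (Finset.subset_univ ({i, j, k, l} : Finset (Fin a))) hsub]
  rw [Finset.sum_insert (by simp [hij, hik, hil]), Finset.sum_insert (by simp [hjk, hjl]),
    Finset.sum_insert (by simp [hkl]), Finset.sum_singleton]
  ring

/-- two further indices -/
theorem exists_two_ne (ha : 4 ≤ a) (i j : Fin a) :
    ∃ k l : Fin a, k ≠ i ∧ k ≠ j ∧ l ≠ i ∧ l ≠ j ∧ k ≠ l := by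
  classical
  have hc : 1 < ((Finset.univ : Finset (Fin a)) \ {i, j}).card := by
    have h1 : ((Finset.univ : Finset (Fin a)) \ {i, j}).card = a - ({i, j} : Finset (Fin a)).card := by
      rw [Finset.card_sdiff_of_subset (Finset.subset_univ _), Finset.card_univ, Fintype.card_fin]
    have h2 : ({i, j} : Finset (Fin a)).card ≤ 2 := Finset.card_le_two
    omega
  obtain ⟨k, hk, l, hl, hkl⟩ := Finset.one_lt_card.mp hc
  simp only [Finset.mem_sdiff, Finset.mem_univ, Finset.mem_insert, Finset.mem_singleton, true_and, not_or] at hk hl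
  exact ⟨k, l, hk.1, hk.2, hl.1, hl.2, hkl⟩

/-- F-EPS with F-TV and the characteristic as hypotheses -/
theorem exists_offdiag_aux (h2 : (2 : F) = 0) (ha : 4 ≤ a) {X : AddSubgroup (Matrix (Fin a) (Fin a) F)}
    (htv : ∀ v : Fin a → F, hs 2 v v = 0 → ∀ S ∈ X,
      S + vecMulVec (S *ᵥ v) (cj 2 v) + vecMulVec v (cj 2 (S *ᵥ v)) + hs 2 (S *ᵥ v) v • rk1 2 v ∈ X)
    (S₀ : Matrix (Fin a) (Fin a) F) (hS₀ : S₀ ∈ X) (hns : ¬ ∃ c : F, S₀ = c • 1) :
    ∃ T ∈ X, ∃ i j : Fin a, i ≠ j ∧ T i j ≠ 0 := by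
  classical
  by_contra hcon
  push Not at hcon
  have hoff := hcon S₀ hS₀
  have hex : ∃ i j : Fin a, S₀ i i ≠ S₀ j j := by
    by_contra h
    push Not at h
    apply hns
    refine ⟨S₀ ⟨0, by omega⟩ ⟨0, by omega⟩, ?_⟩
    ext x y
    by_cases hxy : x = y
    · subst hxy
      rw [Matrix.smul_apply, Matrix.one_apply_eq, smul_eq_mul, mul_one]
      exact h x ⟨0, by omega⟩
    · rw [Matrix.smul_apply, Matrix.one_apply_ne hxy, smul_zero]
      exact hoff x y hxy
  obtain ⟨i, j, hsij⟩ := hex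
  have hij : i ≠ j := by
    intro h; apply hsij; rw [h]
  obtain ⟨k, l, hki, hkj, hli, hlj, hkl⟩ := exists_two_ne ha i j
  obtain ⟨v, hvdef⟩ : ∃ v : Fin a → F, v = fun x => if x = i ∨ x = j ∨ x = k ∨ x = l then 1 else 0 := ⟨_, rfl⟩
  have hvi : v i = 1 := by rw [hvdef]; simp
  have hvj : v j = 1 := by rw [hvdef]; simp
  have hvk : v k = 1 := by rw [hvdef]; simp
  have hvl : v l = 1 := by rw [hvdef]; simp
  have hv0 : ∀ x, x ≠ i → x ≠ j → x ≠ k → x ≠ l → v x = 0 := by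
    intro x h1 h2' h3 h4
    rw [hvdef]; simp [h1, h2', h3, h4]
  have hv : hs 2 v v = 0 := by
    unfold hs
    have h1 : ∑ x, v x * v x ^ 2 = ∑ x, (1 : F) * (v x * v x ^ 2) := by simp
    rw [h1, sum_four (fun _ => (1 : F)) i j k l hij (Ne.symm hki) (Ne.symm hli) (Ne.symm hkj) (Ne.symm hlj) hkl
      (fun x => v x * v x ^ 2) (fun x h1 h2' h3 h4 => by rw [hv0 x h1 h2' h3 h4]; ring)]
    simp only [hvi, hvj, hvk, hvl]
    linear_combination 2 * h2
  have hT := htv v hv S₀ hS₀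
  have hmv : ∀ x, (S₀ *ᵥ v) x = S₀ x x * v x := by
    intro x
    simp only [Matrix.mulVec, dotProduct]
    rw [Finset.sum_eq_single x]
    · intro y _ hyx
      rw [hoff x y (Ne.symm hyx), zero_mul]
    · intro h; exact absurd (Finset.mem_univ x) h
  have e1 := hcon _ hT i k (Ne.symm hki)
  have e2 := hcon _ hT j k (Ne.symm hkj)
  rw [tvS_apply, hmv, hmv, hvi, hvk, hoff i k (Ne.symm hki)] at e1
  rw [tvS_apply, hmv, hmv, hvj, hvk, hoff j k (Ne.symm hkj)] at e2
  apply hsij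
  linear_combination e1 - e2

/-- `eE q i k lam` applied to a vector -/
theorem eE_mulVec (i k : Fin a) (hik : i ≠ k) (lam : F) (v : Fin a → F) (x : Fin a) :
    (eE q i k lam *ᵥ v) x = if x = i then lam * v k else if x = k then lam ^ q * v i else 0 := by
  simp only [Matrix.mulVec, dotProduct, eE_apply]
  by_cases hxi : x = i
  · subst hxi
    rw [if_pos rfl, Finset.sum_eq_single k]
    · simp
    · intro y _ hyk
      simp [hyk, hik]
    · intro h; exact absurd (Finset.mem_univ k) h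
  · rw [if_neg hxi]
    by_cases hxk : x = k
    · subst hxk
      rw [if_pos rfl, Finset.sum_eq_single i]
      · simp [hxi]
      · intro y _ hyi
        simp [hyi, hxi]
      · intro h; exact absurd (Finset.mem_univ i) h
    · rw [if_neg hxk]
      apply Finset.sum_eq_zero
      intro y _
      simp [hxi, hxk]

/-- F-DELTA with F-TV, F-DIAG and the `F_4` arithmetic as hypotheses -/
theorem exists_piD_aux (h2 : (2 : F) = 0) (ω : F) (hω : ω ^ 2 = ω + 1) (ha : 4 ≤ a)
    {X : AddSubgroup (Matrix (Fin a) (Fin a) F)}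
    (htv : ∀ v : Fin a → F, hs 2 v v = 0 → ∀ S ∈ X,
      S + vecMulVec (S *ᵥ v) (cj 2 v) + vecMulVec v (cj 2 (S *ᵥ v)) + hs 2 (S *ᵥ v) v • rk1 2 v ∈ X)
    (hdiag : ∀ S ∈ X, Matrix.diagonal (fun i => S i i) ∈ X)
    (hoff : ∀ (i j : Fin a), i ≠ j → ∀ lam : F, eE 2 i j lam ∈ X) :
    ∃ j l : Fin a, j ≠ l ∧ (piD j l : Matrix (Fin a) (Fin a) F) ∈ X := by
  classical
  obtain ⟨i, hi⟩ : ∃ i : Fin a, i = ⟨0, by omega⟩ := ⟨_, rfl⟩
  obtain ⟨j, hj⟩ : ∃ j : Fin a, j = ⟨1, by omega⟩ := ⟨_, rfl⟩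
  obtain ⟨k, hk⟩ : ∃ k : Fin a, k = ⟨2, by omega⟩ := ⟨_, rfl⟩
  obtain ⟨l, hl⟩ : ∃ l : Fin a, l = ⟨3, by omega⟩ := ⟨_, rfl⟩
  have hij : i ≠ j := by rw [hi, hj]; simp [Fin.ext_iff]
  have hik : i ≠ k := by rw [hi, hk]; simp [Fin.ext_iff]
  have hil : i ≠ l := by rw [hi, hl]; simp [Fin.ext_iff]
  have hjk : j ≠ k := by rw [hj, hk]; simp [Fin.ext_iff]
  have hjl : j ≠ l := by rw [hj, hl]; simp [Fin.ext_iff]
  have hkl : k ≠ l := by rw [hk, hl]; simp [Fin.ext_iff]
  have hω3 : ω ^ 3 = 1 := by linear_combination (ω + 1) * hω + ω * h2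
  obtain ⟨v, hvdef⟩ : ∃ v : Fin a → F,
      v = fun x => if x = i then 1 else if x = j then 1 else if x = k then ω else if x = l then ω else 0 := ⟨_, rfl⟩
  have hvi : v i = 1 := by rw [hvdef]; simp
  have hvj : v j = 1 := by rw [hvdef]; simp [Ne.symm hij]
  have hvk : v k = ω := by rw [hvdef]; simp [Ne.symm hik, Ne.symm hjk]
  have hvl : v l = ω := by rw [hvdef]; simp [Ne.symm hil, Ne.symm hjl, Ne.symm hkl]
  have hv0 : ∀ x, x ≠ i → x ≠ j → x ≠ k → x ≠ l → v x = 0 := by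
    intro x h1 h2' h3 h4
    rw [hvdef]; simp [h1, h2', h3, h4]
  have hv : hs 2 v v = 0 := by
    unfold hs
    have h1 : ∑ x, v x * v x ^ 2 = ∑ x, (1 : F) * (v x * v x ^ 2) := by simp
    rw [h1, sum_four (fun _ => (1 : F)) i j k l hij hik hil hjk hjl hkl
      (fun x => v x * v x ^ 2) (fun x h1 h2' h3 h4 => by rw [hv0 x h1 h2' h3 h4]; ring)]
    simp only [hvi, hvj, hvk, hvl]
    linear_combination 2 * hω3 + 2 * h2
  obtain ⟨T, hTdef⟩ : ∃ T : Matrix (Fin a) (Fin a) F, T = eE 2 i k 1 := ⟨_, rfl⟩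
  have hTX : T ∈ X := by rw [hTdef]; exact hoff i k hik 1
  have hTv : ∀ x, (T *ᵥ v) x = if x = i then ω else if x = k then 1 else 0 := by
    intro x
    rw [hTdef, eE_mulVec i k hik, hvk, hvi]
    simp
  have hTxx : ∀ x, T x x = 0 := by
    intro x
    rw [hTdef, eE_apply, if_neg, if_neg]
    · rintro ⟨h1, h2'⟩; exact hik (h2'.symm.trans h1)
    · rintro ⟨h1, h2'⟩; exact hik (h1.symm.trans h2')
  have hTvi : (T *ᵥ v) i = ω := by rw [hTv, if_pos rfl]
  have hTvj : (T *ᵥ v) j = 0 := by rw [hTv, if_neg (Ne.symm hij), if_neg hjk]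
  have hTvk : (T *ᵥ v) k = 1 := by rw [hTv, if_neg (Ne.symm hik), if_pos rfl]
  have hTvl : (T *ᵥ v) l = 0 := by rw [hTv, if_neg (Ne.symm hil), if_neg (Ne.symm hkl)]
  have hσ : hs 2 (T *ᵥ v) v = 1 := by
    unfold hs
    have h1 : ∑ x, (T *ᵥ v) x * v x ^ 2 = ∑ x, (v x ^ 2) * (T *ᵥ v) x := by
      apply Finset.sum_congr rfl; intro x _; ring
    rw [h1, sum_four (fun x => v x ^ 2) i j k l hij hik hil hjk hjl hkl (fun x => (T *ᵥ v) x)
      (fun x h1 h2' h3 h4 => by rw [hTv x, if_neg h1, if_neg h3])]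
    rw [hTvi, hTvj, hTvk, hTvl, hvi, hvj, hvk, hvl]
    linear_combination hω + ω * h2
  have hT' := htv v hv T hTX
  have hD := hdiag _ hT'
  refine ⟨j, l, hjl, ?_⟩
  have heq : (piD j l : Matrix (Fin a) (Fin a) F) = Matrix.diagonal (fun x =>
      (T + vecMulVec (T *ᵥ v) (cj 2 v) + vecMulVec v (cj 2 (T *ᵥ v)) + hs 2 (T *ᵥ v) v • rk1 2 v) x x) := by
    unfold piD
    congr 1
    funext x
    rw [tvS_apply, hσ, hTxx x]
    by_cases hxi : x = i
    · rw [hxi, hTvi, hvi, if_neg (by simp [hij, hil])]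
      linear_combination -hω - (ω + 1) * h2
    · by_cases hxj : x = j
      · rw [hxj, hTvj, hvj, if_pos (Or.inl rfl)]
        ring
      · by_cases hxk : x = k
        · rw [hxk, hTvk, hvk, if_neg (by simp [Ne.symm hjk, hkl])]
          linear_combination -hω3 - hω - (ω + 1) * h2
        · by_cases hxl : x = l
          · rw [hxl, hTvl, hvl, if_pos (Or.inr rfl)]
            linear_combination -hω3
          · rw [hTv x, if_neg hxi, if_neg hxk, hv0 x hxi hxj hxk hxl, if_neg (by simp [hxj, hxl])]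
            ring
  rw [heq]
  exact hD

end Cfsg.Agent.Lib.Helper22.S5670T3cF
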