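import Mathlib
import Cfsg.Agent.Lib.Helper28.TensUDefs
import Cfsg.Agent.Lib.Helper26.S5670T3cDefs
import Cfsg.Agent.Lib.Helper29.S5670T3cFAPI
import Cfsg.Agent.Lib.Helper29.S5670T3cFMASK
import Cfsg.Agent.Lib.Helper29.S5670T3cFTV
import Cfsg.Agent.Lib.Helper17.S5670T3cFAux
import Cfsg.Agent.Lib.Helper22.S5670T3cFaux

/-!
# S5670 FO-T3c, pieces F-EPS, F-DELTA (helper22): the exact sub-skeleton signatures

Wrappers around `S5670T3cFaux` using helper29's F-API / F-MASK / F-TV and helper17's `diag_mem_aux`.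
-/

set_option autoImplicit false
set_option linter.unusedSectionVars false
set_option linter.unusedVariables false

namespace Cfsg.Agent.Lib.Helper22.S5670T3cFEDS

open Matrix Module
open Cfsg.Agent.Lib.Helper16.Tens Cfsg.Agent.Lib.Helper10.TensFund Cfsg.Agent.Lib.Helper28.TensU
  Cfsg.Agent.Lib.Helper26.T3c
open scoped Kronecker

variable {F : Type*} [Field F] [Fintype F] {a b : ℕ} {q : ℕ}

/-- F-EPS : a diagonal non-scalar element yields an element with a non-zero off-diagonal entry -/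
theorem exists_offdiag (hF : Fintype.card F = 2 ^ 2) (ha : 4 ≤ a) {X : AddSubgroup (Matrix (Fin a) (Fin a) F)}
    (hX : InvX 2 X) (S₀ : Matrix (Fin a) (Fin a) F) (hS₀ : S₀ ∈ X) (hns : ¬ ∃ c : F, S₀ = c • 1) :
    ∃ T ∈ X, ∃ i j : Fin a, i ≠ j ∧ T i j ≠ 0 :=
  Cfsg.Agent.Lib.Helper22.S5670T3cF.exists_offdiag_aux
    (Cfsg.Agent.Lib.Helper29.S5670T3cFAPI.f4_two hF) ha
    (fun v hv S hS => Cfsg.Agent.Lib.Helper29.S5670T3cFTV.tv_mem hF hX v hv hS) S₀ hS₀ hns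

/-- F-DIAG in the exact sub-skeleton form (from helper17's `diag_mem_aux` and helper29's `mask_mem`) -/
theorem diag_mem' (hF : Fintype.card F = 2 ^ 2) (ha : 3 ≤ a) {X : AddSubgroup (Matrix (Fin a) (Fin a) F)}
    (hX : InvX 2 X) {S : Matrix (Fin a) (Fin a) F} (hS : S ∈ X) :
    Matrix.diagonal (fun i => S i i) ∈ X := by
  obtain ⟨ω, h0, h1, hsq⟩ := Cfsg.Agent.Lib.Helper29.S5670T3cFAPI.f4_exists_omega hF
  have hω : Cfsg.Agent.Lib.Helper17.S5670T3cF.Om ω :=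
    ⟨Cfsg.Agent.Lib.Helper29.S5670T3cFAPI.f4_two hF, h0, h1, hsq⟩
  exact Cfsg.Agent.Lib.Helper17.S5670T3cF.diag_mem_aux hω
    (fun d hd hdet S hS => Cfsg.Agent.Lib.Helper29.S5670T3cFMASK.mask_mem hF hX d hd hdet hS) (by omega) hS

/-- F-DELTA : all off-diagonal elements give a diagonal projection `piD j l` -/
theorem exists_piD (hF : Fintype.card F = 2 ^ 2) (ha : 4 ≤ a) {X : AddSubgroup (Matrix (Fin a) (Fin a) F)}
    (hX : InvX 2 X) (hoff : ∀ (i j : Fin a), i ≠ j → ∀ lam : F, eE 2 i j lam ∈ X) :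
    ∃ j l : Fin a, j ≠ l ∧ (piD j l : Matrix (Fin a) (Fin a) F) ∈ X := by
  obtain ⟨ω, h0, h1, hsq⟩ := Cfsg.Agent.Lib.Helper29.S5670T3cFAPI.f4_exists_omega hF
  exact Cfsg.Agent.Lib.Helper22.S5670T3cF.exists_piD_aux
    (Cfsg.Agent.Lib.Helper29.S5670T3cFAPI.f4_two hF) ω hsq ha
    (fun v hv S hS => Cfsg.Agent.Lib.Helper29.S5670T3cFTV.tv_mem hF hX v hv hS)
    (fun S hS => diag_mem' hF (by omega) hX hS) hoff

end Cfsg.Agent.Lib.Helper22.S5670T3cFEDS
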