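import Mathlib
import Cfsg.Agent.Lib.Helper9.OExtDefs
import Cfsg.Agent.Lib.Helper7.SpExtBas
import Cfsg.Agent.Lib.Helper21.S5664FOBASb
import Cfsg.Agent.H5.S5886FOCNT
import Cfsg.Agent.Lib.Helper26.S5701FOBAS
import Cfsg.Agent.Lib.Helper26.S5701FOSIEG
import Cfsg.Agent.Lib.Helper26.S5701FOGEOa
import Cfsg.Agent.Lib.Helper22.S5664FOIIa

/-!
# S5701 FO-D1 : a maximal perpendicular pair is a `ConfigA`
`configA_of_maxP_aux` takes FO-G4 (`exists_dual1`) as an explicit hypothesis.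
-/

set_option autoImplicit false
set_option linter.unusedSimpArgs false
set_option linter.unusedVariables false

namespace Cfsg.Agent.Lib.Helper22.S5701D1

open Matrix Module QuadraticMap Cfsg.Agent.Lib.Helper7.SpExt Cfsg.Agent.Lib.Helper9.OExt
  Cfsg.Agent.Lib.Helper22.S5664II Cfsg.Agent.Lib.Helper26.S5701BAS Cfsg.Agent.Lib.Helper26.S5701SIEG

variable {F : Type*} [Field F] [Fintype F] {L : Type*} [Field L] [Algebra F L] {ι : Type} [Fintype ι]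
  [DecidableEq ι] {ρ : L →ₐ[F] Matrix ι ι F} {Q : QuadraticForm F (ι → F)} {τ : L →ₗ[F] F}
  {B : (ι → F) →ₗ[F] (ι → F) →ₗ[F] L} {r : ℕ}

theorem configA_of_maxP_aux (S : OStr ρ Q τ B) (hr : r.Prime) (hrk : finrank F L = r)
    (hG4 : ∀ {v₁ u : ι → F}, LSing B v₁ → B u v₁ = 0 → u ∉ pt ρ v₁ → ∀ b : L,
      ∃ w, B w v₁ = 0 ∧ B u w = b)
    (H : Subgroup (GL ι F)) (hS : HasSieg ρ B H) (hH : H ≤ Cfsg.isometryGroup F ⇑Q)
    (v₁ v₀ : ι → F) (g₀ : GL ι F) (hmax : MaxP ρ Q B H v₁ v₀ g₀) :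
    ConfigA ρ Q B H r v₁ v₀ g₀ := by
  classical
  obtain ⟨hg₀, hv₁, hv₀, hne, hbot, hperp, hmax⟩ := hmax
  refine ⟨hg₀, hv₁, hv₀, ?_, hperp⟩
  have hrpos : 0 < r := hr.pos
  obtain ⟨P₁, hP₁⟩ : ∃ P₁ : Submodule F (ι → F), P₁ = pt ρ v₁ := ⟨_, rfl⟩
  obtain ⟨P', hP'⟩ : ∃ P' : Submodule F (ι → F), P' = Img ρ g₀ v₀ := ⟨_, rfl⟩
  obtain ⟨δ, hfin⟩ : ∃ δ, finrank F ↥(pt ρ v₁ ⊓ Img ρ g₀ v₀) = δ := ⟨_, rfl⟩
  rw [hfin] at hmax ⊢
  rw [← hP₁, ← hP'] at hne hbot hfin hperp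
  have hfP₁ : finrank F ↥P₁ = r := by rw [hP₁]; exact Cfsg.Agent.Lib.Helper21.S5664BASb.finrank_pt ρ hrk hrpos hv₁.1
  have hfP' : finrank F ↥P' = r := by
    rw [hP']; exact Cfsg.Agent.Lib.Helper21.S5664BASb.finrank_Img ρ hrk hrpos g₀ hv₀.1
  have hg₀iso : g₀ ∈ Cfsg.isometryGroup F ⇑Q := hH hg₀
  have hiso' : ∀ x ∈ P', ∀ y ∈ P', polar (⇑Q) x y = 0 := by
    rw [hP']
    exact Img_isotropic S hg₀iso hv₀.2
  have h1δ : 1 ≤ δ := by
    by_contra hlt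
    have h0 : finrank F ↥(P₁ ⊓ P') = 0 := by omega
    exact hbot (Submodule.finrank_eq_zero.mp h0)
  -- vectors of P' are B-perpendicular to v₁
  have hBP' : ∀ u ∈ P', B u v₁ = 0 := by
    intro u hu
    rw [B_eq_zero_iff S]
    intro y hy
    rw [QuadraticMap.polar_comm]
    rw [← hP₁] at hy
    exact hperp y hy u hu
  have hBP₁ : ∀ p ∈ P₁, B p v₁ = 0 := by
    intro p hp
    rw [hP₁] at hp
    obtain ⟨c, rfl⟩ := hp
    rw [orb_apply, S.lin, hv₁.2, mul_zero]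
  -- a vector of P' outside P₁ and the functional ψ
  have hnle : ¬ P' ≤ P₁ := by
    intro hle
    exact hne (Submodule.eq_of_le_of_finrank_eq hle (by rw [hfP', hfP₁])).symm
  obtain ⟨u, huP', huP₁⟩ := SetLike.not_le_iff_exists.mp hnle
  rw [hP₁] at huP₁
  obtain ⟨w, hwv₁, huw⟩ := hG4 hv₁ (hBP' u huP') huP₁ 1
  obtain ⟨ψ, hψ⟩ : ∃ ψ : (ι → F) →ₗ[F] L, ∀ v, ψ v = B v w := ⟨B.flip w, fun v => rfl⟩
  have hψv₁ : ψ v₁ = 0 := by rw [hψ, S.symm, hwv₁]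
  have hψsmul : ∀ (c : L) (v : ι → F), ψ (ρ c *ᵥ v) = c * ψ v := by
    intro c v
    rw [hψ, hψ, S.lin]
  have hψP₁ : ∀ p ∈ P₁, ψ p = 0 := by
    intro p hp
    rw [hP₁] at hp
    obtain ⟨c, rfl⟩ := hp
    rw [orb_apply, hψsmul, hψv₁, mul_zero]
  obtain ⟨Y, hY⟩ : ∃ Y : Submodule F L, Y = P'.map ψ := ⟨_, rfl⟩
  obtain ⟨Dt, hDt⟩ : ∃ Dt : Submodule F L, Dt = P'.comap (orb ρ v₁) := ⟨_, rfl⟩
  have hfDt : finrank F ↥Dt = δ := by
    have e : Dt.map (orb ρ v₁) = P₁ ⊓ P' := by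
      rw [hDt, Submodule.map_comap_eq, hP₁]
      rfl
    rw [← hfin, ← e]
    exact (Submodule.equivMapOfInjective _ (orb_injective ρ hv₁.1) Dt).finrank_eq
  -- the Siegel elements x_a
  have hxa : ∀ a : L, ∃ x : GL ι F, x ∈ H ∧ x ∈ Cfsg.isometryGroup F ⇑Q ∧
      ∀ z, B z v₁ = 0 → act x z = z + ρ (a * ψ z) *ᵥ v₁ := by
    intro a
    have hvw : B v₁ (ρ a *ᵥ w) = 0 := by
      rw [B_lin_right S, S.symm, hwv₁, mul_zero]
    obtain ⟨x, hx, -, -, -, hxiso⟩ := exists_sieg S v₁ (ρ a *ᵥ w) hv₁.2 hvw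
    refine ⟨x, hS v₁ (ρ a *ᵥ w) x hv₁.2 hvw hx, hxiso, ?_⟩
    intro z hz
    rw [hx z, hz, mul_zero, rho_zero_mulVec, rho_zero_mulVec, sub_zero, sub_zero, B_lin_right S, hψ]
  -- the key claim
  have claimA : ∀ a : L, ¬ (Y.map (LinearMap.mulLeft F a) ≤ Dt) →
      Y.map (LinearMap.mulLeft F a) ⊓ Dt = ⊥ ∧ P' ⊓ LinearMap.ker ψ = P₁ ⊓ P' := by
    intro a hna
    obtain ⟨x, hxH, hxiso, hx⟩ := hxa a
    have hxP₁ : ∀ p ∈ P₁, act x p = p := by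
      intro p hp
      rw [hx p (hBP₁ p hp), hψP₁ p hp, mul_zero, rho_zero_mulVec, add_zero]
    have hxP' : ∀ u' ∈ P', act x u' = u' + ρ (a * ψ u') *ᵥ v₁ := fun u' hu' => hx u' (hBP' u' hu')
    obtain ⟨c, hcY, hcD⟩ := SetLike.not_le_iff_exists.mp hna
    rw [hY] at hcY
    obtain ⟨y, ⟨u₁, hu₁, rfl⟩, rfl⟩ := hcY
    have hxne : P'.map (actL x) ≠ P' := by
      intro heq
      apply hcD
      have h1 : act x u₁ ∈ P' := by
        rw [← heq]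
        exact ⟨u₁, hu₁, rfl⟩
      rw [hxP' u₁ hu₁] at h1
      have h2 := P'.sub_mem h1 hu₁
      rw [add_sub_cancel_left] at h2
      rw [hDt]
      exact h2
    have hDle : P₁ ⊓ P' ≤ P' ⊓ P'.map (actL x) := by
      rintro p ⟨hp1, hp2⟩
      exact ⟨hp2, ⟨p, hp2, hxP₁ p hp1⟩⟩
    have hImg : Img ρ (x * g₀) v₀ = P'.map (actL x) := by
      rw [Img_mul, hP']
    have hPP : PPair ρ Q B H g₀ (x * g₀) v₀ v₀ := by
      refine ⟨⟨hg₀, H.mul_mem hxH hg₀, hv₀, hv₀, ?_, ?_⟩, ?_⟩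
      · rw [hImg, ← hP']
        exact hxne.symm
      · rw [hImg, ← hP']
        intro hb
        apply hbot
        rw [eq_bot_iff]
        exact le_trans hDle (le_of_eq hb)
      · rw [hImg, ← hP']
        rintro y' hy' _ ⟨u', hu', rfl⟩
        rw [actL_apply, hxP' u' hu', QuadraticMap.polar_add_right, hiso' y' hy' u' hu', zero_add,
          QuadraticMap.polar_comm]
        exact hperp _ (by rw [hP₁]; exact ⟨_, rfl⟩) y' hy'
    have hle := hmax _ _ _ _ hPP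
    rw [hImg, ← hP'] at hle
    have hDeq : P₁ ⊓ P' = P' ⊓ P'.map (actL x) :=
      Submodule.eq_of_le_of_finrank_le hDle (by rw [hfin]; exact hle)
    constructor
    · rw [eq_bot_iff]
      rintro c ⟨hc1, hc2⟩
      rw [hY] at hc1
      obtain ⟨y, ⟨u₂, hu₂, rfl⟩, rfl⟩ := hc1
      rw [hDt] at hc2
      have hc2' : ρ (a * ψ u₂) *ᵥ v₁ ∈ P' := hc2
      have h1 : act x u₂ ∈ P' := by
        rw [hxP' u₂ hu₂]
        exact P'.add_mem hu₂ hc2'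
      have h2 : act x u₂ ∈ P'.map (actL x) := ⟨u₂, hu₂, rfl⟩
      have h3 : act x u₂ ∈ P₁ ⊓ P' := by
        rw [hDeq]
        exact ⟨h1, h2⟩
      have h4 := hψP₁ _ h3.1
      rw [hxP' u₂ hu₂, map_add, hψsmul, hψv₁, mul_zero, add_zero] at h4
      rw [Submodule.mem_bot, LinearMap.mulLeft_apply, h4, mul_zero]
    · apply le_antisymm
      · rintro p ⟨hp1, hp2⟩
        have hp2' : ψ p = 0 := hp2
        have hfix : act x p = p := by
          rw [hxP' p hp1, hp2', mul_zero, rho_zero_mulVec, add_zero]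
        rw [hDeq]
        exact ⟨hp1, ⟨p, hp1, hfix⟩⟩
      · rintro p ⟨hp1, hp2⟩
        exact ⟨hp2, hψP₁ p hp1⟩
  -- Y ≠ ⊥, Dt ≠ ⊥, Dt ≠ ⊤
  have h1Y : (1 : L) ∈ Y := by
    rw [hY]
    exact ⟨u, huP', by rw [hψ]; exact huw⟩
  have hYne : Y ≠ ⊥ := by
    intro h
    rw [h] at h1Y
    exact one_ne_zero ((Submodule.mem_bot F).mp h1Y)
  have hDtne : Dt ≠ ⊥ := by
    intro h
    rw [h, finrank_bot] at hfDt
    omega
  have hDtt : ¬ (⊤ : Submodule F L) ≤ Dt := by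
    intro htop
    apply hne
    apply Submodule.eq_of_le_of_finrank_eq _ (by rw [hfP', hfP₁])
    intro p hp
    rw [hP₁] at hp
    obtain ⟨c, rfl⟩ := hp
    have : c ∈ Dt := htop Submodule.mem_top
    rw [hDt] at this
    exact this
  obtain ⟨c, -, hcD⟩ := SetLike.not_le_iff_exists.mp hDtt
  have hnc : ¬ (Y.map (LinearMap.mulLeft F c) ≤ Dt) := by
    intro hle
    apply hcD
    have : c * 1 ∈ Dt := hle ⟨1, h1Y, rfl⟩
    rwa [mul_one] at this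
  have hkerD := (claimA c hnc).2
  -- finrank Y + δ = r
  have hfY : finrank F ↥Y + δ = r := by
    have hrn := LinearMap.finrank_range_add_finrank_ker (ψ.domRestrict P')
    rw [LinearMap.range_domRestrict, LinearMap.ker_domRestrict, hfP', ← hY] at hrn
    have e : ((LinearMap.ker ψ).comap P'.subtype).map P'.subtype = P' ⊓ LinearMap.ker ψ := by
      rw [Submodule.map_comap_eq, Submodule.range_subtype]
    have h2 : finrank F ↥((LinearMap.ker ψ).comap P'.subtype) = δ := by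
      rw [← hfin, ← hkerD, ← e]
      exact (Submodule.equivMapOfInjective _ P'.subtype_injective _).finrank_eq
    rw [h2] at hrn
    exact hrn
  have hone := Cfsg.H5.S5886.finrank_eq_one_of_dichotomy (by rw [hrk]; exact hr) Y Dt hYne hDtne
    (by rw [hfDt, hrk]; exact hfY)
    (fun a _ => by
      by_cases h : Y.map (LinearMap.mulLeft F a) ≤ Dt
      · exact Or.inr h
      · exact Or.inl (claimA a h).1)
  omega

/-- FO-D1, exact skeleton signature -/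
theorem configA_of_maxP (S : OStr ρ Q τ B) (hr : r.Prime) (hrk : finrank F L = r)
    (H : Subgroup (GL ι F)) (hS : HasSieg ρ B H) (hH : H ≤ Cfsg.isometryGroup F ⇑Q)
    (v₁ v₀ : ι → F) (g₀ : GL ι F) (hmax : MaxP ρ Q B H v₁ v₀ g₀) :
    ConfigA ρ Q B H r v₁ v₀ g₀ :=
  configA_of_maxP_aux S hr hrk
    (fun hv₁ hu hnot b => Cfsg.Agent.Lib.Helper26.S5701GEO.exists_dual1 S hv₁ hu hnot b)
    H hS hH v₁ v₀ g₀ hmax

end Cfsg.Agent.Lib.Helper22.S5701D1
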