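import Mathlib
import Cfsg.Agent.Lib.Helper9.OExtDefs
import Cfsg.Agent.Lib.Helper7.SpExtBas
import Cfsg.Agent.Lib.Helper21.S5664FOBASb
import Cfsg.Agent.Lib.Helper26.S5701FOBAS
import Cfsg.Agent.Lib.Helper26.S5701FOSIEG
import Cfsg.Agent.Lib.Helper26.S5701FOGEOa
import Cfsg.Agent.Lib.Helper15.Witt1

/-!
# S5701 FO-F2, part a : geometry toolkit for the `L`-valued symmetric form
singular vectors in `L`-invariant subspaces (Chevalley–Warning), partners inside the perp of a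
hyperbolic pair, non-perpendicular pairs inside the perp of two hyperbolic pairs.
-/

set_option autoImplicit false
set_option linter.unusedSimpArgs false
set_option linter.unusedVariables false
set_option linter.unusedSectionVars false

namespace Cfsg.Agent.Lib.Helper22.S5701F2

open Matrix Module QuadraticMap Cfsg.Agent.Lib.Helper7.SpExt Cfsg.Agent.Lib.Helper9.OExt
  Cfsg.Agent.Lib.Helper26.S5701BAS Cfsg.Agent.Lib.Helper26.S5701SIEG Cfsg.Agent.Lib.Helper26.S5701GEO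

variable {F : Type*} [Field F] [Fintype F] {L : Type*} [Field L] [Algebra F L] {ι : Type} [Fintype ι]
  [DecidableEq ι] {ρ : L →ₐ[F] Matrix ι ι F} {Q : QuadraticForm F (ι → F)} {τ : L →ₗ[F] F}
  {B : (ι → F) →ₗ[F] (ι → F) →ₗ[F] L} {r : ℕ}

omit [Fintype F] in
theorem rho_inv_cancel (ρ : L →ₐ[F] Matrix ι ι F) {a : L} (ha : a ≠ 0) (v : ι → F) :
    ρ a⁻¹ *ᵥ (ρ a *ᵥ v) = v := by
  rw [← rho_mul_mulVec, inv_mul_cancel₀ ha, rho_one_mulVec]

/-- an `L`-invariant subspace of `F`-dimension `> 2r` contains an `L`-singular vector -/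
theorem exists_lsing_mem (S : OStr ρ Q τ B) (hrk : finrank F L = r) (hr : 0 < r)
    (X : Submodule F (ι → F)) (hX : ∀ (a : L) (x : ι → F), x ∈ X → ρ a *ᵥ x ∈ X)
    (hdim : 2 * r < finrank F X) : ∃ s ∈ X, LSing B s := by
  classical
  have hfin : Module.Finite F L := Module.finite_of_finrank_pos (hrk ▸ hr)
  have hLfin : Finite L := Module.finite_of_finite F
  have hXne : X ≠ ⊥ := by
    intro h
    rw [h, finrank_bot] at hdim
    omega
  obtain ⟨f₁, hf₁X, hf₁⟩ := Submodule.exists_mem_ne_zero_of_ne_bot hXne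
  have hpt : ∀ f ∈ X, pt ρ f ≤ X := by
    rintro f hf _ ⟨a, rfl⟩
    exact hX a f hf
  have hf1 : finrank F ↥(pt ρ f₁) = r := Cfsg.Agent.Lib.Helper21.S5664BASb.finrank_pt ρ hrk hr hf₁
  have hn1 : ¬ X ≤ pt ρ f₁ := fun hle => by
    have := Submodule.finrank_mono hle
    omega
  obtain ⟨f₂, hf₂X, hf₂⟩ := SetLike.not_le_iff_exists.mp hn1
  have hf₂0 : f₂ ≠ 0 := fun h => hf₂ (h ▸ zero_mem _)
  have hf2 : finrank F ↥(pt ρ f₂) = r := Cfsg.Agent.Lib.Helper21.S5664BASb.finrank_pt ρ hrk hr hf₂0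
  have hsup : finrank F ↥(pt ρ f₁ ⊔ pt ρ f₂) ≤ 2 * r := by
    have := Submodule.finrank_add_le_finrank_add_finrank (pt ρ f₁) (pt ρ f₂)
    omega
  have hn2 : ¬ X ≤ pt ρ f₁ ⊔ pt ρ f₂ := fun hle => by
    have := Submodule.finrank_mono hle
    omega
  obtain ⟨f₃, hf₃X, hf₃⟩ := SetLike.not_le_iff_exists.mp hn2
  -- the ternary form
  obtain ⟨f, hf⟩ : ∃ f : Fin 3 → (ι → F), f = ![f₁, f₂, f₃] := ⟨_, rfl⟩
  obtain ⟨M, hM⟩ : ∃ M : Matrix (Fin 3) (Fin 3) L, M = Matrix.of fun i j => B (f i) (f j) :=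
    ⟨_, rfl⟩
  obtain ⟨x, hx0, hx⟩ := Cfsg.Agent.Lib.Helper15.exists_singular_of_three_le_finrank
    (Matrix.toQuadraticForm' M) (by simp)
  refine ⟨ρ (x 0) *ᵥ f₁ + ρ (x 1) *ᵥ f₂ + ρ (x 2) *ᵥ f₃,
    X.add_mem (X.add_mem (hX _ _ hf₁X) (hX _ _ hf₂X)) (hX _ _ hf₃X), ?_, ?_⟩
  · intro h0
    by_cases h2 : x 2 = 0
    · by_cases h1 : x 1 = 0
      · have h00 : x 0 ≠ 0 := by
          intro h
          apply hx0
          ext i
          fin_cases i
          · exact h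
          · exact h1
          · exact h2
        rw [h2, h1, rho_zero_mulVec, rho_zero_mulVec, add_zero, add_zero] at h0
        apply hf₁
        rw [← rho_inv_cancel ρ h00 f₁, h0, mulVec_zero]
      · apply hf₂
        rw [h2, rho_zero_mulVec, add_zero] at h0
        have e : ρ (x 1) *ᵥ f₂ = -(ρ (x 0) *ᵥ f₁) := by
          rw [eq_neg_iff_add_eq_zero, add_comm]
          exact h0
        rw [← rho_inv_cancel ρ h1 f₂, e, mulVec_neg, ← rho_mul_mulVec, ← rho_neg_mulVec]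
        exact ⟨_, rfl⟩
    · apply hf₃
      have e : ρ (x 2) *ᵥ f₃ = -(ρ (x 0) *ᵥ f₁ + ρ (x 1) *ᵥ f₂) := by
        rw [eq_neg_iff_add_eq_zero, add_comm]
        exact h0
      rw [← rho_inv_cancel ρ h2 f₃, e, mulVec_neg, mulVec_add, ← rho_mul_mulVec, ← rho_mul_mulVec]
      apply Submodule.neg_mem
      exact Submodule.add_mem _ (Submodule.mem_sup_left ⟨_, rfl⟩) (Submodule.mem_sup_right ⟨_, rfl⟩)
  · have hx' : Matrix.toQuadraticForm' M x = 0 := hx
    unfold Matrix.toQuadraticForm' at hx'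
    rw [LinearMap.BilinMap.toQuadraticMap_apply, Matrix.toLinearMap₂'_apply] at hx'
    simp only [Fin.sum_univ_three, hM, Matrix.of_apply, hf, Matrix.cons_val_zero,
      Matrix.cons_val_one, Matrix.cons_val_two, smul_eq_mul] at hx'
    simp only [map_add, LinearMap.add_apply, S.lin, B_lin_right S]
    simp only [Matrix.head_cons, Matrix.tail_cons, Matrix.cons_val] at hx'
    linear_combination hx'

/-- a singular vector perpendicular to three given vectors -/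
theorem exists_lsing_perp3 (S : OStr ρ Q τ B) (hrk : finrank F L = r) (hr : 0 < r)
    (hn : 5 * r < Fintype.card ι) (e₁ e₂ e₃ : ι → F) :
    ∃ s, LSing B s ∧ B s e₁ = 0 ∧ B s e₂ = 0 ∧ B s e₃ = 0 := by
  have hfin : Module.Finite F L := Module.finite_of_finrank_pos (hrk ▸ hr)
  obtain ⟨φ, hφ⟩ : ∃ φ : (ι → F) →ₗ[F] (L × L) × L,
      φ = ((B.flip e₁).prod (B.flip e₂)).prod (B.flip e₃) := ⟨_, rfl⟩
  have hmem : ∀ x, x ∈ LinearMap.ker φ ↔ B x e₁ = 0 ∧ B x e₂ = 0 ∧ B x e₃ = 0 := by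
    intro x
    rw [hφ]
    simp only [LinearMap.ker_prod, Submodule.mem_inf, LinearMap.mem_ker, LinearMap.flip_apply,
      and_assoc]
  have hdim : 2 * r < finrank F ↥(LinearMap.ker φ) := by
    have h1 := LinearMap.finrank_range_add_finrank_ker φ
    have h2 : finrank F ↥(LinearMap.range φ) ≤ 3 * r := by
      have := Submodule.finrank_le (LinearMap.range φ)
      rw [Module.finrank_prod, Module.finrank_prod, hrk] at this
      omega
    rw [Module.finrank_pi, Fintype.card] at h1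
    rw [Fintype.card] at hn
    omega
  obtain ⟨s, hsX, hs⟩ := exists_lsing_mem S hrk hr (LinearMap.ker φ) (by
    intro a x hx
    rw [hmem] at hx ⊢
    rw [S.lin, S.lin, S.lin, hx.1, hx.2.1, hx.2.2, mul_zero]
    exact ⟨rfl, rfl, rfl⟩) hdim
  exact ⟨s, hs, (hmem s).mp hsX⟩

/-- a singular partner inside the perp of a hyperbolic pair -/
theorem exists_partner_perp (S : OStr ρ Q τ B) {v₁ v₂ s : ι → F} (hv₁ : B v₁ v₁ = 0)
    (hv₂ : B v₂ v₂ = 0) (h12 : B v₁ v₂ = 1) (hs : LSing B s) (hs1 : B s v₁ = 0) (hs2 : B s v₂ = 0) :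
    ∃ s', LSing B s' ∧ B s s' = 1 ∧ B s' v₁ = 0 ∧ B s' v₂ = 0 := by
  have h2 := two_ne_zero_L S
  have h21 : B v₂ v₁ = 1 := by rw [S.symm, h12]
  have h1s : B v₁ s = 0 := by rw [S.symm, hs1]
  have h2s : B v₂ s = 0 := by rw [S.symm, hs2]
  obtain ⟨w, hw⟩ := B_nondeg S hs.1
  obtain ⟨w', hw'⟩ : ∃ w' : ι → F, w' = w - ρ (B w v₂) *ᵥ v₁ - ρ (B w v₁) *ᵥ v₂ := ⟨_, rfl⟩
  have e1 : B w' v₁ = 0 := by
    rw [hw']
    simp only [map_sub, LinearMap.sub_apply, S.lin, hv₁, h21, mul_zero, mul_one, sub_zero, sub_self]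
  have e2 : B w' v₂ = 0 := by
    rw [hw']
    simp only [map_sub, LinearMap.sub_apply, S.lin, hv₂, h12, mul_zero, mul_one, sub_zero, sub_self]
  have e3 : B s w' = 1 := by
    rw [hw']
    simp only [map_sub, B_lin_right S, hs1, hs2, mul_zero, sub_zero, hw]
  have e3' : B w' s = 1 := by rw [S.symm, e3]
  refine ⟨w' - ρ (B w' w' / 2) *ᵥ s, ⟨?_, ?_⟩, ?_, ?_, ?_⟩
  · intro h0
    have : B s (w' - ρ (B w' w' / 2) *ᵥ s) = 1 := by
      rw [map_sub, B_lin_right S, hs.2, mul_zero, sub_zero, e3]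
    rw [h0, map_zero] at this
    exact zero_ne_one this
  · simp only [map_sub, LinearMap.sub_apply, S.lin, B_lin_right S, hs.2, e3, e3', mul_zero, mul_one,
      sub_zero]
    field_simp
    ring
  · rw [map_sub, B_lin_right S, hs.2, mul_zero, sub_zero, e3]
  · rw [map_sub, LinearMap.sub_apply, S.lin, e1, hs1, mul_zero, sub_zero]
  · rw [map_sub, LinearMap.sub_apply, S.lin, e2, hs2, mul_zero, sub_zero]

/-- two non-perpendicular vectors inside the perp of two orthogonal hyperbolic pairs -/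
theorem exists_pair_perp4 (S : OStr ρ Q τ B) (hrk : finrank F L = r) (hr : 0 < r)
    (hn : 4 * r < Fintype.card ι) {v₁ v₂ s s' : ι → F} (hv₁ : B v₁ v₁ = 0)
    (hv₂ : B v₂ v₂ = 0) (h12 : B v₁ v₂ = 1) (hs : B s s = 0) (hs' : B s' s' = 0) (hss' : B s s' = 1)
    (hs1 : B s v₁ = 0) (hs2 : B s v₂ = 0) (hs'1 : B s' v₁ = 0) (hs'2 : B s' v₂ = 0) :
    ∃ x y, B x y = 1 ∧ (B x v₁ = 0 ∧ B x v₂ = 0 ∧ B x s = 0 ∧ B x s' = 0) ∧
      (B y v₁ = 0 ∧ B y v₂ = 0 ∧ B y s = 0 ∧ B y s' = 0) := by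
  have hfin : Module.Finite F L := Module.finite_of_finrank_pos (hrk ▸ hr)
  have h21 : B v₂ v₁ = 1 := by rw [S.symm, h12]
  have hs's : B s' s = 1 := by rw [S.symm, hss']
  have h1s : B v₁ s = 0 := by rw [S.symm, hs1]
  have h2s : B v₂ s = 0 := by rw [S.symm, hs2]
  have h1s' : B v₁ s' = 0 := by rw [S.symm, hs'1]
  have h2s' : B v₂ s' = 0 := by rw [S.symm, hs'2]
  obtain ⟨φ, hφ⟩ : ∃ φ : (ι → F) →ₗ[F] ((L × L) × L) × L,
      φ = (((B.flip v₁).prod (B.flip v₂)).prod (B.flip s)).prod (B.flip s') := ⟨_, rfl⟩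
  have hmem : ∀ x, x ∈ LinearMap.ker φ ↔ B x v₁ = 0 ∧ B x v₂ = 0 ∧ B x s = 0 ∧ B x s' = 0 := by
    intro x
    rw [hφ]
    simp only [LinearMap.ker_prod, Submodule.mem_inf, LinearMap.mem_ker, LinearMap.flip_apply,
      and_assoc]
  have hdim : 0 < finrank F ↥(LinearMap.ker φ) := by
    have h1 := LinearMap.finrank_range_add_finrank_ker φ
    have h2 : finrank F ↥(LinearMap.range φ) ≤ 4 * r := by
      have := Submodule.finrank_le (LinearMap.range φ)
      rw [Module.finrank_prod, Module.finrank_prod, Module.finrank_prod, hrk] at this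
      omega
    rw [Module.finrank_pi, Fintype.card] at h1
    rw [Fintype.card] at hn
    omega
  have hne : LinearMap.ker φ ≠ ⊥ := by
    intro h
    rw [h, finrank_bot] at hdim
    exact lt_irrefl _ hdim
  obtain ⟨x, hxX, hx0⟩ := Submodule.exists_mem_ne_zero_of_ne_bot hne
  obtain ⟨hx1, hx2, hx3, hx4⟩ := (hmem x).mp hxX
  obtain ⟨y₀, hy₀⟩ := B_nondeg S hx0
  refine ⟨x, y₀ - ρ (B y₀ v₂) *ᵥ v₁ - ρ (B y₀ v₁) *ᵥ v₂ - ρ (B y₀ s') *ᵥ s - ρ (B y₀ s) *ᵥ s',
    ?_, ⟨hx1, hx2, hx3, hx4⟩, ?_, ?_, ?_, ?_⟩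
  · simp only [map_sub, B_lin_right S, hx1, hx2, hx3, hx4, mul_zero, sub_zero, hy₀]
  · simp only [map_sub, LinearMap.sub_apply, S.lin, hv₁, h21, hs1, hs'1, mul_zero, mul_one, sub_zero,
      sub_self]
  · simp only [map_sub, LinearMap.sub_apply, S.lin, hv₂, h12, hs2, hs'2, mul_zero, mul_one, sub_zero,
      sub_self]
  · simp only [map_sub, LinearMap.sub_apply, S.lin, h1s, h2s, hs, hs's, mul_zero, mul_one, sub_zero,
      sub_self]
  · simp only [map_sub, LinearMap.sub_apply, S.lin, h1s', h2s', hs', hss', mul_zero, mul_one, sub_zero,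
      sub_self]

end Cfsg.Agent.Lib.Helper22.S5701F2
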