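import Mathlib
import Cfsg.Agent.Lib.Helper22.S5701FOF2a
import Cfsg.Agent.Lib.Helper15.S5701FOF0

/-!
# S5701 FO-F2, part b : the root group of `v₁` contains all `ρ_{v₁,b}`, `b ⟂_L v₁`
-/

set_option autoImplicit false
set_option linter.unusedSimpArgs false
set_option linter.unusedVariables false
set_option linter.unusedSectionVars false

namespace Cfsg.Agent.Lib.Helper22.S5701F2

open Matrix Module QuadraticMap Cfsg.Agent.Lib.Helper7.SpExt Cfsg.Agent.Lib.Helper9.OExt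
  Cfsg.Agent.Lib.Helper6 Cfsg.Agent.Lib.Helper13
  Cfsg.Agent.Lib.Helper26.S5701BAS Cfsg.Agent.Lib.Helper26.S5701SIEG Cfsg.Agent.Lib.Helper26.S5701GEO
  Cfsg.Agent.Lib.Helper15.S5701F0

variable {F : Type*} [Field F] [Fintype F] {L : Type*} [Field L] [Algebra F L] {ι : Type} [Fintype ι]
  [DecidableEq ι] {ρ : L →ₐ[F] Matrix ι ι F} {Q : QuadraticForm F (ι → F)} {τ : L →ₗ[F] F}
  {B : (ι → F) →ₗ[F] (ι → F) →ₗ[F] L} {r : ℕ}

/-- `b ⟂_L v₁` and `ρ_{v₁,b} ∈ H` -/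
def RR (Q : QuadraticForm F (ι → F)) (B : (ι → F) →ₗ[F] (ι → F) →ₗ[F] L) (H : Subgroup (GL ι F))
    (v₁ b : ι → F) : Prop :=
  B b v₁ = 0 ∧ SiegIn Q H v₁ b

theorem Q_of_sing (S : OStr ρ Q τ B) {v : ι → F} (hv : B v v = 0) : Q v = 0 := by
  rw [Q_eq S, hv, map_zero, mul_zero]

theorem polar_of_perp (S : OStr ρ Q τ B) {v b : ι → F} (hb : B b v = 0) : polar (⇑Q) v b = 0 := by
  rw [S.tr, S.symm, hb, map_zero]

theorem RR.add (S : OStr ρ Q τ B) {H : Subgroup (GL ι F)} {v₁ b b' : ι → F} (hv₁ : B v₁ v₁ = 0)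
    (h : RR Q B H v₁ b) (h' : RR Q B H v₁ b') : RR Q B H v₁ (b + b') := by
  refine ⟨by rw [map_add, LinearMap.add_apply, h.1, h'.1, add_zero], ?_⟩
  exact SiegIn.add (Q_of_sing S hv₁) (polar_of_perp S h.1) (polar_of_perp S h'.1) h.2 h'.2

theorem RR.neg (S : OStr ρ Q τ B) {H : Subgroup (GL ι F)} {v₁ b : ι → F} (hv₁ : B v₁ v₁ = 0)
    (h : RR Q B H v₁ b) : RR Q B H v₁ (-b) := by
  refine ⟨by rw [map_neg, LinearMap.neg_apply, h.1, neg_zero], ?_⟩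
  exact SiegIn.neg (Q_of_sing S hv₁) (polar_of_perp S h.1) h.2

theorem RR.sub (S : OStr ρ Q τ B) {H : Subgroup (GL ι F)} {v₁ b b' : ι → F} (hv₁ : B v₁ v₁ = 0)
    (h : RR Q B H v₁ b) (h' : RR Q B H v₁ b') : RR Q B H v₁ (b - b') := by
  rw [sub_eq_add_neg]
  exact RR.add S hv₁ h (RR.neg S hv₁ h')

theorem RR.map (S : OStr ρ Q τ B) {H : Subgroup (GL ι F)} {v₁ b : ι → F} (hv₁ : B v₁ v₁ = 0)
    {k : GL ι F} (hk : k ∈ H) (hkQ : k ∈ Cfsg.isometryGroup F ⇑Q)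
    (hkB : ∀ x y, B (act k x) (act k y) = B x y) (hkv : act k v₁ = v₁)
    (h : RR Q B H v₁ b) : RR Q B H v₁ (act k b) := by
  refine ⟨?_, ?_⟩
  · have := hkB b v₁
    rw [hkv] at this
    rw [this, h.1]
  · have := SiegIn.conj hk hkQ (Q_of_sing S hv₁) (polar_of_perp S h.1) h.2
    rw [hkv] at this
    exact this

/-- the `L`-Siegel element `x_{s,t}` for `s, t ⟂_L v₁`: it lies in `H` and fixes `v₁` -/
theorem exists_sieg_fix (S : OStr ρ Q τ B) (H : Subgroup (GL ι F)) (hS : HasSieg ρ B H)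
    {v₁ s t : ι → F} (hs : B s s = 0) (hst : B s t = 0) (hs1 : B s v₁ = 0) (ht1 : B t v₁ = 0) :
    ∃ k : GL ι F, k ∈ H ∧ k ∈ Cfsg.isometryGroup F ⇑Q ∧
      (∀ x y, B (act k x) (act k y) = B x y) ∧ act k v₁ = v₁ ∧
      ∀ x, act k x = x + ρ (B x t) *ᵥ s - ρ (B x s) *ᵥ t - ρ (B t t / 2 * B x s) *ᵥ s := by
  obtain ⟨k, hk, -, -, hkB, hkQ⟩ := exists_sieg S s t hs hst
  refine ⟨k, hS s t k hs hst hk, hkQ, hkB, ?_, hk⟩
  rw [hk v₁, S.symm v₁ t, ht1, S.symm v₁ s, hs1, mul_zero, rho_zero_mulVec, rho_zero_mulVec, add_zero,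
    sub_zero, sub_zero]

/-- Step 2: from one singular line to everything -/
theorem RR_all_of_line (S : OStr ρ Q τ B) (hrk : finrank F L = r) (hr : 0 < r)
    (hn : 4 * r < Fintype.card ι) (H : Subgroup (GL ι F)) (hS : HasSieg ρ B H)
    {v₁ v₂ : ι → F} (hv₁ : B v₁ v₁ = 0) (hv₂ : B v₂ v₂ = 0) (h12 : B v₁ v₂ = 1)
    (hRv : ∀ c : L, RR Q B H v₁ (ρ c *ᵥ v₁))
    {s : ι → F} (hs : LSing B s) (hs1 : B s v₁ = 0) (hs2 : B s v₂ = 0)
    (hRs : ∀ c : L, RR Q B H v₁ (ρ c *ᵥ s)) :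
    ∀ b, B b v₁ = 0 → RR Q B H v₁ b := by
  have h2L := two_ne_zero_L S
  obtain ⟨s', hs', hss', hs'1, hs'2⟩ := exists_partner_perp S hv₁ hv₂ h12 hs hs1 hs2
  have hs's : B s' s = 1 := by rw [S.symm, hss']
  obtain ⟨t₁, t₂, ht12, ⟨ht₁1, ht₁2, ht₁s, ht₁s'⟩, ⟨ht₂1, ht₂2, ht₂s, ht₂s'⟩⟩ :=
    exists_pair_perp4 S hrk hr hn hv₁ hv₂ h12 hs.2 hs'.2 hss' hs1 hs2 hs'1 hs'2
  -- `T' ⊆ R`
  have hT : ∀ t, B t v₁ = 0 → B t s = 0 → B t s' = 0 → RR Q B H v₁ (t + t) := by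
    intro t ht1 hts hts'
    -- first `t + t ∈ R`
    have key : ∀ t, B t v₁ = 0 → B t s = 0 → B t s' = 0 →
        RR Q B H v₁ (s - t - ρ (B t t / 2) *ᵥ s') := by
      intro t ht1 hts hts'
      have hs't : B s' t = 0 := by rw [S.symm, hts']
      have hst : B s t = 0 := by rw [S.symm, hts]
      obtain ⟨k, hk, hkQ, hkB, hkv, hkx⟩ := exists_sieg_fix S H hS hs'.2 hs't hs'1 ht1
      have := RR.map S hv₁ hk hkQ hkB hkv (by simpa [rho_one_mulVec] using hRs 1)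
      rw [hkx s, hst, hss', rho_zero_mulVec, add_zero, rho_one_mulVec, mul_one] at this
      exact this
    have h1 := key t ht1 hts hts'
    have h2 := key (-t) (by rw [map_neg, LinearMap.neg_apply, ht1, neg_zero])
      (by rw [map_neg, LinearMap.neg_apply, hts, neg_zero])
      (by rw [map_neg, LinearMap.neg_apply, hts', neg_zero])
    have e : B (-t) (-t) = B t t := by
      rw [map_neg, map_neg, LinearMap.neg_apply, neg_neg]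
    rw [e] at h2
    have h3 := RR.sub S hv₁ h2 h1
    have e2 : s - -t - ρ (B t t / 2) *ᵥ s' - (s - t - ρ (B t t / 2) *ᵥ s') = t + t := by abel
    rw [e2] at h3
    exact h3
  have hT' : ∀ t, B t v₁ = 0 → B t s = 0 → B t s' = 0 → RR Q B H v₁ t := by
    intro t ht1 hts hts'
    have h := hT ((2 : F)⁻¹ • t) (by rw [map_smul, LinearMap.smul_apply, ht1, smul_zero])
      (by rw [map_smul, LinearMap.smul_apply, hts, smul_zero])
      (by rw [map_smul, LinearMap.smul_apply, hts', smul_zero])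
    have e : (2 : F)⁻¹ • t + (2 : F)⁻¹ • t = t := by
      rw [← add_smul, ← two_mul, mul_inv_cancel₀ S.two, one_smul]
    rw [e] at h
    exact h
  -- `L s' ⊆ R`
  have hRs' : ∀ c : L, RR Q B H v₁ (ρ c *ᵥ s') := by
    intro c
    have hs't₂ : B s' t₂ = 0 := by rw [S.symm, ht₂s']
    obtain ⟨k, hk, hkQ, hkB, hkv, hkx⟩ := exists_sieg_fix S H hS hs'.2 hs't₂ hs'1 ht₂1
    have hct : RR Q B H v₁ (ρ c *ᵥ t₁) := hT' _ (by rw [S.lin, ht₁1, mul_zero])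
      (by rw [S.lin, ht₁s, mul_zero]) (by rw [S.lin, ht₁s', mul_zero])
    have h1 := RR.map S hv₁ hk hkQ hkB hkv hct
    rw [hkx, S.lin, S.lin, ht12, ht₁s', mul_zero, mul_zero, rho_zero_mulVec, rho_zero_mulVec, sub_zero,
      sub_zero, mul_one] at h1
    have h2 := RR.sub S hv₁ h1 hct
    rw [add_sub_cancel_left] at h2
    exact h2
  -- decomposition
  intro b hb1
  obtain ⟨t, ht⟩ : ∃ t : ι → F, t = b - ρ (B b v₂) *ᵥ v₁ - ρ (B b s') *ᵥ s - ρ (B b s) *ᵥ s' :=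
    ⟨_, rfl⟩
  have h1s : B v₁ s = 0 := by rw [S.symm, hs1]
  have h1s' : B v₁ s' = 0 := by rw [S.symm, hs'1]
  have ht1 : B t v₁ = 0 := by
    rw [ht]
    simp only [map_sub, LinearMap.sub_apply, S.lin, hb1, hv₁, hs1, hs'1, mul_zero, sub_zero]
  have hts : B t s = 0 := by
    rw [ht]
    simp only [map_sub, LinearMap.sub_apply, S.lin, h1s, hs.2, hs's, mul_zero, mul_one, sub_zero,
      sub_self]
  have hts' : B t s' = 0 := by
    rw [ht]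
    simp only [map_sub, LinearMap.sub_apply, S.lin, h1s', hs'.2, hss', mul_zero, mul_one, sub_zero,
      sub_self]
  have e : b = t + ρ (B b v₂) *ᵥ v₁ + ρ (B b s') *ᵥ s + ρ (B b s) *ᵥ s' := by
    rw [ht]
    abel
  rw [e]
  exact RR.add S hv₁ (RR.add S hv₁ (RR.add S hv₁ (hT' t ht1 hts hts') (hRv _)) (hRs _)) (hRs' _)

/-- Step 1: from one vector `z ∈ ⟨v₁,v₂⟩^⊥` to a singular line -/
theorem exists_line_of_mem (S : OStr ρ Q τ B) (hrk : finrank F L = r) (hr : 0 < r)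
    (hn : 5 * r < Fintype.card ι) (H : Subgroup (GL ι F)) (hS : HasSieg ρ B H)
    {v₁ v₂ : ι → F} (hv₁ : B v₁ v₁ = 0) (hv₂ : B v₂ v₂ = 0) (h12 : B v₁ v₂ = 1)
    {z : ι → F} (hz0 : z ≠ 0) (hz1 : B z v₁ = 0) (hz2 : B z v₂ = 0) (hRz : RR Q B H v₁ z) :
    ∃ s, LSing B s ∧ B s v₁ = 0 ∧ B s v₂ = 0 ∧ ∀ c : L, RR Q B H v₁ (ρ c *ᵥ s) := by
  have h2L := two_ne_zero_L S
  by_cases hzz : B z z = 0
  · -- `z` singular
    have hz : LSing B z := ⟨hz0, hzz⟩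
    obtain ⟨z', hz', hzz', hz'1, hz'2⟩ := exists_partner_perp S hv₁ hv₂ h12 hz hz1 hz2
    obtain ⟨t₁, t₂, ht12, ⟨ht₁1, ht₁2, ht₁z, ht₁z'⟩, ⟨ht₂1, ht₂2, ht₂z, ht₂z'⟩⟩ :=
      exists_pair_perp4 S hrk hr (by omega) hv₁ hv₂ h12 hzz hz'.2 hzz' hz1 hz2 hz'1 hz'2
    have hg : ∀ t, B t v₁ = 0 → B t z = 0 → B t z' = 0 →
        RR Q B H v₁ (t + ρ (B t t / 2) *ᵥ z') := by
      intro t ht1 htz htz'
      have hz't : B z' t = 0 := by rw [S.symm, htz']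
      have hzt : B z t = 0 := by rw [S.symm, htz]
      obtain ⟨k, hk, hkQ, hkB, hkv, hkx⟩ := exists_sieg_fix S H hS hz'.2 hz't hz'1 ht1
      have h1 := RR.map S hv₁ hk hkQ hkB hkv hRz
      rw [hkx z, hzt, hzz', rho_zero_mulVec, add_zero, rho_one_mulVec, mul_one] at h1
      have h2 := RR.sub S hv₁ hRz h1
      have e : z - (z - t - ρ (B t t / 2) *ᵥ z') = t + ρ (B t t / 2) *ᵥ z' := by abel
      rw [e] at h2
      exact h2
    refine ⟨z', hz', hz'1, hz'2, ?_⟩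
    intro c
    have p1 : B (ρ c *ᵥ t₁) v₁ = 0 := by rw [S.lin, ht₁1, mul_zero]
    have p2 : B (ρ c *ᵥ t₁) z = 0 := by rw [S.lin, ht₁z, mul_zero]
    have p3 : B (ρ c *ᵥ t₁) z' = 0 := by rw [S.lin, ht₁z', mul_zero]
    have h12' := hg (ρ c *ᵥ t₁ + t₂)
      (by rw [map_add, LinearMap.add_apply, p1, ht₂1, add_zero])
      (by rw [map_add, LinearMap.add_apply, p2, ht₂z, add_zero])
      (by rw [map_add, LinearMap.add_apply, p3, ht₂z', add_zero])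
    have h1' := hg (ρ c *ᵥ t₁) p1 p2 p3
    have h2' := hg t₂ ht₂1 ht₂z ht₂z'
    have h3 := RR.sub S hv₁ (RR.sub S hv₁ h12' h1') h2'
    have ht21 : B t₂ t₁ = 1 := by rw [S.symm, ht12]
    have e : ρ c *ᵥ t₁ + t₂ + ρ (B (ρ c *ᵥ t₁ + t₂) (ρ c *ᵥ t₁ + t₂) / 2) *ᵥ z' -
        (ρ c *ᵥ t₁ + ρ (B (ρ c *ᵥ t₁) (ρ c *ᵥ t₁) / 2) *ᵥ z') - (t₂ + ρ (B t₂ t₂ / 2) *ᵥ z') =
        ρ (B (ρ c *ᵥ t₁ + t₂) (ρ c *ᵥ t₁ + t₂) / 2 - B (ρ c *ᵥ t₁) (ρ c *ᵥ t₁) / 2 - B t₂ t₂ / 2)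
          *ᵥ z' := by
      rw [rho_sub_mulVec, rho_sub_mulVec]
      abel
    rw [e] at h3
    have e2 : B (ρ c *ᵥ t₁ + t₂) (ρ c *ᵥ t₁ + t₂) / 2 - B (ρ c *ᵥ t₁) (ρ c *ᵥ t₁) / 2 - B t₂ t₂ / 2
        = c := by
      simp only [map_add, LinearMap.add_apply, S.lin, B_lin_right S, ht12, ht21, mul_one]
      field_simp
      ring
    rw [e2] at h3
    exact h3
  · -- `z` nonsingular
    obtain ⟨s, hs, hs1, hs2, hsz⟩ := exists_lsing_perp3 S hrk hr hn v₁ v₂ z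
    refine ⟨s, hs, hs1, hs2, ?_⟩
    intro c
    have hzs : B z s = 0 := by rw [S.symm, hsz]
    have hst : B s (ρ (c / B z z) *ᵥ z) = 0 := by rw [B_lin_right S, hsz, mul_zero]
    have ht1 : B (ρ (c / B z z) *ᵥ z) v₁ = 0 := by rw [S.lin, hz1, mul_zero]
    obtain ⟨k, hk, hkQ, hkB, hkv, hkx⟩ := exists_sieg_fix S H hS hs.2 hst hs1 ht1
    have h1 := RR.map S hv₁ hk hkQ hkB hkv hRz
    rw [hkx z, B_lin_right S, hzs, mul_zero, rho_zero_mulVec, rho_zero_mulVec, sub_zero, sub_zero,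
      div_mul_cancel₀ c hzz] at h1
    have h2 := RR.sub S hv₁ h1 hRz
    rw [add_sub_cancel_left] at h2
    exact h2

/-- (i): all `ρ_{v₁,b}`, `b ⟂_L v₁`, lie in `H` -/
theorem RR_all (S : OStr ρ Q τ B) (hrk : finrank F L = r) (hr : 0 < r)
    (hn : 5 * r < Fintype.card ι) (H : Subgroup (GL ι F)) (hS : HasSieg ρ B H)
    {v₁ u : ι → F} (hv₁ : LSing B v₁) (hu : B u v₁ = 0) (hnot : u ∉ pt ρ v₁)
    (hZ : SiegIn Q H v₁ u) (hZ1 : ∀ a b : L, SiegIn Q H (ρ a *ᵥ v₁) (ρ b *ᵥ v₁)) :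
    ∀ b, B b v₁ = 0 → SiegIn Q H v₁ b := by
  obtain ⟨v₂, hv₂, h12⟩ := exists_partner S hv₁
  have hRv : ∀ c : L, RR Q B H v₁ (ρ c *ᵥ v₁) := by
    intro c
    refine ⟨by rw [S.lin, hv₁.2, mul_zero], ?_⟩
    have := hZ1 1 c
    rw [rho_one_mulVec] at this
    exact this
  have hRu : RR Q B H v₁ u := ⟨hu, hZ⟩
  have hRz : RR Q B H v₁ (u - ρ (B u v₂) *ᵥ v₁) := RR.sub S hv₁.2 hRu (hRv _)
  have hz0 : u - ρ (B u v₂) *ᵥ v₁ ≠ 0 := by
    intro h0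
    apply hnot
    rw [sub_eq_zero] at h0
    rw [h0]
    exact ⟨_, rfl⟩
  have hz2 : B (u - ρ (B u v₂) *ᵥ v₁) v₂ = 0 := by
    rw [map_sub, LinearMap.sub_apply, S.lin, h12, mul_one, sub_self]
  obtain ⟨s, hs, hs1, hs2, hRs⟩ := exists_line_of_mem S hrk hr hn H hS hv₁.2 hv₂.2 h12 hz0 hRz.1 hz2 hRz
  intro b hb
  exact (RR_all_of_line S hrk hr (by omega) H hS hv₁.2 hv₂.2 h12 hRv hs hs1 hs2 hRs b hb).2

end Cfsg.Agent.Lib.Helper22.S5701F2
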