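import Mathlib
import Cfsg.Agent.Lib.Helper22.S5701FOF2b

/-!
# S5701 FO-F2, part c : `sieg_swap`, `sieg_comm` over a general index type, the kernel of `τ` for `r = 2`
-/

set_option autoImplicit false
set_option linter.unusedSimpArgs false
set_option linter.unusedVariables false
set_option linter.unusedSectionVars false

namespace Cfsg.Agent.Lib.Helper22.S5701F2

open Matrix Module QuadraticMap Cfsg.Agent.Lib.Helper7.SpExt Cfsg.Agent.Lib.Helper9.OExt
  Cfsg.Agent.Lib.Helper6

section siegel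
variable {F : Type*} [Field F] {ι : Type} [Fintype ι] [DecidableEq ι]

/-- `ρ_{u, a c} = ρ_{c, -a u}` for a totally singular pair -/
theorem sieg_swap' (Q : QuadraticForm F (ι → F)) (u c : ι → F) (a : F) (hu : Q u = 0) (hc : Q c = 0) :
    sieg Q u (a • c) = sieg Q c ((-a) • u) := by
  apply matrix_ext_mulVec
  intro x
  rw [sieg_mulVec, sieg_mulVec, Q_smul, Q_smul, hu, hc]
  simp only [polar_smul_left, smul_eq_mul, mul_zero, zero_mul, sub_zero, smul_smul]
  ext i
  simp only [Pi.add_apply, Pi.smul_apply, smul_eq_mul]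
  ring

/-- the commutator `[ρ_{u,ac}, ρ_{f,bc'}] = ρ_{u,abc'}` -/
theorem sieg_comm' (Q : QuadraticForm F (ι → F)) (u c c' f : ι → F) (a b : F)
    (hu : Q u = 0) (hc : Q c = 0) (hc' : Q c' = 0) (hf : Q f = 0)
    (huc : polar (⇑Q) u c = 0) (huc' : polar (⇑Q) u c' = 0) (hcc' : polar (⇑Q) c c' = 0)
    (hcf : polar (⇑Q) c f = 1) (huf : polar (⇑Q) u f = 0) (hc'f : polar (⇑Q) c' f = 0) :
    sieg Q u (a • c) * sieg Q f (b • c') * sieg Q u (-(a • c)) * sieg Q f (-(b • c')) =
      sieg Q u ((a * b) • c') := by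
  have hcu : polar (⇑Q) c u = 0 := by rw [polar_comm]; exact huc
  have hc'u : polar (⇑Q) c' u = 0 := by rw [polar_comm]; exact huc'
  have hc'c : polar (⇑Q) c' c = 0 := by rw [polar_comm]; exact hcc'
  have hfc : polar (⇑Q) f c = 1 := by rw [polar_comm]; exact hcf
  have hfu : polar (⇑Q) f u = 0 := by rw [polar_comm]; exact huf
  have hfc' : polar (⇑Q) f c' = 0 := by rw [polar_comm]; exact hc'f
  have huu : polar (⇑Q) u u = 0 := by rw [polar_self, hu, smul_zero]
  have hcc : polar (⇑Q) c c = 0 := by rw [polar_self, hc, smul_zero]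
  have hc'c' : polar (⇑Q) c' c' = 0 := by rw [polar_self, hc', smul_zero]
  have hff : polar (⇑Q) f f = 0 := by rw [polar_self, hf, smul_zero]
  have hQac : Q (a • c) = 0 := by rw [QuadraticMap.map_smul, hc, smul_zero]
  have hQbc' : Q (b • c') = 0 := by rw [QuadraticMap.map_smul, hc', smul_zero]
  have hQabc' : Q ((a * b) • c') = 0 := by rw [QuadraticMap.map_smul, hc', smul_zero]
  have hQnac : Q (-(a • c)) = 0 := by rw [QuadraticMap.map_neg, hQac]
  have hQnbc' : Q (-(b • c')) = 0 := by rw [QuadraticMap.map_neg, hQbc']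
  apply matrix_ext_mulVec
  intro x
  rw [← mulVec_mulVec, ← mulVec_mulVec, ← mulVec_mulVec]
  rw [sieg_mulVec Q f (-(b • c')) x, hQnbc']
  rw [sieg_mulVec Q u (-(a • c)), hQnac]
  rw [sieg_mulVec Q f (b • c'), hQbc']
  rw [sieg_mulVec Q u (a • c), hQac]
  rw [sieg_mulVec Q u ((a * b) • c'), hQabc']
  simp only [polar_add_right, polar_smul_right, polar_neg_right, polar_smul_left,
    polar_neg_left, smul_eq_mul, huc, huc', hcc', hcf, huf, hc'f, hcu, hc'u, hc'c, hfc, hfu, hfc',
    huu, hcc, hc'c', hff, zero_mul, mul_zero, sub_zero, add_zero, neg_zero, mul_one,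
    mul_neg]
  ext i
  simp only [Pi.add_apply, Pi.smul_apply, Pi.neg_apply, smul_eq_mul]
  ring

end siegel

section kertau
variable {F : Type*} [Field F] {L : Type*} [Field L] [Algebra F L]

/-- for a quadratic extension, a nonzero functional has a one-dimensional kernel -/
theorem exists_ker_tau (h2 : finrank F L = 2) (τ : L →ₗ[F] F) (hτ : τ ≠ 0) :
    ∃ κ θ : L, κ ≠ 0 ∧ τ κ = 0 ∧ τ θ = 1 ∧ ∀ x : L, τ x = 0 → ∃ c : F, c • κ = x := by
  have hfin : Module.Finite F L := Module.finite_of_finrank_pos (by rw [h2]; norm_num)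
  have hsurj : Function.Surjective τ := by
    obtain ⟨y, hy⟩ : ∃ y, τ y ≠ 0 := by
      by_contra hcon
      push Not at hcon
      exact hτ (LinearMap.ext hcon)
    intro c
    refine ⟨(c * (τ y)⁻¹) • y, ?_⟩
    rw [map_smul, smul_eq_mul, mul_assoc, inv_mul_cancel₀ hy, mul_one]
  have hker : finrank F ↥(LinearMap.ker τ) = 1 := by
    have h := LinearMap.finrank_range_add_finrank_ker τ
    rw [LinearMap.range_eq_top.mpr hsurj, finrank_top, Module.finrank_self, h2] at h
    omega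
  have hne : LinearMap.ker τ ≠ ⊥ := by
    intro h
    rw [h, finrank_bot] at hker
    exact zero_ne_one hker
  obtain ⟨κ, hκ, hκ0⟩ := Submodule.exists_mem_ne_zero_of_ne_bot hne
  obtain ⟨θ, hθ⟩ := hsurj 1
  refine ⟨κ, θ, hκ0, hκ, hθ, ?_⟩
  intro x hx
  have h1 := (finrank_eq_one_iff_of_nonzero' (⟨κ, hκ⟩ : ↥(LinearMap.ker τ))
    (fun h => hκ0 (congrArg Subtype.val h))).mp hker ⟨x, hx⟩
  obtain ⟨c, hc⟩ := h1
  exact ⟨c, congrArg Subtype.val hc⟩

end kertau

end Cfsg.Agent.Lib.Helper22.S5701F2
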