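import Mathlib
import Cfsg.Agent.Lib.Helper22.S5701FOF2c

/-!
# S5701 FO-F2 : `orX_of_Z_two` (the spreading step for `r = 2`)
-/

set_option autoImplicit false
set_option linter.unusedSimpArgs false
set_option linter.unusedVariables false
set_option linter.unusedSectionVars false

namespace Cfsg.Agent.Lib.Helper22.S5701F2

open Matrix Module QuadraticMap Cfsg.Agent.Lib.Helper7.SpExt Cfsg.Agent.Lib.Helper9.OExt
  Cfsg.Agent.Lib.Helper6 Cfsg.Agent.Lib.Helper13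
  Cfsg.Agent.Lib.Helper26.S5701BAS Cfsg.Agent.Lib.Helper26.S5701SIEG Cfsg.Agent.Lib.Helper26.S5701GEO
  Cfsg.Agent.Lib.Helper15.S5701F0

variable {F : Type*} [Field F] [Fintype F] {L : Type*} [Field L] [Algebra F L] {ι : Type} [Fintype ι]
  [DecidableEq ι] {ρ : L →ₐ[F] Matrix ι ι F} {Q : QuadraticForm F (ι → F)} {τ : L →ₗ[F] F}
  {B : (ι → F) →ₗ[F] (ι → F) →ₗ[F] L} {r : ℕ}

set_option maxHeartbeats 800000 in
/-- FO-F2 -/
theorem orX_of_Z_two (S : OStr ρ Q τ B) (hrk : finrank F L = r) (h2 : r = 2)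
    (hn : 12 ≤ Fintype.card ι) (H : Subgroup (GL ι F)) (hS : HasSieg ρ B H)
    (hH : H ≤ Cfsg.isometryGroup F ⇑Q) {v₁ u : ι → F} (hv₁ : LSing B v₁) (hu : B u v₁ = 0)
    (hnot : u ∉ pt ρ v₁) (hZ : SiegIn Q H v₁ u)
    (hZ1 : ∀ a b : L, SiegIn Q H (ρ a *ᵥ v₁) (ρ b *ᵥ v₁)) : OrX Q H v₁ := by
  have hr : 0 < r := by omega
  have hn5 : 5 * r < Fintype.card ι := by omega
  have h2L := two_ne_zero_L S
  have hall₁ := RR_all S hrk hr hn5 H hS hv₁ hu hnot hZ hZ1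
  obtain ⟨v₂, hv₂, h12⟩ := exists_partner S hv₁
  have h21 : B v₂ v₁ = 1 := by rw [S.symm, h12]
  obtain ⟨s', hs', hs'1, hs'2, -⟩ := exists_lsing_perp3 S hrk hr hn5 v₁ v₂ v₂
  obtain ⟨s'', hs'', hss, hs''1, hs''2⟩ := exists_partner_perp S hv₁.2 hv₂.2 h12 hs' hs'1 hs'2
  have hss' : B s'' s' = 1 := by rw [S.symm, hss]
  have h1s' : B v₁ s' = 0 := by rw [S.symm, hs'1]
  have h2s' : B v₂ s' = 0 := by rw [S.symm, hs'2]
  have h1s'' : B v₁ s'' = 0 := by rw [S.symm, hs''1]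
  have h2s'' : B v₂ s'' = 0 := by rw [S.symm, hs''2]
  have h11 := hv₁.2
  have h22 := hv₂.2
  have hs's' := hs'.2
  have hs''s'' := hs''.2
  obtain ⟨κ, θ, hκ0, hκ, hθ, hker⟩ := exists_ker_tau (by rw [hrk, h2]) τ (tau_ne S hv₁.1)
  -- `t` and `k`
  obtain ⟨t, ht⟩ : ∃ t : ι → F, t = s' - ρ κ *ᵥ s'' := ⟨_, rfl⟩
  have htt : B t t = -(2 * κ) := by
    rw [ht]
    simp only [map_sub, LinearMap.sub_apply, S.lin, B_lin_right S, hs's', hs''s'', hss, hss', mul_zero,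
      mul_one, sub_zero, zero_sub]
    ring
  have h2t : B v₂ t = 0 := by rw [ht, map_sub, B_lin_right S, h2s', h2s'', mul_zero, sub_zero]
  have h1t : B v₁ t = 0 := by rw [ht, map_sub, B_lin_right S, h1s', h1s'', mul_zero, sub_zero]
  obtain ⟨k, hk, -, -, hkB, hkQ⟩ := exists_sieg S v₂ t h22 h2t
  have hkH : k ∈ H := hS v₂ t k h22 h2t hk
  obtain ⟨v₂', hv₂'⟩ : ∃ v₂' : ι → F, v₂' = act k v₁ := ⟨_, rfl⟩
  have hv₂'e : v₂' = v₁ - s' + ρ κ *ᵥ s'' + ρ κ *ᵥ v₂ := by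
    rw [hv₂', hk v₁, h1t, h12, htt, ht, rho_zero_mulVec, rho_one_mulVec, add_zero]
    have e : -(2 * κ) / 2 * 1 = -κ := by
      field_simp
    rw [e, rho_neg_mulVec]
    abel
  -- the root group of `v₂'`
  have hall₂ : ∀ c', B c' v₂' = 0 → SiegIn Q H v₂' c' := by
    intro c' hc'
    have h0 : B (act k⁻¹ c') v₁ = 0 := by
      have := hkB (act k⁻¹ c') v₁
      rw [act_act_inv, ← hv₂'] at this
      rw [← this, hc']
    have := SiegIn.conj hkH hkQ (Q_of_sing S h11) (polar_of_perp S h0) (hall₁ _ h0)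
    rw [act_act_inv, ← hv₂'] at this
    exact this
  -- `b` and `c`
  obtain ⟨b, hb⟩ : ∃ b : ι → F, b = v₁ + ρ κ *ᵥ s'' := ⟨_, rfl⟩
  obtain ⟨c, hc⟩ : ∃ c : ι → F, c = ρ (-θ / κ) *ᵥ (v₁ - s') := ⟨_, rfl⟩
  have Bbv₁ : B b v₁ = 0 := by
    rw [hb]
    simp only [map_add, LinearMap.add_apply, S.lin, h11, hs''1, mul_zero, add_zero]
  have Bcv₁ : B c v₁ = 0 := by
    rw [hc]
    simp only [S.lin, map_sub, LinearMap.sub_apply, h11, hs'1, sub_zero, mul_zero]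
  have Bbb : B b b = 0 := by
    rw [hb]
    simp only [map_add, LinearMap.add_apply, S.lin, B_lin_right S, h11, hs''1, h1s'', hs''s'', mul_zero,
      add_zero]
  have Bcc : B c c = 0 := by
    rw [hc]
    simp only [S.lin, B_lin_right S, map_sub, LinearMap.sub_apply, h11, hs'1, h1s', hs's', sub_zero,
      mul_zero]
  have Bv₂'v₂' : B v₂' v₂' = 0 := by
    rw [hv₂', hkB, h11]
  have Bv₂'v₁ : B v₂' v₁ = κ := by
    rw [hv₂'e]
    simp only [map_add, map_sub, LinearMap.add_apply, LinearMap.sub_apply, S.lin, h11, hs'1, hs''1, h21,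
      mul_zero, mul_one, sub_zero, add_zero, zero_add]
  have Bv₁v₂' : B v₁ v₂' = κ := by rw [S.symm, Bv₂'v₁]
  have Bbv₂' : B b v₂' = 0 := by
    rw [hb, hv₂'e]
    simp only [map_add, map_sub, LinearMap.add_apply, LinearMap.sub_apply, S.lin, B_lin_right S, h11,
      h12, h1s', h1s'', hs''1, hss', hs''s'', hs''2, mul_zero, mul_one, sub_zero, add_zero, zero_add,
      zero_sub]
    ring
  have Bcv₂' : B c v₂' = 0 := by
    rw [hc, hv₂'e]
    simp only [map_add, map_sub, LinearMap.add_apply, LinearMap.sub_apply, S.lin, B_lin_right S, h11,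
      h12, h1s', h1s'', hs'1, hs's', hss, hs'2, mul_zero, mul_one, sub_zero, add_zero, zero_add,
      zero_sub]
    ring
  have Bbc : B b c = θ := by
    rw [hb, hc]
    simp only [map_add, map_sub, LinearMap.add_apply, LinearMap.sub_apply, S.lin, B_lin_right S, h11,
      h1s', hs''1, hss', mul_zero, mul_one, sub_zero, add_zero, zero_add, zero_sub]
    field_simp
  -- `Q`-facts
  have Qv₁ : Q v₁ = 0 := Q_of_sing S h11
  have Qb : Q b = 0 := Q_of_sing S Bbb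
  have Qv₂' : Q v₂' = 0 := Q_of_sing S Bv₂'v₂'
  have Qc : Q c = 0 := Q_of_sing S Bcc
  have p1 : polar (⇑Q) v₁ b = 0 := polar_of_perp S Bbv₁
  have p2 : polar (⇑Q) v₁ v₂' = 0 := by rw [S.tr, Bv₁v₂', hκ]
  have p3 : polar (⇑Q) b v₂' = 0 := by rw [S.tr, Bbv₂', map_zero]
  have p4 : polar (⇑Q) b c = 1 := by rw [S.tr, Bbc, hθ]
  have p5 : polar (⇑Q) v₁ c = 0 := polar_of_perp S Bcv₁
  have p6 : polar (⇑Q) v₂' c = 0 := polar_of_perp S Bcv₂'
  -- the long root elements `ρ_{v₁, a v₂'}`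
  have hroot : ∀ a : F, SiegIn Q H v₁ (a • v₂') := by
    intro a
    have hcomm := sieg_comm' Q v₁ b v₂' c a 1 Qv₁ Qb Qv₂' Qc p1 p2 p3 p4 p5 p6
    rw [mul_one] at hcomm
    have q1 : polar (⇑Q) v₁ (a • b) = 0 := by rw [polar_smul_right, p1, smul_zero]
    have q1' : polar (⇑Q) v₁ (-(a • b)) = 0 := by rw [polar_neg_right, q1, neg_zero]
    have q2 : polar (⇑Q) c ((1 : F) • v₂') = 0 := by
      rw [polar_smul_right, polar_comm, p6, smul_zero]
    have q2' : polar (⇑Q) c (-((1 : F) • v₂')) = 0 := by rw [polar_neg_right, q2, neg_zero]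
    have m1 : ((siegIso Q v₁ (a • b) Qv₁ q1 : ↥(Cfsg.isometryGroup F ⇑Q)) : GL ι F) ∈ H :=
      (siegIn_iff Qv₁ q1).mp (hall₁ _ (by rw [map_smul, LinearMap.smul_apply, Bbv₁, smul_zero]))
    have m3 : ((siegIso Q v₁ (-(a • b)) Qv₁ q1' : ↥(Cfsg.isometryGroup F ⇑Q)) : GL ι F) ∈ H :=
      (siegIn_iff Qv₁ q1').mp (hall₁ _ (by
        rw [map_neg, LinearMap.neg_apply, map_smul, LinearMap.smul_apply, Bbv₁, smul_zero, neg_zero]))
    have m2 : ((siegIso Q c ((1 : F) • v₂') Qc q2 : ↥(Cfsg.isometryGroup F ⇑Q)) : GL ι F) ∈ H := by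
      apply hall₂ ((-(1 : F)) • c) (by rw [map_smul, LinearMap.smul_apply, Bcv₂', smul_zero])
      intro x
      rw [act_siegIso, sieg_swap' Q c v₂' 1 Qc Qv₂']
    have m4 : ((siegIso Q c (-((1 : F) • v₂')) Qc q2' : ↥(Cfsg.isometryGroup F ⇑Q)) : GL ι F) ∈ H := by
      apply hall₂ ((1 : F) • c) (by rw [map_smul, LinearMap.smul_apply, Bcv₂', smul_zero])
      intro x
      have e : -((1 : F) • v₂') = (-1 : F) • v₂' := by rw [neg_smul]
      rw [act_siegIso, e, sieg_swap' Q c v₂' (-1) Qc Qv₂', neg_neg]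
    intro g hg
    have e : g = ((siegIso Q v₁ (a • b) Qv₁ q1 : ↥(Cfsg.isometryGroup F ⇑Q)) : GL ι F) *
        ((siegIso Q c ((1 : F) • v₂') Qc q2 : ↥(Cfsg.isometryGroup F ⇑Q)) : GL ι F) *
        ((siegIso Q v₁ (-(a • b)) Qv₁ q1' : ↥(Cfsg.isometryGroup F ⇑Q)) : GL ι F) *
        ((siegIso Q c (-((1 : F) • v₂')) Qc q2' : ↥(Cfsg.isometryGroup F ⇑Q)) : GL ι F) := by
      apply gl_ext
      intro x
      rw [hg x, act_mul, act_mul, act_mul, act_siegIso, act_siegIso, act_siegIso, act_siegIso,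
        mulVec_mulVec, mulVec_mulVec, mulVec_mulVec, hcomm]
    rw [e]
    exact H.mul_mem (H.mul_mem (H.mul_mem m1 m2) m3) m4
  -- conclusion
  apply orX_of_SiegIn Qv₁
  intro w hw
  have hτ : τ (B w v₁) = 0 := by
    rw [S.symm, ← S.tr]
    exact hw
  obtain ⟨l, hl⟩ := hker _ hτ
  have h0 : B (w - l • v₂') v₁ = 0 := by
    rw [map_sub, LinearMap.sub_apply, map_smul, LinearMap.smul_apply, Bv₂'v₁, hl, sub_self]
  have e : w = (w - l • v₂') + l • v₂' := by abel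
  rw [e]
  exact SiegIn.add Qv₁ (polar_of_perp S h0) (by rw [polar_smul_right, p2, smul_zero])
    (hall₁ _ h0) (hroot l)

end Cfsg.Agent.Lib.Helper22.S5701F2
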