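import Mathlib
import Cfsg.Prelude.Def_GeometricClasses

/-!
# S5781 FO-CYC (helper28's farm-out): characteristic abelian subgroups of `4 ∘ 2^{1+2m}`-like groups are cyclic  (helper22)
-/

set_option autoImplicit false

namespace Cfsg.Agent.Lib.Helper22.S5781CYC

open Cfsg Cfsg.Geo
open scoped MatrixGroups Matrix

variable {ι : Type} [Fintype ι] [DecidableEq ι] {F : Type*} [Field F]


section partA

variable (R : Subgroup (GL ι F))

/-- the Cayley-type element `1 + t` and its inverse `(1 - t)/2` when `t² = -1` -/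
theorem cayley_mul (h2 : (2 : F) ≠ 0) (T : Matrix ι ι F) (hTT : T * T = -1) :
    (1 + T) * ((2 : F)⁻¹ • (1 - T)) = 1 ∧ ((2 : F)⁻¹ • (1 - T)) * (1 + T) = 1 := by
  have e1 : (1 + T) * (1 - T) = (2 : F) • (1 : Matrix ι ι F) := by
    have : (1 + T) * (1 - T) = 1 - T * T := by noncomm_ring
    rw [this, hTT, sub_neg_eq_add, two_smul]
  have e2 : (1 - T) * (1 + T) = (2 : F) • (1 : Matrix ι ι F) := by
    have : (1 - T) * (1 + T) = 1 - T * T := by noncomm_ring
    rw [this, hTT, sub_neg_eq_add, two_smul]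
  constructor
  · rw [Matrix.mul_smul, e1, smul_smul, inv_mul_cancel₀ h2, one_smul]
  · rw [Matrix.smul_mul, e2, smul_smul, inv_mul_cancel₀ h2, one_smul]

theorem cayley_conj_comm (T X : Matrix ι ι F) (hTX : T * X = X * T)
    (hC : (1 + T) * ((2 : F)⁻¹ • (1 - T)) = 1) (hC' : ((2 : F)⁻¹ • (1 - T)) * (1 + T) = 1) :
    (1 + T) * X * ((2 : F)⁻¹ • (1 - T)) = X ∧ ((2 : F)⁻¹ • (1 - T)) * X * (1 + T) = X := by
  have e1 : (1 + T) * X = X * (1 + T) := by rw [add_mul, mul_add, one_mul, mul_one, hTX]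
  have e2 : X * (1 + T) = (1 + T) * X := e1.symm
  constructor
  · rw [e1, mul_assoc, hC, mul_one]
  · rw [mul_assoc, e2, ← mul_assoc, hC', one_mul]

theorem cayley_conj_anti (h2 : (2 : F) ≠ 0) (T X : Matrix ι ι F) (hTT : T * T = -1) (hTX : T * X = -(X * T)) :
    (1 + T) * X * ((2 : F)⁻¹ • (1 - T)) = T * X ∧ ((2 : F)⁻¹ • (1 - T)) * X * (1 + T) = -(T * X) := by
  have hXT : X * T = -(T * X) := by rw [hTX, neg_neg]
  have h22 : (2 : F)⁻¹ * 2 = 1 := inv_mul_cancel₀ h2
  constructor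
  · rw [Matrix.mul_smul]
    have : (1 + T) * X * (1 - T) = (2 : F) • (T * X) := by
      have e : (1 + T) * X * (1 - T) = X - X * T + T * X - T * X * T := by noncomm_ring
      have e3 : T * X * T = X := by
        rw [mul_assoc, hXT, mul_neg, ← mul_assoc, hTT, neg_mul, one_mul, neg_neg]
      rw [e, e3, hXT, two_smul]
      abel
    rw [this, smul_smul, h22, one_smul]
  · rw [Matrix.smul_mul, Matrix.smul_mul]
    have : (1 - T) * X * (1 + T) = (2 : F) • (-(T * X)) := by
      have e : (1 - T) * X * (1 + T) = X + X * T - T * X - T * X * T := by noncomm_ring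
      have e3 : T * X * T = X := by
        rw [mul_assoc, hXT, mul_neg, ← mul_assoc, hTT, neg_mul, one_mul, neg_neg]
      rw [e, e3, hXT, two_smul]
      abel
    rw [this, smul_smul, h22, one_smul]

end partA

/-- the contradiction: an element `a` of a characteristic commutative `A` anticommuting with some `t ∈ R`, `t² = -1` -/
theorem false_of_anti (R : Subgroup (GL ι F)) (h2 : (2 : F) ≠ 0) (i₀ : F) (hi : i₀ ^ 2 = -1)
    (z : GL ι F) (hzR : z ∈ R) (hz : (z : Matrix ι ι F) = i₀ • (1 : Matrix ι ι F))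
    (hcomm : ∀ x ∈ R, ∀ y ∈ R, (x : Matrix ι ι F) * (y : Matrix ι ι F) = (y : Matrix ι ι F) * (x : Matrix ι ι F) ∨
      (x : Matrix ι ι F) * (y : Matrix ι ι F) = - ((y : Matrix ι ι F) * (x : Matrix ι ι F)))
    (A : Subgroup R) (hA : A.Characteristic) (hAc : IsMulCommutative A)
    (hnt : (1 : Matrix ι ι F) ≠ 0)
    (a : R) (ha : a ∈ A) (t : GL ι F) (htR : t ∈ R)
    (hTT : (t : Matrix ι ι F) * (t : Matrix ι ι F) = -1)
    (hTA : (t : Matrix ι ι F) * ((a : GL ι F) : Matrix ι ι F) = -(((a : GL ι F) : Matrix ι ι F) * (t : Matrix ι ι F))) :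
    False := by
  obtain ⟨hC, hC'⟩ := cayley_mul h2 (t : Matrix ι ι F) hTT
  obtain ⟨Cu, hCu, hCui⟩ : ∃ Cu : GL ι F, (Cu : Matrix ι ι F) = 1 + (t : Matrix ι ι F) ∧
      ((Cu⁻¹ : GL ι F) : Matrix ι ι F) = (2 : F)⁻¹ • (1 - (t : Matrix ι ι F)) :=
    ⟨⟨_, _, hC, hC'⟩, rfl, rfl⟩
  -- conjugation by `Cu` and by `Cu⁻¹` preserve `R`
  have key : ∀ x ∈ R, (Cu * x * Cu⁻¹ = x ∧ Cu⁻¹ * x * Cu = x) ∨
      (Cu * x * Cu⁻¹ = t * x ∧ Cu⁻¹ * x * Cu = z * z * (t * x)) := by
    intro x hx
    rcases hcomm t htR x hx with h | h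
    · left
      obtain ⟨e1, e2⟩ := cayley_conj_comm (t : Matrix ι ι F) (x : Matrix ι ι F) h hC hC'
      constructor
      · apply Units.ext
        rw [Units.val_mul, Units.val_mul, hCu, hCui]
        exact e1
      · apply Units.ext
        rw [Units.val_mul, Units.val_mul, hCu, hCui]
        exact e2
    · right
      obtain ⟨e1, e2⟩ := cayley_conj_anti h2 (t : Matrix ι ι F) (x : Matrix ι ι F) hTT h
      constructor
      · apply Units.ext
        rw [Units.val_mul, Units.val_mul, hCu, hCui, Units.val_mul]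
        exact e1
      · apply Units.ext
        rw [Units.val_mul, Units.val_mul, hCu, hCui, e2, Units.val_mul, Units.val_mul, Units.val_mul, hz]
        rw [Matrix.smul_mul, Matrix.smul_mul, one_mul, Matrix.smul_mul, one_mul, smul_smul, ← sq, hi, neg_smul, one_smul]
  have key1 : ∀ x ∈ R, Cu * x * Cu⁻¹ ∈ R := by
    intro x hx
    rcases key x hx with ⟨h, _⟩ | ⟨h, _⟩
    · rw [h]; exact hx
    · rw [h]; exact R.mul_mem htR hx
  have key2 : ∀ x ∈ R, Cu⁻¹ * x * Cu ∈ R := by
    intro x hx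
    rcases key x hx with ⟨_, h⟩ | ⟨_, h⟩
    · rw [h]; exact hx
    · rw [h]; exact R.mul_mem (R.mul_mem hzR hzR) (R.mul_mem htR hx)
  let φ : R ≃* R :=
    { toFun := fun x => ⟨Cu * x * Cu⁻¹, key1 x x.2⟩
      invFun := fun x => ⟨Cu⁻¹ * x * Cu, key2 x x.2⟩
      left_inv := fun x => by
        apply Subtype.ext
        show Cu⁻¹ * (Cu * (x : GL ι F) * Cu⁻¹) * Cu = x
        group
      right_inv := fun x => by
        apply Subtype.ext
        show Cu * (Cu⁻¹ * (x : GL ι F) * Cu) * Cu⁻¹ = x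
        group
      map_mul' := fun x y => by
        apply Subtype.ext
        show Cu * ((x : GL ι F) * (y : GL ι F)) * Cu⁻¹ = (Cu * (x : GL ι F) * Cu⁻¹) * (Cu * (y : GL ι F) * Cu⁻¹)
        group }
  have hφa : ((φ a : R) : GL ι F) = t * a := by
    show Cu * (a : GL ι F) * Cu⁻¹ = t * a
    rcases key a a.2 with ⟨h, _⟩ | ⟨h, _⟩
    · -- `t` commutes with `a`: impossible unless ... derive directly
      exfalso
      have e1 : Cu * (a : GL ι F) = (a : GL ι F) * Cu := by
        have := congrArg (fun y => y * Cu) h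
        simpa [mul_assoc] using this
      have e2 := congrArg (fun y : GL ι F => (y : Matrix ι ι F)) e1
      simp only [Units.val_mul] at e2
      rw [hCu, add_mul, mul_add, one_mul, mul_one, add_right_inj] at e2
      -- e2 : T * A₀ = A₀ * T, with hTA : T * A₀ = -(A₀ * T)
      rw [hTA] at e2
      -- -(A₀ T) = A₀ T ⇒ 2 A₀ T = 0
      have e3 : (2 : F) • (((a : GL ι F) : Matrix ι ι F) * (t : Matrix ι ι F)) = 0 := by
        rw [two_smul]
        nth_rewrite 1 [← e2]
        rw [neg_add_cancel]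
      have e4 : ((a : GL ι F) : Matrix ι ι F) * (t : Matrix ι ι F) = 0 := by
        have := congrArg (fun M => (2 : F)⁻¹ • M) e3
        simpa [smul_smul, inv_mul_cancel₀ h2] using this
      have e5 : ((((a : GL ι F) * t)⁻¹ * ((a : GL ι F) * t) : GL ι F) : Matrix ι ι F) = 1 := by
        rw [inv_mul_cancel, Units.val_one]
      rw [Units.val_mul, Units.val_mul (a : GL ι F) t, e4, mul_zero] at e5
      exact hnt e5.symm
    · exact h
  have hfix := hA.fixed φ
  have hφA : φ a ∈ A := by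
    have : a ∈ A.comap φ.toMonoidHom := by rw [hfix]; exact ha
    exact this
  have hcm : (⟨a, ha⟩ : A) * ⟨φ a, hφA⟩ = ⟨φ a, hφA⟩ * ⟨a, ha⟩ := hAc.is_comm.comm _ _
  have hcm2 : (a : GL ι F) * (t * a) = (t * a) * a := by
    have := congrArg (fun y : A => (((y : R) : GL ι F))) hcm
    simp only [Subgroup.coe_mul] at this
    rw [hφa] at this
    exact this
  have hcm3 := congrArg (fun y : GL ι F => (y : Matrix ι ι F)) hcm2
  simp only [Units.val_mul] at hcm3
  -- A₀ (T A₀) = (T A₀) A₀ and A₀ T = -(T A₀)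
  have hAT : ((a : GL ι F) : Matrix ι ι F) * (t : Matrix ι ι F) = -((t : Matrix ι ι F) * ((a : GL ι F) : Matrix ι ι F)) := by
    rw [hTA, neg_neg]
  rw [← mul_assoc, hAT, neg_mul] at hcm3
  have e3 : (2 : F) • ((t : Matrix ι ι F) * ((a : GL ι F) : Matrix ι ι F) * ((a : GL ι F) : Matrix ι ι F)) = 0 := by
    rw [two_smul]
    nth_rewrite 1 [← hcm3]
    rw [neg_add_cancel]
  have e4 : (t : Matrix ι ι F) * ((a : GL ι F) : Matrix ι ι F) * ((a : GL ι F) : Matrix ι ι F) = 0 := by
    have := congrArg (fun M => (2 : F)⁻¹ • M) e3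
    simpa [smul_smul, inv_mul_cancel₀ h2] using this
  have e5 : (((t * (a : GL ι F) * a)⁻¹ * (t * (a : GL ι F) * a) : GL ι F) : Matrix ι ι F) = 1 := by
    rw [inv_mul_cancel, Units.val_one]
  rw [Units.val_mul, Units.val_mul (t * (a : GL ι F)) a, Units.val_mul t, e4, mul_zero] at e5
  exact hnt e5.symm

/-- FO-CYC (a) -/
theorem characteristic_le_center (R : Subgroup (GL ι F)) (h2 : (2 : F) ≠ 0) (i₀ : F) (hi : i₀ ^ 2 = -1)
    (hs : ∃ z ∈ R, (z : Matrix ι ι F) = i₀ • (1 : Matrix ι ι F))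
    (hcomm : ∀ x ∈ R, ∀ y ∈ R, (x : Matrix ι ι F) * (y : Matrix ι ι F) = (y : Matrix ι ι F) * (x : Matrix ι ι F) ∨
      (x : Matrix ι ι F) * (y : Matrix ι ι F) = - ((y : Matrix ι ι F) * (x : Matrix ι ι F)))
    (hsq : ∀ x ∈ R, (x : Matrix ι ι F) * (x : Matrix ι ι F) = 1 ∨ (x : Matrix ι ι F) * (x : Matrix ι ι F) = -1)
    (A : Subgroup R) (hA : A.Characteristic) (hAc : IsMulCommutative A) : A ≤ Subgroup.center R := by
  intro a ha
  rw [Subgroup.mem_center_iff]
  intro g
  by_contra hne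
  obtain ⟨z, hzR, hz⟩ := hs
  have hnt : (1 : Matrix ι ι F) ≠ 0 := by
    intro h10
    apply hne
    apply Subtype.ext
    apply Units.ext
    have hsub : ∀ M N : Matrix ι ι F, M = N := by
      intro M N
      rw [← mul_one M, ← mul_one N, h10, mul_zero, mul_zero]
    exact hsub _ _
  have hGA : ((g : GL ι F) : Matrix ι ι F) * ((a : GL ι F) : Matrix ι ι F) =
      -(((a : GL ι F) : Matrix ι ι F) * ((g : GL ι F) : Matrix ι ι F)) := by
    rcases hcomm g g.2 a a.2 with h | h
    · exfalso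
      apply hne
      apply Subtype.ext
      apply Units.ext
      simpa using h
    · exact h
  rcases hsq g g.2 with h | h
  · -- `g² = 1`: take `t = z g`
    refine false_of_anti R h2 i₀ hi z hzR hz hcomm A hA hAc hnt a ha (z * g) (R.mul_mem hzR g.2) ?_ ?_
    · rw [Units.val_mul, hz, Matrix.smul_mul, one_mul, Matrix.smul_mul, Matrix.mul_smul, h, smul_smul, ← sq, hi,
        neg_smul, one_smul]
    · rw [Units.val_mul, hz, Matrix.smul_mul, one_mul, Matrix.smul_mul, Matrix.mul_smul, hGA, smul_neg]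
  · exact false_of_anti R h2 i₀ hi z hzR hz hcomm A hA hAc hnt a ha g g.2 h hGA

/-- FO-CYC (b) -/
theorem isCyclic_of_le_center [Finite F] (R : Subgroup (GL ι F))
    (habs : ∀ M : Matrix ι ι F, (∀ s ∈ matrixSet R, M * s = s * M) → ∃ c : F, M = c • (1 : Matrix ι ι F))
    (A : Subgroup R) (hA : A ≤ Subgroup.center R) : IsCyclic A := by
  rcases isEmpty_or_nonempty ι with hι | hι
  · have : Subsingleton (GL ι F) := ⟨fun x y => Units.ext (Subsingleton.elim _ _)⟩
    have : Subsingleton A := ⟨fun x y => Subtype.ext (Subtype.ext (Subsingleton.elim _ _))⟩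
    exact isCyclic_of_subsingleton
  obtain ⟨i₀⟩ := hι
  have hsc : ∀ a : A, ∃ c : F, (((a : R) : GL ι F) : Matrix ι ι F) = c • (1 : Matrix ι ι F) := by
    intro a
    apply habs
    rintro _ ⟨g, hg, rfl⟩
    have h1 := (Subgroup.mem_center_iff.mp (hA a.2)) ⟨g, hg⟩
    have h2 := congrArg (fun x : R => ((x : GL ι F) : Matrix ι ι F)) h1
    simp only [Subgroup.coe_mul, Units.val_mul] at h2
    exact h2.symm
  have hval : ∀ a : A, (((a : R) : GL ι F) : Matrix ι ι F) =
      ((((a : R) : GL ι F) : Matrix ι ι F) i₀ i₀) • (1 : Matrix ι ι F) := by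
    intro a
    obtain ⟨c, hc⟩ := hsc a
    have : (((a : R) : GL ι F) : Matrix ι ι F) i₀ i₀ = c := by
      rw [hc]
      simp
    rw [this]
    exact hc
  let f : A →* F :=
    { toFun := fun a => (((a : R) : GL ι F) : Matrix ι ι F) i₀ i₀
      map_one' := by simp
      map_mul' := fun a b => by
        have h1 : ((((a * b : A) : R) : GL ι F) : Matrix ι ι F) =
            (((a : R) : GL ι F) : Matrix ι ι F) * (((b : R) : GL ι F) : Matrix ι ι F) := by
          simp
        rw [h1, hval a, hval b]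
        simp [mul_comm] }
  have hf : Function.Injective f := by
    intro a b hab
    apply Subtype.ext
    apply Subtype.ext
    apply Units.ext
    rw [hval a, hval b]
    have : (((a : R) : GL ι F) : Matrix ι ι F) i₀ i₀ = (((b : R) : GL ι F) : Matrix ι ι F) i₀ i₀ := hab
    rw [this]
  have : Finite (GL ι F) := inferInstance
  exact isCyclic_of_injective_ringHom f hf

end Cfsg.Agent.Lib.Helper22.S5781CYC
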