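import Mathlib
import Cfsg.Prelude.Def_GeometricClasses
import Cfsg.Prelude.Def_LieClassical
import Cfsg.Agent.Lib.Helper22.S5802HB

/-!
# S5802 hB, abstract algebra (helper22)

`F ⊂ L` finite fields, `|F| = 4`, `[L : F] = 3`, `τ : L →+* L` an involution inducing squaring on `F`:
`u2_entries` (L-U2), `tau_eq_pow` (`τ x = x ^ 8`), `algebraMap_trace`, `trace_tau`, `trace_pow_four_pow`, `trace_nondeg`,
`exists_omega`, `exists_scalar_fixed`; and the exact-shape wrapper `conj_eq_pow_four`.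
-/

set_option autoImplicit false
set_option linter.style.haveILetI false
set_option linter.unusedSectionVars false

namespace Cfsg.Agent.Lib.Helper22.S5802HB

open Matrix Cfsg Cfsg.Geo

/-! ### abstract algebra: a field `L` of degree 3 over `F = F_4` with an involution `τ` inducing squaring on `F` -/

section u2
variable {L : Type*} [Field L] (τ : L →+* L)

/-- **L-U2** a `τ`-unitary `2 × 2` matrix for the hyperbolic form (characteristic 2) has its entries in `δ · Fix τ` -/
theorem u2_entries (hττ : ∀ x, τ (τ x) = x) (h2 : (2 : L) = 0) {a b c d : L}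
    (R1 : a * τ b + b * τ a = 0) (R2 : c * τ d + d * τ c = 0) (R3 : a * τ d + b * τ c = 1) :
    ∃ δ : L, δ ≠ 0 ∧ τ (a / δ) = a / δ ∧ τ (b / δ) = b / δ ∧ τ (c / δ) = c / δ ∧ τ (d / δ) = d / δ := by
  have neg : ∀ x : L, -x = x := fun x => by linear_combination (-x) * h2
  have R3' : τ a * d + τ b * c = 1 := by
    have := congrArg τ R3
    rw [map_add, map_mul, map_mul, hττ, hττ, map_one] at this
    exact this
  -- the column relations
  have hM : (!![a, b; c, d] : Matrix (Fin 2) (Fin 2) L) * !![τ d, τ b; τ c, τ a] = 1 := by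
    ext i j
    fin_cases i <;> fin_cases j
    · simpa [Matrix.mul_apply, Fin.sum_univ_two] using R3
    · simpa [Matrix.mul_apply, Fin.sum_univ_two] using R1
    · simpa [Matrix.mul_apply, Fin.sum_univ_two] using R2
    · simp [Matrix.mul_apply, Fin.sum_univ_two]
      linear_combination R3'
  have hM' := (mul_eq_one_comm).1 hM
  have C2 : τ d * b + τ b * d = 0 := by
    have := congrFun (congrFun hM' 0) 1
    simpa [Matrix.mul_apply, Fin.sum_univ_two] using this
  have C1 : τ c * a + τ a * c = 0 := by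
    have := congrFun (congrFun hM' 1) 0
    simpa [Matrix.mul_apply, Fin.sum_univ_two] using this
  have C3 : τ c * b + τ a * d = 1 := by
    have := congrFun (congrFun hM' 1) 1
    simpa [Matrix.mul_apply, Fin.sum_univ_two] using this
  have fixdiv : ∀ x y : L, y ≠ 0 → x * τ y = y * τ x → τ (x / y) = x / y := by
    intro x y hy h
    have hτy : τ y ≠ 0 := fun h0 => hy (by rw [← hττ y, h0, map_zero])
    rw [map_div₀, div_eq_div_iff hτy hy]
    linear_combination (-1 : L) * h
  by_cases ha : a = 0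
  · subst ha
    have hbc : b * τ c = 1 := by simpa using R3
    have hb : b ≠ 0 := fun h0 => by rw [h0, zero_mul] at hbc; exact zero_ne_one hbc
    have hbc' : τ b * c = 1 := by
      have := congrArg τ hbc
      rwa [map_mul, hττ, map_one] at this
    refine ⟨b, hb, by simp, fixdiv b b hb rfl, fixdiv c b hb ?_, fixdiv d b hb ?_⟩
    · linear_combination hbc' - hbc
    · linear_combination C2 + (-(b * τ d)) * h2
  · have hab : b * τ a = a * τ b := by linear_combination R1 + (-(a * τ b)) * h2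
    have hac : c * τ a = a * τ c := by linear_combination C1 + (-(a * τ c)) * h2
    refine ⟨a, ha, fixdiv a a ha rfl, fixdiv b a ha hab, fixdiv c a ha hac, fixdiv d a ha ?_⟩
    linear_combination C3 - R3

end u2

section ext
variable {F L : Type*} [Field F] [Fintype F] [Field L] [Finite L] [Algebra F L]

theorem charP_two_of_card (hF : Fintype.card F = 2 ^ 2) : CharP F 2 := by
  obtain ⟨p, hp⟩ := CharP.exists F
  haveI := hp
  haveI : Fact p.Prime := ⟨CharP.char_is_prime F p⟩
  obtain ⟨⟨n, hn⟩, hn2⟩ := FiniteField.card F p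
  rw [hF] at hn2
  have : p = 2 := by
    have h1 : p ∣ 2 ^ 2 := by rw [hn2.2]; exact dvd_pow_self p (PNat.ne_zero _)
    exact (Nat.prime_dvd_prime_iff_eq hn2.1 Nat.prime_two).1 (hn2.1.dvd_of_dvd_pow h1)
  subst this
  exact hp

theorem pow_four_eq (hF : Fintype.card F = 2 ^ 2) (c : F) : c ^ 4 = c := by
  have := FiniteField.pow_card c
  rw [hF] at this
  norm_num at this
  exact this

theorem card_L (hF : Fintype.card F = 2 ^ 2) (hL : Module.finrank F L = 3) : Nat.card L = 64 := by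
  rw [Module.natCard_eq_pow_finrank (K := F) (V := L), hL, Nat.card_eq_fintype_card, hF]
  norm_num

theorem pow_sixtyfour_eq (hF : Fintype.card F = 2 ^ 2) (hL : Module.finrank F L = 3) (x : L) : x ^ 64 = x := by
  haveI := Fintype.ofFinite L
  have := FiniteField.pow_card x
  rw [← Nat.card_eq_fintype_card, card_L hF hL] at this
  exact this

/-- **A1** the involution is `x ↦ x ^ 8` -/
theorem tau_eq_pow (hF : Fintype.card F = 2 ^ 2) (hL : Module.finrank F L = 3) (τ : L →+* L)
    (hττ : ∀ x, τ (τ x) = x) (hτc : ∀ c : F, τ (algebraMap F L c) = algebraMap F L (c ^ 2)) (x : L) :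
    τ x = x ^ 8 := by
  haveI : CharP F 2 := charP_two_of_card hF
  haveI : CharP L 2 := charP_of_injective_algebraMap (algebraMap F L).injective 2
  have hc4 := pow_four_eq hF
  let ρ : L →ₐ[F] L :=
    { (τ.comp (frobenius L 2)) with
      commutes' := by
        intro c
        change τ (frobenius L 2 (algebraMap F L c)) = algebraMap F L c
        rw [frobenius_def, ← map_pow, hτc, ← pow_mul]
        norm_num
        rw [← map_pow, hc4] }
  have hρx : ∀ x : L, ρ x = τ (x ^ 2) := fun x => rfl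
  set φ := FiniteField.frobeniusAlgEquivOfAlgebraic F L with hφ
  have hφx : ∀ x : L, φ x = x ^ 4 := by
    intro x
    rw [hφ, FiniteField.coe_frobeniusAlgEquivOfAlgebraic, hF]
    norm_num
  let ρ' : L ≃ₐ[F] L := AlgEquiv.ofBijective ρ (Algebra.IsAlgebraic.algHom_bijective ρ)
  have hρ'x : ∀ x : L, ρ' x = τ (x ^ 2) := fun x => hρx x
  obtain ⟨j, hj⟩ := (FiniteField.bijective_frobeniusAlgEquivOfAlgebraic_pow F L).2 ρ'
  have hj' : φ ^ j.1 = ρ' := hj
  have hsq : ρ' * ρ' = φ := by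
    apply AlgEquiv.ext
    intro x
    rw [AlgEquiv.mul_apply, hρ'x, hρ'x, map_pow, hττ, hφx, ← pow_mul]
  rw [← hj', ← pow_add] at hsq
  have hord : orderOf φ = 3 := by
    rw [hφ, FiniteField.orderOf_frobeniusAlgEquivOfAlgebraic]
    exact hL
  have hmod : j.1 + j.1 ≡ 1 [MOD 3] := by
    rw [← hord]
    apply (pow_eq_pow_iff_modEq).1
    rw [hsq, pow_one]
  have hj3 : j.1 < 3 := lt_of_lt_of_eq j.2 hL
  have hj2 : j.1 = 2 := by
    have : (j.1 + j.1) % 3 = 1 % 3 := hmod
    omega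
  -- `τ (y ^ 2) = y ^ 16`
  have h16 : ∀ y : L, τ (y ^ 2) = y ^ 16 := by
    intro y
    rw [← hρ'x, ← hj', hj2, pow_two, AlgEquiv.mul_apply, hφx, hφx, ← pow_mul]
  have h64 := pow_sixtyfour_eq (L := L) hF hL
  have : x = (x ^ 32) ^ 2 := by rw [← pow_mul]; norm_num; exact (h64 x).symm
  have h512 : x ^ 512 = x ^ 8 := by
    calc x ^ 512 = (x ^ 64) ^ 8 := by rw [← pow_mul]
      _ = x ^ 8 := by rw [h64]
  calc τ x = τ ((x ^ 32) ^ 2) := by rw [← this]
    _ = (x ^ 32) ^ 16 := h16 _
    _ = x ^ 512 := by rw [← pow_mul]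
    _ = x ^ 8 := h512

/-- **A2** the trace is `k + k ^ 4 + k ^ 16` -/
theorem algebraMap_trace (hF : Fintype.card F = 2 ^ 2) (hL : Module.finrank F L = 3) (k : L) :
    algebraMap F L (Algebra.trace F L k) = k + k ^ 4 + k ^ 16 := by
  rw [FiniteField.algebraMap_trace_eq_sum_pow F L k, hL, Nat.card_eq_fintype_card, hF]
  simp [Finset.sum_range_succ]

theorem trace_tau (hF : Fintype.card F = 2 ^ 2) (hL : Module.finrank F L = 3) (τ : L →+* L)
    (hτc : ∀ c : F, τ (algebraMap F L c) = algebraMap F L (c ^ 2)) (k : L) :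
    Algebra.trace F L (τ k) = (Algebra.trace F L k) ^ 2 := by
  apply (algebraMap F L).injective
  rw [algebraMap_trace hF hL, ← hτc, algebraMap_trace hF hL, map_add, map_add, map_pow, map_pow]

theorem trace_pow_four (hF : Fintype.card F = 2 ^ 2) (hL : Module.finrank F L = 3) (k : L) :
    Algebra.trace F L (k ^ 4) = Algebra.trace F L k := by
  apply (algebraMap F L).injective
  rw [algebraMap_trace hF hL, algebraMap_trace hF hL, ← pow_mul, ← pow_mul]
  norm_num
  rw [pow_sixtyfour_eq hF hL]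
  ring

theorem trace_pow_four_pow (hF : Fintype.card F = 2 ^ 2) (hL : Module.finrank F L = 3) (j : ℕ) (k : L) :
    Algebra.trace F L (k ^ (4 ^ j)) = Algebra.trace F L k := by
  induction j with
  | zero => simp
  | succ j ih => rw [pow_succ, pow_mul, trace_pow_four hF hL, ih]

theorem trace_nondeg (a : L) (h : ∀ k : L, Algebra.trace F L (k * a) = 0) : a = 0 := by
  have hnd := traceForm_nondegenerate F L
  refine hnd.2 a (fun k => ?_)
  rw [Algebra.traceForm_apply]
  exact h k

theorem exists_omega (hF : Fintype.card F = 2 ^ 2) : ∃ ω : F, ω ≠ 0 ∧ ω ^ 3 = 1 ∧ ω ^ 2 + ω + 1 = 0 := by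
  classical
  obtain ⟨ω, h0, h1⟩ : ∃ ω : F, ω ≠ 0 ∧ ω ≠ 1 := by
    by_contra hcon
    push Not at hcon
    have hsub : (Finset.univ : Finset F) ⊆ {0, 1} := by
      intro x _
      by_cases hx : x = 0
      · simp [hx]
      · simp [hcon x hx]
    have := Finset.card_le_card hsub
    rw [Finset.card_univ, hF] at this
    have h2 : ({0, 1} : Finset F).card ≤ 2 := Finset.card_le_two
    omega
  have h4 := pow_four_eq hF ω
  have h3 : ω ^ 3 = 1 := by
    have : ω * (ω ^ 3 - 1) = 0 := by linear_combination h4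
    rcases mul_eq_zero.1 this with h | h
    · exact absurd h h0
    · exact sub_eq_zero.1 h
  refine ⟨ω, h0, h3, ?_⟩
  have : (ω - 1) * (ω ^ 2 + ω + 1) = 0 := by linear_combination h3
  rcases mul_eq_zero.1 this with h | h
  · exact absurd (sub_eq_zero.1 h) h1
  · exact h

/-- **A4** an element of order dividing `21` is an `F`-multiple of a `τ`-fixed element -/
theorem exists_scalar_fixed (hF : Fintype.card F = 2 ^ 2) (hL : Module.finrank F L = 3) (τ : L →+* L)
    (hττ : ∀ x, τ (τ x) = x) (hτc : ∀ c : F, τ (algebraMap F L c) = algebraMap F L (c ^ 2)) {δ : L}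
    (hδ : δ ^ 21 = 1) : ∃ μ : F, μ ≠ 0 ∧ τ (μ⁻¹ • δ) = μ⁻¹ • δ := by
  obtain ⟨ω, hω0, hω3, hω⟩ := exists_omega hF
  set w : L := algebraMap F L ω with hw
  have hw3 : w ^ 3 = 1 := by rw [hw, ← map_pow, hω3, map_one]
  have hw1 : w ^ 2 + w + 1 = 0 := by rw [hw, ← map_pow, ← map_add, ← map_one (algebraMap F L), ← map_add, hω, map_zero]
  set ε : L := δ ^ 7 with hε
  have hε3 : ε ^ 3 = 1 := by rw [hε, ← pow_mul]; exact hδ
  have hprod : (ε - 1) * ((ε - w) * (ε - w ^ 2)) = 0 := by
    linear_combination hε3 + (-(ε ^ 2) + ε) * hw1 + (ε - 1) * hw3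
  have key : ∀ μ : F, μ ≠ 0 → μ ^ 3 = 1 → ε = algebraMap F L μ → ∃ μ : F, μ ≠ 0 ∧ τ (μ⁻¹ • δ) = μ⁻¹ • δ := by
    intro μ hμ0 hμ3 hεμ
    refine ⟨μ, hμ0, ?_⟩
    rw [tau_eq_pow hF hL τ hττ hτc, Algebra.smul_def, mul_pow]
    have h8 : δ ^ 8 = algebraMap F L μ * δ := by rw [← hεμ, hε, ← pow_succ]
    rw [h8, ← map_pow, ← mul_assoc, ← map_mul]
    congr 2
    have hμi3 : μ⁻¹ ^ 3 = 1 := by rw [inv_pow, hμ3, inv_one]
    calc μ⁻¹ ^ 8 * μ = (μ⁻¹ ^ 3) ^ 2 * μ⁻¹ * (μ⁻¹ * μ) := by ring
      _ = μ⁻¹ := by rw [hμi3, inv_mul_cancel₀ hμ0]; ring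
  rcases mul_eq_zero.1 hprod with h | h
  · exact key 1 one_ne_zero (one_pow 3) (by rw [map_one]; exact sub_eq_zero.1 h)
  · rcases mul_eq_zero.1 h with h | h
    · exact key ω hω0 hω3 (sub_eq_zero.1 h)
    · refine key (ω ^ 2) (pow_ne_zero 2 hω0) ?_ ?_
      · rw [← pow_mul, mul_comm, pow_mul, hω3, one_pow]
      · rw [map_pow]; exact sub_eq_zero.1 h

end ext


section wrap
variable {F : Type*} [Field F] [Fintype F]

/-- **L-SEMI**, exact shape for `|F| = 4`, `n = 6` -/
theorem conj_eq_pow_four (hF : Fintype.card F = 2 ^ 2) (K : Subalgebra F (Matrix (Fin 6) (Fin 6) F))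
    (hK : IsFieldSubalgebra 3 K) (g : GL (Fin 6) F) (hg : g ∈ subalgebraNormalizer K) :
    ∃ j : ℕ, ∀ k ∈ K, (g : Matrix (Fin 6) (Fin 6) F) * k * ((g⁻¹ : GL (Fin 6) F) : Matrix (Fin 6) (Fin 6) F) =
      k ^ (4 ^ j) := by
  obtain ⟨j, hj⟩ := conj_eq_pow K hK hg
  refine ⟨j, fun k hk => ?_⟩
  rw [hj k hk, hF]
  norm_num

end wrap

end Cfsg.Agent.Lib.Helper22.S5802HB
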