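import Mathlib
import Cfsg.Prelude.Def_GeometricClasses
import Cfsg.Prelude.Def_LieClassical
import Cfsg.Agent.Lib.Helper18.FormField
import Cfsg.Agent.Lib.Helper18.S5663U2
import Cfsg.Agent.Lib.Helper13.SubfField
import Cfsg.Agent.Lib.Helper22.S5802HB2

/-!
# S5802 hB, part (3) from a hyperbolic pair (helper22)

`of_hyperbolic`: for an adjoint-closed cubic field subalgebra `K` of `M_6(F_4)`, a `K`-hyperbolic pair `u₁, u₂`
(`h(k u_i, u_i) = 0`, `h(k u₁, u₂) = Tr_{K/F} k`) spanning `F^6` over `K`, and a basis `P` whose `F₀`-span is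
`K₀ u₁ + K₀ u₂` (`K₀` the self-adjoint elements of `K`, `|F₀| = 2`): `P` is a rational structure for the unitary form
with `ζ = 1`, the rational vectors are isotropic, and `N(K) ∩ SU_6(2) ≤ subfieldSubgroup F₀ P`.
-/

set_option autoImplicit false
set_option linter.style.haveILetI false
set_option linter.unusedSectionVars false

namespace Cfsg.Agent.Lib.Helper22.S5802HB

open Matrix Module Cfsg Cfsg.Geo Cfsg.Agent.Lib.Helper18.AschC3 Cfsg.Agent.Lib.Helper18.FormField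
  Cfsg.Agent.Lib.Helper18.S5663U2 Cfsg.Agent.Lib.Helper13

section cols
variable {F : Type*} [Field F] {n : ℕ}

/-- a matrix mapping the `F₀`-span of the columns of `P` into itself is `F₀`-rational in the basis `P` -/
theorem exists_rmat_of_maps (F₀ : Subfield F) (P : GL (Fin n) F) (N : Matrix (Fin n) (Fin n) F)
    (hN : ∀ c : Fin n → F, (∀ i, c i ∈ F₀) → ∃ c' : Fin n → F, (∀ i, c' i ∈ F₀) ∧
      N *ᵥ ((P : Matrix (Fin n) (Fin n) F) *ᵥ c) = (P : Matrix (Fin n) (Fin n) F) *ᵥ c') :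
    ∃ B : Matrix (Fin n) (Fin n) F₀,
      ((P⁻¹ : GL (Fin n) F) : Matrix (Fin n) (Fin n) F) * N * (P : Matrix (Fin n) (Fin n) F) = rmat F₀ B := by
  have hs : ∀ k : Fin n, ∀ i, (Pi.single k (1 : F) : Fin n → F) i ∈ F₀ := by
    intro k i
    by_cases h : i = k
    · subst h; rw [Pi.single_eq_same]; exact F₀.one_mem
    · rw [Pi.single_eq_of_ne h]; exact F₀.zero_mem
  choose c' hc' hc'' using fun k => hN (Pi.single k 1) (hs k)
  refine ⟨Matrix.of fun l k => ⟨c' k l, hc' k l⟩, ?_⟩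
  ext l k
  have h1 : (((P⁻¹ : GL (Fin n) F) : Matrix (Fin n) (Fin n) F) * N * (P : Matrix (Fin n) (Fin n) F)) *ᵥ
      (Pi.single k 1) = c' k := by
    rw [← Matrix.mulVec_mulVec, ← Matrix.mulVec_mulVec, hc'' k, Matrix.mulVec_mulVec, ← Units.val_mul,
      inv_mul_cancel, Units.val_one, Matrix.one_mulVec]
  have h2 := congrFun h1 l
  rw [Matrix.mulVec_single_one] at h2
  simpa [rmat] using h2

end cols


section main
variable {F : Type*} [Field F] [Fintype F]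

theorem subfield_two_cases (F₀ : Subfield F) (hF₀ : Nat.card F₀ = 2) {x : F} (hx : x ∈ F₀) : x = 0 ∨ x = 1 := by
  obtain ⟨y, hy, hy'⟩ := (Nat.card_eq_two_iff' (0 : F₀)).1 hF₀
  by_cases h0 : x = 0
  · exact Or.inl h0
  · right
    have h1 : (⟨x, hx⟩ : F₀) = y := hy' _ (fun h => h0 (congrArg Subtype.val h))
    have h2 : (1 : F₀) = y := hy' _ one_ne_zero
    have := h1.trans h2.symm
    exact congrArg Subtype.val this

theorem of_hyperbolic (hF : Fintype.card F = 2 ^ 2) (K : Subalgebra F (Matrix (Fin 6) (Fin 6) F))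
    (hK : IsFieldSubalgebra 3 K) (hadj : IsAdjointClosedFor (hermForm 6 F 2) K)
    (F₀ : Subfield F) (hF₀ : Nat.card F₀ = 2) (P : GL (Fin 6) F) (u₁ u₂ : Fin 6 → F)
    (h11 : ∀ k ∈ K, hermForm 6 F 2 (k *ᵥ u₁) u₁ = 0) (h22 : ∀ k ∈ K, hermForm 6 F 2 (k *ᵥ u₂) u₂ = 0)
    (h12 : ∀ k ∈ K, algebraMap F (Matrix (Fin 6) (Fin 6) F) (hermForm 6 F 2 (k *ᵥ u₁) u₂) = k + k ^ 4 + k ^ 16)
    (hspan : ∀ v : Fin 6 → F, ∃ a ∈ K, ∃ b ∈ K, v = a *ᵥ u₁ + b *ᵥ u₂)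
    (hP : ∀ v : Fin 6 → F, (∃ c : Fin 6 → F, (∀ i, c i ∈ F₀) ∧ v = (P : Matrix (Fin 6) (Fin 6) F) *ᵥ c) ↔
      ∃ a ∈ K, ∃ b ∈ K, (∀ x y, hermForm 6 F 2 (a *ᵥ x) y = hermForm 6 F 2 x (a *ᵥ y)) ∧
        (∀ x y, hermForm 6 F 2 (b *ᵥ x) y = hermForm 6 F 2 x (b *ᵥ y)) ∧ v = a *ᵥ u₁ + b *ᵥ u₂) :
    IsFormRationalStructure (hermForm 6 F 2) F₀ 1 P ∧
    (∀ u : Fin 6 → F, (∀ i, u i ∈ F₀) →
      hermForm 6 F 2 ((P : Matrix (Fin 6) (Fin 6) F) *ᵥ u) ((P : Matrix (Fin 6) (Fin 6) F) *ᵥ u) = 0) ∧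
    subalgebraNormalizer K ⊓ (GU 6 F 2 ⊓ specialLinear (Fin 6) F) ≤ subfieldSubgroup F₀ P := by
  letI := fieldOf K hK
  have hf : AdjForm (hermForm 6 F 2) := adjForm_hermForm hF
  haveI : CharP F 2 := charP_two_of_card hF
  have h2F : (2 : F) = 0 := CharP.ofNat_eq_zero F 2
  have h2K : (2 : ↥K) = 0 := by
    have := congrArg (algebraMap F ↥K) h2F
    rwa [map_ofNat, map_zero] at this
  set τ : ↥K →+* ↥K := adjK hf K hK.comm hadj with hτ
  have hττ : ∀ x, τ (τ x) = x := fun x => adjFun_adjFun hf K hadj x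
  have hτs : ∀ (k : ↥K) (u v : Fin 6 → F), hermForm 6 F 2 ((k : Matrix (Fin 6) (Fin 6) F) *ᵥ u) v =
      hermForm 6 F 2 u ((τ k : Matrix (Fin 6) (Fin 6) F) *ᵥ v) := fun k => adjFun_spec K hadj k
  have hcq : ∀ c : F, (c ^ 2) ^ 2 = c := by
    intro c
    rw [← pow_mul]
    exact pow_four_eq hF c
  have hτc : ∀ c : F, τ (algebraMap F ↥K c) = algebraMap F ↥K (c ^ 2) := by
    intro c
    apply Subtype.ext
    apply adjFun_eq hf K hadj
    intro u v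
    change hermForm 6 F 2 ((algebraMap F (Matrix (Fin 6) (Fin 6) F) c) *ᵥ u) v =
      hermForm 6 F 2 u ((algebraMap F (Matrix (Fin 6) (Fin 6) F) (c ^ 2)) *ᵥ v)
    rw [Algebra.algebraMap_eq_smul_one, Algebra.algebraMap_eq_smul_one, Matrix.smul_mulVec, Matrix.smul_mulVec,
      Matrix.one_mulVec, Matrix.one_mulVec, hf.smul_left, hermForm_smul_right, hcq]
  have hL : finrank F ↥K = 3 := hK.finrank_eq
  have hfix : ∀ k : ↥K, (∀ x y, hermForm 6 F 2 ((k : Matrix (Fin 6) (Fin 6) F) *ᵥ x) y =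
      hermForm 6 F 2 x ((k : Matrix (Fin 6) (Fin 6) F) *ᵥ y)) ↔ τ k = k := by
    intro k
    constructor
    · intro h
      exact Subtype.ext (adjFun_eq hf K hadj k _ h)
    · intro h x y
      have := hτs k x y
      rwa [h] at this
  have hmove : ∀ (k : ↥K) (x v : Fin 6 → F), hermForm 6 F 2 x ((k : Matrix (Fin 6) (Fin 6) F) *ᵥ v) =
      hermForm 6 F 2 ((τ k : Matrix (Fin 6) (Fin 6) F) *ᵥ x) v := by
    intro k x v
    rw [hτs (τ k) x v, hττ]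
  have hmm : ∀ (k k' : ↥K) (v : Fin 6 → F), (k : Matrix (Fin 6) (Fin 6) F) *ᵥ ((k' : Matrix (Fin 6) (Fin 6) F) *ᵥ v) =
      ((k * k' : ↥K) : Matrix (Fin 6) (Fin 6) F) *ᵥ v := by
    intro k k' v
    rw [Matrix.mulVec_mulVec]
    rfl
  -- the trace
  have ht12 : ∀ k : ↥K, hermForm 6 F 2 ((k : Matrix (Fin 6) (Fin 6) F) *ᵥ u₁) u₂ = Algebra.trace F ↥K k := by
    intro k
    apply (algebraMap F ↥K).injective
    apply Subtype.ext
    rw [algebraMap_trace hF hL k]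
    exact h12 k k.2
  have ht11 : ∀ k : ↥K, hermForm 6 F 2 ((k : Matrix (Fin 6) (Fin 6) F) *ᵥ u₁) u₁ = 0 := fun k => h11 k k.2
  have ht22 : ∀ k : ↥K, hermForm 6 F 2 ((k : Matrix (Fin 6) (Fin 6) F) *ᵥ u₂) u₂ = 0 := fun k => h22 k k.2
  have F1 : ∀ a b a' b' : ↥K, hermForm 6 F 2
      ((a : Matrix (Fin 6) (Fin 6) F) *ᵥ u₁ + (b : Matrix (Fin 6) (Fin 6) F) *ᵥ u₂)
      ((a' : Matrix (Fin 6) (Fin 6) F) *ᵥ u₁ + (b' : Matrix (Fin 6) (Fin 6) F) *ᵥ u₂) =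
      Algebra.trace F ↥K (a * τ b' + b * τ a') := by
    intro a b a' b'
    rw [hf.add_left, hf.add_right, hf.add_right, hmove a', hmove b', hmove a', hmove b', hmm, hmm, hmm, hmm,
      ht11, ht12, ht22, zero_add, add_zero]
    have h3 : hermForm 6 F 2 (((τ a' * b : ↥K) : Matrix (Fin 6) (Fin 6) F) *ᵥ u₂) u₁ =
        Algebra.trace F ↥K (b * τ a') := by
      rw [hermForm_swap hF, hmove, ht12, ← trace_tau hF hL τ hτc, map_mul, hττ, map_mul, hττ]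
      congr 1
      ring
    rw [h3, map_add]
    congr 2
    ring
  -- description of the rational vectors
  have hV₀ : ∀ c : Fin 6 → F, (∀ i, c i ∈ F₀) → ∃ a b : ↥K, τ a = a ∧ τ b = b ∧
      (P : Matrix (Fin 6) (Fin 6) F) *ᵥ c = (a : Matrix (Fin 6) (Fin 6) F) *ᵥ u₁ +
        (b : Matrix (Fin 6) (Fin 6) F) *ᵥ u₂ := by
    intro c hc
    obtain ⟨a, ha, b, hb, haa, hbb, hv⟩ := (hP _).1 ⟨c, hc, rfl⟩
    exact ⟨⟨a, ha⟩, ⟨b, hb⟩, (hfix ⟨a, ha⟩).1 haa, (hfix ⟨b, hb⟩).1 hbb, hv⟩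
  have hV₀' : ∀ a b : ↥K, τ a = a → τ b = b → ∃ c : Fin 6 → F, (∀ i, c i ∈ F₀) ∧
      (a : Matrix (Fin 6) (Fin 6) F) *ᵥ u₁ + (b : Matrix (Fin 6) (Fin 6) F) *ᵥ u₂ =
        (P : Matrix (Fin 6) (Fin 6) F) *ᵥ c := by
    intro a b ha hb
    exact (hP _).2 ⟨a, a.2, b, b.2, (hfix a).2 ha, (hfix b).2 hb, rfl⟩
  have htrfix : ∀ z : ↥K, τ z = z → Algebra.trace F ↥K z = 0 ∨ Algebra.trace F ↥K z = 1 := by
    intro z hz
    have h1 := trace_tau hF hL τ hτc z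
    rw [hz] at h1
    have h2 : Algebra.trace F ↥K z * (Algebra.trace F ↥K z - 1) = 0 := by linear_combination (-1 : F) * h1
    rcases mul_eq_zero.1 h2 with h | h
    · exact Or.inl h
    · exact Or.inr (sub_eq_zero.1 h)
  refine ⟨?_, ?_, ?_⟩
  · intro u v hu hv
    obtain ⟨a, b, ha, hb, huv⟩ := hV₀ u hu
    obtain ⟨a', b', ha', hb', hvv⟩ := hV₀ v hv
    rw [huv, hvv, F1, one_mul]
    have hz : τ (a * τ b' + b * τ a') = a * τ b' + b * τ a' := by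
      rw [map_add, map_mul, map_mul, hττ, hττ, ha, hb, ha', hb']
    rcases htrfix _ hz with h | h
    · rw [h]; exact F₀.zero_mem
    · rw [h]; exact F₀.one_mem
  · intro u hu
    obtain ⟨a, b, ha, hb, huv⟩ := hV₀ u hu
    rw [huv, F1, ha, hb]
    have : a * b + b * a = 0 := by linear_combination (a * b) * h2K
    rw [this, map_zero]
  · intro g hg
    obtain ⟨hgN, hgU, hgS⟩ : g ∈ subalgebraNormalizer K ∧ g ∈ GU 6 F 2 ∧ g ∈ specialLinear (Fin 6) F := by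
      rw [Subgroup.mem_inf, Subgroup.mem_inf] at hg
      exact ⟨hg.1, hg.2.1, hg.2.2⟩
    have hgU' : ∀ u v : Fin 6 → F, hermForm 6 F 2 ((g : Matrix (Fin 6) (Fin 6) F) *ᵥ u)
        ((g : Matrix (Fin 6) (Fin 6) F) *ᵥ v) = hermForm 6 F 2 u v := hgU
    have hgdet : (g : Matrix (Fin 6) (Fin 6) F).det = 1 := by
      have h1 : Matrix.GeneralLinearGroup.det g = 1 := hgS
      have h2 := congrArg Units.val h1
      rwa [Matrix.GeneralLinearGroup.val_det_apply] at h2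
    obtain ⟨j, hj⟩ := conj_eq_pow_four hF K hK g hgN
    -- semilinearity
    have hsemi : ∀ (k : ↥K) (v : Fin 6 → F), (g : Matrix (Fin 6) (Fin 6) F) *ᵥ ((k : Matrix (Fin 6) (Fin 6) F) *ᵥ v) =
        ((k ^ (4 ^ j) : ↥K) : Matrix (Fin 6) (Fin 6) F) *ᵥ ((g : Matrix (Fin 6) (Fin 6) F) *ᵥ v) := by
      intro k v
      have h1 := hj k k.2
      have h2 : (g : Matrix (Fin 6) (Fin 6) F) * (k : Matrix (Fin 6) (Fin 6) F) =
          (k : Matrix (Fin 6) (Fin 6) F) ^ (4 ^ j) * (g : Matrix (Fin 6) (Fin 6) F) := by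
        rw [← h1, mul_assoc, ← Units.val_mul, inv_mul_cancel, Units.val_one, mul_one]
      rw [Matrix.mulVec_mulVec, Matrix.mulVec_mulVec, h2]
      rfl
    -- surjectivity of the Frobenius power
    have hsurj : ∀ k' : ↥K, ∃ k : ↥K, k ^ (4 ^ j) = k' := by
      intro k'
      obtain ⟨k, hk⟩ := ((FiniteField.frobeniusAlgEquivOfAlgebraic F ↥K) ^ j).surjective k'
      refine ⟨k, ?_⟩
      rw [AlgEquiv.coe_pow, FiniteField.coe_frobeniusAlgEquivOfAlgebraic_iterate, hF] at hk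
      norm_num at hk
      exact hk
    obtain ⟨a, ha, b, hb, hab⟩ := hspan ((g : Matrix (Fin 6) (Fin 6) F) *ᵥ u₁)
    obtain ⟨c, hc, d, hd, hcd⟩ := hspan ((g : Matrix (Fin 6) (Fin 6) F) *ᵥ u₂)
    obtain ⟨a, rfl⟩ : ∃ a' : ↥K, (a' : Matrix (Fin 6) (Fin 6) F) = a := ⟨⟨a, ha⟩, rfl⟩
    obtain ⟨b, rfl⟩ : ∃ b' : ↥K, (b' : Matrix (Fin 6) (Fin 6) F) = b := ⟨⟨b, hb⟩, rfl⟩
    obtain ⟨c, rfl⟩ : ∃ c' : ↥K, (c' : Matrix (Fin 6) (Fin 6) F) = c := ⟨⟨c, hc⟩, rfl⟩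
    obtain ⟨d, rfl⟩ : ∃ d' : ↥K, (d' : Matrix (Fin 6) (Fin 6) F) = d := ⟨⟨d, hd⟩, rfl⟩
    -- image of `x u₁ + y u₂`
    have himg : ∀ x y : ↥K, (g : Matrix (Fin 6) (Fin 6) F) *ᵥ
        ((x : Matrix (Fin 6) (Fin 6) F) *ᵥ u₁ + (y : Matrix (Fin 6) (Fin 6) F) *ᵥ u₂) =
        ((x ^ (4 ^ j) * a + y ^ (4 ^ j) * c : ↥K) : Matrix (Fin 6) (Fin 6) F) *ᵥ u₁ +
          ((x ^ (4 ^ j) * b + y ^ (4 ^ j) * d : ↥K) : Matrix (Fin 6) (Fin 6) F) *ᵥ u₂ := by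
      intro x y
      rw [Matrix.mulVec_add, hsemi, hsemi, hab, hcd, Matrix.mulVec_add, Matrix.mulVec_add, hmm, hmm, hmm, hmm]
      have e1 : ((x ^ (4 ^ j) * a + y ^ (4 ^ j) * c : ↥K) : Matrix (Fin 6) (Fin 6) F) =
          ((x ^ (4 ^ j) * a : ↥K) : Matrix (Fin 6) (Fin 6) F) + ((y ^ (4 ^ j) * c : ↥K) : Matrix (Fin 6) (Fin 6) F) := rfl
      have e2 : ((x ^ (4 ^ j) * b + y ^ (4 ^ j) * d : ↥K) : Matrix (Fin 6) (Fin 6) F) =
          ((x ^ (4 ^ j) * b : ↥K) : Matrix (Fin 6) (Fin 6) F) + ((y ^ (4 ^ j) * d : ↥K) : Matrix (Fin 6) (Fin 6) F) := rfl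
      rw [e1, e2, Matrix.add_mulVec, Matrix.add_mulVec]
      abel
    have hone : ∀ v : Fin 6 → F, ((1 : ↥K) : Matrix (Fin 6) (Fin 6) F) *ᵥ v = v := fun v => by
      change (1 : Matrix (Fin 6) (Fin 6) F) *ᵥ v = v
      rw [Matrix.one_mulVec]
    have hzero : ∀ v : Fin 6 → F, ((0 : ↥K) : Matrix (Fin 6) (Fin 6) F) *ᵥ v = 0 := fun v => by
      change (0 : Matrix (Fin 6) (Fin 6) F) *ᵥ v = 0
      rw [Matrix.zero_mulVec]
    -- the unitary relations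
    have R1 : a * τ b + b * τ a = 0 := by
      apply trace_nondeg (F := F)
      intro k'
      obtain ⟨k, rfl⟩ := hsurj k'
      have h1 := hgU' ((k : Matrix (Fin 6) (Fin 6) F) *ᵥ u₁) u₁
      rw [ht11] at h1
      have h2 := himg k 0
      have h3 := himg 1 0
      rw [hzero, add_zero] at h2 h3
      rw [hone] at h3
      rw [h2, h3, F1] at h1
      rw [← h1]
      congr 1
      rw [zero_pow (by positivity), one_pow]
      simp only [zero_mul, one_mul, add_zero]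
      ring
    have R2 : c * τ d + d * τ c = 0 := by
      apply trace_nondeg (F := F)
      intro k'
      obtain ⟨k, rfl⟩ := hsurj k'
      have h1 := hgU' ((k : Matrix (Fin 6) (Fin 6) F) *ᵥ u₂) u₂
      rw [ht22] at h1
      have h2 := himg 0 k
      have h3 := himg 0 1
      rw [hzero, zero_add] at h2 h3
      rw [hone] at h3
      rw [h2, h3, F1] at h1
      rw [← h1]
      congr 1
      rw [zero_pow (by positivity), one_pow]
      simp only [zero_mul, one_mul, zero_add]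
      ring
    have R3 : a * τ d + b * τ c = 1 := by
      have h0 : a * τ d + b * τ c - 1 = 0 := by
        apply trace_nondeg (F := F)
        intro k'
        obtain ⟨k, rfl⟩ := hsurj k'
        have h1 := hgU' ((k : Matrix (Fin 6) (Fin 6) F) *ᵥ u₁) u₂
        rw [ht12] at h1
        have h2 := himg k 0
        have h3 := himg 0 1
        rw [hzero, add_zero] at h2
        rw [hzero, zero_add, hone] at h3
        rw [h2, h3, F1] at h1
        rw [mul_sub, map_sub, mul_one, trace_pow_four_pow hF hL, ← h1, sub_eq_zero]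
        congr 1
        rw [zero_pow (by positivity), one_pow]
        simp only [zero_mul, one_mul, zero_add, add_zero]
        ring
      exact sub_eq_zero.1 h0
    obtain ⟨δ, hδ0, hfa, hfb, hfc, hfd⟩ := u2_entries τ hττ h2K R1 R2 R3
    have hτpow : ∀ x : ↥K, τ x = x → τ (x ^ (4 ^ j)) = x ^ (4 ^ j) := fun x hx => by rw [map_pow, hx]
    -- `g` maps `V₀` into `δ V₀`
    have hmap : ∀ x y : ↥K, τ x = x → τ y = y → ∃ x' y' : ↥K, τ x' = x' ∧ τ y' = y' ∧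
        (g : Matrix (Fin 6) (Fin 6) F) *ᵥ
          ((x : Matrix (Fin 6) (Fin 6) F) *ᵥ u₁ + (y : Matrix (Fin 6) (Fin 6) F) *ᵥ u₂) =
        (δ : Matrix (Fin 6) (Fin 6) F) *ᵥ
          ((x' : Matrix (Fin 6) (Fin 6) F) *ᵥ u₁ + (y' : Matrix (Fin 6) (Fin 6) F) *ᵥ u₂) := by
      intro x y hx hy
      refine ⟨x ^ (4 ^ j) * (a / δ) + y ^ (4 ^ j) * (c / δ), x ^ (4 ^ j) * (b / δ) + y ^ (4 ^ j) * (d / δ), ?_, ?_, ?_⟩
      · rw [map_add, map_mul, map_mul, hτpow x hx, hτpow y hy, hfa, hfc]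
      · rw [map_add, map_mul, map_mul, hτpow x hx, hτpow y hy, hfb, hfd]
      · rw [himg, Matrix.mulVec_add, hmm, hmm]
        have e1 : δ * (x ^ (4 ^ j) * (a / δ) + y ^ (4 ^ j) * (c / δ)) = x ^ (4 ^ j) * a + y ^ (4 ^ j) * c := by
          field_simp
        have e2 : δ * (x ^ (4 ^ j) * (b / δ) + y ^ (4 ^ j) * (d / δ)) = x ^ (4 ^ j) * b + y ^ (4 ^ j) * d := by
          field_simp
        rw [e1, e2]
    -- `δ⁻¹ g` preserves `V₀`, hence `det δ = 1`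
    have hN₁ : ∀ c₀ : Fin 6 → F, (∀ i, c₀ i ∈ F₀) → ∃ c' : Fin 6 → F, (∀ i, c' i ∈ F₀) ∧
        (((δ⁻¹ : ↥K) : Matrix (Fin 6) (Fin 6) F) * (g : Matrix (Fin 6) (Fin 6) F)) *ᵥ
          ((P : Matrix (Fin 6) (Fin 6) F) *ᵥ c₀) = (P : Matrix (Fin 6) (Fin 6) F) *ᵥ c' := by
      intro c₀ hc₀
      obtain ⟨x, y, hx, hy, hxy⟩ := hV₀ c₀ hc₀
      obtain ⟨x', y', hx', hy', hg'⟩ := hmap x y hx hy
      obtain ⟨c', hc', hc''⟩ := hV₀' x' y' hx' hy'
      refine ⟨c', hc', ?_⟩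
      rw [← Matrix.mulVec_mulVec, hxy, hg', hmm, inv_mul_cancel₀ hδ0, hone, hc'']
    obtain ⟨B₁, hB₁⟩ := exists_rmat_of_maps F₀ P _ hN₁
    have hdetδ : (δ : Matrix (Fin 6) (Fin 6) F).det = 1 := by
      have h1 := congrArg Matrix.det hB₁
      rw [Matrix.det_units_conj', Matrix.det_mul, hgdet, mul_one] at h1
      have h2 : (rmat F₀ B₁).det = ((B₁.det : F₀) : F) := by
        unfold rmat
        have := (RingHom.map_det F₀.subtype B₁).symm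
        exact this
      have h3 : ((δ⁻¹ : ↥K) : Matrix (Fin 6) (Fin 6) F).det * (δ : Matrix (Fin 6) (Fin 6) F).det = 1 := by
        rw [← Matrix.det_mul]
        have : ((δ⁻¹ : ↥K) : Matrix (Fin 6) (Fin 6) F) * (δ : Matrix (Fin 6) (Fin 6) F) = 1 := by
          have := congrArg Subtype.val (inv_mul_cancel₀ hδ0)
          exact this
        rw [this, Matrix.det_one]
      rcases subfield_two_cases F₀ hF₀ (B₁.det).2 with h | h
      · rw [h1, h2, h, zero_mul] at h3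
        exact absurd h3 zero_ne_one
      · rw [h1, h2, h, one_mul] at h3
        exact h3
    have hδ21 : δ ^ 21 = 1 := Subtype.ext (pow_eq_one_of_det hF K hK δ.2 hdetδ)
    obtain ⟨μ, hμ0, hμ⟩ := exists_scalar_fixed hF hL τ hττ hτc hδ21
    -- `μ⁻¹ g` preserves `V₀`
    have hN₂ : ∀ c₀ : Fin 6 → F, (∀ i, c₀ i ∈ F₀) → ∃ c' : Fin 6 → F, (∀ i, c' i ∈ F₀) ∧
        (μ⁻¹ • (g : Matrix (Fin 6) (Fin 6) F)) *ᵥ
          ((P : Matrix (Fin 6) (Fin 6) F) *ᵥ c₀) = (P : Matrix (Fin 6) (Fin 6) F) *ᵥ c' := by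
      intro c₀ hc₀
      obtain ⟨x, y, hx, hy, hxy⟩ := hV₀ c₀ hc₀
      obtain ⟨x', y', hx', hy', hg'⟩ := hmap x y hx hy
      obtain ⟨c', hc', hc''⟩ := hV₀' ((μ⁻¹ • δ) * x') ((μ⁻¹ • δ) * y')
        (by rw [map_mul, hμ, hx']) (by rw [map_mul, hμ, hy'])
      refine ⟨c', hc', ?_⟩
      rw [Matrix.smul_mulVec, hxy, hg', ← hc'', ← hmm, ← hmm, ← Matrix.mulVec_add]
      have : ((μ⁻¹ • δ : ↥K) : Matrix (Fin 6) (Fin 6) F) = μ⁻¹ • (δ : Matrix (Fin 6) (Fin 6) F) := rfl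
      rw [this, Matrix.smul_mulVec]
    obtain ⟨B₂, hB₂⟩ := exists_rmat_of_maps F₀ P _ hN₂
    apply mem_subfieldSubgroup_of_eq F₀ P g μ hμ0 B₂
    rw [← hB₂, Matrix.mul_smul, Matrix.smul_mul, smul_smul, mul_inv_cancel₀ hμ0, one_smul]
    rfl

end main

end Cfsg.Agent.Lib.Helper22.S5802HB
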