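import Mathlib

/-!
# SL₂ over a field: elementary matrices, the group `XG F β = ⟨a(c), b(cβ) : c ∈ F⟩`
-/

set_option autoImplicit false

namespace Cfsg.Agent.Lib.Helper22.SL2G

open Matrix

variable {K : Type*} [Field K]

/-- upper unitriangular matrix `a(t)` -/
def ua (t : K) : SpecialLinearGroup (Fin 2) K := ⟨!![1, t; 0, 1], by simp [det_fin_two]⟩

/-- lower unitriangular matrix `b(t)` -/
def lb (t : K) : SpecialLinearGroup (Fin 2) K := ⟨!![1, 0; t, 1], by simp [det_fin_two]⟩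

@[simp] lemma ua_val (t : K) : (ua t : Matrix (Fin 2) (Fin 2) K) = !![1, t; 0, 1] := rfl
@[simp] lemma lb_val (t : K) : (lb t : Matrix (Fin 2) (Fin 2) K) = !![1, 0; t, 1] := rfl

lemma sl_ext {x y : SpecialLinearGroup (Fin 2) K}
    (h00 : (x : Matrix (Fin 2) (Fin 2) K) 0 0 = (y : Matrix (Fin 2) (Fin 2) K) 0 0)
    (h01 : (x : Matrix (Fin 2) (Fin 2) K) 0 1 = (y : Matrix (Fin 2) (Fin 2) K) 0 1)
    (h10 : (x : Matrix (Fin 2) (Fin 2) K) 1 0 = (y : Matrix (Fin 2) (Fin 2) K) 1 0)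
    (h11 : (x : Matrix (Fin 2) (Fin 2) K) 1 1 = (y : Matrix (Fin 2) (Fin 2) K) 1 1) : x = y := by
  apply Matrix.SpecialLinearGroup.ext
  intro i j
  fin_cases i <;> fin_cases j <;> assumption

lemma ua_mul (s t : K) : ua s * ua t = ua (s + t) := by
  apply sl_ext <;> simp [Matrix.mul_apply, Fin.sum_univ_two, add_comm]

lemma lb_mul (s t : K) : lb s * lb t = lb (s + t) := by
  apply sl_ext <;> simp [Matrix.mul_apply, Fin.sum_univ_two]

lemma ua_zero : ua (0 : K) = 1 := by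
  apply sl_ext <;> simp

lemma lb_zero : lb (0 : K) = 1 := by
  apply sl_ext <;> simp

lemma ua_inv (t : K) : (ua t)⁻¹ = ua (-t) := by
  rw [inv_eq_iff_mul_eq_one, ua_mul, add_neg_cancel, ua_zero]

lemma lb_inv (t : K) : (lb t)⁻¹ = lb (-t) := by
  rw [inv_eq_iff_mul_eq_one, lb_mul, add_neg_cancel, lb_zero]

/-- entries of a product -/
lemma mul_entry (x y : SpecialLinearGroup (Fin 2) K) (i j : Fin 2) :
    ((x * y : SpecialLinearGroup (Fin 2) K) : Matrix (Fin 2) (Fin 2) K) i j =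
      (x : Matrix (Fin 2) (Fin 2) K) i 0 * (y : Matrix (Fin 2) (Fin 2) K) 0 j +
      (x : Matrix (Fin 2) (Fin 2) K) i 1 * (y : Matrix (Fin 2) (Fin 2) K) 1 j := by
  simp [Matrix.mul_apply, Fin.sum_univ_two]

lemma det_entry (x : SpecialLinearGroup (Fin 2) K) :
    (x : Matrix (Fin 2) (Fin 2) K) 0 0 * (x : Matrix (Fin 2) (Fin 2) K) 1 1 -
      (x : Matrix (Fin 2) (Fin 2) K) 0 1 * (x : Matrix (Fin 2) (Fin 2) K) 1 0 = 1 := by
  have := x.2
  rw [det_fin_two] at this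
  exact this

lemma inv_entry00 (x : SpecialLinearGroup (Fin 2) K) :
    ((x⁻¹ : SpecialLinearGroup (Fin 2) K) : Matrix (Fin 2) (Fin 2) K) 0 0 =
      (x : Matrix (Fin 2) (Fin 2) K) 1 1 := by
  simp [adjugate_fin_two]

lemma inv_entry01 (x : SpecialLinearGroup (Fin 2) K) :
    ((x⁻¹ : SpecialLinearGroup (Fin 2) K) : Matrix (Fin 2) (Fin 2) K) 0 1 =
      - (x : Matrix (Fin 2) (Fin 2) K) 0 1 := by
  simp [adjugate_fin_two]

lemma inv_entry10 (x : SpecialLinearGroup (Fin 2) K) :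
    ((x⁻¹ : SpecialLinearGroup (Fin 2) K) : Matrix (Fin 2) (Fin 2) K) 1 0 =
      - (x : Matrix (Fin 2) (Fin 2) K) 1 0 := by
  simp [adjugate_fin_two]

lemma inv_entry11 (x : SpecialLinearGroup (Fin 2) K) :
    ((x⁻¹ : SpecialLinearGroup (Fin 2) K) : Matrix (Fin 2) (Fin 2) K) 1 1 =
      (x : Matrix (Fin 2) (Fin 2) K) 0 0 := by
  simp [adjugate_fin_two]

/-- The basic conjugation identity `a(1/δ) b(-δ²c) a(-1/δ) = b(δ) a(c) b(-δ)`. -/
lemma conj_identity (δ c : K) (hδ : δ ≠ 0) :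
    ua (1 / δ) * lb (-(δ ^ 2 * c)) * ua (-(1 / δ)) = lb δ * ua c * lb (-δ) := by
  apply sl_ext <;> simp only [mul_entry, ua_val, lb_val] <;> simp <;> field_simp <;> ring

/-- The subgroup generated by `a(c)`, `b(cβ)`, `c ∈ F`. -/
def XG (F : Subfield K) (β : K) : Subgroup (SpecialLinearGroup (Fin 2) K) :=
  Subgroup.closure ({g | ∃ c ∈ F, g = ua c} ∪ {g | ∃ c ∈ F, g = lb (c * β)})

lemma ua_mem_XG (F : Subfield K) (β : K) {c : K} (hc : c ∈ F) : ua c ∈ XG F β :=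
  Subgroup.subset_closure (Or.inl ⟨c, hc, rfl⟩)

lemma lb_mem_XG (F : Subfield K) (β : K) {c : K} (hc : c ∈ F) : lb (c * β) ∈ XG F β :=
  Subgroup.subset_closure (Or.inr ⟨c, hc, rfl⟩)

lemma XG_le (F : Subfield K) (β : K) (H : Subgroup (SpecialLinearGroup (Fin 2) K))
    (ha : ∀ c ∈ F, ua c ∈ H) (hb : ∀ c ∈ F, lb (c * β) ∈ H) : XG F β ≤ H := by
  unfold XG
  rw [Subgroup.closure_le]
  rintro g (⟨c, hc, rfl⟩ | ⟨c, hc, rfl⟩)
  · exact ha c hc
  · exact hb c hc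

/-- underlying function of the flip automorphism: conjugation by `[[0,1],[β,0]]` -/
def psiFun (β : K) (hβ : β ≠ 0) (x : SpecialLinearGroup (Fin 2) K) :
    SpecialLinearGroup (Fin 2) K :=
  ⟨!![(x : Matrix (Fin 2) (Fin 2) K) 1 1, (x : Matrix (Fin 2) (Fin 2) K) 1 0 / β;
      β * (x : Matrix (Fin 2) (Fin 2) K) 0 1, (x : Matrix (Fin 2) (Fin 2) K) 0 0], by
    rw [det_fin_two]
    simp only [of_apply, cons_val', cons_val_zero, cons_val_one, empty_val', cons_val_fin_one]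
    have := det_entry x
    field_simp
    linear_combination this⟩

lemma psiFun_val (β : K) (hβ : β ≠ 0) (x : SpecialLinearGroup (Fin 2) K) :
    (psiFun β hβ x : Matrix (Fin 2) (Fin 2) K) =
      !![(x : Matrix (Fin 2) (Fin 2) K) 1 1, (x : Matrix (Fin 2) (Fin 2) K) 1 0 / β;
      β * (x : Matrix (Fin 2) (Fin 2) K) 0 1, (x : Matrix (Fin 2) (Fin 2) K) 0 0] := rfl

/-- the flip automorphism: conjugation by `[[0,1],[β,0]]` -/
def psi (β : K) (hβ : β ≠ 0) : SpecialLinearGroup (Fin 2) K →* SpecialLinearGroup (Fin 2) K where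
  toFun x := psiFun β hβ x
  map_one' := by
    apply sl_ext <;> simp [psiFun_val β hβ]
  map_mul' x y := by
    apply sl_ext <;> simp only [mul_entry, psiFun_val β hβ] <;> simp <;> field_simp <;> ring

lemma psi_val (β : K) (hβ : β ≠ 0) (x : SpecialLinearGroup (Fin 2) K) :
    (psi β hβ x : Matrix (Fin 2) (Fin 2) K) =
      !![(x : Matrix (Fin 2) (Fin 2) K) 1 1, (x : Matrix (Fin 2) (Fin 2) K) 1 0 / β;
      β * (x : Matrix (Fin 2) (Fin 2) K) 0 1, (x : Matrix (Fin 2) (Fin 2) K) 0 0] :=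
  psiFun_val β hβ x

lemma psi_ua (β : K) (hβ : β ≠ 0) (c : K) : psi β hβ (ua c) = lb (c * β) := by
  apply sl_ext <;> simp [psi_val, mul_comm]

lemma psi_lb (β : K) (hβ : β ≠ 0) (c : K) : psi β hβ (lb (c * β)) = ua c := by
  apply sl_ext <;> simp [psi_val, hβ]

lemma psi_mem (F : Subfield K) (β : K) (hβ : β ≠ 0) {x : SpecialLinearGroup (Fin 2) K}
    (hx : x ∈ XG F β) : psi β hβ x ∈ XG F β := by
  have : XG F β ≤ (XG F β).comap (psi β hβ) := by
    apply XG_le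
    · intro c hc
      rw [Subgroup.mem_comap, psi_ua]
      exact lb_mem_XG F β hc
    · intro c hc
      rw [Subgroup.mem_comap, psi_lb]
      exact ua_mem_XG F β hc
  exact this hx

/-- `a(t) ∈ X ⇒ b(tβ) ∈ X`. -/
lemma lb_of_ua (F : Subfield K) (β : K) (hβ : β ≠ 0) {t : K} (h : ua t ∈ XG F β) :
    lb (t * β) ∈ XG F β := by
  have := psi_mem F β hβ h
  rwa [psi_ua] at this

end Cfsg.Agent.Lib.Helper22.SL2G
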