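import Mathlib
import Cfsg.Agent.Lib.Helper22.SL2A

/-!
# SL₂ over a subfield is generated by elementary matrices; consequences of `b(1) ∈ XG F β`
-/

set_option autoImplicit false

namespace Cfsg.Agent.Lib.Helper22.SL2G

open Matrix

variable {K : Type*} [Field K]

/-- matrices of `SL₂(K)` with all entries in the subfield `F` -/
def entriesSubgroup (F : Subfield K) : Subgroup (SpecialLinearGroup (Fin 2) K) where
  carrier := {g | ∀ i j : Fin 2, (g : Matrix (Fin 2) (Fin 2) K) i j ∈ F}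
  one_mem' := by
    intro i j
    fin_cases i <;> fin_cases j <;> simp [F.one_mem, F.zero_mem]
  mul_mem' := by
    intro x y hx hy i j
    rw [mul_entry]
    exact F.add_mem (F.mul_mem (hx i 0) (hy 0 j)) (F.mul_mem (hx i 1) (hy 1 j))
  inv_mem' := by
    intro x hx i j
    fin_cases i <;> fin_cases j
    · show ((x⁻¹ : SpecialLinearGroup (Fin 2) K) : Matrix (Fin 2) (Fin 2) K) 0 0 ∈ F
      rw [inv_entry00]; exact hx 1 1
    · show ((x⁻¹ : SpecialLinearGroup (Fin 2) K) : Matrix (Fin 2) (Fin 2) K) 0 1 ∈ F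
      rw [inv_entry01]; exact F.neg_mem (hx 0 1)
    · show ((x⁻¹ : SpecialLinearGroup (Fin 2) K) : Matrix (Fin 2) (Fin 2) K) 1 0 ∈ F
      rw [inv_entry10]; exact F.neg_mem (hx 1 0)
    · show ((x⁻¹ : SpecialLinearGroup (Fin 2) K) : Matrix (Fin 2) (Fin 2) K) 1 1 ∈ F
      rw [inv_entry11]; exact hx 0 0

lemma mem_entriesSubgroup (F : Subfield K) (g : SpecialLinearGroup (Fin 2) K) :
    g ∈ entriesSubgroup F ↔ ∀ i j : Fin 2, (g : Matrix (Fin 2) (Fin 2) K) i j ∈ F := Iff.rfl

lemma ua_mem_entries (F : Subfield K) {t : K} (ht : t ∈ F) : ua t ∈ entriesSubgroup F := by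
  intro i j
  fin_cases i <;> fin_cases j <;> simp [F.one_mem, F.zero_mem, ht]

lemma lb_mem_entries (F : Subfield K) {t : K} (ht : t ∈ F) : lb t ∈ entriesSubgroup F := by
  intro i j
  fin_cases i <;> fin_cases j <;> simp [F.one_mem, F.zero_mem, ht]

/-- Bruhat-type decomposition when the lower-left entry is nonzero. -/
lemma decomp (g : SpecialLinearGroup (Fin 2) K)
    (h : (g : Matrix (Fin 2) (Fin 2) K) 1 0 ≠ 0) :
    g = ua (((g : Matrix (Fin 2) (Fin 2) K) 0 0 - 1) / (g : Matrix (Fin 2) (Fin 2) K) 1 0) *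
        lb ((g : Matrix (Fin 2) (Fin 2) K) 1 0) *
        ua (((g : Matrix (Fin 2) (Fin 2) K) 1 1 - 1) / (g : Matrix (Fin 2) (Fin 2) K) 1 0) := by
  have hd := det_entry g
  apply sl_ext <;> simp only [mul_entry, ua_val, lb_val] <;> simp <;> field_simp
  all_goals first | ring1 | linear_combination (-1 : K) * hd

/-- `SL₂(F)` is generated by the elementary matrices over `F`. -/
lemma mem_of_entries (F : Subfield K) (H : Subgroup (SpecialLinearGroup (Fin 2) K))
    (ha : ∀ c ∈ F, ua c ∈ H) (hb : ∀ c ∈ F, lb c ∈ H) (g : SpecialLinearGroup (Fin 2) K)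
    (hg : g ∈ entriesSubgroup F) : g ∈ H := by
  have key : ∀ g : SpecialLinearGroup (Fin 2) K, g ∈ entriesSubgroup F →
      (g : Matrix (Fin 2) (Fin 2) K) 1 0 ≠ 0 → g ∈ H := by
    intro g hg h
    rw [decomp g h]
    refine H.mul_mem (H.mul_mem (ha _ ?_) (hb _ (hg 1 0))) (ha _ ?_)
    · exact F.div_mem (F.sub_mem (hg 0 0) F.one_mem) (hg 1 0)
    · exact F.div_mem (F.sub_mem (hg 1 1) F.one_mem) (hg 1 0)
  by_cases h : (g : Matrix (Fin 2) (Fin 2) K) 1 0 = 0
  · have hd := det_entry g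
    rw [h, mul_zero, sub_zero] at hd
    have h00 : (g : Matrix (Fin 2) (Fin 2) K) 0 0 ≠ 0 := by
      intro h0; rw [h0, zero_mul] at hd; exact zero_ne_one hd
    have h1 : lb 1 * g ∈ H := by
      apply key
      · exact (entriesSubgroup F).mul_mem (lb_mem_entries F F.one_mem) hg
      · rw [mul_entry]; simp [h, h00]
    have : g = (lb 1)⁻¹ * (lb 1 * g) := by group
    rw [this]
    exact H.mul_mem (H.inv_mem (hb 1 F.one_mem)) h1
  · exact key g hg h

/-- Weyl element `n = a(1) b(-1) a(1)`. -/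
def wn : SpecialLinearGroup (Fin 2) K := ua 1 * lb (-1) * ua 1

lemma wn_conj_ua (t : K) : (wn : SpecialLinearGroup (Fin 2) K) * ua t * wn⁻¹ = lb (-t) := by
  rw [mul_inv_eq_iff_eq_mul]
  apply sl_ext <;> simp only [wn, mul_entry, ua_val, lb_val] <;> simp

lemma wn_conj_lb (t : K) : (wn : SpecialLinearGroup (Fin 2) K) * lb t * wn⁻¹ = ua (-t) := by
  rw [mul_inv_eq_iff_eq_mul]
  apply sl_ext <;> simp only [wn, mul_entry, ua_val, lb_val] <;> simp

/-- If `b(1) ∈ XG F β` then `a(cβⁿ), b(cβⁿ) ∈ XG F β` for all `c ∈ F`. -/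
lemma mem_of_lb_one (F : Subfield K) (β : K) (hβ : β ≠ 0) (h1 : lb 1 ∈ XG F β) :
    ∀ n : ℕ, ∀ c ∈ F, ua (c * β ^ n) ∈ XG F β ∧ lb (c * β ^ n) ∈ XG F β := by
  have hwn : (wn : SpecialLinearGroup (Fin 2) K) ∈ XG F β := by
    unfold wn
    refine (XG F β).mul_mem ((XG F β).mul_mem (ua_mem_XG F β F.one_mem) ?_)
      (ua_mem_XG F β F.one_mem)
    rw [← lb_inv]
    exact (XG F β).inv_mem h1
  have hab : ∀ t : K, ua t ∈ XG F β → lb t ∈ XG F β := by
    intro t ht
    have h := (XG F β).mul_mem ((XG F β).mul_mem hwn ht) ((XG F β).inv_mem hwn)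
    rw [wn_conj_ua] at h
    have h' := (XG F β).inv_mem h
    rwa [lb_inv, neg_neg] at h'
  have hba : ∀ t : K, lb t ∈ XG F β → ua t ∈ XG F β := by
    intro t ht
    have h := (XG F β).mul_mem ((XG F β).mul_mem hwn ht) ((XG F β).inv_mem hwn)
    rw [wn_conj_lb] at h
    have h' := (XG F β).inv_mem h
    rwa [ua_inv, neg_neg] at h'
  intro n
  induction n with
  | zero =>
    intro c hc
    rw [pow_zero, mul_one]
    exact ⟨ua_mem_XG F β hc, hab c (ua_mem_XG F β hc)⟩
  | succ n ih =>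
    intro c hc
    have h := lb_of_ua F β hβ (ih c hc).1
    have e : c * β ^ n * β = c * β ^ (n + 1) := by ring
    rw [e] at h
    exact ⟨hba _ h, h⟩

lemma ua_sum_mem (H : Subgroup (SpecialLinearGroup (Fin 2) K)) {ι : Type*} (s : Finset ι)
    (f : ι → K) (h : ∀ i ∈ s, ua (f i) ∈ H) : ua (∑ i ∈ s, f i) ∈ H := by
  classical
  induction s using Finset.induction_on with
  | empty => rw [Finset.sum_empty, ua_zero]; exact H.one_mem
  | insert a s ha ih =>
    rw [Finset.sum_insert ha, ← ua_mul]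
    exact H.mul_mem (h a (Finset.mem_insert_self a s))
      (ih (fun i hi => h i (Finset.mem_insert_of_mem hi)))

lemma lb_sum_mem (H : Subgroup (SpecialLinearGroup (Fin 2) K)) {ι : Type*} (s : Finset ι)
    (f : ι → K) (h : ∀ i ∈ s, lb (f i) ∈ H) : lb (∑ i ∈ s, f i) ∈ H := by
  classical
  induction s using Finset.induction_on with
  | empty => rw [Finset.sum_empty, lb_zero]; exact H.one_mem
  | insert a s ha ih =>
    rw [Finset.sum_insert ha, ← lb_mul]
    exact H.mul_mem (h a (Finset.mem_insert_self a s))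
      (ih (fun i hi => h i (Finset.mem_insert_of_mem hi)))

/-- If `b(1) ∈ XG F β` then `a(P(β)), b(P(β)) ∈ XG F β` for all polynomials `P` over `F`. -/
lemma mem_of_lb_one_poly (F : Subfield K) (β : K) (hβ : β ≠ 0) (h1 : lb 1 ∈ XG F β)
    (P : Polynomial F) :
    ua (Polynomial.aeval β P) ∈ XG F β ∧ lb (Polynomial.aeval β P) ∈ XG F β := by
  rw [Polynomial.aeval_eq_sum_range]
  constructor
  · apply ua_sum_mem
    intro i _
    rw [Algebra.smul_def]
    exact (mem_of_lb_one F β hβ h1 i _ (P.coeff i).2).1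
  · apply lb_sum_mem
    intro i _
    rw [Algebra.smul_def]
    exact (mem_of_lb_one F β hβ h1 i _ (P.coeff i).2).2

/-- elements of the simple extension `F(β)`, `β` algebraic, are polynomial expressions -/
lemma exists_poly_of_mem_adjoin (F : Subfield K) (β : K) (hβ : IsAlgebraic F β) {t : K}
    (ht : t ∈ IntermediateField.adjoin F ({β} : Set K)) :
    ∃ P : Polynomial F, Polynomial.aeval β P = t := by
  have h1 : (IntermediateField.adjoin F ({β} : Set K)).toSubalgebra = Algebra.adjoin F {β} :=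
    IntermediateField.adjoin_simple_toSubalgebra_of_isAlgebraic hβ
  have h2 : t ∈ Algebra.adjoin F ({β} : Set K) := by
    rw [← h1]; exact ht
  rw [Algebra.adjoin_singleton_eq_range_aeval] at h2
  obtain ⟨P, hP⟩ := h2
  exact ⟨P, hP⟩

end Cfsg.Agent.Lib.Helper22.SL2G
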