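import Mathlib
import Cfsg.Agent.Lib.Helper22.SL2B

/-!
# The root-of-unity case: chain inclusions, normaliser trick, square-root closure
-/

set_option autoImplicit false

namespace Cfsg.Agent.Lib.Helper22.SL2G

open Matrix

variable {K : Type*} [Field K]

/-- conjugation of `XG F β` into a subgroup, checked on generators -/
lemma conj_XG_le (F : Subfield K) (β : K) (H : Subgroup (SpecialLinearGroup (Fin 2) K))
    (g : SpecialLinearGroup (Fin 2) K) (ha : ∀ c ∈ F, g * ua c * g⁻¹ ∈ H)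
    (hb : ∀ c ∈ F, g * lb (c * β) * g⁻¹ ∈ H) : ∀ x ∈ XG F β, g * x * g⁻¹ ∈ H := by
  have : XG F β ≤ H.comap (MulAut.conj g).toMonoidHom := by
    apply XG_le
    · intro c hc
      rw [Subgroup.mem_comap]
      simpa using ha c hc
    · intro c hc
      rw [Subgroup.mem_comap]
      simpa using hb c hc
  intro x hx
  have := this hx
  rw [Subgroup.mem_comap] at this
  simpa using this

/-- `Q F β s β'`: `a(s) XG(β') a(-s) ⊆ XG(β)`. -/
def QC (F : Subfield K) (β s β' : K) : Prop :=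
  ∀ x ∈ XG F β', ua s * x * ua (-s) ∈ XG F β

lemma QC_zero (F : Subfield K) (β : K) : QC F β 0 β := by
  intro x hx
  rw [neg_zero, ua_zero]
  simpa using hx

lemma QC_trans (F : Subfield K) {β s β' s' β'' : K} (h1 : QC F β s β') (h2 : QC F β' s' β'') :
    QC F β (s + s') β'' := by
  intro x hx
  have := h1 _ (h2 x hx)
  have e : ua (s + s') * x * ua (-(s + s')) = ua s * (ua s' * x * ua (-s')) * ua (-s) := by
    have e1 : -(s + s') = -s' + -s := by ring
    rw [← ua_mul, e1, ← ua_mul]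
    group
  rw [e]
  exact this

/-- the basic chain inclusion `a(1/(dβ)) XG(β²) a(-1/(dβ)) ⊆ XG(β)` -/
lemma QC_chain (F : Subfield K) (β : K) (hβ : β ≠ 0) (d : K) (hd : d ∈ F) (hd0 : d ≠ 0) :
    QC F β (1 / (d * β)) (β ^ 2) := by
  intro x hx
  have hdβ : d * β ≠ 0 := mul_ne_zero hd0 hβ
  have h := conj_XG_le F (β ^ 2) (XG F β) (ua (1 / (d * β))) ?_ ?_ x hx
  · rwa [ua_inv] at h
  · intro c hc
    rw [ua_inv, ua_mul, ua_mul]
    have : 1 / (d * β) + c + -(1 / (d * β)) = c := by ring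
    rw [this]
    exact ua_mem_XG F β hc
  · intro c hc
    rw [ua_inv]
    have e : c * β ^ 2 = -((d * β) ^ 2 * (-(c / d ^ 2))) := by
      field_simp
    rw [e, conj_identity (d * β) (-(c / d ^ 2)) hdβ]
    refine (XG F β).mul_mem ((XG F β).mul_mem (lb_mem_XG F β hd) ?_) ?_
    · exact ua_mem_XG F β (F.neg_mem (F.div_mem hc (F.pow_mem hd 2)))
    · have : -(d * β) = (-d) * β := by ring
      rw [this]
      exact lb_mem_XG F β (F.neg_mem hd)

/-- iterated chain: all coefficients equal to `1/ε`; the tail `w` does not depend on `ε` -/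
lemma QC_iter (F : Subfield K) :
    ∀ j : ℕ, ∀ β : K, β ≠ 0 → ∃ w : K, ∀ ε ∈ F, ε ≠ 0 → QC F β (ε * w) (β ^ (2 ^ j)) := by
  intro j
  induction j with
  | zero =>
    intro β _
    refine ⟨0, ?_⟩
    intro ε _ _
    rw [mul_zero, pow_zero, pow_one]
    exact QC_zero F β
  | succ j ih =>
    intro β hβ
    obtain ⟨w, hw⟩ := ih (β ^ 2) (pow_ne_zero 2 hβ)
    refine ⟨1 / β + w, ?_⟩
    intro ε hε hε0
    have h1 := QC_chain F β hβ (1 / ε) (F.div_mem F.one_mem hε) (one_div_ne_zero hε0)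
    have := QC_trans F h1 (hw ε hε hε0)
    have e1 : 1 / (1 / ε * β) + ε * w = ε * (1 / β + w) := by
      field_simp
    have e2 : (β ^ 2) ^ 2 ^ j = β ^ 2 ^ (j + 1) := by
      rw [← pow_mul, pow_succ 2 j, mul_comm]
    rwa [e1, e2] at this

lemma XG_smul_eq (F : Subfield K) (β e : K) (he : e ∈ F) (he0 : e ≠ 0) :
    XG F (e * β) = XG F β := by
  apply le_antisymm
  · apply XG_le
    · intro c hc; exact ua_mem_XG F β hc
    · intro c hc
      have : c * (e * β) = (c * e) * β := by ring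
      rw [this]
      exact lb_mem_XG F β (F.mul_mem hc he)
  · apply XG_le
    · intro c hc; exact ua_mem_XG F (e * β) hc
    · intro c hc
      have : c * β = (c / e) * (e * β) := by field_simp
      rw [this]
      exact lb_mem_XG F (e * β) (F.div_mem hc he)

/-- if `a(1/γ)` normalises (one inclusion) then `b(1) ∈ XG F γ` -/
lemma lb_one_of_QC (F : Subfield K) (γ : K) (hγ : γ ≠ 0) (h : QC F γ (1 / γ) γ) :
    lb 1 ∈ XG F γ := by
  have h1 : lb (-γ) ∈ XG F γ := by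
    have : -γ = (-1) * γ := by ring
    rw [this]
    exact lb_mem_XG F γ (F.neg_mem F.one_mem)
  have h2 := h _ h1
  have e : -γ = -(γ ^ 2 * (1 / γ)) := by field_simp
  rw [e, conj_identity γ (1 / γ) hγ] at h2
  have h3 : lb γ ∈ XG F γ := by
    have := lb_mem_XG F γ F.one_mem
    rwa [one_mul] at this
  have h4 : ua (1 / γ) ∈ XG F γ := by
    have : ua (1 / γ) = (lb γ)⁻¹ * (lb γ * ua (1 / γ) * lb (-γ)) * lb γ := by
      rw [← lb_inv]; group
    rw [this]
    exact (XG F γ).mul_mem ((XG F γ).mul_mem ((XG F γ).inv_mem h3) h2) h3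
  have h5 := lb_of_ua F γ hγ h4
  have : 1 / γ * γ = 1 := by field_simp
  rwa [this] at h5

/-- normaliser trick: `γ^(2^(j+1)) = e γ` ⇒ `b(1) ∈ XG F γ` -/
lemma lb_one_of_pow (F : Subfield K) (h2 : (2 : K) ≠ 0) (γ : K) (hγ : γ ≠ 0) (j : ℕ) (e : K)
    (he : e ∈ F) (he0 : e ≠ 0) (hpow : γ ^ (2 ^ (j + 1)) = e * γ) : lb 1 ∈ XG F γ := by
  apply lb_one_of_QC F γ hγ
  have hγ2 : γ ^ 2 ≠ 0 := pow_ne_zero 2 hγ
  have hone : (1 : K) ∈ F := F.one_mem
  have hm1 : (-1 : K) ∈ F := F.neg_mem F.one_mem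
  have h2F : (2 : K) ∈ F := by
    have : (2 : K) = 1 + 1 := by norm_num
    rw [this]; exact F.add_mem hone hone
  obtain ⟨w, hw⟩ := QC_iter F j (γ ^ 2) hγ2
  have e2 : (γ ^ 2) ^ 2 ^ j = e * γ := by
    rw [← hpow, ← pow_mul, pow_succ 2 j, mul_comm]
  have hw' : ∀ ε ∈ F, ε ≠ 0 → QC F (γ ^ 2) (ε * w) γ := by
    intro ε hε hε0
    have := hw ε hε hε0
    rw [e2] at this
    intro x hx
    apply this
    rw [XG_smul_eq F γ e he he0]
    exact hx
  have c1 := QC_trans F (QC_chain F γ hγ (1 / 2) (F.div_mem hone h2F) (one_div_ne_zero h2))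
    (hw' 1 hone one_ne_zero)
  have c2 := QC_trans F (QC_chain F γ hγ (-1) hm1 (by simp)) (hw' (-1) hm1 (by simp))
  have c3 := QC_trans F c1 c2
  have e3 : 1 / (1 / 2 * γ) + 1 * w + (1 / (-1 * γ) + -1 * w) = 1 / γ := by
    field_simp
    ring
  rwa [e3] at c3

/-- the diagonal matrix `diag(r, r⁻¹)` -/
def hdiag (r : K) (hr : r ≠ 0) : SpecialLinearGroup (Fin 2) K :=
  ⟨!![r, 0; 0, r⁻¹], by simp [det_fin_two, hr]⟩

lemma hdiag_val (r : K) (hr : r ≠ 0) :
    (hdiag r hr : Matrix (Fin 2) (Fin 2) K) = !![r, 0; 0, r⁻¹] := rfl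

/-- Kummer step: `δ² ∈ F`, and `F` has an element `r ≠ 0` with `r² ≠ 1` ⇒ `b(1) ∈ XG F δ` -/
lemma lb_one_of_sq_mem (F : Subfield K) (δ : K) (hδ : δ ≠ 0) (hδ2 : δ ^ 2 ∈ F) (r : K)
    (hr : r ∈ F) (hr0 : r ≠ 0) (hr1 : r ^ 2 ≠ 1) : lb 1 ∈ XG F δ := by
  have hδ20 : δ ^ 2 ≠ 0 := pow_ne_zero 2 hδ
  have hent : ∀ g ∈ entriesSubgroup F, g ∈ XG F (δ ^ 2) := by
    intro g hg
    apply mem_of_entries F (XG F (δ ^ 2)) _ _ g hg
    · intro c hc; exact ua_mem_XG F _ hc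
    · intro c hc
      have : c = (c / δ ^ 2) * δ ^ 2 := by field_simp
      rw [this]
      exact lb_mem_XG F _ (F.div_mem hc hδ2)
  have hh : hdiag r hr0 ∈ XG F (δ ^ 2) := by
    apply hent
    intro i j
    fin_cases i <;> fin_cases j <;> simp [hdiag_val, F.zero_mem, hr, F.inv_mem hr]
  have hd1 : (1 - r ^ 2) ≠ 0 := by
    intro h; apply hr1; linear_combination -h
  have hd1F : (1 - r ^ 2) ∈ F := F.sub_mem F.one_mem (F.pow_mem hr 2)
  have y1 := QC_chain F δ hδ 1 F.one_mem one_ne_zero _ hh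
  have y2 := QC_chain F δ hδ (1 - r ^ 2) hd1F hd1 _ hh
  have key : (ua (1 / (1 * δ)) * hdiag r hr0 * ua (-(1 / (1 * δ))))⁻¹ *
      (ua (1 / ((1 - r ^ 2) * δ)) * hdiag r hr0 * ua (-(1 / ((1 - r ^ 2) * δ)))) =
      ua (1 / δ) := by
    rw [_root_.mul_inv_rev, _root_.mul_inv_rev, ua_inv, ua_inv, neg_neg]
    have hinv : (hdiag r hr0)⁻¹ = hdiag r⁻¹ (inv_ne_zero hr0) := by
      rw [inv_eq_iff_mul_eq_one]
      apply sl_ext <;> simp only [mul_entry, hdiag_val] <;> simp [hr0]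
    rw [hinv]
    apply sl_ext <;> simp only [mul_entry, ua_val, hdiag_val] <;> simp <;> field_simp <;> ring
  have h3 : ua (1 / δ) ∈ XG F δ := by
    rw [← key]
    exact (XG F δ).mul_mem ((XG F δ).inv_mem y1) y2
  have h4 := lb_of_ua F δ hδ h3
  have : 1 / δ * δ = 1 := by field_simp
  rwa [this] at h4

/-- square-root step: `b(1) ∈ XG F (δ²)` ⇒ `b(1) ∈ XG F δ` -/
lemma lb_one_of_sq (F : Subfield K) (δ : K) (hδ : δ ≠ 0) (halg : IsAlgebraic F (δ ^ 2)) (r : K)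
    (hr : r ∈ F) (hr0 : r ≠ 0) (hr1 : r ^ 2 ≠ 1) (h : lb 1 ∈ XG F (δ ^ 2)) : lb 1 ∈ XG F δ := by
  have hFF' : ∀ c ∈ F, c ∈ (IntermediateField.adjoin F ({δ ^ 2} : Set K)).toSubfield := by
    intro c hc
    exact (IntermediateField.adjoin F ({δ ^ 2} : Set K)).algebraMap_mem (⟨c, hc⟩ : F)
  have hδ2F' : δ ^ 2 ∈ (IntermediateField.adjoin F ({δ ^ 2} : Set K)).toSubfield :=
    IntermediateField.mem_adjoin_simple_self F (δ ^ 2)
  have hua : ∀ t ∈ (IntermediateField.adjoin F ({δ ^ 2} : Set K)).toSubfield, ua t ∈ XG F δ := by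
    intro t ht
    obtain ⟨P, hP⟩ := exists_poly_of_mem_adjoin F (δ ^ 2) halg ht
    have h1 := (mem_of_lb_one_poly F (δ ^ 2) (pow_ne_zero 2 hδ) h P).1
    rw [hP] at h1
    have h2 := QC_chain F δ hδ 1 F.one_mem one_ne_zero _ h1
    rw [ua_mul, ua_mul] at h2
    have e : 1 / (1 * δ) + t + -(1 / (1 * δ)) = t := by ring
    rwa [e] at h2
  have hle : XG (IntermediateField.adjoin F ({δ ^ 2} : Set K)).toSubfield δ ≤ XG F δ :=
    XG_le _ δ _ hua (fun c hc => lb_of_ua F δ hδ (hua c hc))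
  exact hle (lb_one_of_sq_mem _ δ hδ hδ2F' r (hFF' r hr) hr0 hr1)

/-- root-of-unity theorem -/
lemma lb_one_of_pow_eq_one_aux (F : Subfield K) (h2 : (2 : K) ≠ 0) (r : K)
    (hr : r ∈ F) (hr0 : r ≠ 0) (hr1 : r ^ 2 ≠ 1) :
    ∀ a : ℕ, ∀ N' : ℕ, Odd N' → ∀ α : K, α ≠ 0 → α ^ (2 ^ a * N') = 1 → lb 1 ∈ XG F α := by
  intro a
  induction a with
  | zero =>
    intro N' hN' α hα hpow
    rw [pow_zero, one_mul] at hpow
    have hcop : Nat.Coprime 2 N' := Nat.coprime_two_left.mpr hN'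
    have hmod := Nat.ModEq.pow_totient hcop
    have hφ : 0 < Nat.totient N' := Nat.totient_pos.mpr hN'.pos
    obtain ⟨j, hj⟩ : ∃ j, Nat.totient N' = j + 1 := Nat.exists_eq_succ_of_ne_zero hφ.ne'
    have key : α ^ (2 ^ (j + 1)) = 1 * α := by
      rw [← hj, one_mul]
      have h1 : 1 ≤ 2 ^ Nat.totient N' := Nat.one_le_two_pow
      have hdvd : N' ∣ 2 ^ Nat.totient N' - 1 := (Nat.modEq_iff_dvd' h1).mp hmod.symm
      obtain ⟨m, hm⟩ := hdvd
      have e : 2 ^ Nat.totient N' = N' * m + 1 := by omega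
      rw [e, pow_succ, pow_mul, hpow, one_pow, one_mul]
    exact lb_one_of_pow F h2 α hα j 1 F.one_mem one_ne_zero key
  | succ a ih =>
    intro N' hN' α hα hpow
    have h' : (α ^ 2) ^ (2 ^ a * N') = 1 := by
      rw [← pow_mul, ← hpow]
      congr 1
      ring
    have hlb := ih N' hN' (α ^ 2) (pow_ne_zero 2 hα) h'
    refine lb_one_of_sq F α hα ?_ r hr hr0 hr1 hlb
    have hpos : 0 < 2 ^ a * N' := Nat.mul_pos (Nat.pos_of_ne_zero (by positivity)) hN'.pos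
    have hint : IsIntegral F ((α ^ 2) ^ (2 ^ a * N')) := by
      rw [h']; exact isIntegral_one
    exact (IsIntegral.of_pow hpos hint).isAlgebraic

lemma lb_one_of_pow_eq_one (F : Subfield K) (h2 : (2 : K) ≠ 0) (r : K)
    (hr : r ∈ F) (hr0 : r ≠ 0) (hr1 : r ^ 2 ≠ 1) (α : K) (hα : α ≠ 0) (N : ℕ) (hN : N ≠ 0)
    (hpow : α ^ N = 1) : lb 1 ∈ XG F α := by
  obtain ⟨a, N', hN', rfl⟩ := Nat.exists_eq_two_pow_mul_odd hN
  exact lb_one_of_pow_eq_one_aux F h2 r hr hr0 hr1 a N' hN' α hα hpow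

/-- the finite case -/
theorem mem_XG_of_finite (F : Subfield K) [Finite F] (h2 : (2 : K) ≠ 0) (r : K)
    (hr : r ∈ F) (hr0 : r ≠ 0) (hr1 : r ^ 2 ≠ 1) (α : K) (hα : α ≠ 0) (halg : IsAlgebraic F α)
    (t : K) (ht : t ∈ IntermediateField.adjoin F ({α} : Set K)) :
    ua t ∈ XG F α ∧ lb t ∈ XG F α := by
  have hfd : FiniteDimensional F (IntermediateField.adjoin F ({α} : Set K)) :=
    IntermediateField.adjoin.finiteDimensional halg.isIntegral
  have hfin : Finite (IntermediateField.adjoin F ({α} : Set K)) := Module.finite_of_finite F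
  have hαE : α ∈ IntermediateField.adjoin F ({α} : Set K) :=
    IntermediateField.mem_adjoin_simple_self F α
  have hne : (⟨α, hαE⟩ : IntermediateField.adjoin F ({α} : Set K)) ≠ 0 := by
    intro h
    apply hα
    exact congrArg Subtype.val h
  have hfo : IsOfFinOrder (Units.mk0 _ hne) := isOfFinOrder_of_finite _
  obtain ⟨N, hN, hpow⟩ := isOfFinOrder_iff_pow_eq_one.mp hfo
  have hpow' : α ^ N = 1 := by
    have := congrArg (fun u : (IntermediateField.adjoin F ({α} : Set K))ˣ =>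
      ((u : IntermediateField.adjoin F ({α} : Set K)) : K)) hpow
    simpa using this
  have h1 := lb_one_of_pow_eq_one F h2 r hr hr0 hr1 α hα N hN.ne' hpow'
  obtain ⟨P, hP⟩ := exists_poly_of_mem_adjoin F α halg ht
  have := mem_of_lb_one_poly F α hα h1 P
  rwa [hP] at this

end Cfsg.Agent.Lib.Helper22.SL2G
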