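import Mathlib

/-!
# Generic "special Euclid" descent on pairs of polynomials, and its cofiniteness in families
-/

set_option autoImplicit false

namespace Cfsg.Agent.Lib.Helper22.SL2G

open Polynomial

variable {k : Type*} [Field k]

/-- next second component of the descent (division free) -/
noncomputable def nextQ (j : ℕ) (P Q : k[X]) : k[X] :=
  C (P.coeff (j + 1)) * Q - C (Q.coeff (j + 1)) * P

/-- next first component of the descent (division free) -/
noncomputable def nextP (j : ℕ) (P Q : k[X]) : k[X] :=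
  C ((nextQ j P Q).coeff j) * P - C (P.coeff (j + 1)) * (X * nextQ j P Q)

/-- the pair `(P, Q)` admits the generic descent of length `j` -/
def Good : ℕ → k[X] → k[X] → Prop
  | 0, P, Q => P.natDegree ≤ 0 ∧ Q.natDegree ≤ 0 ∧ P.coeff 0 ≠ 0
  | (j + 1), P, Q => P.natDegree ≤ j + 1 ∧ Q.natDegree ≤ j + 1 ∧ P.coeff (j + 1) ≠ 0 ∧
      (nextQ j P Q).coeff j ≠ 0 ∧ Good j (nextP j P Q) (nextQ j P Q)

lemma good_zero_iff (P Q : k[X]) :
    Good 0 P Q ↔ P.natDegree ≤ 0 ∧ Q.natDegree ≤ 0 ∧ P.coeff 0 ≠ 0 := Iff.rfl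

lemma good_succ_iff (j : ℕ) (P Q : k[X]) :
    Good (j + 1) P Q ↔ P.natDegree ≤ j + 1 ∧ Q.natDegree ≤ j + 1 ∧ P.coeff (j + 1) ≠ 0 ∧
      (nextQ j P Q).coeff j ≠ 0 ∧ Good j (nextP j P Q) (nextQ j P Q) := Iff.rfl

lemma natDegree_le_of_coeff_eq_zero {R : k[X]} {j : ℕ} (h : R.natDegree ≤ j + 1)
    (h0 : R.coeff (j + 1) = 0) : R.natDegree ≤ j := by
  rw [natDegree_le_iff_coeff_eq_zero]
  intro N hN
  rcases Nat.eq_or_lt_of_le (Nat.succ_le_of_lt hN) with h1 | h1
  · rw [← h1]; exact h0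
  · exact coeff_eq_zero_of_natDegree_lt (lt_of_le_of_lt h h1)

lemma natDegree_X_mul_le' (R : k[X]) : (X * R).natDegree ≤ R.natDegree + 1 := by
  refine natDegree_mul_le.trans ?_
  rw [natDegree_X, add_comm]

lemma natDegree_nextQ_le {j : ℕ} {P Q : k[X]} (hP : P.natDegree ≤ j + 1)
    (hQ : Q.natDegree ≤ j + 1) : (nextQ j P Q).natDegree ≤ j := by
  apply natDegree_le_of_coeff_eq_zero
  · unfold nextQ
    refine (natDegree_sub_le _ _).trans (max_le ?_ ?_)
    · exact (natDegree_C_mul_le _ _).trans hQ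
    · exact (natDegree_C_mul_le _ _).trans hP
  · unfold nextQ
    rw [coeff_sub, coeff_C_mul, coeff_C_mul]
    ring

lemma natDegree_nextP_le {j : ℕ} {P Q : k[X]} (hP : P.natDegree ≤ j + 1)
    (hQ : Q.natDegree ≤ j + 1) : (nextP j P Q).natDegree ≤ j := by
  have hQ1 := natDegree_nextQ_le hP hQ
  apply natDegree_le_of_coeff_eq_zero
  · unfold nextP
    refine (natDegree_sub_le _ _).trans (max_le ?_ ?_)
    · exact (natDegree_C_mul_le _ _).trans hP
    · refine (natDegree_C_mul_le _ _).trans ?_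
      refine (natDegree_X_mul_le' _).trans ?_
      omega
  · unfold nextP
    rw [coeff_sub, coeff_C_mul, coeff_C_mul, coeff_X_mul]
    ring

/-- existence of good pairs in every length -/
lemma exists_good : ∀ j : ℕ, ∃ P Q : k[X], P.natDegree ≤ j ∧ Q.natDegree ≤ j ∧
    Q.coeff j = 1 ∧ Good j P Q := by
  intro j
  induction j with
  | zero =>
    refine ⟨1, 1, by simp, by simp, by simp, ?_⟩
    rw [good_zero_iff]
    simp
  | succ j ih =>
    obtain ⟨P, Q, hP, hQ, hQj, hG⟩ := ih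
    have hPc : P.coeff (j + 1) = 0 := coeff_eq_zero_of_natDegree_lt (by omega)
    have hQc : Q.coeff (j + 1) = 0 := coeff_eq_zero_of_natDegree_lt (by omega)
    have hXQ : (X * Q).natDegree ≤ j + 1 := (natDegree_X_mul_le' _).trans (by omega)
    have hP1 : (P + X * Q).natDegree ≤ j + 1 :=
      (natDegree_add_le _ _).trans (max_le (by omega) hXQ)
    have hQ1 : (Q + (P + X * Q)).natDegree ≤ j + 1 :=
      (natDegree_add_le _ _).trans (max_le (by omega) hP1)
    have c1 : (P + X * Q).coeff (j + 1) = 1 := by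
      rw [coeff_add, coeff_X_mul, hPc, hQj, zero_add]
    have c2 : (Q + (P + X * Q)).coeff (j + 1) = 1 := by
      rw [coeff_add, c1, hQc, zero_add]
    have n1 : nextQ j (P + X * Q) (Q + (P + X * Q)) = Q := by
      unfold nextQ
      rw [c1, c2]
      simp
    have n2 : nextP j (P + X * Q) (Q + (P + X * Q)) = P := by
      unfold nextP
      rw [n1, c1, hQj]
      simp
    refine ⟨P + X * Q, Q + (P + X * Q), hP1, hQ1, c2, ?_⟩
    rw [good_succ_iff, n2, n1, c1, hQj]
    exact ⟨hP1, hQ1, one_ne_zero, one_ne_zero, hG⟩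

/-- a family of polynomials whose coefficients are polynomial functions of the parameter -/
def PolyFam (f : k → k[X]) : Prop :=
  ∀ i : ℕ, ∃ c : k[X], ∀ s : k, (f s).coeff i = c.eval s

lemma polyFam_sub {f g : k → k[X]} (hf : PolyFam f) (hg : PolyFam g) :
    PolyFam (fun s => f s - g s) := by
  intro i
  obtain ⟨c, hc⟩ := hf i
  obtain ⟨d, hd⟩ := hg i
  refine ⟨c - d, fun s => ?_⟩
  rw [coeff_sub, hc, hd, eval_sub]

lemma polyFam_add {f g : k → k[X]} (hf : PolyFam f) (hg : PolyFam g) :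
    PolyFam (fun s => f s + g s) := by
  intro i
  obtain ⟨c, hc⟩ := hf i
  obtain ⟨d, hd⟩ := hg i
  refine ⟨c + d, fun s => ?_⟩
  rw [coeff_add, hc, hd, eval_add]

lemma polyFam_C_mul {f : k → k[X]} (hf : PolyFam f) (c : k → k)
    (hc : ∃ π : k[X], ∀ s, c s = π.eval s) : PolyFam (fun s => C (c s) * f s) := by
  intro i
  obtain ⟨π, hπ⟩ := hc
  obtain ⟨d, hd⟩ := hf i
  refine ⟨π * d, fun s => ?_⟩
  rw [coeff_C_mul, hπ, hd, eval_mul]

lemma polyFam_X_mul {f : k → k[X]} (hf : PolyFam f) : PolyFam (fun s => X * f s) := by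
  intro i
  cases i with
  | zero =>
    refine ⟨0, fun s => ?_⟩
    simp
  | succ i =>
    obtain ⟨d, hd⟩ := hf i
    refine ⟨d, fun s => ?_⟩
    rw [coeff_X_mul, hd]

lemma polyFam_const (P : k[X]) : PolyFam (fun _ => P) := by
  intro i
  exact ⟨C (P.coeff i), fun s => by simp⟩

lemma polyFam_nextQ {f g : k → k[X]} (hf : PolyFam f) (hg : PolyFam g) (j : ℕ) :
    PolyFam (fun s => nextQ j (f s) (g s)) := by
  unfold nextQ
  exact polyFam_sub (polyFam_C_mul hg _ (hf (j + 1))) (polyFam_C_mul hf _ (hg (j + 1)))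

lemma polyFam_nextP {f g : k → k[X]} (hf : PolyFam f) (hg : PolyFam g) (j : ℕ) :
    PolyFam (fun s => nextP j (f s) (g s)) := by
  unfold nextP
  exact polyFam_sub (polyFam_C_mul hf _ (polyFam_nextQ hf hg j j))
    (polyFam_C_mul (polyFam_X_mul (polyFam_nextQ hf hg j)) _ (hf (j + 1)))

/-- goodness of a polynomial family holds outside a finite set as soon as it holds somewhere -/
lemma good_cofinite : ∀ (j : ℕ) (f g : k → k[X]), PolyFam f → PolyFam g →
    (∀ s, (f s).natDegree ≤ j) → (∀ s, (g s).natDegree ≤ j) →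
    (∃ s₀, Good j (f s₀) (g s₀)) → {s | ¬ Good j (f s) (g s)}.Finite := by
  intro j
  induction j with
  | zero =>
    intro f g hf _ hdf hdg ⟨s₀, h0⟩
    obtain ⟨π, hπ⟩ := hf 0
    have hπ0 : π ≠ 0 := by
      intro h
      apply h0.2.2
      rw [hπ, h, eval_zero]
    refine (finite_setOfPred_isRoot hπ0).subset ?_
    intro s hs
    by_contra hroot
    apply hs
    refine ⟨hdf s, hdg s, ?_⟩
    rw [hπ]
    exact hroot
  | succ j ih =>
    intro f g hf hg hdf hdg ⟨s₀, h0⟩
    rw [good_succ_iff] at h0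
    obtain ⟨π, hπ⟩ := hf (j + 1)
    obtain ⟨ρ, hρ⟩ := polyFam_nextQ hf hg j j
    have hπ0 : π ≠ 0 := by
      intro h
      apply h0.2.2.1
      rw [hπ, h, eval_zero]
    have hρ0 : ρ ≠ 0 := by
      intro h
      apply h0.2.2.2.1
      rw [hρ, h, eval_zero]
    have hB := ih (fun s => nextP j (f s) (g s)) (fun s => nextQ j (f s) (g s))
      (polyFam_nextP hf hg j) (polyFam_nextQ hf hg j)
      (fun s => natDegree_nextP_le (hdf s) (hdg s)) (fun s => natDegree_nextQ_le (hdf s) (hdg s))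
      ⟨s₀, h0.2.2.2.2⟩
    refine ((hB.union (finite_setOfPred_isRoot hπ0)).union (finite_setOfPred_isRoot hρ0)).subset ?_
    intro s hs
    by_contra hnot
    apply hs
    simp only [Set.mem_union, Set.mem_ofPred_eq, not_or, not_not] at hnot
    obtain ⟨⟨h1, h2⟩, h3⟩ := hnot
    rw [good_succ_iff]
    refine ⟨hdf s, hdg s, ?_, ?_, h1⟩
    · rw [hπ]; exact h2
    · rw [hρ]; exact h3

end Cfsg.Agent.Lib.Helper22.SL2G
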