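import Mathlib
import Cfsg.Agent.Lib.Helper22.SL2C
import Cfsg.Agent.Lib.Helper22.SL2D

/-!
# The infinite case, and the main theorem on `XG F α`
-/

set_option autoImplicit false

namespace Cfsg.Agent.Lib.Helper22.SL2G

open Matrix Polynomial

variable {K : Type*} [Field K]

/-- action of `SL₂(K)` on column vectors, written with pairs -/
def act (x : SpecialLinearGroup (Fin 2) K) (p : K × K) : K × K :=
  ((x : Matrix (Fin 2) (Fin 2) K) 0 0 * p.1 + (x : Matrix (Fin 2) (Fin 2) K) 0 1 * p.2,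
    (x : Matrix (Fin 2) (Fin 2) K) 1 0 * p.1 + (x : Matrix (Fin 2) (Fin 2) K) 1 1 * p.2)

lemma act_mul (x y : SpecialLinearGroup (Fin 2) K) (p : K × K) :
    act (x * y) p = act x (act y p) := by
  unfold act
  simp only [mul_entry]
  ext <;> simp <;> ring

lemma act_one (p : K × K) : act (1 : SpecialLinearGroup (Fin 2) K) p = p := by
  unfold act
  ext <;> simp

lemma act_ua (c u v : K) : act (ua c) (u, v) = (u + c * v, v) := by
  unfold act
  ext <;> simp

lemma act_lb (c u v : K) : act (lb c) (u, v) = (u, c * u + v) := by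
  unfold act
  ext <;> simp

lemma act_smul (x : SpecialLinearGroup (Fin 2) K) (t u v : K) :
    act x (t * u, t * v) = (t * (act x (u, v)).1, t * (act x (u, v)).2) := by
  unfold act
  ext <;> simp <;> ring

lemma aeval_C_coe (F : Subfield K) (α : K) (c : F) : aeval α (C c : F[X]) = (c : K) := by
  rw [aeval_C]
  rfl

/-- the descent lemma: a good pair can be brought to `(e, 0)` inside `XG F α` -/
lemma descent (F : Subfield K) (α : K) : ∀ (j : ℕ) (P Q : F[X]), Good j P Q →
    ∀ a b : K, a ∈ F → b ∈ F → a ≠ 0 → b ≠ 0 →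
    ∃ x ∈ XG F α, ∃ e ∈ F, e ≠ 0 ∧
      act x (a * aeval α P, b * (α * aeval α Q)) = (e, 0) := by
  intro j
  induction j with
  | zero =>
    intro P Q h a b ha hb ha0 hb0
    obtain ⟨hP, hQ, hp⟩ := h
    have hP' := eq_C_of_natDegree_le_zero hP
    have hQ' := eq_C_of_natDegree_le_zero hQ
    have hp0 : ((P.coeff 0 : F) : K) ≠ 0 := by
      intro h; apply hp; exact Subtype.ext h
    refine ⟨lb ((-(b * (Q.coeff 0 : F) / (a * (P.coeff 0 : F)))) * α), ?_, a * (P.coeff 0 : F),
      F.mul_mem ha (P.coeff 0).2, mul_ne_zero ha0 hp0, ?_⟩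
    · exact lb_mem_XG F α (F.neg_mem (F.div_mem (F.mul_mem hb (Q.coeff 0).2)
        (F.mul_mem ha (P.coeff 0).2)))
    · rw [hP', hQ', aeval_C_coe, aeval_C_coe, act_lb]
      simp only [coeff_C_zero]
      ext
      · rfl
      · simp only
        field_simp
        ring
  | succ j ih =>
    intro P Q h a b ha hb ha0 hb0
    rw [good_succ_iff] at h
    obtain ⟨_, _, hp, hq', hG⟩ := h
    have hp0 : ((P.coeff (j + 1) : F) : K) ≠ 0 := by
      intro h; apply hp; exact Subtype.ext h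
    have hq0 : (((nextQ j P Q).coeff j : F) : K) ≠ 0 := by
      intro h; apply hq'; exact Subtype.ext h
    obtain ⟨x', hx', e, he, he0, hact⟩ := ih (nextP j P Q) (nextQ j P Q) hG
      (a / ((nextQ j P Q).coeff j : F)) (b / (P.coeff (j + 1) : F))
      (F.div_mem ha ((nextQ j P Q).coeff j).2) (F.div_mem hb (P.coeff (j + 1)).2)
      (div_ne_zero ha0 hq0) (div_ne_zero hb0 hp0)
    refine ⟨x' * ua (-(a * (P.coeff (j + 1) : F) ^ 2 / (b * ((nextQ j P Q).coeff j : F)))) *
      lb ((-(b * (Q.coeff (j + 1) : F) / (a * (P.coeff (j + 1) : F)))) * α), ?_, e, he, he0, ?_⟩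
    · refine (XG F α).mul_mem ((XG F α).mul_mem hx' (ua_mem_XG F α ?_)) (lb_mem_XG F α ?_)
      · exact F.neg_mem (F.div_mem (F.mul_mem ha (F.pow_mem (P.coeff (j + 1)).2 2))
          (F.mul_mem hb ((nextQ j P Q).coeff j).2))
      · exact F.neg_mem (F.div_mem (F.mul_mem hb (Q.coeff (j + 1)).2)
          (F.mul_mem ha (P.coeff (j + 1)).2))
    · rw [act_mul, act_mul, act_lb, act_ua, ← hact]
      congr 1
      have e1 : aeval α (nextQ j P Q) = (P.coeff (j + 1) : F) * aeval α Q -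
          (Q.coeff (j + 1) : F) * aeval α P := by
        unfold nextQ
        rw [map_sub, map_mul, map_mul, aeval_C_coe, aeval_C_coe]
      have e2 : aeval α (nextP j P Q) = ((nextQ j P Q).coeff j : F) * aeval α P -
          (P.coeff (j + 1) : F) * (α * aeval α (nextQ j P Q)) := by
        unfold nextP
        rw [map_sub, map_mul, map_mul, map_mul, aeval_C_coe, aeval_C_coe, aeval_X]
      ext
      · simp only
        rw [e2, e1]
        field_simp
        ring
      · simp only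
        rw [e1]
        field_simp
        ring

lemma conj_ua_of_upper (y : SpecialLinearGroup (Fin 2) K)
    (h : (y : Matrix (Fin 2) (Fin 2) K) 1 0 = 0) (c : K) :
    y * ua c * y⁻¹ = ua ((y : Matrix (Fin 2) (Fin 2) K) 0 0 ^ 2 * c) := by
  rw [mul_inv_eq_iff_eq_mul]
  have hd := det_entry y
  rw [h, mul_zero, sub_zero] at hd
  apply sl_ext <;> simp only [mul_entry, ua_val] <;> simp [h]
  linear_combination (-(y : Matrix (Fin 2) (Fin 2) K) 0 0 * c) * hd

lemma aeval_mem_adjoin (F : Subfield K) (α : K) (P : F[X]) :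
    aeval α P ∈ IntermediateField.adjoin F ({α} : Set K) := by
  have h1 : aeval α P ∈ Algebra.adjoin F ({α} : Set K) := aeval_mem_adjoin_singleton F α
  exact IntermediateField.algebra_adjoin_le_adjoin F _ h1

/-- representatives of bounded degree -/
lemma exists_rep (F : Subfield K) (α : K) (halg : IsAlgebraic F α) {z : K}
    (hz : z ∈ IntermediateField.adjoin F ({α} : Set K)) :
    ∃ R : F[X], R.natDegree ≤ (minpoly F α).natDegree ∧ aeval α R = z := by
  obtain ⟨P, hP⟩ := exists_poly_of_mem_adjoin F α halg hz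
  refine ⟨P %ₘ minpoly F α, ?_, ?_⟩
  · exact (natDegree_modByMonic_lt P (minpoly.monic halg.isIntegral) (minpoly.ne_one F α)).le
  · rw [aeval_modByMonic_eq_self_of_root (minpoly.aeval F α), hP]

/-- the line family through `(P₀, Q₀)` and `(R, S)` is good for all but finitely many
parameters, if `(P₀, Q₀)` is good -/
lemma line_family_cofinite {k : Type*} [Field k] (J : ℕ) (P₀ Q₀ R S : k[X])
    (hP₀ : P₀.natDegree ≤ J) (hQ₀ : Q₀.natDegree ≤ J) (hR : R.natDegree ≤ J)
    (hS : S.natDegree ≤ J) (hG : Good J P₀ Q₀) :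
    {s : k | ¬ Good J (P₀ + C s * (R - P₀)) (Q₀ + C s * (S - Q₀))}.Finite := by
  have hid : ∃ π : k[X], ∀ s : k, id s = π.eval s := ⟨X, fun s => by simp⟩
  apply good_cofinite J (fun s => P₀ + C s * (R - P₀)) (fun s => Q₀ + C s * (S - Q₀))
  · exact polyFam_add (polyFam_const P₀) (polyFam_C_mul (polyFam_const (R - P₀)) id hid)
  · exact polyFam_add (polyFam_const Q₀) (polyFam_C_mul (polyFam_const (S - Q₀)) id hid)
  · intro s
    refine (natDegree_add_le _ _).trans (max_le hP₀ ?_)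
    refine (natDegree_C_mul_le _ _).trans ?_
    exact (natDegree_sub_le _ _).trans (max_le hR hP₀)
  · intro s
    refine (natDegree_add_le _ _).trans (max_le hQ₀ ?_)
    refine (natDegree_C_mul_le _ _).trans ?_
    exact (natDegree_sub_le _ _).trans (max_le hS hQ₀)
  · refine ⟨0, ?_⟩
    simpa using hG

lemma aeval_line (F : Subfield K) (α : K) (P R : F[X]) (c : F) (z : K)
    (hR : aeval α R = z * aeval α P) :
    aeval α (P + C c * (R - P)) = (1 + (c : K) * (z - 1)) * aeval α P := by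
  rw [map_add, map_mul, map_sub, aeval_C_coe, hR]
  ring

/-- the infinite case: squares -/
lemma ua_sq_mem_of_infinite (F : Subfield K) [Infinite F] (α : K)
    (halg : IsAlgebraic F α) (t : K) (ht : t ∈ IntermediateField.adjoin F ({α} : Set K))
    (ht0 : t ≠ 0) : ua (t ^ 2) ∈ XG F α := by
  obtain ⟨P₀, Q₀, hP₀, hQ₀, -, hG⟩ := exists_good (k := F) (minpoly F α).natDegree
  have hu₀ := aeval_mem_adjoin F α P₀
  have hw₀ := aeval_mem_adjoin F α Q₀
  -- representatives of `t⁻¹ v₀` and `t v₀`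
  obtain ⟨R₁, hR₁, eR₁⟩ := exists_rep F α halg
    ((IntermediateField.adjoin F ({α} : Set K)).mul_mem
      ((IntermediateField.adjoin F ({α} : Set K)).inv_mem ht) hu₀)
  obtain ⟨S₁, hS₁, eS₁⟩ := exists_rep F α halg
    ((IntermediateField.adjoin F ({α} : Set K)).mul_mem
      ((IntermediateField.adjoin F ({α} : Set K)).inv_mem ht) hw₀)
  obtain ⟨R₂, hR₂, eR₂⟩ := exists_rep F α halg
    ((IntermediateField.adjoin F ({α} : Set K)).mul_mem ht hu₀)
  obtain ⟨S₂, hS₂, eS₂⟩ := exists_rep F α halg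
    ((IntermediateField.adjoin F ({α} : Set K)).mul_mem ht hw₀)
  have fin1 := line_family_cofinite _ P₀ Q₀ R₁ S₁ hP₀ hQ₀ hR₁ hS₁ hG
  have fin2 := line_family_cofinite _ P₀ Q₀ R₂ S₂ hP₀ hQ₀ hR₂ hS₂ hG
  have fin2' : {s : F | ¬ Good (minpoly F α).natDegree (P₀ + C (1 - s) * (R₂ - P₀))
      (Q₀ + C (1 - s) * (S₂ - Q₀))}.Finite := by
    have hinj : Function.Injective (fun s : F => 1 - s) := by
      intro a b hab
      simpa using hab
    exact fin2.preimage (Set.injOn_of_injective hinj)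
  obtain ⟨s, hs⟩ := (fin1.union fin2').exists_notMem
  simp only [Set.mem_union, Set.mem_ofPred_eq, not_or, not_not] at hs
  obtain ⟨g1, g2⟩ := hs
  obtain ⟨x₁, hx₁, e₁, he₁, he₁0, hact₁⟩ := descent F α _ _ _ g1 1 1 F.one_mem F.one_mem
    one_ne_zero one_ne_zero
  obtain ⟨x₂, hx₂, e₂, he₂, he₂0, hact₂⟩ := descent F α _ _ _ g2 1 1 F.one_mem F.one_mem
    one_ne_zero one_ne_zero
  -- the vectors
  have ev1 : aeval α (P₀ + C s * (R₁ - P₀)) = (1 + (s : K) * (t⁻¹ - 1)) * aeval α P₀ :=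
    aeval_line F α P₀ R₁ s t⁻¹ eR₁
  have ev2 : aeval α (Q₀ + C s * (S₁ - Q₀)) = (1 + (s : K) * (t⁻¹ - 1)) * aeval α Q₀ :=
    aeval_line F α Q₀ S₁ s t⁻¹ eS₁
  have ev3 : aeval α (P₀ + C (1 - s) * (R₂ - P₀)) =
      t * ((1 + (s : K) * (t⁻¹ - 1)) * aeval α P₀) := by
    rw [aeval_line F α P₀ R₂ (1 - s) t eR₂]
    push_cast
    field_simp
    ring
  have ev4 : aeval α (Q₀ + C (1 - s) * (S₂ - Q₀)) =
      t * ((1 + (s : K) * (t⁻¹ - 1)) * aeval α Q₀) := by
    rw [aeval_line F α Q₀ S₂ (1 - s) t eS₂]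
    push_cast
    field_simp
    ring
  rw [ev1, ev2, one_mul, one_mul] at hact₁
  rw [ev3, ev4, one_mul, one_mul] at hact₂
  have hact₂' : act x₂ (t * ((1 + (s : K) * (t⁻¹ - 1)) * aeval α P₀),
      t * (α * ((1 + (s : K) * (t⁻¹ - 1)) * aeval α Q₀))) = (e₂, 0) := by
    rw [← hact₂]
    congr 2
    ring
  -- `y = x₁ x₂⁻¹` maps `(e₂, 0)` to `(t e₁, 0)`
  have hy : act (x₁ * x₂⁻¹) (e₂, 0) = (t * e₁, 0) := by
    rw [act_mul, ← hact₂', ← act_mul x₂⁻¹ x₂, inv_mul_cancel, act_one, act_smul, hact₁]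
    simp
  have hymem : x₁ * x₂⁻¹ ∈ XG F α := (XG F α).mul_mem hx₁ ((XG F α).inv_mem hx₂)
  have hy10 : ((x₁ * x₂⁻¹ : SpecialLinearGroup (Fin 2) K) : Matrix (Fin 2) (Fin 2) K) 1 0 = 0 := by
    have := congrArg Prod.snd hy
    simp only [act, mul_zero, add_zero] at this
    rcases mul_eq_zero.mp this with h | h
    · exact h
    · exact absurd h he₂0
  have hy00 : ((x₁ * x₂⁻¹ : SpecialLinearGroup (Fin 2) K) : Matrix (Fin 2) (Fin 2) K) 0 0 =
      t * e₁ / e₂ := by
    have := congrArg Prod.fst hy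
    simp only [act, mul_zero, add_zero] at this
    field_simp
    exact this
  have hc : ua ((e₂ / e₁) ^ 2) ∈ XG F α :=
    ua_mem_XG F α (F.pow_mem (F.div_mem he₂ he₁) 2)
  have hconj := (XG F α).mul_mem ((XG F α).mul_mem hymem hc) ((XG F α).inv_mem hymem)
  rw [conj_ua_of_upper _ hy10, hy00] at hconj
  have e : (t * e₁ / e₂) ^ 2 * (e₂ / e₁) ^ 2 = t ^ 2 := by
    field_simp
  rwa [e] at hconj

/-- the infinite case -/
theorem mem_XG_of_infinite (F : Subfield K) [Infinite F] (h2 : (2 : K) ≠ 0) (α : K)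
    (hα : α ≠ 0) (halg : IsAlgebraic F α)
    (t : K) (ht : t ∈ IntermediateField.adjoin F ({α} : Set K)) :
    ua t ∈ XG F α ∧ lb t ∈ XG F α := by
  have hsq : ∀ t ∈ IntermediateField.adjoin F ({α} : Set K), ua (t ^ 2) ∈ XG F α := by
    intro t ht
    by_cases ht0 : t = 0
    · rw [ht0, zero_pow two_ne_zero, ua_zero]; exact (XG F α).one_mem
    · exact ua_sq_mem_of_infinite F α halg t ht ht0
  have h1E : (1 : K) ∈ IntermediateField.adjoin F ({α} : Set K) :=
    (IntermediateField.adjoin F ({α} : Set K)).one_mem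
  have h2E : (2 : K) ∈ IntermediateField.adjoin F ({α} : Set K) := by
    have : (2 : K) = 1 + 1 := by norm_num
    rw [this]
    exact (IntermediateField.adjoin F ({α} : Set K)).add_mem h1E h1E
  have hua : ∀ t ∈ IntermediateField.adjoin F ({α} : Set K), ua t ∈ XG F α := by
    intro t ht
    have hA := hsq ((t + 1) / 2) ((IntermediateField.adjoin F ({α} : Set K)).div_mem
      ((IntermediateField.adjoin F ({α} : Set K)).add_mem ht h1E) h2E)
    have hB := hsq ((t - 1) / 2) ((IntermediateField.adjoin F ({α} : Set K)).div_mem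
      ((IntermediateField.adjoin F ({α} : Set K)).sub_mem ht h1E) h2E)
    have := (XG F α).mul_mem hA ((XG F α).inv_mem hB)
    rw [ua_inv, ua_mul] at this
    have e : ((t + 1) / 2) ^ 2 + -((t - 1) / 2) ^ 2 = t := by
      field_simp
      ring
    rwa [e] at this
  refine ⟨hua t ht, ?_⟩
  have hαE : α ∈ IntermediateField.adjoin F ({α} : Set K) :=
    IntermediateField.mem_adjoin_simple_self F α
  have := lb_of_ua F α hα (hua (t / α)
    ((IntermediateField.adjoin F ({α} : Set K)).div_mem ht hαE))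
  have e : t / α * α = t := by field_simp
  rwa [e] at this

/-- **Main theorem** on `XG F α`. -/
theorem mem_XG_main (F : Subfield K) (h2 : (2 : K) ≠ 0) (r : K)
    (hr : r ∈ F) (hr0 : r ≠ 0) (hr1 : r ^ 2 ≠ 1) (α : K) (hα : α ≠ 0) (halg : IsAlgebraic F α)
    (t : K) (ht : t ∈ IntermediateField.adjoin F ({α} : Set K)) :
    ua t ∈ XG F α ∧ lb t ∈ XG F α := by
  rcases finite_or_infinite F with hfin | hinf
  · exact mem_XG_of_finite F h2 r hr hr0 hr1 α hα halg t ht
  · exact mem_XG_of_infinite F h2 α hα halg t ht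

end Cfsg.Agent.Lib.Helper22.SL2G
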