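import Cfsg.Agent.Lib.Helper3.SLBAct

set_option autoImplicit false

/-! S4538 farm (architect helper24), SPARE of leaf [F]: for `n ≥ 3` a character of the diagonal torus
of `SL_n(F)` that is invariant under the simple reflections is trivial.

The diagonal element `h_k(a) = diag(…, a, a⁻¹, …)` equals `s · (n_k⁻¹ s n_k)⁻¹` for
`s = diag(a at k, a⁻¹ at m)` with `m ∉ {k, k+1}`; every diagonal element is a product of `h_k(a)`s. -/

namespace Cfsg.Agent.Lib.Helper24.SLB.Helper22

open Matrix Cfsg.Agent.Lib.Helper24.SLB.Helper3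

variable {n : ℕ} {F : Type*} [Field F]

/-- the diagonal element with diagonal `f` -/
def dgOf (f : Fin n → F) (h : ∏ i, f i = 1) : SpecialLinearGroup (Fin n) F :=
  ⟨Matrix.diagonal f, by rw [Matrix.det_diagonal]; exact h⟩

open Classical in
/-- the diagonal element with diagonal `f` (and `1` if the product of `f` is not `1`) -/
noncomputable def dg (f : Fin n → F) : SpecialLinearGroup (Fin n) F :=
  if h : ∏ i, f i = 1 then dgOf f h else 1

theorem dg_coe {f : Fin n → F} (hf : ∏ i, f i = 1) :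
    ((dg f : SpecialLinearGroup (Fin n) F) : Matrix (Fin n) (Fin n) F) = Matrix.diagonal f := by
  unfold dg
  rw [dif_pos hf]
  rfl

theorem act_dg {f : Fin n → F} (hf : ∏ i, f i = 1) (v : Fin n → F) (r : Fin n) :
    act (dg f) v r = f r * v r := by
  unfold act
  rw [dg_coe hf, Matrix.mulVec_diagonal]

theorem dg_mem {f : Fin n → F} (hf : ∏ i, f i = 1) : dg f ∈ Tsl n F := by
  rw [mem_Tsl]
  intro i j hij
  rw [dg_coe hf, Matrix.diagonal_apply_ne _ hij]

theorem dg_mul {f g : Fin n → F} (hf : ∏ i, f i = 1) (hg : ∏ i, g i = 1) :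
    dg f * dg g = dg (f * g) := by
  have hfg : ∏ i, (f * g) i = 1 := by
    simp only [Pi.mul_apply]
    rw [Finset.prod_mul_distrib, hf, hg, one_mul]
  apply eq_of_act
  intro v
  funext r
  rw [act_mul, act_dg hf, act_dg hg, act_dg hfg, Pi.mul_apply, mul_assoc]

theorem dg_one : dg (1 : Fin n → F) = 1 := by
  have h1 : ∏ i : Fin n, (1 : Fin n → F) i = 1 := by simp
  apply eq_of_act
  intro v
  funext r
  rw [act_dg h1, act_one, Pi.one_apply, one_mul]

theorem eq_dg_of_mem {t : SpecialLinearGroup (Fin n) F} (ht : t ∈ Tsl n F) :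
    ∃ f : Fin n → F, ∏ i, f i = 1 ∧ t = dg f := by
  have h1 : (t : Matrix (Fin n) (Fin n) F) =
      Matrix.diagonal (fun i => (t : Matrix (Fin n) (Fin n) F) i i) := by
    ext i j
    by_cases hij : i = j
    · subst hij
      rw [Matrix.diagonal_apply_eq]
    · rw [Matrix.diagonal_apply_ne _ hij]
      exact ht i j hij
  have h2 : ∏ i, (t : Matrix (Fin n) (Fin n) F) i i = 1 := by
    have h := t.det_coe
    rw [h1, Matrix.det_diagonal] at h
    exact h
  refine ⟨_, h2, ?_⟩
  apply Subtype.ext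
  rw [dg_coe h2]
  exact h1

theorem dg_mul_ns {f : Fin n → F} (hf : ∏ i, f i = 1) (k : ℕ) (hk : k + 1 < n) :
    dg f * ns k hk = ns k hk * dg (f ∘ Equiv.swap (fi k hk) (fs k hk)) := by
  have hf' : ∏ i, (f ∘ Equiv.swap (fi k hk) (fs k hk)) i = 1 := by
    rw [← hf]
    exact Equiv.prod_comp (Equiv.swap (fi k hk) (fs k hk)) f
  have hpq := fi_ne_fs k hk
  apply eq_of_act
  intro v
  funext r
  rw [act_mul, act_mul, act_dg hf, ns_eq_nn, act_nn hpq, act_nn hpq]
  by_cases h1 : r = fi k hk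
  · rw [if_pos h1, if_pos h1, act_dg hf', Function.comp_apply, Equiv.swap_apply_right, h1]
  · by_cases h2 : r = fs k hk
    · rw [if_neg h1, if_pos h2, if_neg h1, if_pos h2, act_dg hf', Function.comp_apply,
        Equiv.swap_apply_left, h2]
      ring
    · rw [if_neg h1, if_neg h2, if_neg h1, if_neg h2, act_dg hf', Function.comp_apply,
        Equiv.swap_apply_of_ne_of_ne h1 h2]

/-- the function with `a` at `p`, `a⁻¹` at `q`, `1` elsewhere -/
noncomputable def hf2 (p q : Fin n) (a : F) : Fin n → F :=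
  fun i => if i = p then a else if i = q then a⁻¹ else 1

theorem hf2_left (p q : Fin n) (a : F) : hf2 p q a p = a := by
  unfold hf2
  rw [if_pos rfl]

theorem hf2_right {p q : Fin n} (hpq : p ≠ q) (a : F) : hf2 p q a q = a⁻¹ := by
  unfold hf2
  rw [if_neg hpq.symm, if_pos rfl]

theorem hf2_other {p q i : Fin n} (hp : i ≠ p) (hq : i ≠ q) (a : F) : hf2 p q a i = 1 := by
  unfold hf2
  rw [if_neg hp, if_neg hq]

theorem prod_hf2 {p q : Fin n} (hpq : p ≠ q) {a : F} (ha : a ≠ 0) : ∏ i, hf2 p q a i = 1 := by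
  rw [Finset.prod_eq_mul p q hpq]
  · rw [hf2_left, hf2_right hpq, mul_inv_cancel₀ ha]
  · intro c _ hc
    exact hf2_other hc.1 hc.2 a
  · intro h
    exact absurd (Finset.mem_univ _) h
  · intro h
    exact absurd (Finset.mem_univ _) h

section Rep

variable {d : ℕ} (ρ : Representation ℂ (SpecialLinearGroup (Fin n) F) (Fin d → ℂ))

theorem rhoF_mul_apply (g h : SpecialLinearGroup (Fin n) F) (v : Fin d → ℂ) :
    ρ (g * h) v = ρ g (ρ h v) := by
  rw [map_mul]
  rfl

/-- the torus character is trivial on `h_k(a)` -/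
theorem fix_hf2 (hn : 3 ≤ n) (y : Fin d → ℂ) (hy0 : y ≠ 0)
    (hT : ∀ t ∈ Tsl n F, ∃ c : ℂ, ρ t y = c • y)
    (hinv : ∀ (k : ℕ) (hk : k + 1 < n), ∀ t ∈ Tsl n F, ρ ((ns k hk)⁻¹ * t * ns k hk) y = ρ t y)
    (k : ℕ) (hk : k + 1 < n) {a : F} (ha : a ≠ 0) :
    ρ (dg (hf2 (fi k hk) (fs k hk) a)) y = y := by
  obtain ⟨m, hmp, hmq⟩ : ∃ m : Fin n, m ≠ fi k hk ∧ m ≠ fs k hk := by
    by_cases h0 : k = 0
    · refine ⟨⟨2, by omega⟩, ?_, ?_⟩ <;>
        (intro h; have h' := congrArg Fin.val h; simp only at h'; omega)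
    · refine ⟨⟨0, by omega⟩, ?_, ?_⟩ <;>
        (intro h; have h' := congrArg Fin.val h; simp only at h'; omega)
  have hpq : fi k hk ≠ fs k hk := fi_ne_fs k hk
  have hs : ∏ i, hf2 (fi k hk) m a i = 1 := prod_hf2 hmp.symm ha
  have hs' : ∏ i, (hf2 (fi k hk) m a ∘ Equiv.swap (fi k hk) (fs k hk)) i = 1 := by
    rw [← hs]
    exact Equiv.prod_comp (Equiv.swap (fi k hk) (fs k hk)) _
  have hh : ∏ i, hf2 (fi k hk) (fs k hk) a i = 1 := prod_hf2 hpq ha
  have e1 : hf2 (fi k hk) (fs k hk) a * (hf2 (fi k hk) m a ∘ Equiv.swap (fi k hk) (fs k hk)) =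
      hf2 (fi k hk) m a := by
    funext i
    rw [Pi.mul_apply, Function.comp_apply]
    by_cases h1 : i = fi k hk
    · rw [h1, Equiv.swap_apply_left, hf2_left, hf2_left, hf2_other hpq.symm hmq.symm, mul_one]
    · by_cases h2 : i = fs k hk
      · rw [h2, Equiv.swap_apply_right, hf2_right hpq, hf2_left, hf2_other hpq.symm hmq.symm,
          inv_mul_cancel₀ ha]
      · rw [Equiv.swap_apply_of_ne_of_ne h1 h2, hf2_other h1 h2, one_mul]
  have e2 : dg (hf2 (fi k hk) (fs k hk) a) *
      dg (hf2 (fi k hk) m a ∘ Equiv.swap (fi k hk) (fs k hk)) = dg (hf2 (fi k hk) m a) := by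
    rw [dg_mul hh hs', e1]
  have e3 : (ns k hk)⁻¹ * dg (hf2 (fi k hk) m a) * ns k hk =
      dg (hf2 (fi k hk) m a ∘ Equiv.swap (fi k hk) (fs k hk)) := by
    rw [mul_assoc, dg_mul_ns hs, inv_mul_cancel_left]
  obtain ⟨c, hc⟩ := hT _ (dg_mem hs)
  have hc' : ρ (dg (hf2 (fi k hk) m a ∘ Equiv.swap (fi k hk) (fs k hk))) y = c • y := by
    rw [← e3, hinv k hk _ (dg_mem hs), hc]
  have hc0 : c ≠ 0 := by
    intro h
    rw [h, zero_smul] at hc
    apply hy0
    have h1 : y = ρ (dg (hf2 (fi k hk) m a))⁻¹ (ρ (dg (hf2 (fi k hk) m a)) y) := by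
      rw [← rhoF_mul_apply, inv_mul_cancel, map_one]
      rfl
    rw [h1, hc, map_zero]
  have h4 : c • ρ (dg (hf2 (fi k hk) (fs k hk) a)) y = c • y := by
    calc c • ρ (dg (hf2 (fi k hk) (fs k hk) a)) y
        = ρ (dg (hf2 (fi k hk) (fs k hk) a)) (c • y) := by rw [map_smul]
      _ = ρ (dg (hf2 (fi k hk) (fs k hk) a))
            (ρ (dg (hf2 (fi k hk) m a ∘ Equiv.swap (fi k hk) (fs k hk))) y) := by rw [hc']
      _ = ρ (dg (hf2 (fi k hk) m a)) y := by rw [← rhoF_mul_apply, e2]
      _ = c • y := hc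
  exact smul_right_injective _ hc0 h4

/-- the leaf [F] with `ρ` as first explicit argument -/
theorem torus_fixed3 (hn : 3 ≤ n)
    (y : Fin d → ℂ) (hy0 : y ≠ 0) (hT : ∀ t ∈ Tsl n F, ∃ c : ℂ, ρ t y = c • y)
    (hinv : ∀ (k : ℕ) (hk : k + 1 < n), ∀ t ∈ Tsl n F, ρ ((ns k hk)⁻¹ * t * ns k hk) y = ρ t y) :
    ∀ t ∈ Tsl n F, ρ t y = y := by
  have P : ∀ j : ℕ, ∀ f : Fin n → F, ∏ i, f i = 1 →
      (∀ i : Fin n, j + 1 ≤ (i : ℕ) → f i = 1) → ρ (dg f) y = y := by
    intro j
    induction j with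
    | zero =>
      intro f hf h1
      have h0 : f = 1 := by
        funext i
        by_cases hi : (i : ℕ) = 0
        · have h2 : ∏ i', f i' = f i := by
            apply Finset.prod_eq_single i
            · intro b _ hb
              apply h1
              have h3 : (b : ℕ) ≠ 0 := fun h => hb (Fin.ext (h.trans hi.symm))
              omega
            · intro h
              exact absurd (Finset.mem_univ _) h
          rw [← h2, hf]
          rfl
        · exact h1 i (by omega)
      rw [h0, dg_one, map_one]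
      rfl
    | succ j ih =>
      intro f hf h1
      by_cases hk : j + 1 < n
      · have hfne : ∀ i, f i ≠ 0 := by
          intro i hi
          have h2 := Finset.prod_eq_zero (Finset.mem_univ i) hi
          rw [hf] at h2
          exact one_ne_zero h2
        have ha : f (fs j hk) ≠ 0 := hfne _
        have hpq := fi_ne_fs j hk
        have hh := prod_hf2 hpq ha
        have hg : ∏ i, (f * hf2 (fi j hk) (fs j hk) (f (fs j hk))) i = 1 := by
          simp only [Pi.mul_apply]
          rw [Finset.prod_mul_distrib, hf, hh, one_mul]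
        have h2 : ρ (dg (f * hf2 (fi j hk) (fs j hk) (f (fs j hk)))) y = y := by
          apply ih _ hg
          intro i hi
          rw [Pi.mul_apply]
          by_cases hiq : i = fs j hk
          · rw [hiq, hf2_right hpq, mul_inv_cancel₀ ha]
          · have hip : i ≠ fi j hk := by
              intro h
              rw [h] at hi
              simp only at hi
              omega
            have h3 : f i = 1 := by
              apply h1 i
              have h4 : (i : ℕ) ≠ j + 1 := fun h => hiq (Fin.ext h)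
              omega
            rw [h3, hf2_other hip hiq, mul_one]
        have h3 := fix_hf2 ρ hn y hy0 hT hinv j hk ha
        rw [← dg_mul hf hh] at h2
        calc ρ (dg f) y = ρ (dg f) (ρ (dg (hf2 (fi j hk) (fs j hk) (f (fs j hk)))) y) := by rw [h3]
          _ = ρ (dg f * dg (hf2 (fi j hk) (fs j hk) (f (fs j hk)))) y := by rw [rhoF_mul_apply]
          _ = y := h2
      · apply ih f hf
        intro i hi
        exfalso
        have := i.2
        omega
  intro t ht
  obtain ⟨f, hf, rfl⟩ := eq_dg_of_mem ht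
  apply P n f hf
  intro i hi
  exfalso
  have := i.2
  omega

end Rep

set_option linter.unusedVariables false in
/-- **[F]**, spare, with the exact signature of the skeleton: for `n ≥ 3` a multiplicative function
on the torus invariant under the simple reflections is trivial -/
theorem torus_fixed_of_three_le_spare {n : ℕ} {F : Type*} [Field F] [Fintype F] (hn : 3 ≤ n)
    {d : ℕ} (ρ : Representation ℂ (SpecialLinearGroup (Fin n) F) (Fin d → ℂ))
    (y : Fin d → ℂ) (hy0 : y ≠ 0) (hT : ∀ t ∈ Tsl n F, ∃ c : ℂ, ρ t y = c • y)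
    (hinv : ∀ (k : ℕ) (hk : k + 1 < n), ∀ t ∈ Tsl n F, ρ ((ns k hk)⁻¹ * t * ns k hk) y = ρ t y) :
    ∀ t ∈ Tsl n F, ρ t y = y :=
  torus_fixed3 ρ hn y hy0 hT hinv

end Cfsg.Agent.Lib.Helper24.SLB.Helper22
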