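import Cfsg.Agent.Lib.Helper24.SLB.Defs

set_option autoImplicit false

/-! S4538 farm (architect helper24), leaf [G]: the case `n = 2` of the triviality of the torus
character on the `U`-fixed line.

`V` irreducible of dimension `q = |U|` with `V^U = ℂ y`.  The `q + 1` vectors `y`,
`z_a = ρ(x(a) n) y` span `V` (Bruhat decomposition of `SL₂`), so their linear relations form a line;
it is spanned by `(-c; 1, …, 1)` where `∑ z_a = c y`.  Applying `ρ(n)` to this relation gives the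
relation `(κ; -c at 0, κ Λ(h(-1/b)) at b ≠ 0)`, hence `Λ(h(a))` does not depend on `a`. -/

namespace Cfsg.Agent.Lib.Helper24.SLB

open Matrix

namespace Helper22

variable {F : Type*} [Field F]

theorem h01 : 0 + 1 < 2 := by norm_num

/-- `x(a) = [[1, a], [0, 1]]` -/
noncomputable abbrev xx (a : F) : SpecialLinearGroup (Fin 2) F := xs 0 h01 a

/-- `n = [[0, 1], [-1, 0]]` -/
noncomputable abbrev nn : SpecialLinearGroup (Fin 2) F := ns 0 h01

/-- `h(a) = diag(a, a⁻¹)` -/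
def hh (a : Fˣ) : SpecialLinearGroup (Fin 2) F :=
  ⟨!![(a : F), 0; 0, ((a⁻¹ : Fˣ) : F)], by
    rw [Matrix.det_fin_two_of]
    simp⟩

theorem xx_coe (a : F) :
    ((xx a : SpecialLinearGroup (Fin 2) F) : Matrix (Fin 2) (Fin 2) F) = !![1, a; 0, 1] := by
  unfold xx
  rw [xs_coe]
  ext i j
  fin_cases i <;> fin_cases j <;> simp [Matrix.single, fi, fs]

theorem xm_coe2 (a : F) :
    ((xm 0 h01 a : SpecialLinearGroup (Fin 2) F) : Matrix (Fin 2) (Fin 2) F) = !![1, 0; a, 1] := by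
  rw [xm_coe]
  ext i j
  fin_cases i <;> fin_cases j <;> simp [Matrix.single, fi, fs]

theorem nn_coe :
    ((nn : SpecialLinearGroup (Fin 2) F) : Matrix (Fin 2) (Fin 2) F) = !![0, 1; -1, 0] := by
  unfold nn ns
  rw [Matrix.SpecialLinearGroup.coe_mul, Matrix.SpecialLinearGroup.coe_mul, xm_coe2]
  have := xx_coe (F := F) 1
  unfold xx at this
  rw [this]
  ext i j
  fin_cases i <;> fin_cases j <;> simp [Matrix.mul_apply, Fin.sum_univ_two]

theorem hh_coe (a : Fˣ) :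
    ((hh a : SpecialLinearGroup (Fin 2) F) : Matrix (Fin 2) (Fin 2) F) =
      !![(a : F), 0; 0, ((a⁻¹ : Fˣ) : F)] := rfl

/-- two elements of `SL₂` with the same four entries are equal -/
theorem ext2 {g h : SpecialLinearGroup (Fin 2) F}
    (h00 : (g : Matrix (Fin 2) (Fin 2) F) 0 0 = (h : Matrix (Fin 2) (Fin 2) F) 0 0)
    (h01' : (g : Matrix (Fin 2) (Fin 2) F) 0 1 = (h : Matrix (Fin 2) (Fin 2) F) 0 1)
    (h10 : (g : Matrix (Fin 2) (Fin 2) F) 1 0 = (h : Matrix (Fin 2) (Fin 2) F) 1 0)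
    (h11 : (g : Matrix (Fin 2) (Fin 2) F) 1 1 = (h : Matrix (Fin 2) (Fin 2) F) 1 1) : g = h := by
  apply Subtype.ext
  ext i j
  fin_cases i <;> fin_cases j <;> assumption

theorem det2 (g : SpecialLinearGroup (Fin 2) F) :
    (g : Matrix (Fin 2) (Fin 2) F) 0 0 * (g : Matrix (Fin 2) (Fin 2) F) 1 1 -
      (g : Matrix (Fin 2) (Fin 2) F) 0 1 * (g : Matrix (Fin 2) (Fin 2) F) 1 0 = 1 := by
  have := g.det_coe
  rwa [Matrix.det_fin_two] at this

/-- entries of a product -/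
theorem mul_entries (g h : SpecialLinearGroup (Fin 2) F) (i j : Fin 2) :
    ((g * h : SpecialLinearGroup (Fin 2) F) : Matrix (Fin 2) (Fin 2) F) i j =
      (g : Matrix (Fin 2) (Fin 2) F) i 0 * (h : Matrix (Fin 2) (Fin 2) F) 0 j +
      (g : Matrix (Fin 2) (Fin 2) F) i 1 * (h : Matrix (Fin 2) (Fin 2) F) 1 j := by
  rw [Matrix.SpecialLinearGroup.coe_mul, Matrix.mul_apply, Fin.sum_univ_two]

/-- entries of an inverse -/
theorem inv_entries (g : SpecialLinearGroup (Fin 2) F) :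
    ((g⁻¹ : SpecialLinearGroup (Fin 2) F) : Matrix (Fin 2) (Fin 2) F) 0 0 =
        (g : Matrix (Fin 2) (Fin 2) F) 1 1 ∧
    ((g⁻¹ : SpecialLinearGroup (Fin 2) F) : Matrix (Fin 2) (Fin 2) F) 0 1 =
        -(g : Matrix (Fin 2) (Fin 2) F) 0 1 ∧
    ((g⁻¹ : SpecialLinearGroup (Fin 2) F) : Matrix (Fin 2) (Fin 2) F) 1 0 =
        -(g : Matrix (Fin 2) (Fin 2) F) 1 0 ∧
    ((g⁻¹ : SpecialLinearGroup (Fin 2) F) : Matrix (Fin 2) (Fin 2) F) 1 1 =
        (g : Matrix (Fin 2) (Fin 2) F) 0 0 := by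
  rw [Matrix.SpecialLinearGroup.coe_inv, Matrix.adjugate_fin_two]
  simp

theorem xx_entries (a : F) :
    ((xx a : SpecialLinearGroup (Fin 2) F) : Matrix (Fin 2) (Fin 2) F) 0 0 = 1 ∧
    ((xx a : SpecialLinearGroup (Fin 2) F) : Matrix (Fin 2) (Fin 2) F) 0 1 = a ∧
    ((xx a : SpecialLinearGroup (Fin 2) F) : Matrix (Fin 2) (Fin 2) F) 1 0 = 0 ∧
    ((xx a : SpecialLinearGroup (Fin 2) F) : Matrix (Fin 2) (Fin 2) F) 1 1 = 1 := by
  rw [xx_coe]
  simp

theorem nn_entries :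
    ((nn : SpecialLinearGroup (Fin 2) F) : Matrix (Fin 2) (Fin 2) F) 0 0 = 0 ∧
    ((nn : SpecialLinearGroup (Fin 2) F) : Matrix (Fin 2) (Fin 2) F) 0 1 = 1 ∧
    ((nn : SpecialLinearGroup (Fin 2) F) : Matrix (Fin 2) (Fin 2) F) 1 0 = -1 ∧
    ((nn : SpecialLinearGroup (Fin 2) F) : Matrix (Fin 2) (Fin 2) F) 1 1 = 0 := by
  rw [nn_coe]
  simp

theorem hh_entries (a : Fˣ) :
    ((hh a : SpecialLinearGroup (Fin 2) F) : Matrix (Fin 2) (Fin 2) F) 0 0 = a ∧
    ((hh a : SpecialLinearGroup (Fin 2) F) : Matrix (Fin 2) (Fin 2) F) 0 1 = 0 ∧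
    ((hh a : SpecialLinearGroup (Fin 2) F) : Matrix (Fin 2) (Fin 2) F) 1 0 = 0 ∧
    ((hh a : SpecialLinearGroup (Fin 2) F) : Matrix (Fin 2) (Fin 2) F) 1 1 = ((a⁻¹ : Fˣ) : F) := by
  rw [hh_coe]
  simp

/-- membership in `U` for `n = 2` -/
theorem mem_Usl2 {u : SpecialLinearGroup (Fin 2) F} :
    u ∈ Usl 2 F ↔ (u : Matrix (Fin 2) (Fin 2) F) 1 0 = 0 ∧
      (u : Matrix (Fin 2) (Fin 2) F) 0 0 = 1 ∧ (u : Matrix (Fin 2) (Fin 2) F) 1 1 = 1 := by
  rw [mem_Usl]
  constructor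
  · rintro ⟨h1, h2⟩
    exact ⟨h1 (show (id (0 : Fin 2)) < id 1 by decide), h2 0, h2 1⟩
  · rintro ⟨h1, h2, h3⟩
    refine ⟨fun i j hij => ?_, fun i => ?_⟩
    · fin_cases i <;> fin_cases j <;> simp_all
    · fin_cases i <;> simp_all

/-- membership in `T` for `n = 2` -/
theorem mem_Tsl2 {t : SpecialLinearGroup (Fin 2) F} :
    t ∈ Tsl 2 F ↔ (t : Matrix (Fin 2) (Fin 2) F) 0 1 = 0 ∧
      (t : Matrix (Fin 2) (Fin 2) F) 1 0 = 0 := by
  rw [mem_Tsl]
  constructor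
  · intro h
    exact ⟨h 0 1 (by decide), h 1 0 (by decide)⟩
  · rintro ⟨h1, h2⟩ i j hij
    fin_cases i <;> fin_cases j <;> simp_all

theorem xx_mem (a : F) : xx a ∈ Usl 2 F := by
  rw [mem_Usl2]
  obtain ⟨h1, _, h3, h4⟩ := xx_entries a
  exact ⟨h3, h1, h4⟩

theorem eq_xx_of_mem {u : SpecialLinearGroup (Fin 2) F} (hu : u ∈ Usl 2 F) :
    u = xx ((u : Matrix (Fin 2) (Fin 2) F) 0 1) := by
  rw [mem_Usl2] at hu
  obtain ⟨h1, h2, h3, h4⟩ := xx_entries ((u : Matrix (Fin 2) (Fin 2) F) 0 1)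
  apply ext2
  · rw [hu.2.1, h1]
  · rw [h2]
  · rw [hu.1, h3]
  · rw [hu.2.2, h4]

theorem xx_add (a b : F) : xx a * xx b = xx (a + b) := by
  obtain ⟨a1, a2, a3, a4⟩ := xx_entries a
  obtain ⟨b1, b2, b3, b4⟩ := xx_entries b
  obtain ⟨c1, c2, c3, c4⟩ := xx_entries (a + b)
  apply ext2 <;> rw [mul_entries] <;> simp only [a1, a2, a3, a4, b1, b2, b3, b4, c1, c2, c3, c4] <;>
    ring

theorem xx_zero : xx (0 : F) = 1 := by
  obtain ⟨c1, c2, c3, c4⟩ := xx_entries (0 : F)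
  apply ext2 <;> simp [c1, c2, c3, c4]

/-- the Borel subgroup normalizes `U` -/
theorem conj_mem_Usl2 {g u : SpecialLinearGroup (Fin 2) F}
    (hg : (g : Matrix (Fin 2) (Fin 2) F) 1 0 = 0) (hu : u ∈ Usl 2 F) : g⁻¹ * u * g ∈ Usl 2 F := by
  rw [mem_Usl2] at hu ⊢
  obtain ⟨i1, i2, i3, i4⟩ := inv_entries g
  have hd := det2 g
  rw [hg, mul_zero, sub_zero] at hd
  refine ⟨?_, ?_, ?_⟩
  · rw [mul_entries, mul_entries, mul_entries, i3, i4, hg, hu.1]
    ring
  · rw [mul_entries, mul_entries, mul_entries, i1, i2, hg, hu.1, hu.2.1]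
    linear_combination hd
  · rw [mul_entries, mul_entries, mul_entries, i3, i4, hg, hu.1, hu.2.2]
    linear_combination hd

/-- Bruhat: `(x(α) n)⁻¹ g` is upper triangular for `α = g₀₀ / g₁₀` -/
theorem bruhat2 (g : SpecialLinearGroup (Fin 2) F)
    (hc : (g : Matrix (Fin 2) (Fin 2) F) 1 0 ≠ 0) :
    (((xx ((g : Matrix (Fin 2) (Fin 2) F) 0 0 / (g : Matrix (Fin 2) (Fin 2) F) 1 0) * nn)⁻¹ * g :
      SpecialLinearGroup (Fin 2) F) : Matrix (Fin 2) (Fin 2) F) 1 0 = 0 := by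
  set α := (g : Matrix (Fin 2) (Fin 2) F) 0 0 / (g : Matrix (Fin 2) (Fin 2) F) 1 0 with hα
  obtain ⟨i1, i2, i3, i4⟩ := inv_entries (xx α * nn)
  obtain ⟨a1, a2, a3, a4⟩ := xx_entries α
  obtain ⟨n1, n2, n3, n4⟩ := nn_entries (F := F)
  simp only [mul_entries, i3, i4, a1, a2, a3, a4, n1, n2, n3, n4]
  rw [hα]
  field_simp
  ring

/-- `n² = -1` is diagonal -/
theorem nn_sq_mem : (nn * nn : SpecialLinearGroup (Fin 2) F) ∈ Tsl 2 F := by
  rw [mem_Tsl2]
  obtain ⟨n1, n2, n3, n4⟩ := nn_entries (F := F)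
  constructor <;> rw [mul_entries] <;> simp only [n1, n2, n3, n4] <;> ring

theorem hh_mem (a : Fˣ) : hh a ∈ Tsl 2 F := by
  rw [mem_Tsl2]
  obtain ⟨_, h2, h3, _⟩ := hh_entries a
  exact ⟨h2, h3⟩

theorem hh_one : hh (1 : Fˣ) = (1 : SpecialLinearGroup (Fin 2) F) := by
  obtain ⟨h1, h2, h3, h4⟩ := hh_entries (1 : Fˣ)
  apply ext2 <;> simp [h1, h2, h3, h4]

theorem eq_hh_of_mem {t : SpecialLinearGroup (Fin 2) F} (ht : t ∈ Tsl 2 F) :
    ∃ a : Fˣ, t = hh a := by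
  rw [mem_Tsl2] at ht
  have hd := det2 t
  rw [ht.1, zero_mul, sub_zero] at hd
  have h0 : (t : Matrix (Fin 2) (Fin 2) F) 0 0 ≠ 0 := by
    intro h
    rw [h, zero_mul] at hd
    exact zero_ne_one hd
  refine ⟨Units.mk0 _ h0, ?_⟩
  obtain ⟨h1, h2, h3, h4⟩ := hh_entries (Units.mk0 _ h0)
  apply ext2
  · rw [h1]; rfl
  · rw [h2, ht.1]
  · rw [h3, ht.2]
  · rw [h4]
    simp only [Units.val_inv_eq_inv_val, Units.val_mk0]
    exact eq_inv_of_mul_eq_one_right hd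

/-- the rank-one identity `n x(a) n = x(-1/a) n · h(a) x(-1/a) n²` -/
theorem rank_one_identity (a : Fˣ) :
    (nn * (xx (a : F) * nn) : SpecialLinearGroup (Fin 2) F) =
      (xx (-((a⁻¹ : Fˣ) : F)) * nn) * (hh a * xx (-((a⁻¹ : Fˣ) : F)) * (nn * nn)) := by
  obtain ⟨a1, a2, a3, a4⟩ := xx_entries (a : F)
  obtain ⟨b1, b2, b3, b4⟩ := xx_entries (-((a⁻¹ : Fˣ) : F))
  obtain ⟨n1, n2, n3, n4⟩ := nn_entries (F := F)
  obtain ⟨h1, h2, h3, h4⟩ := hh_entries a
  have ha : (a : F) * ((a⁻¹ : Fˣ) : F) = 1 := by simp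
  apply ext2 <;> simp only [mul_entries, a1, a2, a3, a4, b1, b2, b3, b4, n1, n2, n3, n4, h1, h2,
    h3, h4]
  · linear_combination ha
  · linear_combination (-((a⁻¹ : Fˣ) : F)) * ha
  · ring
  · linear_combination ha


/-- `h(a)`, extended by `1` at `a = 0` -/
noncomputable def hF (a : F) : SpecialLinearGroup (Fin 2) F := by
  classical
  exact if h : a = 0 then 1 else hh (Units.mk0 a h)

theorem hF_of_ne {a : F} (h : a ≠ 0) : hF a = hh (Units.mk0 a h) := by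
  unfold hF
  exact dif_neg h

theorem hF_entry (a : F) :
    ((hF a : SpecialLinearGroup (Fin 2) F) : Matrix (Fin 2) (Fin 2) F) 1 0 = 0 := by
  by_cases h : a = 0
  · unfold hF
    rw [dif_pos h]
    simp
  · rw [hF_of_ne h]
    exact (hh_entries _).2.2.1

theorem hF_unit (a : Fˣ) : hF (a : F) = hh a := by
  rw [hF_of_ne a.ne_zero, Units.mk0_val]

theorem hF_one : hF (1 : F) = 1 := by
  have := hF_unit (1 : Fˣ)
  rw [Units.val_one] at this
  rw [this, hh_one]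

theorem rank_one_identity' {a : F} (h : a ≠ 0) :
    (nn * (xx a * nn) : SpecialLinearGroup (Fin 2) F) =
      (xx (-a⁻¹) * nn) * (hF a * xx (-a⁻¹) * (nn * nn)) := by
  have := rank_one_identity (Units.mk0 a h)
  rw [hF_of_ne h]
  simpa using this

/-! ### The representation -/

section Rep

variable [Fintype F] {d : ℕ}
  (ρ : Representation ℂ (SpecialLinearGroup (Fin 2) F) (Fin d → ℂ))

theorem rho_mul_apply (g h : SpecialLinearGroup (Fin 2) F) (v : Fin d → ℂ) :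
    ρ (g * h) v = ρ g (ρ h v) := by
  rw [map_mul]
  rfl

/-- `z_a = ρ(x(a) n) y` -/
noncomputable def zz (y : Fin d → ℂ) (a : F) : Fin d → ℂ := ρ (xx a * nn) y

/-- the spanning family `y, z_a` -/
noncomputable def fam (y : Fin d → ℂ) : Option F → (Fin d → ℂ) := fun o => o.elim y (zz ρ y)

variable {ρ} {y : Fin d → ℂ}

/-- the Borel subgroup acts on `y` by scalars -/
theorem borel_eigen (hU : ∀ u ∈ Usl 2 F, ρ u y = y)
    (hline : ∀ v : Fin d → ℂ, (∀ u ∈ Usl 2 F, ρ u v = v) → ∃ c : ℂ, v = c • y)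
    (g : SpecialLinearGroup (Fin 2) F) (hg : (g : Matrix (Fin 2) (Fin 2) F) 1 0 = 0) :
    ∃ c : ℂ, ρ g y = c • y := by
  apply hline
  intro u hu
  have h1 : u * g = g * (g⁻¹ * u * g) := by group
  rw [← rho_mul_apply, h1, rho_mul_apply, hU _ (conj_mem_Usl2 hg hu)]

theorem rho_mem_span (hU : ∀ u ∈ Usl 2 F, ρ u y = y)
    (hline : ∀ v : Fin d → ℂ, (∀ u ∈ Usl 2 F, ρ u v = v) → ∃ c : ℂ, v = c • y)
    (g : SpecialLinearGroup (Fin 2) F) :
    ρ g y ∈ Submodule.span ℂ (Set.range (fam ρ y)) := by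
  by_cases hc : (g : Matrix (Fin 2) (Fin 2) F) 1 0 = 0
  · obtain ⟨c, hc'⟩ := borel_eigen hU hline g hc
    rw [hc']
    exact Submodule.smul_mem _ _ (Submodule.subset_span ⟨none, rfl⟩)
  · have hb := bruhat2 g hc
    set m := xx ((g : Matrix (Fin 2) (Fin 2) F) 0 0 / (g : Matrix (Fin 2) (Fin 2) F) 1 0) * nn
      with hm
    obtain ⟨c, hc'⟩ := borel_eigen hU hline (m⁻¹ * g) hb
    have h1 : g = m * (m⁻¹ * g) := by group
    rw [h1, rho_mul_apply, hc', map_smul]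
    exact Submodule.smul_mem _ _ (Submodule.subset_span ⟨some _, rfl⟩)

theorem span_fam_eq_top (hρ : ρ.IsIrreducible) (hy0 : y ≠ 0) (hU : ∀ u ∈ Usl 2 F, ρ u y = y)
    (hline : ∀ v : Fin d → ℂ, (∀ u ∈ Usl 2 F, ρ u v = v) → ∃ c : ℂ, v = c • y) :
    Submodule.span ℂ (Set.range (fam ρ y)) = ⊤ := by
  set S := Submodule.span ℂ (Set.range (fam ρ y)) with hS
  have hinv : ∀ (g : SpecialLinearGroup (Fin 2) F) (w : Fin d → ℂ), w ∈ S → ρ g w ∈ S := by
    intro g w hw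
    induction hw using Submodule.span_induction with
    | mem x hx =>
      obtain ⟨o, rfl⟩ := hx
      cases o with
      | none => exact rho_mem_span hU hline g
      | some a =>
        show ρ g (ρ (xx a * nn) y) ∈ S
        rw [← rho_mul_apply]
        exact rho_mem_span hU hline _
    | zero => rw [map_zero]; exact S.zero_mem
    | add a b _ _ ha hb => rw [map_add]; exact S.add_mem ha hb
    | smul c a _ ha => rw [map_smul]; exact S.smul_mem c ha
  let W : Subrepresentation ρ := ⟨S, fun g w hw => hinv g w hw⟩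
  rcases hρ.eq_bot_or_eq_top W with h | h
  · exfalso
    have hy : y ∈ W.toSubmodule := Submodule.subset_span ⟨none, rfl⟩
    rw [h] at hy
    exact hy0 ((Submodule.mem_bot ℂ).mp hy)
  · exact congrArg Subrepresentation.toSubmodule h

/-- the relation map -/
noncomputable def Phi (ρ : Representation ℂ (SpecialLinearGroup (Fin 2) F) (Fin d → ℂ))
    (y : Fin d → ℂ) : (Option F → ℂ) →ₗ[ℂ] (Fin d → ℂ) :=
  Fintype.linearCombination ℂ (fam ρ y)

theorem Phi_apply (r : Option F → ℂ) :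
    Phi ρ y r = r none • y + ∑ a : F, r (some a) • zz ρ y a := by
  unfold Phi
  rw [Fintype.linearCombination_apply, Fintype.sum_option]
  rfl

/-- `|U| = q` -/
theorem card_Usl2 : Nat.card (Usl 2 F) = Fintype.card F := by
  rw [← Nat.card_eq_fintype_card]
  apply Nat.card_congr
  refine ⟨fun u => ((u : SpecialLinearGroup (Fin 2) F) : Matrix (Fin 2) (Fin 2) F) 0 1,
    fun a => ⟨xx a, xx_mem a⟩, ?_, ?_⟩
  · intro u
    apply Subtype.ext
    exact (eq_xx_of_mem u.2).symm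
  · intro a
    exact (xx_entries a).2.1

/-- the relations form a line -/
theorem finrank_ker_Phi (hρ : ρ.IsIrreducible) (hd : d = Nat.card (Usl 2 F)) (hy0 : y ≠ 0)
    (hU : ∀ u ∈ Usl 2 F, ρ u y = y)
    (hline : ∀ v : Fin d → ℂ, (∀ u ∈ Usl 2 F, ρ u v = v) → ∃ c : ℂ, v = c • y) :
    Module.finrank ℂ (LinearMap.ker (Phi ρ y)) = 1 := by
  have h1 := LinearMap.finrank_range_add_finrank_ker (Phi ρ y)
  have h2 : LinearMap.range (Phi ρ y) = ⊤ := by
    unfold Phi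
    rw [Fintype.range_linearCombination]
    exact span_fam_eq_top hρ hy0 hU hline
  have hd' : d = Fintype.card F := hd.trans card_Usl2
  rw [h2, finrank_top, Module.finrank_fin_fun, Module.finrank_fintype_fun_eq_card,
    Fintype.card_option] at h1
  omega

/-- all coordinates of a relation at the `z_a` agree -/
theorem rel_coords_eq (hρ : ρ.IsIrreducible) (hd : d = Nat.card (Usl 2 F)) (hy0 : y ≠ 0)
    (hU : ∀ u ∈ Usl 2 F, ρ u y = y)
    (hline : ∀ v : Fin d → ℂ, (∀ u ∈ Usl 2 F, ρ u v = v) → ∃ c : ℂ, v = c • y)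
    (r0 : Option F → ℂ) (hr0 : Phi ρ y r0 = 0) (h1 : ∀ a : F, r0 (some a) = 1)
    (r : Option F → ℂ) (hr : Phi ρ y r = 0) (a b : F) : r (some a) = r (some b) := by
  have hfin := finrank_ker_Phi hρ hd hy0 hU hline
  have hne : (⟨r0, hr0⟩ : LinearMap.ker (Phi ρ y)) ≠ 0 := by
    intro h
    have h2 := congrArg (fun w : LinearMap.ker (Phi ρ y) => (w : Option F → ℂ) (some (0 : F))) h
    simp only [ZeroMemClass.coe_zero, Pi.zero_apply] at h2
    rw [h1] at h2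
    exact one_ne_zero h2
  obtain ⟨μ, hμ⟩ := (finrank_eq_one_iff_of_nonzero' _ hne).mp hfin ⟨r, hr⟩
  have h3 : ∀ o : Option F, μ * r0 o = r o := by
    intro o
    have := congrArg (fun w : LinearMap.ker (Phi ρ y) => (w : Option F → ℂ) o) hμ
    simpa using this
  rw [← h3, ← h3, h1, h1]

theorem rho_xx_zz (b a : F) : ρ (xx b) (zz ρ y a) = zz ρ y (b + a) := by
  unfold zz
  rw [← rho_mul_apply, ← mul_assoc, xx_add]

theorem zz_zero : zz ρ y 0 = ρ nn y := by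
  unfold zz
  rw [xx_zero, one_mul]

theorem sum_zz_fixed (u : SpecialLinearGroup (Fin 2) F) (hu : u ∈ Usl 2 F) :
    ρ u (∑ a : F, zz ρ y a) = ∑ a : F, zz ρ y a := by
  rw [eq_xx_of_mem hu, map_sum]
  simp only [rho_xx_zz]
  exact Fintype.sum_equiv (Equiv.addLeft _) _ _ (fun a => rfl)

/-- the case `n = 2`, stated for `Fin 2` -/
theorem torus_fixed2 (hρ : ρ.IsIrreducible) (hd : d = Nat.card (Usl 2 F)) (hy0 : y ≠ 0)
    (hU : ∀ u ∈ Usl 2 F, ρ u y = y)
    (hline : ∀ v : Fin d → ℂ, (∀ u ∈ Usl 2 F, ρ u v = v) → ∃ c : ℂ, v = c • y) :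
    ∀ t ∈ Tsl 2 F, ρ t y = y := by
  classical
  -- (1) the relation `∑ z_a = c y`
  obtain ⟨c, hc⟩ := hline (∑ a : F, zz ρ y a) (fun u hu => sum_zz_fixed u hu)
  -- (2) eigenvalues of the Borel subgroup
  obtain ⟨κ, hκ⟩ := borel_eigen hU hline (nn * nn) ((mem_Tsl2.mp nn_sq_mem).2)
  have hκ0 : κ ≠ 0 := by
    intro h
    rw [h, zero_smul] at hκ
    apply hy0
    have h1 : y = ρ ((nn * nn)⁻¹) (ρ (nn * nn) y) := by
      rw [← rho_mul_apply, inv_mul_cancel, map_one]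
      rfl
    rw [h1, hκ, map_zero]
  choose lam hlam using fun a : F => borel_eigen hU hline (hF a) (hF_entry a)
  have hlam1 : lam 1 = 1 := by
    have h1 := hlam 1
    rw [hF_one, map_one] at h1
    have h2 : (1 - lam 1) • y = 0 := by
      rw [sub_smul, one_smul, ← h1]
      simp
    rcases smul_eq_zero.mp h2 with h | h
    · exact (sub_eq_zero.mp h).symm
    · exact absurd h hy0
  -- (3) the action of `n` on the `z_a`
  have h3a : ρ nn (zz ρ y 0) = κ • y := by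
    unfold zz
    rw [← rho_mul_apply, xx_zero, one_mul, hκ]
  have h3b : ∀ a : F, a ≠ 0 → ρ nn (zz ρ y a) = (κ * lam a) • zz ρ y (-a⁻¹) := by
    intro a ha
    unfold zz
    rw [← rho_mul_apply, rank_one_identity' ha, rho_mul_apply,
      rho_mul_apply ρ (hF a * xx (-a⁻¹)), hκ, map_smul, rho_mul_apply ρ (hF a), hU _ (xx_mem _),
      hlam, map_smul, map_smul, smul_smul]
  -- (4) the second relation
  have hσσ : ∀ a : F, -(-a⁻¹)⁻¹ = a := by
    intro a
    rw [inv_neg, neg_neg, inv_inv]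
  have hσ0 : -(0 : F)⁻¹ = 0 := by simp
  have hσne : ∀ a : F, a ≠ 0 → -a⁻¹ ≠ 0 := by
    intro a ha
    exact neg_ne_zero.mpr (inv_ne_zero ha)
  set coef : F → ℂ := fun a => if a = 0 then 0 else κ * lam a with hcoef
  have h4 : ∀ a : F, ρ nn (zz ρ y a) =
      (if a = 0 then κ else 0) • y + coef a • zz ρ y (-a⁻¹) := by
    intro a
    by_cases ha : a = 0
    · rw [ha, h3a, hcoef]
      simp
    · rw [h3b a ha, hcoef]
      simp [ha]
  have h5 : κ • y + ∑ b : F, coef (-b⁻¹) • zz ρ y b = c • zz ρ y 0 := by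
    have h := congrArg (ρ nn) hc
    rw [map_sum, map_smul, ← zz_zero] at h
    rw [← h]
    simp only [h4]
    rw [Finset.sum_add_distrib, ← Finset.sum_smul, Finset.sum_ite_eq' Finset.univ (0 : F),
      if_pos (Finset.mem_univ _)]
    congr 1
    refine Fintype.sum_equiv (Function.Involutive.toPerm (fun a : F => -a⁻¹) hσσ) _ _ ?_
    intro b
    show coef (-b⁻¹) • zz ρ y b = coef (-b⁻¹) • zz ρ y (-(-b⁻¹)⁻¹)
    rw [hσσ]
  -- the two relations
  set r0 : Option F → ℂ := fun o => o.elim (-c) (fun _ => 1) with hr0def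
  have hr0 : Phi ρ y r0 = 0 := by
    rw [Phi_apply]
    show (-c) • y + ∑ a : F, (1 : ℂ) • zz ρ y a = 0
    simp only [one_smul]
    rw [hc, neg_smul, neg_add_cancel]
  set r1 : Option F → ℂ :=
    fun o => o.elim κ (fun b => coef (-b⁻¹) - if b = 0 then c else 0) with hr1def
  have hr1 : Phi ρ y r1 = 0 := by
    rw [Phi_apply]
    show κ • y + ∑ b : F, (coef (-b⁻¹) - if b = 0 then c else 0) • zz ρ y b = 0
    simp only [sub_smul, Finset.sum_sub_distrib, ite_smul, zero_smul]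
    rw [Finset.sum_ite_eq' Finset.univ (0 : F), if_pos (Finset.mem_univ _), ← add_sub_assoc, h5,
      sub_self]
  -- (5) compare
  have h6 := rel_coords_eq hρ hd hy0 hU hline r0 hr0 (fun a => rfl) r1 hr1
  have h7 : ∀ a : F, a ≠ 0 → κ * lam a = -c := by
    intro a ha
    have h := h6 (-a⁻¹) 0
    have e1 : r1 (some (-a⁻¹)) = κ * lam a := by
      show coef (-(-a⁻¹)⁻¹) - (if -a⁻¹ = 0 then c else 0) = _
      rw [hσσ, if_neg (hσne a ha), sub_zero, hcoef]
      simp [ha]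
    have e2 : r1 (some (0 : F)) = -c := by
      show coef (-(0 : F)⁻¹) - (if (0 : F) = 0 then c else 0) = _
      rw [hσ0, if_pos rfl, hcoef]
      simp
    rw [e1, e2] at h
    exact h
  have h8 : ∀ a : F, a ≠ 0 → lam a = 1 := by
    intro a ha
    have h := (h7 a ha).trans (h7 1 one_ne_zero).symm
    rw [hlam1] at h
    exact mul_left_cancel₀ hκ0 h
  -- (6) conclusion
  intro t ht
  obtain ⟨a, rfl⟩ := eq_hh_of_mem ht
  rw [← hF_unit, hlam, h8 _ a.ne_zero, one_smul]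

end Rep

end Helper22

variable {n : ℕ} {F : Type*} [Field F] [Fintype F]

/-- **[G]** the case `n = 2` -/
theorem torus_fixed_of_two (hn : n = 2) {d : ℕ}
    (ρ : Representation ℂ (SpecialLinearGroup (Fin n) F) (Fin d → ℂ)) (hρ : ρ.IsIrreducible)
    (hd : d = Nat.card (Usl n F))
    (y : Fin d → ℂ) (hy0 : y ≠ 0) (hU : ∀ u ∈ Usl n F, ρ u y = y)
    (hline : ∀ v : Fin d → ℂ, (∀ u ∈ Usl n F, ρ u v = v) → ∃ c : ℂ, v = c • y) :
    ∀ t ∈ Tsl n F, ρ t y = y := by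
  subst hn
  exact Helper22.torus_fixed2 hρ hd hy0 hU hline

end Cfsg.Agent.Lib.Helper24.SLB
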