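import Cfsg.Agent.Lib.Helper24.SLB.Defs
import Cfsg.Agent.Lib.Helper15.UnipSL

set_option autoImplicit false

/-! S4538 farm (architect helper24), leaf [R]: the Steinberg character of `SL_n(F)` has defect
zero: `|SL_n(F)| / q^(n(n-1)/2) = (q - 1)^(n-1) [n]_q!` is prime to `p`. -/

namespace Cfsg.Agent.Lib.Helper24.SLB

open Matrix Cfsg.Agent.Lib.Helper15 Cfsg.Agent.Lib.Helper15.UnipSL Cfsg.Agent.Lib.Helper15.QHook

namespace Helper22

/-- the order of `SL_n(F)` -/
theorem card_SL_eq {F : Type*} [Field F] [Fintype F] (n : ℕ) (hn : 0 < n) :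
    Nat.card (SpecialLinearGroup (Fin n) F) =
      Fintype.card F ^ tri n * ((Fintype.card F - 1) ^ (n - 1) * qFact (Fintype.card F) n) := by
  classical
  set q := Fintype.card F with hq
  have hq2 : 2 ≤ q := Fintype.one_lt_card
  have h1 : Nat.card (GL (Fin n) F) = q ^ tri n * (q - 1) ^ n * qFact q n := by
    rw [Matrix.card_GL_field, Fin.prod_univ_eq_prod_range (fun i => q ^ n - q ^ i),
      card_gl_eq q n (by omega)]
    rfl
  have h2 := card_GL_eq_mul (F := F) n hn
  have h5 : Nat.card Fˣ = q - 1 := by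
    rw [Nat.card_eq_fintype_card, Fintype.card_units]
  rw [h1, h5] at h2
  have hq10 : 0 < q - 1 := by omega
  apply Nat.eq_of_mul_eq_mul_left hq10
  rw [← h2]
  obtain ⟨m, rfl⟩ : ∃ m, n = m + 1 := ⟨n - 1, by omega⟩
  rw [Nat.add_sub_cancel, pow_succ]
  ring

/-- the degree of the Steinberg character of `SL_n(F)` -/
theorem charDegree_steinberg {F : Type*} [Field F] [Fintype F] (n : ℕ) :
    Cfsg.charDegree (unipSL n F (fun _ => 1)) = Fintype.card F ^ tri n := by
  unfold Cfsg.charDegree unipSL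
  rw [map_one, steinberg_degree]
  rw [show (((Fintype.card F ^ tri n : ℕ) : ℂ)).re = ((Fintype.card F ^ tri n : ℕ) : ℝ) from
    Complex.natCast_re _]
  exact Nat.floor_natCast _

end Helper22

variable {n : ℕ} {F : Type*} [Field F] [Fintype F]

/-- **[R]** the Steinberg character of `SL_n(F)` has defect zero -/
theorem steinberg_not_dvd (p : ℕ) [Fact p.Prime] [CharP F p] (hn : 2 ≤ n) :
    ¬ p ∣ Nat.card (SpecialLinearGroup (Fin n) F) /
      Cfsg.charDegree (Cfsg.Agent.Lib.Helper15.UnipSL.unipSL n F (fun _ => 1)) := by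
  have hp : p.Prime := Fact.out
  set q := Fintype.card F with hq
  have hq2 : 2 ≤ q := Fintype.one_lt_card
  have hpq : p ∣ q := by
    obtain ⟨k, _, hk⟩ := FiniteField.card F p
    rw [hq, hk]
    exact dvd_pow_self p k.ne_zero
  rw [Helper22.charDegree_steinberg, Helper22.card_SL_eq n (by omega), ← hq,
    Nat.mul_div_cancel_left _ (pow_pos (by omega) _)]
  have hq1 : ¬ p ∣ q - 1 := by
    intro h
    have : p ∣ 1 := by
      have h' : p ∣ (q - 1) + 1 := by rw [Nat.sub_add_cancel (by omega)]; exact hpq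
      exact (Nat.dvd_add_right h).mp h'
    exact hp.one_lt.ne' (Nat.dvd_one.mp this)
  intro h
  rcases (Nat.Prime.dvd_mul hp).mp h with h | h
  · exact hq1 (hp.dvd_of_dvd_pow h)
  · exact not_dvd_qFact p q hp hpq n h

end Cfsg.Agent.Lib.Helper24.SLB
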