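import Cfsg.Agent.Lib.Helper16.StCCB.Defs

set_option autoImplicit false

/-! Steinberg's Theorem 10, PART B, piece [BT] for the simply-laced types: when every chain of the
table has at most one term, the commutator formula of an admissible ordered pair `(r, s)` has shape 0
(no term) or shape 1 (the single term `(q, C, 1, 1)` with `x_s`, `x_q` commuting).  A Bool check per
row of the chain table, evaluated by `decide +kernel`. -/

namespace Cfsg.Agent.Lib.Helper14.StCC.B.Helper22

open Cfsg.Lie Cfsg.Agent.Lib.Helper8.Chev

/-- every chain of the table has at most one term -/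
def slB (D : ChevalleyDatum) : Bool :=
  D.chain.toList.all fun rw => rw.toList.all fun e => decide (e.2.size ≤ 1)

/-- for every entry `(s, [(q, M), ..])` of the row of `r`: `q ≠ s`, `q ≠ -s` and `s + q` is not a root -/
def nilRowB (D : ChevalleyDatum) (r : ℕ) : Bool :=
  (row D r).all fun e =>
    match e.2.toList with
    | [] => true
    | q :: _ => decide (q.1 ≠ e.1) && decide (q.1 ≠ D.neg e.1) && (D.chainEntry e.1 q.1).isEmpty

variable {D : ChevalleyDatum}

theorem row_mem_of_slB (hsl : slB D = true) (a : ℕ) (e : ℕ × Array (ℕ × ℤ)) (he : e ∈ row D a) :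
    e.2.toList.length ≤ 1 := by
  unfold slB at hsl
  rw [List.all_eq_true] at hsl
  unfold row at he
  by_cases ha : a < D.chain.size
  · have hmem : D.chain.getD a #[] ∈ D.chain.toList := by
      rw [Array.getD_eq_getD_getElem?, Array.getElem?_eq_getElem ha]
      simp
    have h2 := hsl _ hmem
    rw [List.all_eq_true] at h2
    have h3 := h2 e he
    simpa using h3
  · have : D.chain.getD a #[] = #[] := by
      rw [Array.getD_eq_getD_getElem?, Array.getElem?_eq_none (by omega)]
      rfl
    rw [this] at he
    simp at he

theorem chainEntry_length_le_one (hsl : slB D = true) (a b : ℕ) :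
    (D.chainEntry a b).length ≤ 1 := by
  by_cases h : D.chainEntry a b = []
  · rw [h]; simp
  · obtain ⟨e, he, _, he2⟩ := chainEntry_mem D h
    rw [← he2]
    exact row_mem_of_slB hsl a e he

theorem commTerms_eq_nil_of_sl (hsl : slB D = true) {a b : ℕ} (h : D.chainEntry a b = []) :
    D.commTerms a b = [] := by
  rw [commTerms_A (by rw [h]; simp) (chainEntry_length_le_one hsl b a), h]
  rfl

theorem shapeP_of_sl (V : Valid0 D) (hsl : slB D = true) {r s : ℕ} (hr : r < D.nroots)
    (hs : s < D.nroots) (hrow : nilRowB D r = true) : ShapeP D r s := by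
  have hlen := chainEntry_length_le_one hsl r s
  have hct := commTerms_A (D := D) (r := r) (s := s) (by omega) (chainEntry_length_le_one hsl s r)
  match hL : D.chainEntry r s, hlen with
  | [], _ =>
    left
    rw [hct, hL]
    rfl
  | [(q, M)], _ =>
    right; left
    refine ⟨q, M, ?_, ?_⟩
    · rw [hct, hL]
      rfl
    · have hne : D.chainEntry r s ≠ [] := by rw [hL]; simp
      obtain ⟨e, he, he1, he2⟩ := chainEntry_mem D hne
      unfold nilRowB at hrow
      rw [List.all_eq_true] at hrow
      have h3 := hrow e he
      rw [he2, hL] at h3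
      simp only [Bool.and_eq_true, decide_eq_true_eq, List.isEmpty_iff] at h3
      obtain ⟨⟨h31, h32⟩, h33⟩ := h3
      rw [he1] at h31 h32 h33
      have hq := (chainEntry_tgt V hr (s := s) (k := 0) (u := q) (M := M) (by rw [hL]; rfl)).1
      exact ⟨hs, hq, h31, h32, commTerms_eq_nil_of_sl hsl h33⟩

/-- the row check for the rows `lo ≤ r < hi` -/
def nilRangeB (D : ChevalleyDatum) (lo hi : ℕ) : Bool :=
  (List.range' lo (hi - lo)).all fun r => nilRowB D r

theorem nilRowB_of_range {lo hi : ℕ} (h : nilRangeB D lo hi = true) {r : ℕ} (h1 : lo ≤ r)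
    (h2 : r < hi) : nilRowB D r = true := by
  unfold nilRangeB at h
  rw [List.all_eq_true] at h
  apply h
  rw [List.mem_range'_1]
  omega

end Cfsg.Agent.Lib.Helper14.StCC.B.Helper22
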