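import Cfsg.Agent.Lib.Helper10.E8CC.Defs
import Cfsg.Agent.Lib.Helper22.StCCBBTSL

set_option autoImplicit false

/-! Bool checkers, generic in the Chevalley datum `D`, for the table facts `SL1`, `Dec1`, `CanP` of
helper10's `E8CC/Defs` (central closedness of the Steinberg groups of simply-laced type over every
field).  All of them assume `slB D = true` (every chain of the table has at most one term); they
are evaluated on literal tables by `decide +kernel`, in slices of rows. -/

namespace Cfsg.Agent.Lib.Helper10.E8CC.Helper22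

open Cfsg.Lie Cfsg.Agent.Lib.Helper8.Chev Cfsg.Agent.Lib.Helper14.StCC
open Cfsg.Agent.Lib.Helper14.StCC.B.Helper22

variable {D : ChevalleyDatum}

/-! ### `commTerms` of a simply-laced table -/

theorem commTerms_of_sl (hsl : slB D = true) (a b : ℕ) :
    D.commTerms a b = (D.chainEntry a b).zipIdx.map fun q => (q.1.1, q.1.2, q.2 + 1, 1) :=
  commTerms_A (by have := chainEntry_length_le_one hsl a b; omega)
    (chainEntry_length_le_one hsl b a)

theorem commTerms_of_entry (hsl : slB D = true) {a b q : ℕ} {N : ℤ}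
    (h : D.chainEntry a b = [(q, N)]) : D.commTerms a b = [(q, N, 1, 1)] := by
  rw [commTerms_of_sl hsl, h]
  rfl

theorem entry_of_commTerms_nil (hsl : slB D = true) {a b : ℕ} (h : D.commTerms a b = []) :
    D.chainEntry a b = [] := by
  rw [commTerms_of_sl hsl] at h
  simpa using h

theorem entry_of_commTerms_one (hsl : slB D = true) {a b q : ℕ} {N : ℤ}
    (h : D.commTerms a b = [(q, N, 1, 1)]) : D.chainEntry a b = [(q, N)] := by
  have hlen := chainEntry_length_le_one hsl a b
  rw [commTerms_of_sl hsl] at h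
  match hL : D.chainEntry a b, hlen with
  | [], _ => rw [hL] at h; simp at h
  | [(q', N')], _ =>
    rw [hL] at h
    simp at h
    rw [h.1, h.2]

/-! ### Bool forms of `NilP`, `OneP` -/

/-- `(a, b)` is an admissible ordered pair of roots -/
def admB (D : ChevalleyDatum) (a b : ℕ) : Bool :=
  decide (a < D.nroots) && decide (b < D.nroots) && decide (b ≠ a) && decide (b ≠ D.neg a)

/-- Bool form of `NilP` -/
def nilB (D : ChevalleyDatum) (a b : ℕ) : Bool :=
  admB D a b && (D.chainEntry a b).isEmpty

/-- Bool form of `∃ N, OneP D a b q N ∧ (N = 1 ∨ N = -1)` -/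
def oneB (D : ChevalleyDatum) (a b q : ℕ) : Bool :=
  admB D a b &&
    match D.chainEntry a b with
    | [e] => decide (e.1 = q) && (decide (e.2 = 1) || decide (e.2 = -1))
    | _ => false

theorem admB_spec {a b : ℕ} (h : admB D a b = true) :
    a < D.nroots ∧ b < D.nroots ∧ b ≠ a ∧ b ≠ D.neg a := by
  unfold admB at h
  simp only [Bool.and_eq_true, decide_eq_true_eq] at h
  exact ⟨h.1.1.1, h.1.1.2, h.1.2, h.2⟩

theorem nilP_of_nilB (hsl : slB D = true) {a b : ℕ} (h : nilB D a b = true) : B.NilP D a b := by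
  unfold nilB at h
  rw [Bool.and_eq_true, List.isEmpty_iff] at h
  obtain ⟨h1, h2, h3, h4⟩ := admB_spec h.1
  exact ⟨h1, h2, h3, h4, commTerms_eq_nil_of_sl hsl h.2⟩

theorem oneP_of_oneB (hsl : slB D = true) {a b q : ℕ} (h : oneB D a b q = true) :
    ∃ N : ℤ, B.OneP D a b q N ∧ (N = 1 ∨ N = -1) := by
  unfold oneB at h
  rw [Bool.and_eq_true] at h
  obtain ⟨h1, h2, h3, h4⟩ := admB_spec h.1
  have h5 := h.2
  match hL : D.chainEntry a b with
  | [] => rw [hL] at h5; simp at h5
  | [e] =>
    rw [hL] at h5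
    simp only [Bool.and_eq_true, Bool.or_eq_true, decide_eq_true_eq] at h5
    refine ⟨e.2, ⟨h1, h2, h3, h4, ?_⟩, h5.2⟩
    rw [← h5.1]
    exact commTerms_of_entry hsl hL
  | _ :: _ :: _ => rw [hL] at h5; simp at h5

/-! ### `SL1` -/

/-- every coefficient of the chain table is `±1` -/
def unitB (D : ChevalleyDatum) : Bool :=
  D.chain.toList.all fun rw => rw.toList.all fun e => e.2.toList.all fun q =>
    decide (q.2 = 1) || decide (q.2 = -1)

theorem row_mem_of_unitB (hu : unitB D = true) (a : ℕ) (e : ℕ × Array (ℕ × ℤ)) (he : e ∈ row D a)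
    (q : ℕ × ℤ) (hq : q ∈ e.2.toList) : q.2 = 1 ∨ q.2 = -1 := by
  unfold unitB at hu
  rw [List.all_eq_true] at hu
  unfold row at he
  by_cases ha : a < D.chain.size
  · have hmem : D.chain.getD a #[] ∈ D.chain.toList := by
      rw [Array.getD_eq_getD_getElem?, Array.getElem?_eq_getElem ha]
      simp
    have h2 := hu _ hmem
    rw [List.all_eq_true] at h2
    have h3 := h2 e he
    rw [List.all_eq_true] at h3
    simpa using h3 q hq
  · have : D.chain.getD a #[] = #[] := by
      rw [Array.getD_eq_getD_getElem?, Array.getElem?_eq_none (by omega)]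
      rfl
    rw [this] at he
    simp at he

theorem sl1_of (hsl : slB D = true) (hu : unitB D = true) (r s : ℕ) : SL1 D r s := by
  have hlen := chainEntry_length_le_one hsl r s
  match hL : D.chainEntry r s, hlen with
  | [], _ => exact Or.inl (commTerms_eq_nil_of_sl hsl hL)
  | [(q, N)], _ =>
    right
    refine ⟨q, N, commTerms_of_entry hsl hL, ?_⟩
    have hne : D.chainEntry r s ≠ [] := by rw [hL]; simp
    obtain ⟨e, he, _, he2⟩ := chainEntry_mem D hne
    have := row_mem_of_unitB hu r e he (q, N) (by rw [he2, hL]; simp)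
    exact this

/-! ### `Dec1` -/

/-- the certificate `(a, b)` proves `Dec1 D r s` -/
def decB (D : ChevalleyDatum) (r s a b : ℕ) : Bool :=
  oneB D a b s && nilB D r a && nilB D r b

theorem dec1_of_decB (hsl : slB D = true) {r s a b : ℕ} (h : decB D r s a b = true) :
    Dec1 D r s := by
  unfold decB at h
  simp only [Bool.and_eq_true] at h
  obtain ⟨N, h1, h2⟩ := oneP_of_oneB hsl h.1.1
  exact ⟨a, b, N, h1, h2, nilP_of_nilB hsl h.1.2, nilP_of_nilB hsl h.2⟩

/-- the row `r` of certificates: entry number `s` is the certificate of the pair `(r, s)`, needed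
only when `s ≠ ±r` and the pair commutes -/
def decRowB (D : ChevalleyDatum) (r : ℕ) (cert : List (ℕ × ℕ)) : Bool :=
  decide (cert.length = D.nroots) &&
  cert.zipIdx.all fun p =>
    decide (p.2 = r) || decide (p.2 = D.neg r) || !(D.chainEntry r p.2).isEmpty ||
      decB D r p.2 p.1.1 p.1.2

theorem dec1_of_decRowB (hsl : slB D = true) {r : ℕ} {cert : List (ℕ × ℕ)}
    (h : decRowB D r cert = true) {s : ℕ} (hs : s < D.nroots) (h1 : s ≠ r) (h2 : s ≠ D.neg r)
    (hc : D.commTerms r s = []) : Dec1 D r s := by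
  unfold decRowB at h
  rw [Bool.and_eq_true, decide_eq_true_eq, List.all_eq_true] at h
  obtain ⟨hlen, hall⟩ := h
  have hs' : s < cert.length := by omega
  have hmem : (cert[s], s) ∈ cert.zipIdx := by
    rw [List.mem_zipIdx_iff_getElem?]
    simp [hs']
  have h3 := hall _ hmem
  simp only [Bool.or_eq_true, decide_eq_true_eq, Bool.not_eq_true', List.isEmpty_eq_false_iff] at h3
  rcases h3 with ((h3 | h3) | h3) | h3
  · exact absurd h3 h1
  · exact absurd h3 h2
  · exact absurd (entry_of_commTerms_nil hsl hc) h3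
  · exact dec1_of_decB hsl h3

/-- the rows `lo, lo + 1, ..` of certificates -/
def decRowsB (D : ChevalleyDatum) (lo : ℕ) (certs : List (List (ℕ × ℕ))) : Bool :=
  certs.zipIdx.all fun p => decRowB D (lo + p.2) p.1

theorem dec1_of_decRowsB (hsl : slB D = true) {lo : ℕ} {certs : List (List (ℕ × ℕ))}
    (h : decRowsB D lo certs = true) {r : ℕ} (hlo : lo ≤ r) (hhi : r < lo + certs.length)
    {s : ℕ} (hs : s < D.nroots) (h1 : s ≠ r) (h2 : s ≠ D.neg r)
    (hc : D.commTerms r s = []) : Dec1 D r s := by
  unfold decRowsB at h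
  rw [List.all_eq_true] at h
  have hi : r - lo < certs.length := by omega
  have hmem : (certs[r - lo], r - lo) ∈ certs.zipIdx := by
    rw [List.mem_zipIdx_iff_getElem?]
    simp [hi]
  have h3 := h _ hmem
  have : lo + (r - lo) = r := by omega
  simp only [this] at h3
  exact dec1_of_decRowB hsl h3 hs h1 h2 hc

/-! ### `CanP` -/

/-- Bool form of `AdjI`: the link `c = a' - a` is read off the table -/
def adjIB (D : ChevalleyDatum) (a b a' b' q : ℕ) : Bool :=
  match D.chainEntry a' (D.neg a) with
  | [e] => oneB D a e.1 a' && oneB D e.1 b' b && nilB D a b' && nilB D a' b && nilB D a' q &&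
      nilB D b q
  | _ => false

theorem adjI_of_adjIB (hsl : slB D = true) {a b a' b' q : ℕ} (h : adjIB D a b a' b' q = true) :
    AdjI D a b a' b' q := by
  unfold adjIB at h
  match hL : D.chainEntry a' (D.neg a) with
  | [] => rw [hL] at h; simp at h
  | [e] =>
    rw [hL] at h
    simp only [Bool.and_eq_true] at h
    obtain ⟨⟨⟨⟨⟨h1, h2⟩, h3⟩, h4⟩, h5⟩, h6⟩ := h
    obtain ⟨N₁, g1, g2⟩ := oneP_of_oneB hsl h1
    obtain ⟨N₂, g3, g4⟩ := oneP_of_oneB hsl h2
    exact ⟨e.1, N₁, N₂, g1, g2, g3, g4, nilP_of_nilB hsl h3, nilP_of_nilB hsl h4,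
      nilP_of_nilB hsl h5, nilP_of_nilB hsl h6⟩
  | _ :: _ :: _ => rw [hL] at h; simp at h

/-- Bool form of `Adj` -/
def adjB (D : ChevalleyDatum) (a b a₀ b₀ q : ℕ) : Bool :=
  (decide (a = a₀) && decide (b = b₀)) || (decide (a = b₀) && decide (b = a₀)) ||
    adjIB D a b a₀ b₀ q || adjIB D a b b₀ a₀ q

theorem adj_of_adjB (hsl : slB D = true) {a b a₀ b₀ q : ℕ} (h : adjB D a b a₀ b₀ q = true) :
    Adj D a b a₀ b₀ q := by
  unfold adjB at h
  simp only [Bool.or_eq_true, Bool.and_eq_true, decide_eq_true_eq] at h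
  rcases h with ((h | h) | h) | h
  · exact Or.inl h
  · exact Or.inr (Or.inl h)
  · exact Or.inr (Or.inr (Or.inl (adjI_of_adjIB hsl h)))
  · exact Or.inr (Or.inr (Or.inr (adjI_of_adjIB hsl h)))

/-- the reference decomposition of `q` read off a literal list -/
def refOf (refs : List (ℕ × ℕ)) (q : ℕ) : ℕ × ℕ := refs.getD q (0, 0)

/-- the reference decompositions are decompositions -/
def refB (D : ChevalleyDatum) (refs : List (ℕ × ℕ)) : Bool :=
  (List.range D.nroots).all fun q =>
    oneB D (refOf refs q).1 (refOf refs q).2 q && nilB D (refOf refs q).2 q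

/-- every decomposition `a + b = q` in the row of `a` is adjacent to the reference decomposition
of `q` -/
def canRowB (D : ChevalleyDatum) (refs : List (ℕ × ℕ)) (a : ℕ) : Bool :=
  (row D a).all fun e =>
    match e.2.toList with
    | [p] => adjB D a e.1 (refOf refs p.1).1 (refOf refs p.1).2 p.1
    | _ => true

/-- the row check for the rows `lo ≤ a < hi` -/
def canRangeB (D : ChevalleyDatum) (refs : List (ℕ × ℕ)) (lo hi : ℕ) : Bool :=
  (List.range' lo (hi - lo)).all fun a => canRowB D refs a

theorem canRowB_of_range {refs : List (ℕ × ℕ)} {lo hi : ℕ}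
    (h : canRangeB D refs lo hi = true) {a : ℕ} (h1 : lo ≤ a) (h2 : a < hi) :
    canRowB D refs a = true := by
  unfold canRangeB at h
  rw [List.all_eq_true] at h
  apply h
  rw [List.mem_range'_1]
  omega

theorem canP_of (hsl : slB D = true) {refs : List (ℕ × ℕ)} (href : refB D refs = true)
    (hrow : ∀ a < D.nroots, canRowB D refs a = true) {q : ℕ} (hq : q < D.nroots) : CanP D q := by
  unfold refB at href
  rw [List.all_eq_true] at href
  have h0 := href q (List.mem_range.mpr hq)
  rw [Bool.and_eq_true] at h0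
  obtain ⟨N₀, g1, g2⟩ := oneP_of_oneB hsl h0.1
  refine ⟨(refOf refs q).1, (refOf refs q).2, N₀, g1, g2, nilP_of_nilB hsl h0.2, ?_⟩
  intro a b N hab
  obtain ⟨ha, _, _, _, hct⟩ := hab
  have hL := entry_of_commTerms_one hsl hct
  have hne : D.chainEntry a b ≠ [] := by rw [hL]; simp
  obtain ⟨e, he, he1, he2⟩ := chainEntry_mem D hne
  have h3 := hrow a ha
  unfold canRowB at h3
  rw [List.all_eq_true] at h3
  have h4 := h3 e he
  rw [he2, hL] at h4
  simp only at h4
  rw [he1] at h4
  exact adj_of_adjB hsl h4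

end Cfsg.Agent.Lib.Helper10.E8CC.Helper22
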