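import Mathlib
import Cfsg.Agent.Lib.Helper9.SURUDefs
import Cfsg.Agent.Lib.Helper7.SURUA3

/-!
# S2282, case `q = 2`: the pieces P1 (`u2'_eq`) and P2 (`e_chain`)
-/

set_option autoImplicit false
set_option linter.unusedSectionVars false
set_option linter.unusedVariables false

namespace Cfsg.Agent.Lib.Helper22.SURU

open Matrix Cfsg.Agent.Lib.Helper6 Cfsg.Agent.S0779 Cfsg.Agent.S0781
open Cfsg.Agent.Lib.Helper6.SUG Cfsg.Agent.Lib.Helper13 Cfsg.Agent.Lib.Helper9.SUGen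
open Cfsg.Agent.Lib.Helper9.SURU
open Cfsg.Agent.Lib.Helper7.SURU

section P
variable {F : Type*} [Field F] [Fintype F] {q : ℕ}

theorem conj_eq_of_eq_mul {G : Type*} [Group G] (a b c : G) (h : a = c * (b * a * b⁻¹)) :
    a * b * a⁻¹ = c * b := by
  have h1 : a * b * a⁻¹ = c * (b * a * b⁻¹) * b * a⁻¹ := by rw [← h]
  rw [h1]
  group

/-- P1.  the second generator is `tv (e (m-1)) (s^q - s) * uh` (any `q`). -/
theorem u2'_eq (hF : Fintype.card F = q ^ 2) {n m : ℕ} (𝔉 : Frm F q n m) (hm : 2 ≤ m)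
    (s t d : F) (hd : HP q t d) (c : F) (hc : c = s ^ q - s) (hcq : c ^ q = -c) :
    u2' hF 𝔉 s t d = tv hF (𝔉.e (m - 1)) c (𝔉.hee _ _) hcq * uh hF 𝔉 t d := by
  have hgu : av (uh hF 𝔉 t d) (𝔉.e (m - 1)) = 𝔉.e (m - 1) := by
    rw [av_uh_e hF 𝔉 t d hd, 𝔉.e_junk (m - 1 + 1) (by omega), add_zero]
  have hga : av (uh hF 𝔉 t d) (𝔉.e (m - 2)) = 𝔉.e (m - 2) + 𝔉.e (m - 1) := by
    rw [av_uh_e hF 𝔉 t d hd, show m - 2 + 1 = m - 1 by omega]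
  have hua' : Cfsg.hermForm n F q (𝔉.e (m - 1)) (𝔉.e (m - 2) + 𝔉.e (m - 1)) = 0 := by
    rw [herm_add_right hF, 𝔉.hee, 𝔉.hee, add_zero]
  have haa' : Cfsg.hermForm n F q (𝔉.e (m - 2) + 𝔉.e (m - 1)) (𝔉.e (m - 2) + 𝔉.e (m - 1)) = 0 := by
    rw [herm_add_left, herm_add_right hF, herm_add_right hF, 𝔉.hee, 𝔉.hee, 𝔉.hee, 𝔉.hee]
    ring
  have hconj := conj_sg hF (uh hF 𝔉 t d) (𝔉.e (m - 1)) (𝔉.e (m - 2)) (𝔉.e (m - 1))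
    (𝔉.e (m - 2) + 𝔉.e (m - 1)) (𝔉.hee _ _) (𝔉.hee _ _) (𝔉.hee _ _) (𝔉.hee _ _) hua' haa'
    hgu hga s
  have hg2 : g2 hF 𝔉 s = tv hF (𝔉.e (m - 1)) c (𝔉.hee _ _) hcq *
      (uh hF 𝔉 t d * g2 hF 𝔉 s * (uh hF 𝔉 t d)⁻¹) := by
    unfold g2
    rw [hconj]
    apply ext_av
    intro x
    rw [av_mul, av_tv, av_sg, av_sg]
    simp only [herm_add_left, herm_sub_left', herm_smul_left, herm_add_right hF, 𝔉.hee, hc]
    module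
  unfold u2'
  exact conj_eq_of_eq_mul _ _ _ hg2

theorem ulow_inv (hF : Fintype.card F = q ^ 2) {n m : ℕ} (𝔉 : Frm F q n m) (κ : F)
    (hκ : κ ^ q = -κ) (t d : F) :
    (ulow hF 𝔉 κ hκ t d)⁻¹ = Wp hF 𝔉 κ hκ m * (uh hF 𝔉 t d)⁻¹ * (Wp hF 𝔉 κ hκ m)⁻¹ := by
  unfold ulow
  group

/-- `ulow⁻¹ (e (k+2)) = e (k+2) + e (k+1)` -/
theorem av_ulow_inv_e (hF : Fintype.card F = q ^ 2) {n m : ℕ} (𝔉 : Frm F q n m) (κ : F)
    (hκ : κ ^ q = -κ) (hκ0 : κ ≠ 0) (t d : F) (hd : HP q t d) (k : ℕ) (hk : k + 2 < m) :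
    av (ulow hF 𝔉 κ hκ t d)⁻¹ (𝔉.e (k + 2)) = 𝔉.e (k + 2) + 𝔉.e (k + 1) := by
  rw [ulow_inv, av_mul, av_mul, av_Wp_inv_e hF 𝔉 κ hκ hκ0, if_pos hk, av_smul,
    av_uh_inv_f hF 𝔉 t d hd k hk, av_smul, av_add, av_Wp_f hF 𝔉 κ hκ hκ0,
    av_Wp_f hF 𝔉 κ hκ hκ0, if_pos hk, if_pos (by omega : k + 1 < m), smul_add, smul_smul,
    smul_smul, inv_mul_cancel₀ hκ0, one_smul, one_smul]

/-- `ulow (e 1) = e 1 - e 0` -/
theorem av_ulow_e1 (hF : Fintype.card F = q ^ 2) {n m : ℕ} (𝔉 : Frm F q n m) (hm : 2 ≤ m) (κ : F)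
    (hκ : κ ^ q = -κ) (hκ0 : κ ≠ 0) (t d : F) (hd : HP q t d) :
    av (ulow hF 𝔉 κ hκ t d) (𝔉.e 1) = 𝔉.e 1 - 𝔉.e 0 := by
  unfold ulow
  rw [av_mul, av_mul, av_Wp_inv_e hF 𝔉 κ hκ hκ0, if_pos (by omega : 1 < m), av_smul,
    av_uh_f1 hF 𝔉 (by omega) t d hd, av_smul, av_sub, av_Wp_f hF 𝔉 κ hκ hκ0,
    av_Wp_f hF 𝔉 κ hκ hκ0, if_pos (by omega : 1 < m), if_pos (by omega : 0 < m), smul_sub,
    smul_smul, smul_smul, inv_mul_cancel₀ hκ0, one_smul, one_smul]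

/-- one step down the chain -/
theorem e_down (hF : Fintype.card F = q ^ 2) (h2 : (2 : F) = 0) {n m : ℕ} (𝔉 : Frm F q n m)
    (hm : 2 ≤ m) (H : Subgroup ↥(Cfsg.SU n F q)) (κ : F) (hκ : κ ^ q = -κ) (hκ0 : κ ≠ 0)
    (t d : F) (hd : HP q t d) (h1 : uh hF 𝔉 t d ∈ H) (h3 : ulow hF 𝔉 κ hκ t d ∈ H)
    (i : ℕ) (hi : i + 1 < m) (h : XL H (𝔉.e (i + 1))) : XL H (𝔉.e i) := by
  rcases i with _ | k
  · have hx := (h.map _ h3).map _ (H.inv_mem h1)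
    rw [show 0 + 1 = 1 from rfl, av_ulow_e1 hF 𝔉 hm κ hκ hκ0 t d hd] at hx
    have he : 𝔉.e 1 - 𝔉.e 0 = av (uh hF 𝔉 t d) (𝔉.e 0) := by
      rw [av_uh_e hF 𝔉 t d hd, show 0 + 1 = 1 from rfl]
      have h2' : (2 : F) • 𝔉.e 0 = 0 := by rw [h2, zero_smul]
      rw [two_smul] at h2'
      rw [sub_eq_iff_eq_add]
      calc 𝔉.e 1 = 𝔉.e 1 + 0 := (add_zero _).symm
        _ = 𝔉.e 1 + (𝔉.e 0 + 𝔉.e 0) := by rw [h2']
        _ = 𝔉.e 0 + 𝔉.e 1 + 𝔉.e 0 := by abel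
    rwa [he, av_inv_av] at hx
  · have hx := (h.map _ (H.inv_mem h3)).map _ (H.inv_mem h1)
    rw [show k + 1 + 1 = k + 2 from rfl, av_ulow_inv_e hF 𝔉 κ hκ hκ0 t d hd k hi] at hx
    have he : 𝔉.e (k + 2) + 𝔉.e (k + 1) = av (uh hF 𝔉 t d) (𝔉.e (k + 1)) := by
      rw [av_uh_e hF 𝔉 t d hd, add_comm]
    rwa [he, av_inv_av] at hx

/-- P2.  all `e k` lie in `XL H` (characteristic 2). -/
theorem e_chain (hF : Fintype.card F = q ^ 2) (h2 : (2 : F) = 0) {n m : ℕ} (𝔉 : Frm F q n m)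
    (hm : 2 ≤ m) (H : Subgroup ↥(Cfsg.SU n F q)) (κ : F) (hκ : κ ^ q = -κ) (hκ0 : κ ≠ 0)
    (t d : F) (hd : HP q t d) (h1 : uh hF 𝔉 t d ∈ H) (h3 : ulow hF 𝔉 κ hκ t d ∈ H)
    (htop : XL H (𝔉.e (m - 1))) : ∀ k, k < m → XL H (𝔉.e k) := by
  have key : ∀ j, j < m → XL H (𝔉.e (m - 1 - j)) := by
    intro j
    induction j with
    | zero => intro _; exact htop
    | succ j ih =>
      intro hj
      have h' := ih (by omega)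
      apply e_down hF h2 𝔉 hm H κ hκ hκ0 t d hd h1 h3 (m - 1 - (j + 1)) (by omega)
      rwa [show m - 1 - (j + 1) + 1 = m - 1 - j by omega]
  intro k hk
  have := key (m - 1 - k) (by omega)
  rwa [show m - 1 - (m - 1 - k) = k by omega] at this

end P

end Cfsg.Agent.Lib.Helper22.SURU
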