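import Mathlib
import Cfsg.Agent.Lib.Helper9.SURUDefs
import Cfsg.Agent.Lib.Helper7.SURUA3
import Cfsg.Agent.Lib.Helper9.SURUB3
import Cfsg.Agent.Lib.Helper22.SURUP1

/-!
# S2282, case `q = 2`: the piece P3 (`p2_base`), local part

Coordinates `V5 a0 a1 a2 a3 a4 = a0 e0 + a1 e1 + a2 w + a3 f0 + a4 f1` in the five-dimensional
space `P_2`, the three local moves `uh`, `ulow`, `ulow⁻¹`, the rule `a ↦ a + h(a,b) b`, and the
derivation table (generated, certificates modulo `ω² + ω + 1` and `2`).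
-/

set_option autoImplicit false
set_option linter.unusedSectionVars false
set_option linter.unusedVariables false
set_option linter.unusedSimpArgs false

namespace Cfsg.Agent.Lib.Helper22.SURU

open Matrix Cfsg.Agent.Lib.Helper6 Cfsg.Agent.S0779 Cfsg.Agent.S0781
open Cfsg.Agent.Lib.Helper6.SUG Cfsg.Agent.Lib.Helper13 Cfsg.Agent.Lib.Helper9.SUGen
open Cfsg.Agent.Lib.Helper9.SURU
open Cfsg.Agent.Lib.Helper7.SURU

section P3
variable {F : Type*} [Field F] [Fintype F] {q n m : ℕ}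

/-- coordinates in `P_2 = ⟨e 0, e 1, w, f 0, f 1⟩` -/
def V5 (𝔉 : Frm F q n m) (a0 a1 a2 a3 a4 : F) : Fin n → F :=
  a0 • 𝔉.e 0 + a1 • 𝔉.e 1 + a2 • 𝔉.w + a3 • 𝔉.f 0 + a4 • 𝔉.f 1

theorem herm_V5 (hF : Fintype.card F = q ^ 2) (𝔉 : Frm F q n m) (hm : 2 ≤ m)
    (a0 a1 a2 a3 a4 b0 b1 b2 b3 b4 : F) :
    Cfsg.hermForm n F q (V5 𝔉 a0 a1 a2 a3 a4) (V5 𝔉 b0 b1 b2 b3 b4) =
      a0 * b3 ^ q + a1 * b4 ^ q + a2 * b2 ^ q + a3 * b0 ^ q + a4 * b1 ^ q := by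
  have hm0 : 0 < m := by omega
  have hm1 : 1 < m := by omega
  have ef00 : Cfsg.hermForm n F q (𝔉.e 0) (𝔉.f 0) = 1 := 𝔉.hef_same hm0
  have ef11 : Cfsg.hermForm n F q (𝔉.e 1) (𝔉.f 1) = 1 := 𝔉.hef_same hm1
  have ef01 : Cfsg.hermForm n F q (𝔉.e 0) (𝔉.f 1) = 0 := 𝔉.hef_ne (by norm_num)
  have ef10 : Cfsg.hermForm n F q (𝔉.e 1) (𝔉.f 0) = 0 := 𝔉.hef_ne (by norm_num)
  have fe00 : Cfsg.hermForm n F q (𝔉.f 0) (𝔉.e 0) = 1 := by
    rw [𝔉.hfe hF, if_pos ⟨rfl, hm0⟩]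
  have fe11 : Cfsg.hermForm n F q (𝔉.f 1) (𝔉.e 1) = 1 := by
    rw [𝔉.hfe hF, if_pos ⟨rfl, hm1⟩]
  have fe01 : Cfsg.hermForm n F q (𝔉.f 0) (𝔉.e 1) = 0 := by
    rw [𝔉.hfe hF, if_neg (fun h => absurd h.1 (by norm_num))]
  have fe10 : Cfsg.hermForm n F q (𝔉.f 1) (𝔉.e 0) = 0 := by
    rw [𝔉.hfe hF, if_neg (fun h => absurd h.1 (by norm_num))]
  unfold V5
  simp only [herm_add_left, herm_add_right hF, herm_smul_left, herm_smul_right, 𝔉.hee, 𝔉.hff,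
    ef00, ef11, ef01, ef10, fe00, fe11, fe01, fe10, 𝔉.hew, 𝔉.hfw, 𝔉.hwe hF, 𝔉.hwf hF, 𝔉.hww]
  ring

/-- the rule `a ↦ l (a + h(a,b) b)` in coordinates (`q = 2`) -/
theorem V5_rule (hF : Fintype.card F = 2 ^ 2) (h2 : (2 : F) = 0) (𝔉 : Frm F 2 n m) (hm : 2 ≤ m)
    (H : Subgroup ↥(Cfsg.SU n F 2)) {a0 a1 a2 a3 a4 b0 b1 b2 b3 b4 : F}
    (ha : XL H (V5 𝔉 a0 a1 a2 a3 a4)) (hb : XL H (V5 𝔉 b0 b1 b2 b3 b4)) (μ l : F)
    (hμ : a0 * b3 ^ 2 + a1 * b4 ^ 2 + a2 * b2 ^ 2 + a3 * b0 ^ 2 + a4 * b1 ^ 2 = μ) (hμ0 : μ ≠ 0)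
    {c0 c1 c2 c3 c4 : F} (h0 : l * (a0 + μ * b0) = c0) (h1 : l * (a1 + μ * b1) = c1)
    (h2' : l * (a2 + μ * b2) = c2) (h3 : l * (a3 + μ * b3) = c3) (h4 : l * (a4 + μ * b4) = c4) :
    XL H (V5 𝔉 c0 c1 c2 c3 c4) := by
  have hab : Cfsg.hermForm n F 2 (V5 𝔉 a0 a1 a2 a3 a4) (V5 𝔉 b0 b1 b2 b3 b4) = μ := by
    rw [herm_V5 hF 𝔉 hm, hμ]
  have hba : Cfsg.hermForm n F 2 (V5 𝔉 b0 b1 b2 b3 b4) (V5 𝔉 a0 a1 a2 a3 a4) = μ ^ 2 := by
    rw [← herm_conj hF, hab]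
  have hiso : Cfsg.hermForm n F 2 (V5 𝔉 a0 a1 a2 a3 a4 + μ • V5 𝔉 b0 b1 b2 b3 b4)
      (V5 𝔉 a0 a1 a2 a3 a4 + μ • V5 𝔉 b0 b1 b2 b3 b4) = 0 := by
    rw [herm_add_left, herm_add_right hF, herm_add_right hF, herm_smul_left, herm_smul_left,
      herm_smul_right, herm_smul_right, ha.1, hb.1, hab, hba]
    linear_combination (μ ^ 3) * h2
  have hr := (XL.rule hF ha hb (by rw [hab]; exact hμ0) μ hiso).smul hF l
  have he : l • (V5 𝔉 a0 a1 a2 a3 a4 + μ • V5 𝔉 b0 b1 b2 b3 b4) = V5 𝔉 c0 c1 c2 c3 c4 := by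
    subst h0 h1 h2' h3 h4
    unfold V5
    module
  rwa [he] at hr

/-- the move `uh` in coordinates (`t = 1`, `d = ω`, `q = 2`) -/
theorem V5_uh (hF : Fintype.card F = 2 ^ 2) (𝔉 : Frm F 2 n m) (hm : 2 ≤ m)
    (H : Subgroup ↥(Cfsg.SU n F 2)) (ω : F) (hd : HP 2 (1 : F) ω) (h1 : uh hF 𝔉 1 ω ∈ H)
    {a0 a2 a3 : F} (ha : XL H (V5 𝔉 a0 0 a2 a3 0)) {c0 c1 c2 c3 : F}
    (h0 : a0 - a2 - ω * a3 = c0) (h1' : a0 - a2 - ω * a3 = c1) (h2' : a2 + a3 = c2)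
    (h3 : a3 = c3) : XL H (V5 𝔉 c0 c1 c2 c3 0) := by
  have hx := ha.map _ h1
  have he : av (uh hF 𝔉 1 ω) (V5 𝔉 a0 0 a2 a3 0) = V5 𝔉 c0 c1 c2 c3 0 := by
    subst h0 h1' h2' h3
    unfold V5
    simp only [av_add, av_smul, av_uh_e hF 𝔉 1 ω hd, av_uh_w hF 𝔉 (by omega) 1 ω hd,
      av_uh_f0 hF 𝔉 (by omega) 1 ω hd, one_pow]
    module
  rwa [he] at hx

/-- `ulow (e 0) = e 0 + (κ⁻¹ t) w + (κ⁻¹ d κ⁻¹) (f 0 + f 1)` -/
theorem av_ulow_e0 (hF : Fintype.card F = q ^ 2) (𝔉 : Frm F q n m) (hm : 2 ≤ m) (κ : F)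
    (hκ : κ ^ q = -κ) (hκ0 : κ ≠ 0) (t d : F) (hd : HP q t d) :
    av (ulow hF 𝔉 κ hκ t d) (𝔉.e 0) =
      𝔉.e 0 + (κ⁻¹ * t) • 𝔉.w + (κ⁻¹ * d * κ⁻¹) • (𝔉.f 0 + 𝔉.f 1) := by
  have hm0 : 0 < m := by omega
  have hm1 : 1 < m := by omega
  unfold ulow
  simp only [av_mul, av_Wp_inv_e hF 𝔉 κ hκ hκ0, if_pos hm0, av_smul,
    av_uh_f0 hF 𝔉 hm0 t d hd, av_sub, av_add,
    av_Wp_f hF 𝔉 κ hκ hκ0, av_Wp_w hF 𝔉 κ hκ, av_Wp_e hF 𝔉 κ hκ hκ0, if_pos hm1]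
  match_scalars <;> field_simp

/-- `ulow⁻¹ (e 0) = e 0 - (κ⁻¹ t) w + (κ⁻¹ d^q κ⁻¹) f 0` -/
theorem av_ulow_inv_e0 (hF : Fintype.card F = q ^ 2) (𝔉 : Frm F q n m) (hm : 2 ≤ m) (κ : F)
    (hκ : κ ^ q = -κ) (hκ0 : κ ≠ 0) (t d : F) (hd : HP q t d) :
    av (ulow hF 𝔉 κ hκ t d)⁻¹ (𝔉.e 0) =
      𝔉.e 0 - (κ⁻¹ * t) • 𝔉.w + (κ⁻¹ * d ^ q * κ⁻¹) • 𝔉.f 0 := by
  have hm0 : 0 < m := by omega
  have hm1 : 1 < m := by omega
  rw [ulow_inv]
  simp only [av_mul, av_Wp_inv_e hF 𝔉 κ hκ hκ0, if_pos hm0, av_smul,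
    av_uh_inv_f0 hF 𝔉 hm0 t d hd, av_sub, av_add,
    av_Wp_f hF 𝔉 κ hκ hκ0, av_Wp_w hF 𝔉 κ hκ, av_Wp_e hF 𝔉 κ hκ hκ0, if_pos hm1]
  match_scalars <;> field_simp

/-- `ulow⁻¹ (e 1) = e 1 + e 0 - (κ⁻¹ t) w + (κ⁻¹ d^q κ⁻¹) f 0` -/
theorem av_ulow_inv_e1 (hF : Fintype.card F = q ^ 2) (𝔉 : Frm F q n m) (hm : 2 ≤ m) (κ : F)
    (hκ : κ ^ q = -κ) (hκ0 : κ ≠ 0) (t d : F) (hd : HP q t d) :
    av (ulow hF 𝔉 κ hκ t d)⁻¹ (𝔉.e 1) =
      𝔉.e 1 + 𝔉.e 0 - (κ⁻¹ * t) • 𝔉.w + (κ⁻¹ * d ^ q * κ⁻¹) • 𝔉.f 0 := by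
  have hm0 : 0 < m := by omega
  have hm1 : 1 < m := by omega
  rw [ulow_inv]
  simp only [av_mul, av_Wp_inv_e hF 𝔉 κ hκ hκ0, if_pos hm0, av_smul,
    av_uh_inv_f1 hF 𝔉 hm1 t d hd, av_sub, av_add,
    av_Wp_f hF 𝔉 κ hκ hκ0, av_Wp_w hF 𝔉 κ hκ, av_Wp_e hF 𝔉 κ hκ hκ0, if_pos hm1]
  match_scalars <;> field_simp

/-- the move `ulow` in coordinates (`κ = 1`, `t = 1`, `d = ω`, `q = 2`) -/
theorem V5_ul (hF : Fintype.card F = 2 ^ 2) (𝔉 : Frm F 2 n m) (hm : 2 ≤ m)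
    (H : Subgroup ↥(Cfsg.SU n F 2)) (ω : F) (h1q : (1 : F) ^ 2 = -1) (hd : HP 2 (1 : F) ω)
    (h3 : ulow hF 𝔉 1 h1q 1 ω ∈ H)
    {a0 a1 : F} (ha : XL H (V5 𝔉 a0 a1 0 0 0)) {c0 c1 c2 c3 c4 : F}
    (h0 : a0 - a1 = c0) (h1' : a1 = c1) (h2' : a0 = c2) (h3' : a0 * ω = c3) (h4 : a0 * ω = c4) :
    XL H (V5 𝔉 c0 c1 c2 c3 c4) := by
  have hx := ha.map _ h3
  have he : av (ulow hF 𝔉 1 h1q 1 ω) (V5 𝔉 a0 a1 0 0 0) = V5 𝔉 c0 c1 c2 c3 c4 := by
    subst h0 h1' h2' h3' h4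
    unfold V5
    simp only [av_add, av_smul, av_ulow_e0 hF 𝔉 hm 1 h1q one_ne_zero 1 ω hd,
      av_ulow_e1 hF 𝔉 hm 1 h1q one_ne_zero 1 ω hd, av_zero, zero_smul, smul_zero, inv_one,
      one_mul, mul_one]
    module
  rwa [he] at hx

/-- the move `ulow⁻¹` in coordinates (`κ = 1`, `t = 1`, `d = ω`, `q = 2`) -/
theorem V5_uli (hF : Fintype.card F = 2 ^ 2) (𝔉 : Frm F 2 n m) (hm : 2 ≤ m)
    (H : Subgroup ↥(Cfsg.SU n F 2)) (ω : F) (h1q : (1 : F) ^ 2 = -1) (hd : HP 2 (1 : F) ω)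
    (h3 : ulow hF 𝔉 1 h1q 1 ω ∈ H)
    {a0 a1 : F} (ha : XL H (V5 𝔉 a0 a1 0 0 0)) {c0 c1 c2 c3 : F}
    (h0 : a0 + a1 = c0) (h1' : a1 = c1) (h2' : -(a0 + a1) = c2) (h3' : ω ^ 2 * (a0 + a1) = c3) :
    XL H (V5 𝔉 c0 c1 c2 c3 0) := by
  have hx := ha.map _ (H.inv_mem h3)
  have he : av (ulow hF 𝔉 1 h1q 1 ω)⁻¹ (V5 𝔉 a0 a1 0 0 0) = V5 𝔉 c0 c1 c2 c3 0 := by
    subst h0 h1' h2' h3'
    unfold V5
    simp only [av_add, av_smul, av_ulow_inv_e0 hF 𝔉 hm 1 h1q one_ne_zero 1 ω hd,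
      av_ulow_inv_e1 hF 𝔉 hm 1 h1q one_ne_zero 1 ω hd, av_zero, zero_smul, smul_zero, inv_one,
      one_mul, mul_one]
    module
  rwa [he] at hx

/-- the derivation table for `q = 2` in an abstract frame -/
theorem p2_core (hF : Fintype.card F = 2 ^ 2) (𝔉 : Frm F 2 n m) (hm : 2 ≤ m)
    (H : Subgroup ↥(Cfsg.SU n F 2)) (ω : F) (hω : ω ^ 2 + ω + 1 = 0)
    (h1q : (1 : F) ^ 2 = -1) (hd : HP 2 (1 : F) ω)
    (h1 : uh hF 𝔉 1 ω ∈ H) (h3 : ulow hF 𝔉 1 h1q 1 ω ∈ H)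
    (he0 : XL H (𝔉.e 0)) (he1 : XL H (𝔉.e 1)) :
    XL H (V5 𝔉 0 0 0 1 0) ∧ XL H (V5 𝔉 0 0 0 0 1) ∧ XL H (V5 𝔉 1 1 0 0 0) ∧
      XL H (V5 𝔉 1 ω 0 0 0) ∧ XL H (V5 𝔉 1 (ω + 1) 0 0 0) ∧ XL H (V5 𝔉 1 1 0 ω (ω + 1)) ∧
      XL H (V5 𝔉 1 0 1 (ω + 1) 0) := by
  have h2 : (2 : F) = 0 := by
    have := h1q
    rw [one_pow] at this
    linear_combination this
  have hω0 : ω ≠ 0 := by
    rintro rfl
    have : (1 : F) = 0 := by linear_combination hω
    exact one_ne_zero this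
  have hω1 : ω + 1 ≠ 0 := by
    intro h
    have : (1 : F) = 0 := by linear_combination hω - ω * h
    exact one_ne_zero this
  have hx0 : XL H (V5 𝔉 0 1 0 0 0) := by
    have : V5 𝔉 0 1 0 0 0 = 𝔉.e 1 := by unfold V5; module
    rwa [this]
  have hx2 : XL H (V5 𝔉 1 0 0 0 0) := by
    have : V5 𝔉 1 0 0 0 0 = 𝔉.e 0 := by unfold V5; module
    rwa [this]
  have hx1 : XL H (V5 𝔉 1 1 1 (ω + 1) 0) := by
    refine V5_uli hF 𝔉 hm H ω h1q hd h3 hx0 ?_ ?_ ?_ ?_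
    · linear_combination (0) * hω + (0) * h2
    · linear_combination (0) * hω + (0) * h2
    · linear_combination (0) * hω + ((-1)) * h2
    · linear_combination ((1)) * hω + ((-1) + (-1)*ω) * h2
  have hx3 : XL H (V5 𝔉 1 0 1 (ω + 1) 0) := by
    refine V5_uli hF 𝔉 hm H ω h1q hd h3 hx2 ?_ ?_ ?_ ?_
    · linear_combination (0) * hω + (0) * h2
    · linear_combination (0) * hω + (0) * h2
    · linear_combination (0) * hω + ((-1)) * h2
    · linear_combination ((1)) * hω + ((-1) + (-1)*ω) * h2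
  have hx4 : XL H (V5 𝔉 1 0 (ω + 1) ω 0) := by
    refine V5_rule hF h2 𝔉 hm H hx2 hx3 ω ω ?_ hω0 ?_ ?_ ?_ ?_ ?_
    · linear_combination ((1)) * hω + (0) * h2
    · linear_combination ((1)) * hω + ((-1)) * h2
    · linear_combination (0) * hω + (0) * h2
    · linear_combination ((1)) * hω + ((-1) + (-1)*ω) * h2
    · linear_combination (ω) * hω + ((-1)*ω) * h2
    · linear_combination (0) * hω + (0) * h2
  have hx5 : XL H (V5 𝔉 1 1 1 ω 0) := by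
    refine V5_uh hF 𝔉 hm H ω hd h1 hx4 ?_ ?_ ?_ ?_
    · linear_combination ((-1)) * hω + (0) * h2
    · linear_combination ((-1)) * hω + (0) * h2
    · linear_combination (0) * hω + (ω) * h2
    · linear_combination (0) * hω + (0) * h2
  have hx6 : XL H (V5 𝔉 0 0 0 1 0) := by
    refine V5_rule hF h2 𝔉 hm H hx1 hx5 1 1 ?_ one_ne_zero ?_ ?_ ?_ ?_ ?_
    · linear_combination ((1)) * hω + (0) * h2
    · linear_combination (0) * hω + ((1)) * h2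
    · linear_combination (0) * hω + ((1)) * h2
    · linear_combination (0) * hω + ((1)) * h2
    · linear_combination (0) * hω + (ω) * h2
    · linear_combination (0) * hω + (0) * h2
  have hx7 : XL H (V5 𝔉 1 0 1 ω ω) := by
    refine V5_ul hF 𝔉 hm H ω h1q hd h3 hx2 ?_ ?_ ?_ ?_ ?_
    · linear_combination (0) * hω + (0) * h2
    · linear_combination (0) * hω + (0) * h2
    · linear_combination (0) * hω + (0) * h2
    · linear_combination (0) * hω + (0) * h2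
    · linear_combination (0) * hω + (0) * h2
  have hx8 : XL H (V5 𝔉 1 ω 1 ω ω) := by
    refine V5_rule hF h2 𝔉 hm H hx0 hx7 (ω + 1) ω ?_ hω1 ?_ ?_ ?_ ?_ ?_
    · linear_combination ((1)) * hω + ((-1) + (-1)*ω) * h2
    · linear_combination ((1)) * hω + ((-1)) * h2
    · linear_combination (0) * hω + (0) * h2
    · linear_combination ((1)) * hω + ((-1)) * h2
    · linear_combination (ω) * hω + ((-1)*ω) * h2
    · linear_combination (ω) * hω + ((-1)*ω) * h2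
  have hx9 : XL H (V5 𝔉 1 1 ω (ω + 1) 0) := by
    refine V5_uh hF 𝔉 hm H ω hd h1 hx3 ?_ ?_ ?_ ?_
    · linear_combination ((-1)) * hω + (0) * h2
    · linear_combination ((-1)) * hω + (0) * h2
    · linear_combination (0) * hω + ((1)) * h2
    · linear_combination (0) * hω + (0) * h2
  have hx10 : XL H (V5 𝔉 1 (ω + 1) (ω + 1) (ω + 1) 0) := by
    refine V5_rule hF h2 𝔉 hm H hx3 hx9 ω ω ?_ hω0 ?_ ?_ ?_ ?_ ?_
    · linear_combination ((2)) * hω + (0) * h2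
    · linear_combination ((1)) * hω + ((-1)) * h2
    · linear_combination ((1)) * hω + ((-1) + (-1)*ω) * h2
    · linear_combination ((-1) + ω) * hω + (0) * h2
    · linear_combination ((1) + ω) * hω + ((-1) + (-1)*ω) * h2
    · linear_combination (0) * hω + (0) * h2
  have hx11 : XL H (V5 𝔉 0 1 0 ω 0) := by
    refine V5_rule hF h2 𝔉 hm H hx4 hx10 1 ω ?_ one_ne_zero ?_ ?_ ?_ ?_ ?_
    · linear_combination ((3) + ω) * hω + ((-1) + ω) * h2
    · linear_combination (0) * hω + (ω) * h2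
    · linear_combination ((1)) * hω + ((-1)) * h2
    · linear_combination ((2)) * hω + ((-1)) * h2
    · linear_combination ((2)) * hω + ((-1) + (-1)*ω) * h2
    · linear_combination (0) * hω + (0) * h2
  have hx12 : XL H (V5 𝔉 1 ω 1 ω 0) := by
    refine V5_rule hF h2 𝔉 hm H hx1 hx11 (ω + 1) 1 ?_ hω1 ?_ ?_ ?_ ?_ ?_
    · linear_combination ((1)) * hω + ((-1) + (-1)*ω) * h2
    · linear_combination (0) * hω + (0) * h2
    · linear_combination (0) * hω + ((1)) * h2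
    · linear_combination (0) * hω + (0) * h2
    · linear_combination ((1)) * hω + (0) * h2
    · linear_combination (0) * hω + (0) * h2
  have hx13 : XL H (V5 𝔉 0 0 0 0 1) := by
    refine V5_rule hF h2 𝔉 hm H hx8 hx12 1 (ω + 1) ?_ one_ne_zero ?_ ?_ ?_ ?_ ?_
    · linear_combination (ω) * hω + (0) * h2
    · linear_combination (0) * hω + ((1) + ω) * h2
    · linear_combination ((2)) * hω + ((-1)) * h2
    · linear_combination (0) * hω + ((1) + ω) * h2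
    · linear_combination ((2)) * hω + ((-1)) * h2
    · linear_combination ((1)) * hω + ((-1)) * h2
  have hx14 : XL H (V5 𝔉 1 0 ω (ω + 1) (ω + 1)) := by
    refine V5_rule hF h2 𝔉 hm H hx2 hx7 (ω + 1) (ω + 1) ?_ hω1 ?_ ?_ ?_ ?_ ?_
    · linear_combination ((1)) * hω + ((-1) + (-1)*ω) * h2
    · linear_combination ((1)) * hω + (ω) * h2
    · linear_combination (0) * hω + (0) * h2
    · linear_combination ((1)) * hω + (0) * h2
    · linear_combination ((1) + ω) * hω + ((-1) + (-1)*ω) * h2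
    · linear_combination ((1) + ω) * hω + ((-1) + (-1)*ω) * h2
  have hx15 : XL H (V5 𝔉 1 1 0 0 0) := by
    refine V5_uh hF 𝔉 hm H ω hd h1 hx2 ?_ ?_ ?_ ?_
    · linear_combination (0) * hω + (0) * h2
    · linear_combination (0) * hω + (0) * h2
    · linear_combination (0) * hω + (0) * h2
    · linear_combination (0) * hω + (0) * h2
  have hx16 : XL H (V5 𝔉 0 1 1 ω ω) := by
    refine V5_ul hF 𝔉 hm H ω h1q hd h3 hx15 ?_ ?_ ?_ ?_ ?_
    · linear_combination (0) * hω + (0) * h2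
    · linear_combination (0) * hω + (0) * h2
    · linear_combination (0) * hω + (0) * h2
    · linear_combination (0) * hω + (0) * h2
    · linear_combination (0) * hω + (0) * h2
  have hx17 : XL H (V5 𝔉 1 ω 0 0 0) := by
    refine V5_rule hF h2 𝔉 hm H hx14 hx16 ω 1 ?_ hω0 ?_ ?_ ?_ ?_ ?_
    · linear_combination ((1)) * hω + (0) * h2
    · linear_combination (0) * hω + (0) * h2
    · linear_combination (0) * hω + (0) * h2
    · linear_combination (0) * hω + (ω) * h2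
    · linear_combination ((1)) * hω + (0) * h2
    · linear_combination ((1)) * hω + (0) * h2
  have hx18 : XL H (V5 𝔉 1 1 (ω + 1) ω 0) := by
    refine V5_rule hF h2 𝔉 hm H hx15 hx1 ω ω ?_ hω0 ?_ ?_ ?_ ?_ ?_
    · linear_combination ((1)) * hω + (0) * h2
    · linear_combination ((1)) * hω + ((-1)) * h2
    · linear_combination ((1)) * hω + ((-1)) * h2
    · linear_combination ((1)) * hω + ((-1) + (-1)*ω) * h2
    · linear_combination (ω) * hω + ((-1)*ω) * h2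
    · linear_combination (0) * hω + (0) * h2
  have hx19 : XL H (V5 𝔉 1 (ω + 1) 0 0 0) := by
    refine V5_rule hF h2 𝔉 hm H hx3 hx18 ω ω ?_ hω0 ?_ ?_ ?_ ?_ ?_
    · linear_combination ((2)) * hω + (0) * h2
    · linear_combination ((1)) * hω + ((-1)) * h2
    · linear_combination ((1)) * hω + ((-1) + (-1)*ω) * h2
    · linear_combination (ω) * hω + (0) * h2
    · linear_combination (ω) * hω + (0) * h2
    · linear_combination (0) * hω + (0) * h2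
  have hx20 : XL H (V5 𝔉 1 ω (ω + 1) ω 0) := by
    refine V5_rule hF h2 𝔉 hm H hx15 hx3 ω ω ?_ hω0 ?_ ?_ ?_ ?_ ?_
    · linear_combination ((1)) * hω + (0) * h2
    · linear_combination ((1)) * hω + ((-1)) * h2
    · linear_combination (0) * hω + (0) * h2
    · linear_combination ((1)) * hω + ((-1) + (-1)*ω) * h2
    · linear_combination (ω) * hω + ((-1)*ω) * h2
    · linear_combination (0) * hω + (0) * h2
  have hx21 : XL H (V5 𝔉 1 1 0 ω (ω + 1)) := by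
    refine V5_rule hF h2 𝔉 hm H hx7 hx20 ω ω ?_ hω0 ?_ ?_ ?_ ?_ ?_
    · linear_combination ((1) + ω) * hω + (0) * h2
    · linear_combination ((1)) * hω + ((-1)) * h2
    · linear_combination ((-1) + ω) * hω + (0) * h2
    · linear_combination (ω) * hω + (0) * h2
    · linear_combination (ω) * hω + ((-1)*ω) * h2
    · linear_combination ((1)) * hω + ((-1) + (-1)*ω) * h2
  exact ⟨hx6, hx13, hx15, hx17, hx19, hx21, hx3⟩

end P3

section P3c
variable {F : Type*} [Field F] [Fintype F] {q : ℕ}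

theorem frmP_e (hF : Fintype.card F = q ^ 2) (C : Hyp F q) (m : ℕ) (hm : 2 ≤ m) (k : ℕ)
    (hk : k < m) : (frmP C hF m hm).e k = ev C (2 * m + 1) (posP m k) := by
  show (if k < m then ev C (2 * m + 1) (posP m k) else 0) = _
  rw [if_pos hk]

theorem frmP_f (hF : Fintype.card F = q ^ 2) (C : Hyp F q) (m : ℕ) (hm : 2 ≤ m) (k : ℕ)
    (hk : k < m) : (frmP C hF m hm).f k = fv C (2 * m + 1) (posP m k) := by
  show (if k < m then fv C (2 * m + 1) (posP m k) else 0) = _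
  rw [if_pos hk]

theorem frmP_w (hF : Fintype.card F = q ^ 2) (C : Hyp F q) (m : ℕ) (hm : 2 ≤ m) :
    (frmP C hF m hm).w = sv (2 * m + 1) (2 * m - 4) := rfl

theorem posP_zero (m : ℕ) : posP m 0 = 2 * m - 1 := by
  simp [posP]

theorem posP_one (m : ℕ) : posP m 1 = 2 * m - 3 := by
  simp [posP]

theorem posP_ge (m k : ℕ) (hk : 2 ≤ k) : posP m k = 2 * (m - 1 - k) := by
  unfold posP
  rw [if_neg (by omega), if_neg (by omega)]

/-- the elements of the field with four elements -/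
theorem F4_cases (hF : Fintype.card F = 2 ^ 2) (h2 : (2 : F) = 0) (ω : F)
    (hω : ω ^ 2 + ω + 1 = 0) (s : F) : s = 0 ∨ s = 1 ∨ s = ω ∨ s = ω + 1 := by
  have hs4 : s ^ 4 = s := by
    have := FiniteField.pow_card s
    rwa [hF] at this
  have hprod : s * (s - 1) * (s - ω) * (s - (ω + 1)) = 0 := by
    linear_combination (s ^ 2 - s) * hω + hs4 + (s - s ^ 3 - s * ω * (s ^ 2 - s)) * h2
  rcases mul_eq_zero.1 hprod with h | h
  · rcases mul_eq_zero.1 h with h | h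
    · rcases mul_eq_zero.1 h with h | h
      · exact Or.inl h
      · exact Or.inr (Or.inl (sub_eq_zero.1 h))
    · exact Or.inr (Or.inr (Or.inl (sub_eq_zero.1 h)))
  · exact Or.inr (Or.inr (Or.inr (sub_eq_zero.1 h)))

/-- P3.  the base for `q = 2` (layout `frmP`): `S0` with `m' = 2` at the cut `2m-4`. -/
theorem p2_base (hF : Fintype.card F = q ^ 2) (hq : q = 2) (C : Hyp F q) (m : ℕ) (hm : 2 ≤ m)
    (H : Subgroup ↥(Cfsg.SU (2 * m + 1) F q)) (ω : F) (hω : ω ^ 2 + ω + 1 = 0)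
    (h1q : (1 : F) ^ q = -1) (hd : HP q (1 : F) ω)
    (h1 : uh hF (frmP C hF m hm) 1 ω ∈ H) (h3 : ulow hF (frmP C hF m hm) 1 h1q 1 ω ∈ H)
    (he0 : XL H ((frmP C hF m hm).e 0)) (he1 : XL H ((frmP C hF m hm).e 1)) :
    AllIso H (2 * m - 4) := by
  subst hq
  have h2 : (2 : F) = 0 := by
    have := h1q
    rw [one_pow] at this
    linear_combination this
  obtain ⟨hf0, hf1, hl1, hlω, hlω', hmix, hxw⟩ :=
    p2_core hF (frmP C hF m hm) hm H ω hω h1q hd h1 h3 he0 he1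
  have hm0 : 0 < m := by omega
  have hm1 : 1 < m := by omega
  have E0' := frmP_e hF C m hm 0 hm0
  have E1' := frmP_e hF C m hm 1 hm1
  have F0' := frmP_f hF C m hm 0 hm0
  have F1' := frmP_f hF C m hm 1 hm1
  rw [posP_zero] at E0' F0'
  rw [posP_one] at E1' F1'
  have p1 : 2 * 0 + (2 * m - 4 + 1) = 2 * m - 3 := by omega
  have p0 : 2 * 1 + (2 * m - 4 + 1) = 2 * m - 1 := by omega
  have p0' : 2 * 0 + 2 + (2 * m - 4 + 1) = 2 * m - 1 := by omega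
  have hWH : WH C (2 * m + 1) 2 (2 * m - 4 + 1) H := by
    refine ⟨?_, ?_, ?_⟩
    · intro i hi
      interval_cases i
      · rw [p1, ← E1', ← F1']
        refine ⟨he1, ?_⟩
        have : V5 (frmP C hF m hm) 0 0 0 0 1 = (frmP C hF m hm).f 1 := by unfold V5; module
        rwa [this] at hf1
      · rw [p0, ← E0', ← F0']
        refine ⟨he0, ?_⟩
        have : V5 (frmP C hF m hm) 0 0 0 1 0 = (frmP C hF m hm).f 0 := by unfold V5; module
        rwa [this] at hf0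
    · intro i hi s
      have hi0 : i = 0 := by omega
      subst hi0
      rw [p0', p1, ← E0', ← E1']
      have hV : ∀ s : F, V5 (frmP C hF m hm) 1 s 0 0 0 =
          (frmP C hF m hm).e 0 + s • (frmP C hF m hm).e 1 := by
        intro s
        unfold V5
        module
      rcases F4_cases hF h2 ω hω s with rfl | rfl | rfl | rfl
      · rw [zero_smul, add_zero]
        exact he0
      · rw [← hV]
        exact hl1
      · rw [← hV]
        exact hlω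
      · rw [← hV]
        exact hlω'
    · intro i hi
      have hi0 : i = 0 := by omega
      subst hi0
      refine ⟨1, ω, 1, ω + 1, ?_, ?_⟩
      · intro h
        have : (1 : F) = 0 := by linear_combination hω - h
        exact one_ne_zero this
      · rw [p0', p1, ← E0', ← E1', ← F0', ← F1']
        have : V5 (frmP C hF m hm) 1 1 0 ω (ω + 1) =
            (1 : F) • (frmP C hF m hm).e 0 + ω • (frmP C hF m hm).f 0 +
              ((1 : F) • (frmP C hF m hm).e 1 + (ω + 1) • (frmP C hF m hm).f 1) := by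
          unfold V5
          module
        rwa [this] at hmix
  have hw4 : 2 * m - 4 < 2 * m + 1 := by omega
  refine S0 hF C 2 (by norm_num) H (2 * m - 4) (by omega) hWH
    (V5 (frmP C hF m hm) 1 0 1 (ω + 1) 0) hxw ?_ ?_
  · unfold V5
    rw [E0', E1', F0', F1', frmP_w]
    unfold ev fv
    exact ((((Sup_pl (by omega) _ _).smul _).add ((Sup_pl (by omega) _ _).smul _)).add
      ((Sup_sv le_rfl).smul _)).add ((Sup_pl (by omega) _ _).smul _) |>.add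
      ((Sup_pl (by omega) _ _).smul _)
  · unfold V5
    rw [E0', E1', F0', F1', frmP_w]
    unfold ev fv
    simp only [Pi.add_apply, Pi.smul_apply, smul_eq_mul]
    rw [pl_apply_of_ne _ _ _ _ (by simp; omega) (by simp; omega),
      pl_apply_of_ne _ _ _ _ (by simp; omega) (by simp; omega),
      pl_apply_of_ne _ _ _ _ (by simp; omega) (by simp; omega),
      pl_apply_of_ne _ _ _ _ (by simp; omega) (by simp; omega)]
    have : (sv (2 * m + 1) (2 * m - 4) : Fin (2 * m + 1) → F) ⟨2 * m - 4, hw4⟩ = 1 := by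
      simp [sv]
    rw [this]
    simp

end P3c

end Cfsg.Agent.Lib.Helper22.SURU
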