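import Mathlib
import Cfsg.Agent.Lib.Helper9.SURUDefs
import Cfsg.Agent.Lib.Helper22.SURUP1
import Cfsg.Agent.Lib.Helper22.SURUP3

/-!
# S2282, case `q = 2`: the piece P4 (`closure_P2`)
-/

set_option autoImplicit false
set_option linter.unusedSectionVars false
set_option linter.unusedVariables false
set_option linter.unusedSimpArgs false

namespace Cfsg.Agent.Lib.Helper22.SURU

open Matrix Cfsg.Agent.Lib.Helper6 Cfsg.Agent.S0779 Cfsg.Agent.S0781
open Cfsg.Agent.Lib.Helper6.SUG Cfsg.Agent.Lib.Helper13 Cfsg.Agent.Lib.Helper9.SUGen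
open Cfsg.Agent.Lib.Helper9.SURU
open Cfsg.Agent.Lib.Helper7.SURU

section P4
variable {F : Type*} [Field F] [Fintype F] {q : ℕ}

/-- `ulow (f i) = f i + f (i+1)` -/
theorem av_ulow_f (hF : Fintype.card F = q ^ 2) {n m : ℕ} (𝔉 : Frm F q n m) (κ : F)
    (hκ : κ ^ q = -κ) (hκ0 : κ ≠ 0) (t d : F) (hd : HP q t d) (i : ℕ) (hi : i + 1 < m) :
    av (ulow hF 𝔉 κ hκ t d) (𝔉.f i) = 𝔉.f i + 𝔉.f (i + 1) := by
  have hi0 : i < m := by omega
  unfold ulow
  simp only [av_mul, av_Wp_inv_f hF 𝔉 κ hκ hκ0, if_pos hi0, av_smul, av_uh_e hF 𝔉 t d hd, av_add,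
    av_Wp_e hF 𝔉 κ hκ hκ0, if_pos hi]
  match_scalars <;> field_simp

theorem fv_ne_zero' (hF : Fintype.card F = q ^ 2) (C : Hyp F q) {n : ℕ} (k : ℕ)
    (hk : k + 1 < n) : fv C n k ≠ 0 := by
  intro h
  have := herm_ev_fv C k hk (q := q)
  rw [h, herm_zero_right hF] at this
  exact zero_ne_one this

theorem tv_zero_eq_one (hF : Fintype.card F = q ^ 2) {n : ℕ} (v : Fin n → F)
    (hvv : Cfsg.hermForm n F q v v = 0) (hc : (0 : F) ^ q = -0) : tv hF v 0 hvv hc = 1 := by
  apply ext_av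
  intro x
  rw [av_tv, av_one, zero_mul, zero_smul, add_zero]

/-- P4.  closure for `q = 2`. -/
theorem closure_P2 (hF : Fintype.card F = q ^ 2) (hq : q = 2) (C : Hyp F q) (m : ℕ) (hm : 2 ≤ m)
    (H : Subgroup ↥(Cfsg.SU (2 * m + 1) F q)) (ω : F) (hω : ω ^ 2 + ω + 1 = 0)
    (h1q : (1 : F) ^ q = -1) (hd : HP q (1 : F) ω)
    (h1 : uh hF (frmP C hF m hm) 1 ω ∈ H) (h2 : u2' hF (frmP C hF m hm) ω 1 ω ∈ H)
    (h3 : ulow hF (frmP C hF m hm) 1 h1q 1 ω ∈ H) : H = ⊤ := by
  have h2F : (2 : F) = 0 := by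
    have := h1q
    rw [one_pow] at this
    linear_combination this
  have hc1 : (1 : F) = ω ^ q - ω := by
    rw [hq]
    linear_combination (-1 : F) * hω + (1 + ω) * h2F
  -- the transvection with parameter `1` at `e (m-1)`
  have htv : tv hF ((frmP C hF m hm).e (m - 1)) 1 ((frmP C hF m hm).hee _ _) h1q ∈ H := by
    have := u2'_eq hF (frmP C hF m hm) hm ω 1 ω hd 1 hc1 h1q
    have h' : tv hF ((frmP C hF m hm).e (m - 1)) 1 ((frmP C hF m hm).hee _ _) h1q =
        u2' hF (frmP C hF m hm) ω 1 ω * (uh hF (frmP C hF m hm) 1 ω)⁻¹ := by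
      rw [this]
      group
    rw [h']
    exact H.mul_mem h2 (H.inv_mem h1)
  have htop : XL H ((frmP C hF m hm).e (m - 1)) := by
    apply XL.intro hF ((frmP C hF m hm).hee _ _)
    intro c hc
    have hc' : c * (c - 1) = 0 := by
      have := hc
      rw [hq] at this
      linear_combination this - c * h2F
    rcases mul_eq_zero.1 hc' with h0 | h0
    · subst h0
      rw [tv_zero_eq_one hF]
      exact H.one_mem
    · have h1' : c = 1 := sub_eq_zero.1 h0
      subst h1'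
      exact htv
  have hall := e_chain hF h2F (frmP C hF m hm) hm H 1 h1q one_ne_zero 1 ω hd h1 h3 htop
  have hbase := p2_base hF hq C m hm H ω hω h1q hd h1 h3 (hall 0 (by omega)) (hall 1 (by omega))
  apply grow_all hF C m hm H hbase
  intro k hk2 hkm hiso
  have hek : (frmP C hF m hm).e k = ev C (2 * m + 1) (2 * (m - 1 - k)) := by
    rw [frmP_e hF C m hm k hkm, posP_ge m k hk2]
  have hfk : (frmP C hF m hm).f k = fv C (2 * m + 1) (2 * (m - 1 - k)) := by
    rw [frmP_f hF C m hm k hkm, posP_ge m k hk2]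
  have hek1 : (frmP C hF m hm).e (k - 1) = ev C (2 * m + 1) (posP m (k - 1)) :=
    frmP_e hF C m hm (k - 1) (by omega)
  have hfk1 : (frmP C hF m hm).f (k - 1) = fv C (2 * m + 1) (posP m (k - 1)) :=
    frmP_f hF C m hm (k - 1) (by omega)
  have hpos : 2 * (m - k) ≤ posP m (k - 1) := by
    unfold posP
    split_ifs <;> omega
  have hpos2 : posP m (k - 1) + 1 < 2 * m + 1 := by
    unfold posP
    split_ifs <;> omega
  refine ⟨(frmP C hF m hm).e (k - 1), (frmP C hF m hm).f (k - 1), ?_, ?_, ?_, ?_, ?_, ?_⟩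
  · rw [hek1]
    exact Sup_pl hpos _ _
  · rw [hfk1]
    exact Sup_pl hpos _ _
  · rw [hek1]
    exact ev_ne_zero C _ hpos2
  · rw [hfk1]
    exact fv_ne_zero' hF C _ hpos2
  · have hx := (hall (k - 1) (by omega)).map _ h1
    rw [av_uh_e hF (frmP C hF m hm) 1 ω hd, show k - 1 + 1 = k by omega, hek, add_comm ((frmP C hF m hm).e (k - 1))] at hx
    exact hx
  · have hf : XL H ((frmP C hF m hm).f (k - 1)) := by
      apply hiso
      · rw [hfk1]
        exact Sup_pl hpos _ _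
      · exact (frmP C hF m hm).hff _ _
    have hx := hf.map _ h3
    rw [av_ulow_f hF (frmP C hF m hm) 1 h1q one_ne_zero 1 ω hd (k - 1) (by omega),
      show k - 1 + 1 = k by omega, hfk, add_comm ((frmP C hF m hm).f (k - 1))] at hx
    exact hx

end P4

end Cfsg.Agent.Lib.Helper22.SURU
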