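import Mathlib
import Cfsg.Agent.Lib.Helper9.SURUDefs
import Cfsg.Agent.Lib.Helper22.SURUP1
import Cfsg.Agent.Lib.Helper22.SURUP3
import Cfsg.Agent.Lib.Helper22.SURUP4
import Cfsg.Agent.Lib.Helper25.SURUE1
import Cfsg.Agent.H5.SURUE0

/-!
# S2282, case `q = 2`: the piece P5 (`su_odd_P2`)
-/

set_option autoImplicit false
set_option linter.unusedSectionVars false
set_option linter.unusedVariables false
set_option linter.unusedSimpArgs false

namespace Cfsg.Agent.Lib.Helper22.SURU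

open Matrix Cfsg.Agent.Lib.Helper6 Cfsg.Agent.S0779 Cfsg.Agent.S0781
open Cfsg.Agent.Lib.Helper6.SUG Cfsg.Agent.Lib.Helper13 Cfsg.Agent.Lib.Helper9.SUGen
open Cfsg.Agent.Lib.Helper9.SURU
open Cfsg.Agent.Lib.Helper7.SURU
open Cfsg.H5.SURU (frmP_span)
open Cfsg.Agent.Lib.Helper25.SURU (uh_regular)

section P5
variable {F : Type*} [Field F] [Fintype F] {q : ℕ}

/-- P5.  `SU_{2m+1}(2)`, `m ≥ 2`, is generated by three conjugate regular unipotents. -/
theorem su_odd_P2 (hF : Fintype.card F = q ^ 2) (hq : q = 2) (m : ℕ) (hm : 2 ≤ m) :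
    ∃ u g h : ↥(Cfsg.SU (2 * m + 1) F q),
      (IsNilpotent (((u : Matrix.SpecialLinearGroup (Fin (2 * m + 1)) F) :
          Matrix (Fin (2 * m + 1)) (Fin (2 * m + 1)) F) - 1) ∧
        (((u : Matrix.SpecialLinearGroup (Fin (2 * m + 1)) F) :
          Matrix (Fin (2 * m + 1)) (Fin (2 * m + 1)) F) - 1) ^ (2 * m + 1 - 1) ≠ 0) ∧
      Subgroup.closure ({u, g * u * g⁻¹, h * u * h⁻¹} : Set ↥(Cfsg.SU (2 * m + 1) F q)) = ⊤ := by
  obtain ⟨C⟩ := exists_hyp hF
  have h2F : (2 : F) = 0 := by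
    have := cast_q_eq_zero hF
    rw [hq] at this
    exact_mod_cast this
  have h1q : (1 : F) ^ q = -1 := by
    rw [one_pow]
    linear_combination h2F
  obtain ⟨ω, hω0, -, hord⟩ := exists_gen hF
  have hω3 : ω ^ 3 = 1 := by
    have := FiniteField.pow_card_sub_one_eq_one ω hω0
    rwa [hF, hq] at this
  have hω1 : ω ≠ 1 := by
    intro h
    have := hord 1 (by rw [h, pow_one])
    rw [hq] at this
    omega
  have hω : ω ^ 2 + ω + 1 = 0 := by
    have h : (ω - 1) * (ω ^ 2 + ω + 1) = 0 := by linear_combination hω3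
    rcases mul_eq_zero.1 h with h | h
    · exact absurd (sub_eq_zero.1 h) hω1
    · exact h
  have hd : HP q (1 : F) ω := by
    unfold HP
    rw [hq]
    linear_combination hω - h2F
  refine ⟨uh hF (frmP C hF m hm) 1 ω, g2 hF (frmP C hF m hm) ω, Wp hF (frmP C hF m hm) 1 h1q m,
    ?_, ?_⟩
  · exact uh_regular hF rfl hm (frmP C hF m hm) (frmP_span hF C m hm) 1 ω one_ne_zero hd
  · apply closure_P2 hF hq C m hm _ ω hω h1q hd
    · exact Subgroup.subset_closure (by simp)
    · exact Subgroup.subset_closure (Set.mem_insert_of_mem _ (Set.mem_insert _ _))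
    · exact Subgroup.subset_closure
        (Set.mem_insert_of_mem _ (Set.mem_insert_of_mem _ (Set.mem_singleton _)))

end P5

end Cfsg.Agent.Lib.Helper22.SURU
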