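import Mathlib
import Cfsg.Agent.Lib.Helper1.Hall
import Cfsg.Agent.Lib.Helper1.Coprime
import Cfsg.Agent.Lib.Helper10.Basic

/-!
# Solvable groups in which same-order `p`-subgroups are conjugate

Toolkit for S4022: conjugacy relation `CJ`, hypotheses `HypD` (same-order `p`-subgroups conjugate)
and `HypC r` (Sylow `p`-subgroups cyclic for `p ≠ r`), behaviour under quotients, and the main
induction.
-/

set_option autoImplicit false

namespace Cfsg.Agent.Lib.Helper22.SameOrderConj

open scoped Pointwise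
open Cfsg.Agent.Lib.Helper1

universe u

section basic

variable {G : Type*} [Group G]

/-- Conjugacy of subgroups, pointwise form. -/
def CJ (H K : Subgroup G) : Prop := ∃ g : G, MulAut.conj g • H = K

theorem CJ.refl (H : Subgroup G) : CJ H H := ⟨1, by simp⟩

theorem CJ.symm {H K : Subgroup G} (h : CJ H K) : CJ K H := by
  obtain ⟨g, rfl⟩ := h
  exact ⟨g⁻¹, by rw [map_inv, inv_smul_smul]⟩

theorem CJ.trans {H K L : Subgroup G} (h1 : CJ H K) (h2 : CJ K L) : CJ H L := by
  obtain ⟨g1, rfl⟩ := h1
  obtain ⟨g2, rfl⟩ := h2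
  exact ⟨g2 * g1, by rw [map_mul, mul_smul]⟩

theorem CJ.card_eq {H K : Subgroup G} (h : CJ H K) : Nat.card H = Nat.card K := by
  obtain ⟨g, rfl⟩ := h
  exact (card_conj_smul g H).symm

/-- Same-order `p`-subgroups are conjugate, for every prime `p`. -/
def HypD (G : Type*) [Group G] : Prop :=
  ∀ p : ℕ, p.Prime → ∀ H K : Subgroup G, IsPGroup p H → IsPGroup p K →
    Nat.card H = Nat.card K → CJ H K

/-- Sylow `p`-subgroups are cyclic for all primes `p ≠ r`. -/
def HypC (r : ℕ) (G : Type*) [Group G] : Prop :=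
  ∀ p : ℕ, p.Prime → p ≠ r → ∀ P : Sylow p G, IsCyclic P

end basic

section quotient

variable {G : Type*} [Group G] [Finite G]

/-- A subgroup of `X` that is a `p`-group of the full `p`-part order. -/
theorem exists_sylow_le (p : ℕ) [Fact p.Prime] (X : Subgroup G) :
    ∃ P : Subgroup G, P ≤ X ∧ IsPGroup p P ∧ Nat.card P = p ^ (Nat.card X).factorization p := by
  obtain ⟨P⟩ : Nonempty (Sylow p X) := inferInstance
  refine ⟨(P : Subgroup X).map X.subtype, Subgroup.map_subtype_le _, ?_, ?_⟩
  · exact P.isPGroup'.map _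
  · rw [← P.card_eq_multiplicity]
    exact (Nat.card_congr ((P : Subgroup X).equivMapOfInjective X.subtype
      X.subtype_injective).toEquiv).symm

omit [Finite G] in
theorem cj_of_map_mk (N : Subgroup G) [N.Normal] {H K : Subgroup G} (hH : N ≤ H) (hK : N ≤ K)
    (h : CJ (H.map (QuotientGroup.mk' N)) (K.map (QuotientGroup.mk' N))) : CJ H K := by
  obtain ⟨gbar, hg⟩ := h
  obtain ⟨g, rfl⟩ := QuotientGroup.mk'_surjective N gbar
  refine ⟨g, ?_⟩
  have h1 : (MulAut.conj g • H).map (QuotientGroup.mk' N) = K.map (QuotientGroup.mk' N) := by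
    rw [map_conj_smul]; exact hg
  have h2 : N ≤ MulAut.conj g • H := by
    have : MulAut.conj g • N ≤ MulAut.conj g • H := Subgroup.pointwise_smul_le_pointwise_smul_iff.mpr hH
    rwa [Subgroup.Normal.conj_smul_eq_self] at this
  have h3 := congrArg (Subgroup.comap (QuotientGroup.mk' N)) h1
  rwa [Subgroup.comap_map_eq_self (by rwa [QuotientGroup.ker_mk']),
    Subgroup.comap_map_eq_self (by rwa [QuotientGroup.ker_mk'])] at h3

theorem cj_of_map_mk_of_coprime [Group.IsSolvable G] (N : Subgroup G) [N.Normal] {H K : Subgroup G}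
    (hcop : (Nat.card H).Coprime (Nat.card N)) (hcard : Nat.card H = Nat.card K)
    (h : CJ (H.map (QuotientGroup.mk' N)) (K.map (QuotientGroup.mk' N))) : CJ H K := by
  obtain ⟨gbar, hg⟩ := h
  obtain ⟨g, rfl⟩ := QuotientGroup.mk'_surjective N gbar
  have h1 : (MulAut.conj g • H).map (QuotientGroup.mk' N) = K.map (QuotientGroup.mk' N) := by
    rw [map_conj_smul]; exact hg
  have h3 := congrArg (Subgroup.comap (QuotientGroup.mk' N)) h1
  rw [Subgroup.comap_map_eq, Subgroup.comap_map_eq, QuotientGroup.ker_mk'] at h3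
  have hA : CoprimeAct (MulAut.conj g • H) N := by
    refine ⟨?_, ?_, Or.inl inferInstance⟩
    · rw [Subgroup.normalizer_eq_top]; exact le_top
    · rwa [card_conj_smul]
  obtain ⟨k, -, hk⟩ := hA.exists_conj_eq K (by rw [h3]; exact le_sup_left)
    (by rw [card_conj_smul, hcard])
  exact CJ.trans ⟨g, rfl⟩ ⟨k, hk⟩

/-- `HypC` passes to quotients. -/
theorem hypC_quotient (N : Subgroup G) [N.Normal] {r : ℕ} (h : HypC r G) : HypC r (G ⧸ N) := by
  intro p hp hpr Q
  have : Fact p.Prime := ⟨hp⟩
  obtain ⟨P, rfl⟩ := Sylow.mapSurjective_surjective (QuotientGroup.mk'_surjective N) p Q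
  have hc : IsCyclic P := h p hp hpr P
  have hsurj : Function.Surjective ((QuotientGroup.mk' N).subgroupMap (P : Subgroup G)) :=
    MonoidHom.subgroupMap_surjective _ _
  exact isCyclic_of_surjective _ hsurj

/-- `HypD` passes to quotients by normal `s`-subgroups. -/
theorem hypD_quotient (N : Subgroup G) [N.Normal] {s : ℕ} (hs : s.Prime) (hN : IsPGroup s N)
    (h : HypD G) : HypD (G ⧸ N) := by
  intro p hp X Y hX hY hXY
  have : Fact p.Prime := ⟨hp⟩
  have : Fact s.Prime := ⟨hs⟩
  -- it suffices to find p-subgroups of G of equal order mapping onto X and Y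
  suffices hkey : ∀ Z : Subgroup (G ⧸ N), IsPGroup p Z → ∃ Z0 : Subgroup G, IsPGroup p Z0 ∧
      Z0.map (QuotientGroup.mk' N) = Z ∧
      Nat.card Z0 = if p = s then Nat.card Z * Nat.card N else Nat.card Z by
    obtain ⟨X0, hX0, hX0m, hX0c⟩ := hkey X hX
    obtain ⟨Y0, hY0, hY0m, hY0c⟩ := hkey Y hY
    obtain ⟨g, hg⟩ := h p hp X0 Y0 hX0 hY0 (by rw [hX0c, hY0c, hXY])
    refine ⟨QuotientGroup.mk' N g, ?_⟩
    rw [← hX0m, ← hY0m, ← map_conj_smul, hg]
  intro Z hZ
  by_cases hps : p = s
  · subst hps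
    refine ⟨Z.comap (QuotientGroup.mk' N), ?_, ?_, ?_⟩
    · exact hZ.comap_of_ker_isPGroup _ (by rwa [QuotientGroup.ker_mk'])
    · exact Subgroup.map_comap_eq_self_of_surjective (QuotientGroup.mk'_surjective N) Z
    · rw [if_pos rfl, card_comap_mk]
  · obtain ⟨Z0, hle, hZ0, hcard⟩ := exists_sylow_le p (Z.comap (QuotientGroup.mk' N))
    obtain ⟨a, ha⟩ := hZ.exists_card_eq
    obtain ⟨b, hb⟩ := hN.exists_card_eq
    have hc : Nat.card Z0 = Nat.card Z := by
      rw [hcard, card_comap_mk, ha, hb]
      rw [Nat.factorization_mul (pow_pos hp.pos a).ne' (pow_pos hs.pos b).ne']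
      simp [Nat.Prime.factorization_pow hp, Nat.Prime.factorization_pow hs, Ne.symm hps]
    have hdisj : Z0 ⊓ N = ⊥ := by
      have hcop : (Nat.card Z0).Coprime (Nat.card N) := by
        rw [hc, ha, hb]
        exact Nat.Coprime.pow _ _ ((Nat.coprime_primes hp hs).mpr hps)
      exact disjoint_iff.mp (Subgroup.disjoint_of_coprime_natCard hcop)
    refine ⟨Z0, hZ0, ?_, by rw [if_neg hps, hc]⟩
    apply Subgroup.eq_of_le_of_card_ge
    · rw [Subgroup.map_le_iff_le_comap]; exact hle
    · rw [card_map_mk_of_disjoint N hdisj, hc]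

end quotient

section cyclic

variable {G : Type*} [Group G] [Finite G]

/-- If all Sylow subgroups are cyclic, same-order `p`-subgroups are conjugate. -/
theorem hypD_of_cyclic (h : ∀ p : ℕ, p.Prime → ∀ P : Sylow p G, IsCyclic P) : HypD G := by
  intro p hp X Y hX hY hXY
  have : Fact p.Prime := ⟨hp⟩
  obtain ⟨P, hXP⟩ := hX.exists_le_sylow
  obtain ⟨Q, hYQ⟩ := hY.exists_le_sylow
  obtain ⟨g, hg⟩ := MulAction.exists_smul_eq G P Q
  refine ⟨g, ?_⟩
  have h1 : MulAut.conj g • X ≤ (Q : Subgroup G) := by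
    rw [← hg, Sylow.coe_subgroup_smul]
    exact Subgroup.pointwise_smul_le_pointwise_smul_iff.mpr hXP
  have hcyc : IsCyclic (Q : Subgroup G) := h p hp Q
  have h2 : (MulAut.conj g • X).subgroupOf (Q : Subgroup G) = Y.subgroupOf (Q : Subgroup G) := by
    apply Cfsg.Agent.Lib.Helper10.eq_of_card_eq_of_isCyclic
    rw [Nat.card_congr (Subgroup.subgroupOfEquivOfLe h1).toEquiv,
      Nat.card_congr (Subgroup.subgroupOfEquivOfLe hYQ).toEquiv, card_conj_smul, hXY]
  rw [Subgroup.subgroupOf_inj, inf_eq_left.mpr h1, inf_eq_left.mpr hYQ] at h2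
  exact h2

/-- Sylow subgroups of an `s'`-subgroup are cyclic when the Sylow `p`-subgroups of `G` are cyclic
for `p ≠ s`. -/
theorem sylow_cyclic_of_le {s : ℕ} (hs : s.Prime)
    (h : ∀ p : ℕ, p.Prime → p ≠ s → ∀ P : Sylow p G, IsCyclic P)
    (L : Subgroup G) (hL : (Nat.card L).Coprime s) :
    ∀ p : ℕ, p.Prime → ∀ P : Sylow p L, IsCyclic P := by
  intro p hp P
  have : Fact p.Prime := ⟨hp⟩
  by_cases hps : p = s
  · subst hps
    obtain ⟨a, ha⟩ := P.isPGroup'.exists_card_eq
    have hdvd : Nat.card (P : Subgroup L) ∣ Nat.card L := Subgroup.card_subgroup_dvd_card _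
    have h1 : Nat.card (P : Subgroup L) = 1 := by
      have hc : (Nat.card (P : Subgroup L)).Coprime p := Nat.Coprime.coprime_dvd_left hdvd hL
      rw [ha] at hc ⊢
      rcases Nat.eq_zero_or_pos a with rfl | hpos
      · simp
      · have h2 := (Nat.coprime_pow_left_iff hpos _ _).mp hc
        rw [Nat.coprime_self] at h2
        exact absurd h2 hp.ne_one
    have : Subsingleton (P : Subgroup L) := (Nat.card_eq_one_iff_unique.mp h1).1
    exact isCyclic_of_subsingleton
  · have hP' : IsPGroup p ((P : Subgroup L).map L.subtype) := P.isPGroup'.map _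
    obtain ⟨Q, hQ⟩ := hP'.exists_le_sylow
    have hcyc : IsCyclic (Q : Subgroup G) := h p hp hps Q
    have e1 : (P : Subgroup L) ≃* ((P : Subgroup L).map L.subtype) :=
      (P : Subgroup L).equivMapOfInjective L.subtype L.subtype_injective
    have e2 : (((P : Subgroup L).map L.subtype).subgroupOf (Q : Subgroup G)) ≃*
        ((P : Subgroup L).map L.subtype) := Subgroup.subgroupOfEquivOfLe hQ
    have hc2 : IsCyclic (((P : Subgroup L).map L.subtype).subgroupOf (Q : Subgroup G)) :=
      inferInstance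
    have hc3 : IsCyclic ((P : Subgroup L).map L.subtype) :=
      isCyclic_of_surjective e2.toMonoidHom e2.surjective
    exact isCyclic_of_surjective e1.symm.toMonoidHom e1.symm.surjective

end cyclic

section main

theorem conj_smul_eq_of_mem_normalizer {G : Type*} [Group G] {X : Subgroup G} {g : G}
    (hg : g ∈ Subgroup.normalizer (X : Set G)) : MulAut.conj g • X = X := by
  ext y
  rw [mem_conj_smul]
  have h1 : g⁻¹ ∈ Subgroup.normalizer (X : Set G) := inv_mem hg
  rw [Subgroup.mem_normalizer_iff] at h1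
  have := h1 y
  simp only [inv_inv] at this
  exact this.symm

theorem le_normalizer_inf_normal {G : Type*} [Group G] (X N : Subgroup G) [hN : N.Normal] :
    X ≤ Subgroup.normalizer ((X ⊓ N : Subgroup G) : Set G) := by
  apply le_normalizer_of_forall_conj_mem'
  intro x hx n hn
  rw [Subgroup.mem_inf] at hn ⊢
  exact ⟨mul_mem (mul_mem hx hn.1) (inv_mem hx), hN.conj_mem n hn.2 x⟩

/-- Conjugation by an element of a commutative subgroup `N` fixes every subgroup of `N`. -/
theorem conj_smul_eq_of_le_comm {G : Type*} [Group G] {N Y : Subgroup G} [IsMulCommutative N]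
    (hY : Y ≤ N) {x : G} (hx : x ∈ N) : MulAut.conj x • Y = Y := by
  ext y
  rw [mem_conj_smul]
  constructor
  · intro h
    have hyN : x⁻¹ * y * x ∈ N := hY h
    have hy : y ∈ N := by
      have := mul_mem (mul_mem hx hyN) (inv_mem hx)
      simpa [mul_assoc] using this
    have hc : (⟨x, hx⟩ : N) * ⟨y, hy⟩ = ⟨y, hy⟩ * ⟨x, hx⟩ :=
      (isMulCommutative_iff.mp (inferInstance : IsMulCommutative N)) _ _
    have hc' : x * y = y * x := congrArg Subtype.val hc
    have : x⁻¹ * y * x = y := by rw [mul_assoc, ← hc', inv_mul_cancel_left]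
    rwa [this] at h
  · intro h
    have hy : y ∈ N := hY h
    have hc : (⟨x, hx⟩ : N) * ⟨y, hy⟩ = ⟨y, hy⟩ * ⟨x, hx⟩ :=
      (isMulCommutative_iff.mp (inferInstance : IsMulCommutative N)) _ _
    have hc' : x * y = y * x := congrArg Subtype.val hc
    have : x⁻¹ * y * x = y := by rw [mul_assoc, ← hc', inv_mul_cancel_left]
    rwa [this]

variable {G : Type u} [Group G] [Finite G]

/-- Splitting a subgroup along a normal abelian Hall subgroup `N` with complement `L`, after
conjugation by an element of `N`. -/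
theorem exists_split [Group.IsSolvable G] (N L : Subgroup G) [N.Normal] [IsMulCommutative N]
    (hcop : (Nat.card N).Coprime N.index) (hL : Subgroup.IsComplement' N L) (X : Subgroup G) :
    ∃ x ∈ N, ∃ X' : Subgroup G, X' ≤ L ∧ MulAut.conj x • X = (X ⊓ N) ⊔ X' ∧
      Nat.card X' = N.relIndex X := by
  have hLcard : Nat.card L = N.index := hL.symm.index_eq_card.symm
  -- complement of N ∩ X in X
  have hcopX : (Nat.card (N.subgroupOf X)).Coprime (N.subgroupOf X).index := by
    have h1 : Nat.card (N.subgroupOf X) ∣ Nat.card N := by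
      rw [← Subgroup.inf_subgroupOf_right,
        Nat.card_congr (Subgroup.subgroupOfEquivOfLe (inf_le_right : N ⊓ X ≤ X)).toEquiv]
      exact Subgroup.card_dvd_of_le inf_le_left
    have h2 : (N.subgroupOf X).index ∣ N.index := Subgroup.relIndex_dvd_index_of_normal N X
    exact Nat.Coprime.coprime_dvd_left h1 (Nat.Coprime.coprime_dvd_right h2 hcop)
  obtain ⟨X'', hX''⟩ := Subgroup.exists_right_complement'_of_coprime hcopX
  set X0 : Subgroup G := X''.map X.subtype with hX0
  have hX0card : Nat.card X0 = N.relIndex X := by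
    rw [hX0, ← Nat.card_congr (X''.equivMapOfInjective X.subtype X.subtype_injective).toEquiv]
    exact hX''.symm.index_eq_card.symm
  have hXdec : (X ⊓ N) ⊔ X0 = X := by
    have h1 := hX''.sup_eq_top
    have h2 := congrArg (Subgroup.map X.subtype) h1
    rw [Subgroup.map_sup, ← MonoidHom.range_eq_map, Subgroup.range_subtype] at h2
    have h3 : (N.subgroupOf X).map X.subtype = X ⊓ N := by
      rw [Subgroup.subgroupOf, Subgroup.map_comap_eq, Subgroup.range_subtype]
    rw [h3] at h2
    exact h2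
  -- Hall dominance
  have hG : Nat.card G = N.index * Nat.card N := by rw [mul_comm, Subgroup.card_mul_index]
  have hX0cop : (Nat.card X0).Coprime (Nat.card N) := by
    rw [hX0card]
    exact Nat.Coprime.coprime_dvd_left (Subgroup.relIndex_dvd_index_of_normal N X) hcop.symm
  obtain ⟨g, hg⟩ := hall_le_conj N.index (Nat.card N) hG hcop.symm L X0 hLcard hX0cop
  obtain ⟨x, hx, l, hl, hxl⟩ := IsComplement'.exists_mul_eq hL g
  have hgL : MulAut.conj g • L = MulAut.conj x • L := by
    rw [← hxl, map_mul, mul_smul, Subgroup.conj_smul_eq_self_of_mem hl]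
  rw [hgL] at hg
  refine ⟨x⁻¹, inv_mem hx, MulAut.conj x⁻¹ • X0, ?_, ?_, by rw [card_conj_smul, hX0card]⟩
  · rw [map_inv]
    have := Subgroup.pointwise_smul_le_pointwise_smul_iff (a := (MulAut.conj x)⁻¹) |>.mpr hg
    rwa [inv_smul_smul] at this
  · conv_lhs => rw [← hXdec]
    rw [Subgroup.smul_sup, conj_smul_eq_of_le_comm (inf_le_right : X ⊓ N ≤ N) (inv_mem hx)]

end main

section induction

/-- Case of a normal abelian Sylow `s`-subgroup `N`: reduce to the complement. -/
theorem case_sylow {G : Type u} [Group G] [Finite G] [Group.IsSolvable G]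
    (ih : ∀ (G' : Type u) [Group G'] [Finite G'] [Group.IsSolvable G'],
      Nat.card G' < Nat.card G → HypD G' → ∀ r : ℕ, HypC r G' →
        ∀ H K : Subgroup G', Nat.card H = Nat.card K → CJ H K)
    (hD : HypD G) {s : ℕ} (hs : s.Prime) (N : Subgroup G) [N.Normal] [IsMulCommutative N]
    (hNne : N ≠ ⊥) (hNp : IsPGroup s N) (hcop : (Nat.card N).Coprime N.index)
    (hcyc : ∀ p : ℕ, p.Prime → p ≠ s → ∀ P : Sylow p G, IsCyclic P)
    (H K : Subgroup G) (hHK : Nat.card H = Nat.card K) : CJ H K := by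
  have : Fact s.Prime := ⟨hs⟩
  obtain ⟨k, hk⟩ := hNp.exists_card_eq
  have hk0 : k ≠ 0 := by
    rintro rfl
    rw [pow_zero] at hk
    exact hNne (Subgroup.card_eq_one.mp hk)
  have hscop : (Nat.card N).Coprime N.index → Nat.Coprime s N.index := by
    intro h
    rw [hk] at h
    exact Nat.Coprime.coprime_dvd_left (dvd_pow_self s hk0) h
  -- the order of X ⊓ N
  have hinf : ∀ X : Subgroup G, Nat.card (X ⊓ N : Subgroup G) * N.relIndex X = Nat.card X := by
    intro X
    have h1 := Subgroup.card_mul_index (N.subgroupOf X)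
    rw [← Subgroup.inf_subgroupOf_right,
      Nat.card_congr (Subgroup.subgroupOfEquivOfLe (inf_le_right : N ⊓ X ≤ X)).toEquiv,
      Subgroup.inf_subgroupOf_right, inf_comm] at h1
    exact h1
  have hrel : ∀ X : Subgroup G, Nat.Coprime s (N.relIndex X) := fun X =>
    Nat.Coprime.coprime_dvd_right (Subgroup.relIndex_dvd_index_of_normal N X) (hscop hcop)
  have hinfcard : ∀ X : Subgroup G,
      Nat.card (X ⊓ N : Subgroup G) = s ^ (Nat.card X).factorization s := by
    intro X
    have hp : IsPGroup s (X ⊓ N : Subgroup G) := hNp.to_le inf_le_right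
    obtain ⟨a, ha⟩ := hp.exists_card_eq
    have h1 := hinf X
    have hpos : N.relIndex X ≠ 0 := by
      intro h0; rw [h0, mul_zero] at h1; exact (Nat.card_pos (α := X)).ne' h1.symm
    rw [ha, ← h1, ha, Nat.factorization_mul (pow_pos hs.pos a).ne' hpos,
      Nat.Prime.factorization_pow hs]
    have : (N.relIndex X).factorization s = 0 :=
      Nat.factorization_eq_zero_of_not_dvd ((Nat.Prime.coprime_iff_not_dvd hs).mp (hrel X))
    simp [this]
  -- first conjugation: make the intersections with N equal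
  obtain ⟨g, hg⟩ := hD s hs (H ⊓ N) (K ⊓ N) (hNp.to_le inf_le_right) (hNp.to_le inf_le_right)
    (by rw [hinfcard, hinfcard, hHK])
  set H1 := MulAut.conj g • H with hH1
  have hH1N : H1 ⊓ N = K ⊓ N := by
    rw [← hg, Subgroup.smul_inf, Subgroup.Normal.conj_smul_eq_self g N]
  have hH1K : Nat.card H1 = Nat.card K := by rw [hH1, card_conj_smul, hHK]
  refine CJ.trans ⟨g, rfl⟩ ?_
  -- complement
  obtain ⟨L, hL⟩ := Subgroup.exists_right_complement'_of_coprime hcop
  have hLcard : Nat.card L = N.index := hL.symm.index_eq_card.symm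
  obtain ⟨x1, hx1, H', hH'L, hH'dec, hH'card⟩ := exists_split N L hcop hL H1
  obtain ⟨x2, hx2, K', hK'L, hK'dec, hK'card⟩ := exists_split N L hcop hL K
  set N0 := K ⊓ N with hN0
  rw [hH1N] at hH'dec
  refine CJ.trans ⟨x1, rfl⟩ (CJ.trans ?_ (CJ.symm ⟨x2, rfl⟩))
  rw [hH'dec, hK'dec]
  -- H', K' normalize N0
  have hnorm1 : H' ≤ Subgroup.normalizer (N0 : Set G) := by
    have h1 : (MulAut.conj x1 • H1) ⊓ N = N0 := by
      have h0 : (MulAut.conj x1 • H1) ⊓ N = MulAut.conj x1 • (H1 ⊓ N) := by
        rw [Subgroup.smul_inf, Subgroup.Normal.conj_smul_eq_self x1 N]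
      rw [h0, hH1N]
      exact conj_smul_eq_of_le_comm inf_le_right hx1
    have h2 := le_normalizer_inf_normal (MulAut.conj x1 • H1) N
    rw [h1] at h2
    refine le_trans ?_ h2
    rw [hH'dec]; exact le_sup_right
  have hnorm2 : K' ≤ Subgroup.normalizer (N0 : Set G) := by
    have h1 : (MulAut.conj x2 • K) ⊓ N = N0 := by
      have h0 : (MulAut.conj x2 • K) ⊓ N = MulAut.conj x2 • (K ⊓ N) := by
        rw [Subgroup.smul_inf, Subgroup.Normal.conj_smul_eq_self x2 N]
      rw [h0]
      exact conj_smul_eq_of_le_comm inf_le_right hx2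
    have h2 := le_normalizer_inf_normal (MulAut.conj x2 • K) N
    rw [h1] at h2
    refine le_trans ?_ h2
    rw [hK'dec]; exact le_sup_right
  set L0 : Subgroup G := L ⊓ Subgroup.normalizer (N0 : Set G) with hL0
  have hH'L0 : H' ≤ L0 := le_inf hH'L hnorm1
  have hK'L0 : K' ≤ L0 := le_inf hK'L hnorm2
  have hL0s : (Nat.card L0).Coprime s := by
    have h1 : Nat.card L0 ∣ N.index := by
      rw [← hLcard]; exact Subgroup.card_dvd_of_le inf_le_left
    exact (Nat.Coprime.coprime_dvd_right h1 (hscop hcop)).symm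
  have hL0lt : Nat.card L0 < Nat.card G := by
    have h1 : Nat.card L0 ≤ N.index := by
      rw [← hLcard]; exact Subgroup.card_le_of_le inf_le_left
    have h2 : N.index < Nat.card G := by
      rw [← Subgroup.card_mul_index N]
      have h3 : 1 < Nat.card N := by
        rw [hk]; exact Nat.one_lt_pow hk0 hs.one_lt
      have h4 : 0 < N.index := Nat.pos_of_ne_zero Subgroup.index_ne_zero_of_finite
      nlinarith
    omega
  have hcycL0 := sylow_cyclic_of_le hs hcyc L0 hL0s
  have hcards : Nat.card (H'.subgroupOf L0) = Nat.card (K'.subgroupOf L0) := by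
    rw [Nat.card_congr (Subgroup.subgroupOfEquivOfLe hH'L0).toEquiv,
      Nat.card_congr (Subgroup.subgroupOfEquivOfLe hK'L0).toEquiv, hH'card, hK'card]
    -- relIndex equal
    have e1 := hinf H1
    have e2 := hinf K
    rw [hH1N] at e1
    have hpos : 0 < Nat.card (K ⊓ N : Subgroup G) := Nat.card_pos
    apply Nat.eq_of_mul_eq_mul_left hpos
    rw [e1, e2, hH1K]
  obtain ⟨l, hl⟩ := ih L0 hL0lt (hypD_of_cyclic hcycL0) 0 (fun p hp _ P => hcycL0 p hp P)
    (H'.subgroupOf L0) (K'.subgroupOf L0) hcards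
  have hl' : MulAut.conj (l : G) • H' = K' := conj_of_conj_subgroupOf hH'L0 hK'L0 l hl
  refine ⟨(l : G), ?_⟩
  rw [Subgroup.smul_sup, hl', conj_smul_eq_of_mem_normalizer (l.2.2)]

end induction

section final

theorem main (n : ℕ) : ∀ (G : Type u) [Group G] [Finite G] [Group.IsSolvable G], Nat.card G = n →
    HypD G → ∀ r : ℕ, HypC r G → ∀ H K : Subgroup G, Nat.card H = Nat.card K → CJ H K := by
  induction n using Nat.strong_induction_on with
  | _ n ih =>
  intro G _ _ _ hn hD r hC H K hHK
  have ih' : ∀ (G' : Type u) [Group G'] [Finite G'] [Group.IsSolvable G'],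
      Nat.card G' < Nat.card G → HypD G' → ∀ r : ℕ, HypC r G' →
        ∀ H K : Subgroup G', Nat.card H = Nat.card K → CJ H K := by
    intro G' _ _ _ hlt hD' r' hC' H' K' hHK'
    exact ih (Nat.card G') (hn ▸ hlt) G' rfl hD' r' hC' H' K' hHK'
  by_cases htriv : (⊤ : Subgroup G) = ⊥
  · have hH : H = ⊥ := le_bot_iff.mp (htriv ▸ le_top)
    have hK : K = ⊥ := le_bot_iff.mp (htriv ▸ le_top)
    rw [hH, hK]
    exact CJ.refl _
  obtain ⟨s, hs, N, hNn, -, hNne, hNc, hNexp⟩ :=
    exists_normal_elementary_abelian_le (G := G) _ ⊤ rfl htriv inferInstance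
  have : Fact s.Prime := ⟨hs⟩
  have hNp : IsPGroup s N := fun x => ⟨1, by
    rw [pow_one]; exact Subtype.ext (by simpa using hNexp x x.2)⟩
  obtain ⟨k, hk⟩ := hNp.exists_card_eq
  have hk0 : k ≠ 0 := by
    rintro rfl
    rw [pow_zero] at hk
    exact hNne (Subgroup.card_eq_one.mp hk)
  -- Claim A
  have claimA : ∀ X : Subgroup G, IsPGroup s X → Nat.card X ≤ Nat.card N → X ≤ N := by
    intro X hX hle
    obtain ⟨j, hj⟩ := hX.exists_card_eq
    have hjk : j ≤ k := (Nat.pow_le_pow_iff_right hs.one_lt).mp (by rwa [hj, hk] at hle)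
    obtain ⟨Y, hY⟩ := Sylow.exists_subgroup_card_pow_prime s (G := N) (n := j)
      (by rw [hk]; exact pow_dvd_pow s hjk)
    have hY' : Nat.card (Y.map N.subtype) = Nat.card X := by
      rw [hj, ← hY]
      exact (Nat.card_congr (Y.equivMapOfInjective _ N.subtype_injective).toEquiv).symm
    obtain ⟨g, hg⟩ := hD s hs (Y.map N.subtype) X ((hNp.to_subgroup Y).map _) hX hY'
    rw [← hg]
    calc MulAut.conj g • Y.map N.subtype ≤ MulAut.conj g • N :=
          Subgroup.pointwise_smul_le_pointwise_smul_iff.mpr (Subgroup.map_subtype_le Y)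
      _ = N := Subgroup.Normal.conj_smul_eq_self g N
  have hzp : ∀ (x : G) (e : ℕ), orderOf x = s ^ e → e ≤ k → x ∈ N := by
    intro x e he hek
    have h1 : Nat.card (Subgroup.zpowers x) = s ^ e := by rw [Nat.card_zpowers, he]
    have h2 : Subgroup.zpowers x ≤ N := claimA _ (IsPGroup.of_card h1)
      (by rw [h1, hk]; exact Nat.pow_le_pow_right hs.pos hek)
    exact h2 (Subgroup.mem_zpowers x)
  by_cases hk1 : k = 1
  · -- N has prime order
    have hNs : Nat.card N = s := by rw [hk, hk1, pow_one]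
    have hquot : Nat.card (G ⧸ N) < Nat.card G := card_quotient_lt_of_ne_bot hNne
    have ihq := ih' (G ⧸ N) hquot (hypD_quotient N hs hNp hD) r (hypC_quotient N hC)
    by_cases hsH : s ∣ Nat.card H
    · have hle : ∀ X : Subgroup G, s ∣ Nat.card X → N ≤ X := by
        intro X hX
        obtain ⟨x, hx⟩ := exists_prime_orderOf_dvd_card' s hX
        have hx' : orderOf (x : G) = s ^ 1 := by rw [Subgroup.orderOf_coe, hx, pow_one]
        have hxN : (x : G) ∈ N := hzp _ 1 hx' (by omega)
        have h1 : Nat.card (Subgroup.zpowers (x : G)) = s := by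
          rw [Nat.card_zpowers, hx', pow_one]
        have h3 : Subgroup.zpowers (x : G) = N :=
          Subgroup.eq_of_le_of_card_ge ((Subgroup.zpowers_le).mpr hxN) (by rw [h1, hNs])
        rw [← h3, Subgroup.zpowers_le]
        exact x.2
      have h1 := hle H hsH
      have h2 := hle K (hHK ▸ hsH)
      apply cj_of_map_mk N h1 h2
      apply ihq
      have e1 := card_map_mk_of_le N h1
      have e2 := card_map_mk_of_le N h2
      exact Nat.eq_of_mul_eq_mul_right (Nat.card_pos (α := N)) (by rw [e1, e2, hHK])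
    · have hcop : (Nat.card H).Coprime (Nat.card N) := by
        rw [hNs]; exact ((Nat.Prime.coprime_iff_not_dvd hs).mpr hsH).symm
      have hcop' : (Nat.card K).Coprime (Nat.card N) := hHK ▸ hcop
      apply cj_of_map_mk_of_coprime N hcop hHK
      apply ihq
      rw [card_map_mk_of_disjoint N (disjoint_iff.mp (Subgroup.disjoint_of_coprime_natCard hcop)),
        card_map_mk_of_disjoint N (disjoint_iff.mp (Subgroup.disjoint_of_coprime_natCard hcop')),
        hHK]
  · -- rank at least two: N is a Sylow subgroup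
    have hk2 : 2 ≤ k := by omega
    have hsN : ∀ X : Subgroup G, IsPGroup s X → X ≤ N := by
      intro X hX x hx
      obtain ⟨e, he⟩ := (IsPGroup.iff_orderOf.mp hX) ⟨x, hx⟩
      have he' : orderOf x = s ^ e := by rw [← he, Subgroup.orderOf_mk]
      by_cases hek : e ≤ k
      · exact hzp x e he' hek
      · exfalso
        have h2e : s ^ 2 ∣ orderOf x := by rw [he']; exact pow_dvd_pow s (by omega)
        have hx0 : orderOf x ≠ 0 := by rw [he']; exact (pow_pos hs.pos e).ne'
        have hy := orderOf_pow_orderOf_div hx0 h2e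
        have hyN := hzp _ 2 hy hk2
        have h3 := orderOf_dvd_of_pow_eq_one (hNexp _ hyN)
        rw [hy] at h3
        have h4 := Nat.le_of_dvd hs.pos h3
        nlinarith [hs.two_le]
    obtain ⟨S⟩ : Nonempty (Sylow s G) := inferInstance
    have hSN : N = (S : Subgroup G) := S.is_maximal' hNp (hsN _ S.isPGroup')
    have hcop : (Nat.card N).Coprime N.index := by rw [hSN]; exact S.card_coprime_index
    have hcyc : ∀ p : ℕ, p.Prime → p ≠ s → ∀ P : Sylow p G, IsCyclic P := by
      intro p hp hps P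
      by_cases hpr : p = r
      · exfalso
        have hsr : s ≠ r := fun h => hps (hpr.trans h.symm)
        have hc : IsCyclic (S : Subgroup G) := hC s hs hsr S
        rw [← hSN] at hc
        obtain ⟨g, hg⟩ := hc.exists_generator
        have h1 : orderOf g = Nat.card N := orderOf_eq_card_of_forall_mem_zpowers hg
        have h2 : g ^ s = 1 := Subtype.ext (by simpa using hNexp g g.2)
        have h3 := orderOf_dvd_of_pow_eq_one h2
        rw [h1, hk] at h3
        have h4 := Nat.le_of_dvd hs.pos h3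
        have h5 : s ^ 2 ≤ s ^ k := Nat.pow_le_pow_right hs.pos hk2
        nlinarith [hs.two_le]
      · exact hC p hp hpr P
    have : IsMulCommutative N := hNc
    exact case_sylow ih' hD hs N hNne hNp hcop hcyc H K hHK

end final

end Cfsg.Agent.Lib.Helper22.SameOrderConj
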