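import Mathlib

/-!
# Automorphisms of `P ⋊ ⟨b⟩` with `P` abelian normal, in additive language on `P`
-/

namespace Cfsg.Helper22.SemiAut

open scoped IsMulCommutative

variable {G : Type*} [Group G] (P : Subgroup G) [P.Normal] [IsMulCommutative P] (b : G)

/-- The `ZMod p`-module structure on an abelian subgroup of exponent `p`. -/
@[instance_reducible]
noncomputable def zmodModule (p : ℕ) (hexp : ∀ v ∈ P, v ^ p = 1) : Module (ZMod p) (Additive P) :=
  AddCommGroup.zmodModule (n := p) (fun x => by
    have h0 : x = Additive.ofMul (Additive.toMul x) := rfl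
    have h1 : (Additive.toMul x) ^ p = 1 :=
      Subtype.ext (by rw [Subgroup.coe_pow]; exact hexp _ (Additive.toMul x).2)
    rw [h0, ← ofMul_pow, h1]; rfl)

/-- Conjugation by `b` on `P`, written additively. -/
def cAdd : Additive P →+ Additive P :=
  MonoidHom.toAdditive ((MulAut.conjNormal b : MulAut P) : P ≃* P).toMonoidHom

omit [IsMulCommutative P] in
theorem cAdd_apply (x : Additive P) :
    cAdd P b x = Additive.ofMul (MulAut.conjNormal b (Additive.toMul x)) := rfl

omit [IsMulCommutative P] in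
theorem cAdd_iterate (n : ℕ) (x : Additive P) :
    (cAdd P b)^[n] x = Additive.ofMul (MulAut.conjNormal (b ^ n) (Additive.toMul x)) := by
  induction n with
  | zero => simp
  | succ n ih =>
    rw [Function.iterate_succ_apply', ih, cAdd_apply, pow_succ', map_mul]
    rfl

/-- Restriction to `P` of an automorphism of `G` preserving `P`, written additively. -/
def restr (θ : MulAut G) (hθ : ∀ x, θ x ∈ P ↔ x ∈ P) : Additive P →+ Additive P where
  toFun x := Additive.ofMul ⟨θ (Additive.toMul x : P), (hθ _).mpr (Additive.toMul x).2⟩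
  map_zero' := by
    apply congrArg Additive.ofMul
    apply Subtype.ext
    simp
  map_add' x y := by
    rw [← ofMul_mul]
    apply congrArg Additive.ofMul
    apply Subtype.ext
    simp

theorem restr_apply (θ : MulAut G) (hθ : ∀ x, θ x ∈ P ↔ x ∈ P) (x : Additive P) :
    restr P θ hθ x =
      Additive.ofMul ⟨θ ((Additive.toMul x : P) : G), (hθ _).mpr (Additive.toMul x).2⟩ := rfl

theorem restr_bijective (θ : MulAut G) (hθ : ∀ x, θ x ∈ P ↔ x ∈ P) :
    Function.Bijective (restr P θ hθ) := by
  constructor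
  · intro x y hxy
    rw [restr_apply, restr_apply] at hxy
    have h1 : θ ((Additive.toMul x : P) : G) = θ ((Additive.toMul y : P) : G) :=
      congrArg (fun t : Additive P => ((Additive.toMul t : P) : G)) hxy
    have h2 : ((Additive.toMul x : P) : G) = (Additive.toMul y : P) := θ.injective h1
    have h3 : Additive.toMul x = Additive.toMul y := Subtype.ext h2
    exact h3
  · intro y
    have hmem : θ.symm (Additive.toMul y : P) ∈ P := by
      rw [← hθ, MulEquiv.apply_symm_apply]; exact (Additive.toMul y).2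
    refine ⟨Additive.ofMul ⟨θ.symm (Additive.toMul y : P), hmem⟩, ?_⟩
    rw [restr_apply]
    show Additive.ofMul _ = y
    have : (⟨θ (θ.symm (Additive.toMul y : P)), (hθ _).mpr hmem⟩ : P) = Additive.toMul y :=
      Subtype.ext (MulEquiv.apply_symm_apply _ _)
    simp only [toMul_ofMul]
    rw [this]; rfl

theorem restr_twist (θ : MulAut G) (hθ : ∀ x, θ x ∈ P ↔ x ∈ P) (u : G) (hu : u ∈ P) (k : ℕ)
    (hθb : θ b = u * b ^ k) (x : Additive P) :
    restr P θ hθ (cAdd P b x) = (cAdd P b)^[k] (restr P θ hθ x) := by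
  rw [cAdd_iterate, restr_apply, restr_apply, cAdd_apply]
  apply congrArg Additive.ofMul
  apply Subtype.ext
  simp only [toMul_ofMul, MulAut.conjNormal_apply]
  set y : G := ((Additive.toMul x : P) : G) with hy
  have hyP : y ∈ P := (Additive.toMul x : P).2
  have hθy : θ y ∈ P := (hθ y).mpr hyP
  rw [map_mul, map_mul, map_inv, hθb]
  have hz : b ^ k * θ y * (b ^ k)⁻¹ ∈ P := ‹P.Normal›.conj_mem _ hθy _
  have hcomm : u * (b ^ k * θ y * (b ^ k)⁻¹) = (b ^ k * θ y * (b ^ k)⁻¹) * u := by
    have := mul_comm (⟨u, hu⟩ : P) ⟨_, hz⟩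
    exact congrArg Subtype.val this
  calc u * b ^ k * θ y * (u * b ^ k)⁻¹ = u * (b ^ k * θ y * (b ^ k)⁻¹) * u⁻¹ := by
        rw [mul_inv_rev]; group
    _ = b ^ k * θ y * (b ^ k)⁻¹ := by rw [hcomm]; group

omit [IsMulCommutative P] in
theorem twist_iterate (φ : Additive P ≃+ Additive P) (k : ℕ)
    (hφ : ∀ x, φ (cAdd P b x) = (cAdd P b)^[k] (φ x)) (i : ℕ) (x : Additive P) :
    φ ((cAdd P b)^[i] x) = (cAdd P b)^[k * i] (φ x) := by
  induction i with
  | zero => simp
  | succ i ih =>
    rw [Function.iterate_succ_apply', hφ, ih, ← Function.iterate_add_apply, Nat.mul_succ,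
      Nat.add_comm]

theorem exists_decomp [Finite G] (hcompl : P.IsComplement' (Subgroup.zpowers b)) (g : G) :
    ∃ v ∈ P, ∃ i : ℕ, g = v * b ^ i := by
  obtain ⟨x, hx, -⟩ := (Subgroup.isComplement_iff_existsUnique.mp
    (Subgroup.isComplement'_def.mp hcompl)) g
  have h2 : (x.2 : G) ∈ Submonoid.powers b :=
    (isOfFinOrder_of_finite b).mem_powers_iff_mem_zpowers.mpr x.2.2
  obtain ⟨i, hi⟩ := (Submonoid.mem_powers_iff _ _).mp h2
  exact ⟨x.1, x.1.2, i, by rw [hi]; exact hx.symm⟩


/-- A twisted additive automorphism of `P` extends to an automorphism of `G = P ⋊ ⟨b⟩`. -/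
theorem exists_aut_of_twist [Finite G] {q : ℕ} [hq : Fact q.Prime] (hb : orderOf b = q)
    (hcompl : P.IsComplement' (Subgroup.zpowers b))
    (φ : Additive P ≃+ Additive P) (k : ℕ) (hk : ¬ q ∣ k)
    (hφ : ∀ x, φ (cAdd P b x) = (cAdd P b)^[k] (φ x)) :
    ∃ θ : MulAut G, (∀ v : P, θ (v : G) = ((Additive.toMul (φ (Additive.ofMul v)) : P) : G)) ∧
      θ b = b ^ k := by
  classical
  have hcardK : Nat.card (Subgroup.zpowers b) = q := by rw [Nat.card_zpowers, hb]
  have hcop : (Nat.card (Subgroup.zpowers b)).Coprime k := by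
    rw [hcardK]; exact (Nat.Prime.coprime_iff_not_dvd hq.out).mpr hk
  let fn : P ≃* P := MulEquiv.toAdditive.symm φ
  have hfn : ∀ v : P, fn v = Additive.toMul (φ (Additive.ofMul v)) := fun v => rfl
  have hbij : Function.Bijective (powMonoidHom k : Subgroup.zpowers b →* Subgroup.zpowers b) :=
    (powCoprime hcop).bijective
  let fg : Subgroup.zpowers b ≃* Subgroup.zpowers b := MulEquiv.ofBijective (powMonoidHom k) hbij
  have hfg : ∀ g : Subgroup.zpowers b, fg g = g ^ k := fun g => rfl
  let e := SemidirectProduct.mulEquivSubgroup hcompl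
  -- compatibility
  have key : ∀ (i : ℕ) (x : P), ((fn (MulAut.conjNormal (b ^ i) x) : P) : G) =
      b ^ (k * i) * (fn x : G) * (b ^ (k * i))⁻¹ := by
    intro i x
    have h1 := twist_iterate P b φ k hφ i (Additive.ofMul x)
    rw [cAdd_iterate, cAdd_iterate] at h1
    have h2 := congrArg (fun t : Additive P => ((Additive.toMul t : P) : G)) h1
    simp only [toMul_ofMul, MulAut.conjNormal_apply] at h2
    rw [hfn, hfn]
    rw [← h2]
  have hcompat : ∀ g : Subgroup.zpowers b,
      ((P.normalizerMonoidHom.comp (Subgroup.inclusion (P.normalizer_eq_top ▸ le_top))) g).trans fn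
        = fn.trans ((P.normalizerMonoidHom.comp
            (Subgroup.inclusion (P.normalizer_eq_top ▸ le_top))) (fg g)) := by
    intro g
    have h2 : (g : G) ∈ Submonoid.powers b :=
      (isOfFinOrder_of_finite b).mem_powers_iff_mem_zpowers.mpr g.2
    obtain ⟨i, hi⟩ := (Submonoid.mem_powers_iff _ _).mp h2
    ext x
    show ((fn (⟨(g : G) * x * (g : G)⁻¹, _⟩ : P) : P) : G) =
      ((fg g : Subgroup.zpowers b) : G) * (fn x : G) * ((fg g : Subgroup.zpowers b) : G)⁻¹
    have h3 : (⟨(g : G) * x * (g : G)⁻¹, ‹P.Normal›.conj_mem _ x.2 _⟩ : P) =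
        MulAut.conjNormal (b ^ i) x := by
      apply Subtype.ext
      rw [MulAut.conjNormal_apply, hi]
    rw [h3, key, hfg, Subgroup.coe_pow, ← hi, ← pow_mul, mul_comm i k]
  let θ : G ≃* G := e.symm.trans ((SemidirectProduct.congr fn fg hcompat).trans e)
  refine ⟨θ, ?_, ?_⟩
  · intro v
    have h1 : e.symm (v : G) = SemidirectProduct.inl v := by
      rw [MulEquiv.symm_apply_eq, SemidirectProduct.mulEquivSubgroup_apply]
      simp
    show e (SemidirectProduct.congr fn fg hcompat (e.symm (v : G))) = _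
    rw [h1, SemidirectProduct.mulEquivSubgroup_apply]
    simp [hfn]
  · have h1 : e.symm b = SemidirectProduct.inr ⟨b, Subgroup.mem_zpowers b⟩ := by
      rw [MulEquiv.symm_apply_eq, SemidirectProduct.mulEquivSubgroup_apply]
      simp
    show e (SemidirectProduct.congr fn fg hcompat (e.symm b)) = _
    rw [h1, SemidirectProduct.mulEquivSubgroup_apply]
    simp [hfg]

end Cfsg.Helper22.SemiAut
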