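import Mathlib

/-!
# A semiregularity lemma for abelian normal subgroups of transitive linear groups

`G` acts (via `φ`) on an elementary abelian 2-group `V`, transitively on the non-identity elements.
`D` is a normal subgroup of `G` whose image in `MulAut V` is abelian.  Then:
* `fixes_all_of_two_power`: every element of `D` acting with 2-power order acts trivially;
* `eq_one_of_fixed_point`: every element of `D` acting with odd order and fixing a non-identity
  element acts trivially.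
-/

set_option autoImplicit false

namespace Cfsg.Agent.Lib.Helper22.SemiReg

section trace

variable {V : Type*} [CommGroup V]

/-- the "trace" of the cyclic group generated by `δ` (of exponent `m`) -/
noncomputable def tr (δ : MulAut V) (m : ℕ) (v : V) : V := ∏ i ∈ Finset.range m, (δ ^ i) v

theorem tr_mul (δ : MulAut V) (m : ℕ) (v w : V) : tr δ m (v * w) = tr δ m v * tr δ m w := by
  unfold tr
  rw [← Finset.prod_mul_distrib]
  refine Finset.prod_congr rfl fun i _ => ?_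
  exact map_mul _ _ _

theorem tr_one (δ : MulAut V) (m : ℕ) : tr δ m 1 = 1 := by
  unfold tr
  refine Finset.prod_eq_one fun i _ => ?_
  exact map_one _

theorem apply_tr (δ : MulAut V) (m : ℕ) (hm : δ ^ m = 1) (v : V) : δ (tr δ m v) = tr δ m v := by
  unfold tr
  rw [map_prod]
  have h1 : ∀ i, δ ((δ ^ i) v) = (δ ^ (i + 1)) v := by
    intro i
    rw [pow_succ', MulAut.mul_apply]
  simp_rw [h1]
  have h2 := Finset.prod_range_succ' (fun i => (δ ^ i) v) m
  have h3 := Finset.prod_range_succ (fun i => (δ ^ i) v) m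
  rw [h2] at h3
  simp only [hm, pow_zero] at h3
  exact mul_right_cancel h3

theorem tr_of_fixed (δ : MulAut V) (m : ℕ) (hm : Odd m) (hV2 : ∀ v : V, v * v = 1) (v : V)
    (hv : δ v = v) : tr δ m v = v := by
  unfold tr
  have h1 : ∀ i : ℕ, (δ ^ i) v = v := by
    intro i
    induction i with
    | zero => simp
    | succ i ih => rw [pow_succ, MulAut.mul_apply, hv, ih]
  simp_rw [h1]
  rw [Finset.prod_const, Finset.card_range]
  obtain ⟨j, rfl⟩ := hm
  rw [pow_succ, pow_mul, pow_two, hV2, one_pow, one_mul]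

theorem tr_comm (δ ε : MulAut V) (m : ℕ) (hc : ε * δ = δ * ε) (v : V) :
    tr δ m (ε v) = ε (tr δ m v) := by
  unfold tr
  rw [map_prod]
  refine Finset.prod_congr rfl fun i _ => ?_
  have h : Commute ε (δ ^ i) := (show Commute ε δ from hc).pow_right i
  calc (δ ^ i) (ε v) = (δ ^ i * ε) v := rfl
    _ = (ε * δ ^ i) v := by rw [← h.eq]
    _ = ε ((δ ^ i) v) := rfl

end trace

section main

variable {G : Type*} [Group G] {V : Type*} [CommGroup V]

/-- the elements of `D` acting on `V` with 2-power order -/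
def twoPart (φ : G →* MulAut V) (D : Subgroup G)
    (hcomm : ∀ d ∈ D, ∀ e ∈ D, φ d * φ e = φ e * φ d) : Subgroup G where
  carrier := {y | y ∈ D ∧ ∃ j : ℕ, φ y ^ 2 ^ j = 1}
  one_mem' := ⟨D.one_mem, 0, by simp⟩
  mul_mem' := by
    rintro a b ⟨ha, j1, hj1⟩ ⟨hb, j2, hj2⟩
    refine ⟨D.mul_mem ha hb, j1 + j2, ?_⟩
    have e1 : φ a ^ 2 ^ (j1 + j2) = 1 := by rw [pow_add, pow_mul, hj1, one_pow]
    have e2 : φ b ^ 2 ^ (j1 + j2) = 1 := by rw [pow_add, mul_comm, pow_mul, hj2, one_pow]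
    have hc : Commute (φ a) (φ b) := hcomm a ha b hb
    rw [map_mul, hc.mul_pow, e1, e2, one_mul]
  inv_mem' := by
    rintro a ⟨ha, j, hj⟩
    exact ⟨D.inv_mem ha, j, by rw [map_inv, inv_pow, hj, inv_one]⟩

theorem mem_twoPart (φ : G →* MulAut V) (D : Subgroup G)
    (hcomm : ∀ d ∈ D, ∀ e ∈ D, φ d * φ e = φ e * φ d) (y : G) :
    y ∈ twoPart φ D hcomm ↔ y ∈ D ∧ ∃ j : ℕ, φ y ^ 2 ^ j = 1 := Iff.rfl

variable [Finite V]

theorem fixes_all_of_two_power (φ : G →* MulAut V) (D : Subgroup G) [hDn : D.Normal]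
    (hV2 : ∀ v : V, v * v = 1)
    (hcomm : ∀ d ∈ D, ∀ e ∈ D, φ d * φ e = φ e * φ d)
    (htrans : ∀ v w : V, v ≠ 1 → w ≠ 1 → ∃ g : G, φ g v = w)
    (x : G) (hx : x ∈ D) (k : ℕ) (hk : φ x ^ 2 ^ k = 1) : φ x = 1 := by
  classical
  by_cases hV : ∀ v : V, v = 1
  · ext v
    rw [hV ((φ x) v), hV ((1 : MulAut V) v)]
  push Not at hV
  obtain ⟨v1, hv1⟩ := hV
  have hH : IsPGroup 2 ↥((twoPart φ D hcomm).map φ) := by
    rintro ⟨h, hh⟩
    obtain ⟨y, hy, rfl⟩ := Subgroup.mem_map.mp hh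
    obtain ⟨_, j, hj⟩ := (mem_twoPart φ D hcomm y).mp hy
    refine ⟨j, ?_⟩
    apply Subtype.ext
    simpa using hj
  have : Fact (Nat.Prime 2) := ⟨Nat.prime_two⟩
  have h2V : 2 ∣ Nat.card V := by
    have h : orderOf v1 = 2 := orderOf_eq_prime (by rw [pow_two]; exact hV2 v1) hv1
    rw [← h]
    exact orderOf_dvd_natCard v1
  have hfix1 : (1 : V) ∈ MulAction.fixedPoints ↥((twoPart φ D hcomm).map φ) V := by
    intro h
    rw [Subgroup.smul_def, MulAut.smul_def, map_one]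
  obtain ⟨b, hb, hb1⟩ := hH.exists_fixed_point_of_prime_dvd_card_of_fixed_point V h2V hfix1
  ext w
  change φ x w = w
  by_cases hw : w = 1
  · rw [hw, map_one]
  obtain ⟨g, hg⟩ := htrans w b hw (Ne.symm hb1)
  have hy : g * x * g⁻¹ ∈ twoPart φ D hcomm := by
    refine ⟨hDn.conj_mem x hx g, k, ?_⟩
    rw [map_mul, map_mul, map_inv, conj_pow, hk, mul_one, mul_inv_cancel]
  have hyb : φ (g * x * g⁻¹) b = b := by
    have := hb ⟨φ (g * x * g⁻¹), Subgroup.mem_map_of_mem φ hy⟩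
    rwa [Subgroup.smul_def, MulAut.smul_def] at this
  rw [map_mul, map_mul, map_inv, MulAut.mul_apply, MulAut.mul_apply] at hyb
  have h1 : (φ g)⁻¹ b = w := by
    rw [← hg]
    exact MulAut.inv_apply_self _ _ _
  rw [h1] at hyb
  rw [← hg] at hyb
  exact (φ g).injective hyb

variable [Finite G]

omit [Finite V] in
theorem eq_one_of_fixed_point (φ : G →* MulAut V) (D : Subgroup G) [hDn : D.Normal]
    (hV2 : ∀ v : V, v * v = 1)
    (hcomm : ∀ d ∈ D, ∀ e ∈ D, φ d * φ e = φ e * φ d)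
    (htrans : ∀ v w : V, v ≠ 1 → w ≠ 1 → ∃ g : G, φ g v = w)
    (d : G) (hd : d ∈ D) (m : ℕ) (hm : Odd m) (hdm : φ d ^ m = 1)
    (v0 : V) (hv0 : v0 ≠ 1) (hfix : φ d v0 = v0) : φ d = 1 := by
  classical
  by_contra hne
  have hex : ∃ v1 : V, φ d v1 ≠ v1 := by
    by_contra hall
    push Not at hall
    exact hne (MulEquiv.ext fun v => hall v)
  obtain ⟨v1, hv1⟩ := hex
  obtain ⟨v', hv'⟩ : ∃ v' : V, v' = v1 * tr (φ d) m v1 := ⟨_, rfl⟩
  have htrfix : φ d (tr (φ d) m v1) = tr (φ d) m v1 := apply_tr (φ d) m hdm v1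
  have htr' : tr (φ d) m v' = 1 := by
    rw [hv', tr_mul, tr_of_fixed (φ d) m hm hV2 (tr (φ d) m v1) htrfix]
    exact hV2 _
  have hv'1 : v' ≠ 1 := by
    intro h
    have h2 : v1 = tr (φ d) m v1 := by
      calc v1 = v1 * (tr (φ d) m v1 * tr (φ d) m v1) := by rw [hV2, mul_one]
        _ = (v1 * tr (φ d) m v1) * tr (φ d) m v1 := by rw [mul_assoc]
        _ = tr (φ d) m v1 := by rw [← hv', h, one_mul]
    apply hv1
    rw [h2]
    exact htrfix
  have hw1 : v0 * v' ≠ 1 := by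
    intro h
    have h2 : v0 = v' := by
      calc v0 = v0 * (v' * v') := by rw [hV2, mul_one]
        _ = (v0 * v') * v' := by rw [mul_assoc]
        _ = v' := by rw [h, one_mul]
    have h3 : tr (φ d) m v0 = v0 := tr_of_fixed (φ d) m hm hV2 v0 hfix
    rw [h2, htr'] at h3
    exact hv'1 h3.symm
  -- key: stabilizer of v0 * v' inside D stabilizes both factors
  have key : ∀ e ∈ D, φ e (v0 * v') = v0 * v' → φ e v0 = v0 ∧ φ e v' = v' := by
    intro e he hew
    have hc : φ e * φ d = φ d * φ e := hcomm e he d hd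
    have ha : φ d (φ e v0) = φ e v0 := by
      calc φ d (φ e v0) = (φ d * φ e) v0 := rfl
        _ = (φ e * φ d) v0 := by rw [hc]
        _ = φ e (φ d v0) := rfl
        _ = φ e v0 := by rw [hfix]
    have hb : tr (φ d) m (φ e v') = 1 := by
      rw [tr_comm (φ d) (φ e) m hc v', htr', map_one]
    have hab : φ e v0 * φ e v' = v0 * v' := by rw [← map_mul]; exact hew
    have hcc : φ e v0 * v0 = v' * φ e v' := by
      calc φ e v0 * v0 = φ e v0 * v0 * (φ e v' * φ e v') := by rw [hV2 (φ e v'), mul_one]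
        _ = (φ e v0 * φ e v') * (v0 * φ e v') := by ac_rfl
        _ = (v0 * v') * (v0 * φ e v') := by rw [hab]
        _ = (v0 * v0) * (v' * φ e v') := by ac_rfl
        _ = v' * φ e v' := by rw [hV2 v0, one_mul]
    have hc1 : φ d (φ e v0 * v0) = φ e v0 * v0 := by rw [map_mul, ha, hfix]
    have hc2 : tr (φ d) m (φ e v0 * v0) = 1 := by rw [hcc, tr_mul, htr', hb, one_mul]
    have hc3 : φ e v0 * v0 = 1 := by
      rw [← tr_of_fixed (φ d) m hm hV2 _ hc1]
      exact hc2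
    have h4 : φ e v0 = v0 := by
      calc φ e v0 = φ e v0 * (v0 * v0) := by rw [hV2, mul_one]
        _ = (φ e v0 * v0) * v0 := by rw [mul_assoc]
        _ = v0 := by rw [hc3, one_mul]
    refine ⟨h4, ?_⟩
    rw [h4] at hab
    exact mul_left_cancel hab
  obtain ⟨g, hg⟩ := htrans v0 (v0 * v') hv0 hw1
  have hsub : {e : G | e ∈ D ∧ φ e (v0 * v') = v0 * v'} ⊆ {e : G | e ∈ D ∧ φ e v0 = v0} :=
    fun e he => ⟨he.1, (key e he.1 he.2).1⟩
  have hmaps : ∀ e ∈ {e : G | e ∈ D ∧ φ e v0 = v0},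
      (fun e => g * e * g⁻¹) e ∈ {e : G | e ∈ D ∧ φ e (v0 * v') = v0 * v'} := by
    rintro e ⟨he, hev⟩
    refine ⟨hDn.conj_mem e he g, ?_⟩
    have h1 : (φ g)⁻¹ (v0 * v') = v0 := by
      rw [← hg]
      exact MulAut.inv_apply_self _ _ _
    have h2 : φ (g * e * g⁻¹) = φ g * φ e * (φ g)⁻¹ := by rw [map_mul, map_mul, map_inv]
    change φ (g * e * g⁻¹) (v0 * v') = v0 * v'
    rw [h2, MulAut.mul_apply, MulAut.mul_apply, h1, hev, hg]
  have hinj : Set.InjOn (fun e => g * e * g⁻¹) {e : G | e ∈ D ∧ φ e v0 = v0} := by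
    intro a _ b _ hab
    simpa using hab
  have hcard := Set.ncard_le_ncard_of_injOn _ hmaps hinj (Set.toFinite _)
  have heq := Set.eq_of_subset_of_ncard_le hsub hcard (Set.toFinite _)
  have hdmem : d ∈ {e : G | e ∈ D ∧ φ e v0 = v0} := ⟨hd, hfix⟩
  rw [← heq] at hdmem
  have h5 : φ d v' = v' := (key d hd hdmem.2).2
  have h6 : tr (φ d) m v' = v' := tr_of_fixed (φ d) m hm hV2 v' h5
  rw [htr'] at h6
  exact hv'1 h6.symm

end main

end Cfsg.Agent.Lib.Helper22.SemiReg
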