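import Mathlib

/-!
# A divisibility trick for complex representations

Let `Z, G, H, T` be injective endomorphisms of a finite-dimensional complex vector space with
`Z² + Z + 1 = 0`, `G Z = Z G`, `H Z = Z H`, `H G = Z G H` and `Z T Z = T`.  Then `6` divides the dimension:
the space is the sum of the two eigenspaces of `Z` (eigenvalues the primitive cube roots of unity), `T` swaps
them, and on the `ω`-eigenspace `H G = ω G H` forces `ω ^ dim = 1` by taking determinants.
-/

set_option autoImplicit false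

namespace Cfsg.Agent.Lib.Helper22.SixDvd

open Module

variable {V : Type*} [AddCommGroup V] [Module ℂ V] [FiniteDimensional ℂ V]

/-- a primitive cube root of unity -/
noncomputable def ω : ℂ := Complex.exp (2 * Real.pi * Complex.I / (3 : ℕ))

theorem ω_prim : IsPrimitiveRoot ω 3 := Complex.isPrimitiveRoot_exp 3 (by norm_num)

theorem ω_cube : ω ^ 3 = 1 := ω_prim.pow_eq_one

theorem ω_ne_one : ω ≠ 1 := ω_prim.ne_one (by norm_num)

theorem ω_sq_add : ω ^ 2 + ω + 1 = 0 := by
  have h := ω_prim.geom_sum_eq_zero (by norm_num)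
  simp only [Finset.sum_range_succ, Finset.sum_range_zero, pow_zero, pow_one] at h
  linear_combination h

theorem ω_ne_zero : ω ≠ 0 := ω_prim.ne_zero (by norm_num)

/-- if `H G = c G H` on a finite-dimensional space with `G`, `H` injective, then `c ^ dim = 1` -/
theorem pow_finrank_eq_one {W : Type*} [AddCommGroup W] [Module ℂ W] [FiniteDimensional ℂ W]
    (G H : W →ₗ[ℂ] W) (hG : Function.Injective G) (hH : Function.Injective H) (c : ℂ)
    (hHG : ∀ w, H (G w) = c • G (H w)) : c ^ finrank ℂ W = 1 := by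
  have h1 : H ∘ₗ G = c • (G ∘ₗ H) := by
    ext w
    simp [hHG]
  have h2 := congrArg LinearMap.det h1
  rw [LinearMap.det_smul] at h2
  have h3 : LinearMap.det (H ∘ₗ G) = LinearMap.det (G ∘ₗ H) := by
    rw [LinearMap.det_comp, LinearMap.det_comp, mul_comm]
  have hdG : LinearMap.det G ≠ 0 :=
    (LinearMap.isUnit_det G ((LinearMap.isUnit_iff_ker_eq_bot G).mpr
      (LinearMap.ker_eq_bot.mpr hG))).ne_zero
  have hdH : LinearMap.det H ≠ 0 :=
    (LinearMap.isUnit_det H ((LinearMap.isUnit_iff_ker_eq_bot H).mpr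
      (LinearMap.ker_eq_bot.mpr hH))).ne_zero
  have hne : LinearMap.det (G ∘ₗ H) ≠ 0 := by
    rw [LinearMap.det_comp]
    exact mul_ne_zero hdG hdH
  rw [h3] at h2
  have h4 : (c ^ finrank ℂ W - 1) * LinearMap.det (G ∘ₗ H) = 0 := by
    rw [sub_mul, one_mul, ← h2, sub_self]
  rcases mul_eq_zero.mp h4 with h | h
  · exact sub_eq_zero.mp h
  · exact absurd h hne

theorem six_dvd_finrank (Z G H T : V →ₗ[ℂ] V)
    (hGi : Function.Injective G) (hHi : Function.Injective H) (hTi : Function.Injective T)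
    (hZ : ∀ v, Z (Z v) + Z v + v = 0)
    (hGZ : ∀ v, G (Z v) = Z (G v)) (hHZ : ∀ v, H (Z v) = Z (H v))
    (hHG : ∀ v, H (G v) = Z (G (H v)))
    (hT : ∀ v, Z (T (Z v)) = T v) : 6 ∣ finrank ℂ V := by
  classical
  -- the two eigenspaces
  set E1 : Submodule ℂ V := LinearMap.ker (Z - ω • LinearMap.id) with hE1
  set E2 : Submodule ℂ V := LinearMap.ker (Z - (ω ^ 2) • LinearMap.id) with hE2
  have mem1 : ∀ v, v ∈ E1 ↔ Z v = ω • v := by
    intro v
    simp [hE1, LinearMap.mem_ker, sub_eq_zero]
  have mem2 : ∀ v, v ∈ E2 ↔ Z v = (ω ^ 2) • v := by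
    intro v
    simp [hE2, LinearMap.mem_ker, sub_eq_zero]
  have hω := ω_sq_add
  have hω3 := ω_cube
  have hne : ω - ω ^ 2 ≠ 0 := by
    intro h
    have h1 : ω * (1 - ω) = 0 := by linear_combination h
    rcases mul_eq_zero.mp h1 with h2 | h2
    · exact ω_ne_zero h2
    · exact ω_ne_one (by linear_combination -h2)
  -- complementary
  have hdisj : Disjoint E1 E2 := by
    rw [Submodule.disjoint_def]
    intro v h1 h2
    rw [mem1] at h1
    rw [mem2] at h2
    have : (ω - ω ^ 2) • v = 0 := by rw [sub_smul, ← h1, ← h2, sub_self]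
    exact (smul_eq_zero.mp this).resolve_left hne
  have hcod : Codisjoint E1 E2 := by
    rw [codisjoint_iff, Submodule.eq_top_iff']
    intro v
    -- v = (ω - ω²)⁻¹ • ((Z v - ω² v) - (Z v - ω v))
    have hv1 : Z v - (ω ^ 2) • v ∈ E1 := by
      rw [mem1]
      have h := hZ v
      have : Z (Z v) = - Z v - v := by
        calc Z (Z v) = (Z (Z v) + Z v + v) - Z v - v := by abel
          _ = - Z v - v := by rw [h]; abel
      rw [map_sub, map_smul, this, smul_sub, smul_smul]
      have e1 : ω * ω ^ 2 = 1 := by rw [← pow_succ', hω3]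
      rw [e1, one_smul]
      have e2 : (-1 - ω ^ 2 : ℂ) = ω := by linear_combination -hω
      calc - Z v - v - ω ^ 2 • Z v = (-1 - ω ^ 2 : ℂ) • Z v - v := by
            rw [sub_smul, neg_smul, one_smul]; abel
        _ = ω • Z v - v := by rw [e2]
    have hv2 : Z v - ω • v ∈ E2 := by
      rw [mem2]
      have h := hZ v
      have : Z (Z v) = - Z v - v := by
        calc Z (Z v) = (Z (Z v) + Z v + v) - Z v - v := by abel
          _ = - Z v - v := by rw [h]; abel
      rw [map_sub, map_smul, this, smul_sub, smul_smul]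
      have e1 : ω ^ 2 * ω = 1 := by rw [← pow_succ, hω3]
      rw [e1, one_smul]
      have e2 : (-1 - ω : ℂ) = ω ^ 2 := by linear_combination -hω
      calc - Z v - v - ω • Z v = (-1 - ω : ℂ) • Z v - v := by
            rw [sub_smul, neg_smul, one_smul]; abel
        _ = ω ^ 2 • Z v - v := by rw [e2]
    have : v = (ω - ω ^ 2)⁻¹ • ((Z v - (ω ^ 2) • v) - (Z v - ω • v)) := by
      have : (Z v - (ω ^ 2) • v) - (Z v - ω • v) = (ω - ω ^ 2) • v := by
        rw [sub_smul]; abel
      rw [this, smul_smul, inv_mul_cancel₀ hne, one_smul]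
    rw [this]
    exact Submodule.smul_mem _ _ (Submodule.sub_mem _ (Submodule.mem_sup_left hv1)
      (Submodule.mem_sup_right hv2))
  have hcompl : IsCompl E1 E2 := ⟨hdisj, hcod⟩
  have hsum : finrank ℂ E1 + finrank ℂ E2 = finrank ℂ V :=
    Submodule.finrank_add_eq_of_isCompl hcompl
  -- T swaps the eigenspaces
  have hT12 : ∀ v ∈ E1, T v ∈ E2 := by
    intro v hv
    rw [mem1] at hv
    rw [mem2]
    have h := hT v
    rw [hv, map_smul, map_smul] at h
    -- ω • Z (T v) = T v
    have : Z (T v) = (ω ^ 2) • (ω • Z (T v)) := by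
      rw [smul_smul, ← pow_succ, hω3, one_smul]
    rw [this, h]
  have hT21 : ∀ v ∈ E2, T v ∈ E1 := by
    intro v hv
    rw [mem2] at hv
    rw [mem1]
    have h := hT v
    rw [hv, map_smul, map_smul] at h
    have : Z (T v) = ω • ((ω ^ 2) • Z (T v)) := by
      rw [smul_smul, ← pow_succ', hω3, one_smul]
    rw [this, h]
  have hle12 : finrank ℂ E1 ≤ finrank ℂ E2 := by
    let f : E1 →ₗ[ℂ] E2 := (T.domRestrict E1).codRestrict E2 (fun v => hT12 v v.2)
    apply LinearMap.finrank_le_finrank_of_injective (f := f)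
    intro x y hxy
    have : T x = T y := congrArg Subtype.val hxy
    exact Subtype.ext (hTi this)
  have hle21 : finrank ℂ E2 ≤ finrank ℂ E1 := by
    let f : E2 →ₗ[ℂ] E1 := (T.domRestrict E2).codRestrict E1 (fun v => hT21 v v.2)
    apply LinearMap.finrank_le_finrank_of_injective (f := f)
    intro x y hxy
    have : T x = T y := congrArg Subtype.val hxy
    exact Subtype.ext (hTi this)
  have heq : finrank ℂ E2 = finrank ℂ E1 := le_antisymm hle21 hle12
  -- G and H preserve E1
  have hG1 : ∀ v ∈ E1, G v ∈ E1 := by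
    intro v hv
    rw [mem1] at hv ⊢
    rw [← hGZ, hv, map_smul]
  have hH1 : ∀ v ∈ E1, H v ∈ E1 := by
    intro v hv
    rw [mem1] at hv ⊢
    rw [← hHZ, hv, map_smul]
  let G' : E1 →ₗ[ℂ] E1 := G.restrict hG1
  let H' : E1 →ₗ[ℂ] E1 := H.restrict hH1
  have hG'i : Function.Injective G' := by
    intro x y hxy
    have : G x = G y := congrArg Subtype.val hxy
    exact Subtype.ext (hGi this)
  have hH'i : Function.Injective H' := by
    intro x y hxy
    have : H x = H y := congrArg Subtype.val hxy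
    exact Subtype.ext (hHi this)
  have hpow : ω ^ finrank ℂ E1 = 1 := by
    apply pow_finrank_eq_one G' H' hG'i hH'i ω
    intro w
    apply Subtype.ext
    show H (G w) = ω • G (H w)
    rw [hHG]
    have : G (H w) ∈ E1 := hG1 _ (hH1 _ w.2)
    exact (mem1 _).mp this
  have h3 : 3 ∣ finrank ℂ E1 := (ω_prim.pow_eq_one_iff_dvd _).mp hpow
  obtain ⟨k, hk⟩ := h3
  rw [← hsum, heq, hk]
  exact ⟨k, by ring⟩

end Cfsg.Agent.Lib.Helper22.SixDvd
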