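import Mathlib
import Cfsg.Prelude.Def_DegreeGraph
import Cfsg.Agent.Lib.Helper22.SixDvd
import Cfsg.Agent.Lib.Helper2.Decomp
import Cfsg.Agent.Lib.Helper25.RepToChar
import Cfsg.Agent.Lib.Helper14.DegGraph

/-!
# An irreducible character of degree divisible by 6 from a representation with a Heisenberg-type quadruple
-/

set_option autoImplicit false
set_option linter.style.haveILetI false

namespace Cfsg.Agent.Lib.Helper22.SixDvdRep

open Module Cfsg

universe u

variable {G : Type u} [Group G] [Finite G] {V : Type*} [AddCommGroup V] [Module ℂ V]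
  [FiniteDimensional ℂ V]

omit [Finite G] [FiniteDimensional ℂ V] in
theorem rep_injective (ρ : Representation ℂ G V) (x : G) : Function.Injective (ρ x) := by
  intro v w h
  have h1 : ρ x⁻¹ (ρ x v) = ρ x⁻¹ (ρ x w) := by rw [h]
  have h2 : ∀ u, ρ x⁻¹ (ρ x u) = u := by
    intro u
    have : (ρ x⁻¹ * ρ x) u = u := by rw [← map_mul, inv_mul_cancel, map_one]; rfl
    exact this
  rwa [h2, h2] at h1

/-- If a nonzero finite-dimensional complex representation of a finite group has elements `z, g, h, t` acting
with `z² + z + 1 = 0`, `g z = z g`, `h z = z h`, `h g = z g h`, `z t z = t`, then the group has an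
irreducible character of degree divisible by `6`. -/
theorem exists_irr_six_dvd (ρ : Representation ℂ G V) [Nontrivial V] (z g h t : G)
    (hZ : ∀ v, ρ z (ρ z v) + ρ z v + v = 0)
    (hGZ : ∀ v, ρ g (ρ z v) = ρ z (ρ g v)) (hHZ : ∀ v, ρ h (ρ z v) = ρ z (ρ h v))
    (hHG : ∀ v, ρ h (ρ g v) = ρ z (ρ g (ρ h v)))
    (hT : ∀ v, ρ z (ρ t (ρ z v)) = ρ t v) :
    ∃ χ : IrrCharacter G, 6 ∣ charDegree (χ : G → ℂ) := by
  haveI : NeZero (Nat.card G : ℂ) := ⟨by
    have : 0 < Nat.card G := Nat.card_pos
    exact_mod_cast this.ne'⟩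
  obtain ⟨S, S', hirr, -⟩ := Cfsg.Agent.Lib.Helper2.exists_irreducible_isCompl ρ
  set σ := S.toRepresentation with hσ
  have hval : ∀ (x : G) (w : S.toSubmodule), ((σ x w : S.toSubmodule) : V) = ρ x (w : V) := by
    intro x w
    rfl
  have h6 : 6 ∣ finrank ℂ S.toSubmodule := by
    apply Cfsg.Agent.Lib.Helper22.SixDvd.six_dvd_finrank (σ z) (σ g) (σ h) (σ t)
      (rep_injective σ g) (rep_injective σ h) (rep_injective σ t)
    · intro w
      apply Subtype.ext
      simp only [Submodule.coe_add, hval, Submodule.coe_zero]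
      exact hZ _
    · intro w
      apply Subtype.ext
      simp only [hval]
      exact hGZ _
    · intro w
      apply Subtype.ext
      simp only [hval]
      exact hHZ _
    · intro w
      apply Subtype.ext
      simp only [hval]
      exact hHG _
    · intro w
      apply Subtype.ext
      simp only [hval]
      exact hT _
  refine ⟨⟨σ.character, Cfsg.Agent.Lib.Helper25.isIrrCharacter_of_rep σ hirr⟩, ?_⟩
  have : charDegree σ.character = finrank ℂ S.toSubmodule :=
    Cfsg.Agent.Lib.Helper14.charDegree_of_natCast _ _ (Representation.char_one σ)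
  show 6 ∣ charDegree σ.character
  rw [this]
  exact h6

end Cfsg.Agent.Lib.Helper22.SixDvdRep
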