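import Mathlib
import Cfsg.Agent.Lib.Helper22.PElt

set_option autoImplicit false

/-! Isaacs: subgroups generated by small classes. -/

namespace Cfsg.Agent.Lib.Helper22.SmallClasses

open Cfsg.Agent.Lib.Helper22
open scoped commutatorElement

variable {G : Type*} [Group G]

/-- The number of `K`-conjugates of `g` is the index of `C_K(g)` in `K`. -/
theorem ncard_range_conj (K : Subgroup G) (g : G) :
    (Set.range (fun k : K => (k : G) * g * (k : G)⁻¹)).ncard =
      (Subgroup.centralizer ({g} : Set G)).relIndex K := by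
  classical
  rw [Subgroup.relIndex, Subgroup.index, ← Nat.card_coe_set_eq]
  symm
  apply Nat.card_congr
  let f : K ⧸ (Subgroup.centralizer ({g} : Set G)).subgroupOf K →
      Set.range (fun k : K => (k : G) * g * (k : G)⁻¹) := fun q =>
    Quotient.liftOn' q
      (fun k : K => (⟨(k : G) * g * (k : G)⁻¹, ⟨k, rfl⟩⟩ :
        Set.range (fun k : K => (k : G) * g * (k : G)⁻¹)))
      (by
        intro a b hab
        have h1 : a⁻¹ * b ∈ (Subgroup.centralizer ({g} : Set G)).subgroupOf K :=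
          QuotientGroup.leftRel_apply.mp hab
        have h2 : ((a : G)⁻¹ * (b : G)) * g = g * ((a : G)⁻¹ * (b : G)) := by
          have := Subgroup.mem_subgroupOf.mp h1
          simpa using Subgroup.mem_centralizer_singleton_iff.mp this
        apply Subtype.ext
        show (a : G) * g * (a : G)⁻¹ = (b : G) * g * (b : G)⁻¹
        calc (a : G) * g * (a : G)⁻¹
            = (a : G) * (g * ((a : G)⁻¹ * (b : G))) * (b : G)⁻¹ := by group
          _ = (a : G) * (((a : G)⁻¹ * (b : G)) * g) * (b : G)⁻¹ := by rw [h2]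
          _ = (b : G) * g * (b : G)⁻¹ := by group)
  refine Equiv.ofBijective f ⟨?_, ?_⟩
  · intro q1 q2 h
    induction q1 using QuotientGroup.induction_on with
    | H a =>
      induction q2 using QuotientGroup.induction_on with
      | H b =>
        rw [QuotientGroup.eq, Subgroup.mem_subgroupOf]
        have h' : (a : G) * g * (a : G)⁻¹ = (b : G) * g * (b : G)⁻¹ := congrArg Subtype.val h
        rw [Subgroup.mem_centralizer_singleton_iff]
        show ((a⁻¹ * b : K) : G) * g = g * ((a⁻¹ * b : K) : G)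
        rw [Subgroup.coe_mul, Subgroup.coe_inv]
        calc (a : G)⁻¹ * (b : G) * g = (a : G)⁻¹ * ((b : G) * g * (b : G)⁻¹) * (b : G) := by group
          _ = (a : G)⁻¹ * ((a : G) * g * (a : G)⁻¹) * (b : G) := by rw [h']
          _ = g * ((a : G)⁻¹ * (b : G)) := by group
  · rintro ⟨_, k, rfl⟩
    exact ⟨(k : K ⧸ (Subgroup.centralizer ({g} : Set G)).subgroupOf K), rfl⟩

/-- Isaacs' lemma: an element `x` of minimal non-central class size acts on a normal abelian
subgroup `A` with `[A, x] ≤ Z(G)`. -/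
theorem comm_mem_center [Finite G] (A : Subgroup G) [hAn : A.Normal] (hA : IsMulCommutative A)
    (x : G)
    (hmin : ∀ y : G, 1 < (Subgroup.centralizer ({y} : Set G)).index →
      (Subgroup.centralizer ({x} : Set G)).index ≤ (Subgroup.centralizer ({y} : Set G)).index)
    (a : G) (ha : a ∈ A) : a * x * a⁻¹ * x⁻¹ ∈ Subgroup.center G := by
  by_contra hb
  obtain ⟨b, hbdef⟩ : ∃ b : G, b = a * x * a⁻¹ * x⁻¹ := ⟨_, rfl⟩
  rw [← hbdef] at hb
  obtain ⟨C, hC⟩ : ∃ C : Subgroup G, C = Subgroup.centralizer ({x} : Set G) := ⟨_, rfl⟩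
  obtain ⟨E, hE⟩ : ∃ E : Subgroup G, E = Subgroup.centralizer ({b} : Set G) := ⟨_, rfl⟩
  have hbA : b ∈ A := by
    have h1 : x * a⁻¹ * x⁻¹ ∈ A := hAn.conj_mem a⁻¹ (A.inv_mem ha) x
    have : b = a * (x * a⁻¹ * x⁻¹) := by rw [hbdef]; group
    rw [this]; exact A.mul_mem ha h1
  have hAE : A ≤ E := by
    intro u hu
    rw [hE, Subgroup.mem_centralizer_singleton_iff]
    exact congrArg Subtype.val (hA.is_comm.comm ⟨u, hu⟩ ⟨b, hbA⟩)
  have hidx : C.index ≤ E.index := by
    rw [hC, hE]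
    apply hmin b
    rw [← hE]
    have hne0 : E.index ≠ 0 := Subgroup.index_ne_zero_of_finite
    have hne1 : E.index ≠ 1 := by
      intro h1
      apply hb
      have htop : E = ⊤ := Subgroup.index_eq_one.mp h1
      rw [Subgroup.mem_center_iff]
      intro g
      have hg : g ∈ E := by rw [htop]; trivial
      rw [hE] at hg
      exact Subgroup.mem_centralizer_singleton_iff.mp hg
    omega
  have hcard : Nat.card E ≤ Nat.card C := by
    have h1 := Subgroup.card_mul_index E
    have h2 := Subgroup.card_mul_index C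
    by_contra hlt
    push Not at hlt
    have hCi : 0 < C.index := Nat.pos_of_ne_zero Subgroup.index_ne_zero_of_finite
    have h3 : Nat.card C * C.index < Nat.card E * E.index :=
      calc Nat.card C * C.index < Nat.card E * C.index := Nat.mul_lt_mul_of_pos_right hlt hCi
        _ ≤ Nat.card E * E.index := Nat.mul_le_mul_left _ hidx
    rw [h1, h2] at h3
    exact lt_irrefl _ h3
  obtain ⟨D, hD⟩ : ∃ D : Subgroup G, D = C ⊓ E := ⟨_, rfl⟩
  have hDE : D ≤ E := by rw [hD]; exact inf_le_right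
  have hDC : D ≤ C := by rw [hD]; exact inf_le_left
  have e1 : C.relIndex A = D.relIndex A := by
    rw [← Subgroup.inf_relIndex_right C A, ← Subgroup.inf_relIndex_right D A]
    congr 1
    rw [hD, inf_assoc, inf_eq_right.mpr hAE]
  have e2 : D.relIndex A ≤ D.relIndex E := by
    apply Subgroup.relIndex_le_of_le_right hAE
    show (D.subgroupOf E).index ≠ 0
    exact Subgroup.index_ne_zero_of_finite
  have e3 : D.relIndex E ≤ D.relIndex C := by
    have h1 := card_mul_relIndex D E hDE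
    have h2 := card_mul_relIndex D C hDC
    have hDpos : 0 < Nat.card D := Nat.card_pos
    have h3 : Nat.card D * D.relIndex E ≤ Nat.card D * D.relIndex C := by
      rw [h1, h2]; exact hcard
    exact Nat.le_of_mul_le_mul_left h3 hDpos
  have e4 : D.relIndex C = E.relIndex C := by
    rw [hD]; exact Subgroup.inf_relIndex_left C E
  have e5 := ncard_range_conj C b
  rw [← hE] at e5
  have e6 := ncard_range_conj A x
  rw [← hC] at e6
  have hlt : (Set.range (fun c : C => (c : G) * b * (c : G)⁻¹)).ncard <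
      (Set.range (fun u : A => (u : G) * x * (u : G)⁻¹)).ncard := by
    have hfin : (Set.range (fun u : A => (u : G) * x * (u : G)⁻¹)).Finite := Set.toFinite _
    have himg : (fun y : G => y * x) '' (Set.range (fun c : C => (c : G) * b * (c : G)⁻¹)) ⊆
        (Set.range (fun u : A => (u : G) * x * (u : G)⁻¹)) \ {x} := by
      rintro _ ⟨_, ⟨c, rfl⟩, rfl⟩
      have hcC : (c : G) ∈ Subgroup.centralizer ({x} : Set G) := by rw [← hC]; exact c.2
      have hcx : (c : G) * x = x * (c : G) := Subgroup.mem_centralizer_singleton_iff.mp hcC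
      have hcx' : (c : G)⁻¹ * x = x * (c : G)⁻¹ := by
        calc (c : G)⁻¹ * x = (c : G)⁻¹ * (x * (c : G)) * (c : G)⁻¹ := by group
          _ = (c : G)⁻¹ * ((c : G) * x) * (c : G)⁻¹ := by rw [hcx]
          _ = x * (c : G)⁻¹ := by group
      refine ⟨⟨⟨(c : G) * a * (c : G)⁻¹, hAn.conj_mem a ha c⟩, ?_⟩, ?_⟩
      · show (c : G) * a * (c : G)⁻¹ * x * ((c : G) * a * (c : G)⁻¹)⁻¹ =
          (c : G) * b * (c : G)⁻¹ * x
        calc (c : G) * a * (c : G)⁻¹ * x * ((c : G) * a * (c : G)⁻¹)⁻¹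
            = (c : G) * a * ((c : G)⁻¹ * x) * (c : G) * a⁻¹ * (c : G)⁻¹ := by group
          _ = (c : G) * a * (x * (c : G)⁻¹) * (c : G) * a⁻¹ * (c : G)⁻¹ := by rw [hcx']
          _ = (c : G) * (a * x * a⁻¹ * x⁻¹) * (x * (c : G)⁻¹) := by group
          _ = (c : G) * (a * x * a⁻¹ * x⁻¹) * ((c : G)⁻¹ * x) := by rw [hcx']
          _ = (c : G) * b * (c : G)⁻¹ * x := by rw [hbdef]; group
      · intro hmem
        rw [Set.mem_singleton_iff] at hmem
        apply hb
        have h1 : (c : G) * b * (c : G)⁻¹ = 1 := by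
          have h0 : (c : G) * b * (c : G)⁻¹ * x = 1 * x := by rw [one_mul]; exact hmem
          exact mul_right_cancel h0
        have hb1 : b = 1 := by
          calc b = (c : G)⁻¹ * ((c : G) * b * (c : G)⁻¹) * (c : G) := by group
            _ = 1 := by rw [h1]; group
        rw [hb1]; exact Subgroup.one_mem _
    have hinj : Function.Injective (fun y : G => y * x) := mul_left_injective x
    have hxmem : x ∈ Set.range (fun u : A => (u : G) * x * (u : G)⁻¹) := ⟨1, by simp⟩
    calc (Set.range (fun c : C => (c : G) * b * (c : G)⁻¹)).ncard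
        = ((fun y : G => y * x) '' (Set.range (fun c : C => (c : G) * b * (c : G)⁻¹))).ncard :=
          (Set.ncard_image_of_injective _ hinj).symm
      _ ≤ ((Set.range (fun u : A => (u : G) * x * (u : G)⁻¹)) \ {x}).ncard :=
          Set.ncard_le_ncard himg (Set.toFinite _)
      _ < (Set.range (fun u : A => (u : G) * x * (u : G)⁻¹)).ncard :=
          Set.ncard_sdiff_singleton_lt_of_mem hxmem hfin
  omega

/-- The set of `g` with `[A, g] ≤ Z(G)` is closed under the group operations. -/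
theorem comm_mem_center_of_mem_closure (A : Subgroup G) (S : Set G)
    (hS : ∀ g ∈ S, ∀ a ∈ A, a * g * a⁻¹ * g⁻¹ ∈ Subgroup.center G) :
    ∀ g ∈ Subgroup.closure S, ∀ a ∈ A, a * g * a⁻¹ * g⁻¹ ∈ Subgroup.center G := by
  intro g hg
  induction hg using Subgroup.closure_induction with
  | mem u hu => exact hS u hu
  | one =>
    intro a _
    have : a * 1 * a⁻¹ * (1 : G)⁻¹ = 1 := by group
    rw [this]; exact Subgroup.one_mem _
  | mul u v _ _ hu hv =>
    intro a ha
    have h1 := hu a ha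
    have h2 := hv a ha
    have h3 : u * (a * v * a⁻¹ * v⁻¹) * u⁻¹ ∈ Subgroup.center G :=
      (inferInstance : (Subgroup.center G).Normal).conj_mem _ h2 u
    have : a * (u * v) * a⁻¹ * (u * v)⁻¹ =
        (a * u * a⁻¹ * u⁻¹) * (u * (a * v * a⁻¹ * v⁻¹) * u⁻¹) := by group
    rw [this]; exact Subgroup.mul_mem _ h1 h3
  | inv u _ hu =>
    intro a ha
    have h1 := hu a ha
    have h2 : u⁻¹ * (a * u * a⁻¹ * u⁻¹)⁻¹ * u⁻¹⁻¹ ∈ Subgroup.center G :=
      (inferInstance : (Subgroup.center G).Normal).conj_mem _ (Subgroup.inv_mem _ h1) u⁻¹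
    have : a * u⁻¹ * a⁻¹ * u⁻¹⁻¹ = u⁻¹ * (a * u * a⁻¹ * u⁻¹)⁻¹ * u⁻¹⁻¹ := by group
    rw [this]; exact h2

/-- If `A` is self-centralizing and `[A, M] ≤ Z(G)` then `[[M, M], M] ≤ Z(G)`. -/
theorem comm_comm_mem_center (A : Subgroup G) (hCA : Subgroup.centralizer (A : Set G) = A)
    (M : Subgroup G) (hM : ∀ g ∈ M, ∀ a ∈ A, a * g * a⁻¹ * g⁻¹ ∈ Subgroup.center G)
    (x y z : G) (hx : x ∈ M) (hy : y ∈ M) (hz : z ∈ M) :
    ⁅⁅x, y⁆, z⁆ ∈ Subgroup.center G := by
  have h1 : ⁅A, M⁆ ≤ Subgroup.center G := by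
    rw [Subgroup.commutator_le]
    intro a ha g hg
    rw [commutatorElement_def]
    exact hM g hg a ha
  have h2 : ⁅M, A⁆ ≤ Subgroup.center G := by rw [Subgroup.commutator_comm]; exact h1
  have h3 : ∀ K : Subgroup G, K ≤ Subgroup.center G → ⁅K, M⁆ = ⊥ := by
    intro K hK
    rw [Subgroup.commutator_eq_bot_iff_le_centralizer]
    intro k hk
    rw [Subgroup.mem_centralizer_iff]
    intro g _
    exact (Subgroup.mem_center_iff.mp (hK hk) g)
  have h4 : ⁅⁅M, M⁆, A⁆ = ⊥ :=
    Subgroup.commutator_commutator_eq_bot_of_rotate (h3 _ h2) (h3 _ h1)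
  have h5 : ⁅M, M⁆ ≤ A := by
    have := Subgroup.commutator_eq_bot_iff_le_centralizer.mp h4
    rwa [hCA] at this
  have h6 : ⁅x, y⁆ ∈ A := h5 (Subgroup.commutator_mem_commutator hx hy)
  have h7 := hM z hz ⁅x, y⁆ h6
  show ⁅x, y⁆ * z * ⁅x, y⁆⁻¹ * z⁻¹ ∈ Subgroup.center G
  exact h7

theorem ucs_three_eq_top (h : ∀ x y z : G, ⁅⁅x, y⁆, z⁆ ∈ Subgroup.center G) :
    Subgroup.upperCentralSeries G 3 = ⊤ := by
  rw [eq_top_iff]
  intro x _
  refine Subgroup.mem_upperCentralSeries_succ_iff.mpr ?_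
  intro y
  refine Subgroup.mem_upperCentralSeries_succ_iff.mpr ?_
  intro z
  rw [Subgroup.upperCentralSeries_one]
  exact h x y z

theorem ucs_three_eq_top_subgroup (M : Subgroup G)
    (h : ∀ x y z : G, x ∈ M → y ∈ M → z ∈ M → ⁅⁅x, y⁆, z⁆ ∈ Subgroup.center G) :
    Subgroup.upperCentralSeries ↥M 3 = ⊤ := by
  apply ucs_three_eq_top
  intro x y z
  rw [Subgroup.mem_center_iff]
  intro g
  apply Subtype.ext
  have h1 := h x y z x.2 y.2 z.2
  have h2 := Subgroup.mem_center_iff.mp h1 (g : G)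
  have h3 : ((⁅⁅x, y⁆, z⁆ : ↥M) : G) = ⁅⁅(x : G), (y : G)⁆, (z : G)⁆ := rfl
  rw [Subgroup.coe_mul, Subgroup.coe_mul, h3]
  exact h2

end Cfsg.Agent.Lib.Helper22.SmallClasses
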