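import Mathlib
import Cfsg.Prelude.Def_Classical

/-!
# Powers of elements of `Sp₆(3)` and `PSp₆(3)`  (helper22; backup piece for S3664, L side)

A symplectic matrix has a self-reciprocal characteristic polynomial, so over a field with three elements the
characteristic polynomial of `M ∈ Sp₆(F)` is one of the 27 polynomials `X⁶ + aX⁵ + bX⁴ + cX³ + bX² + aX + 1`; for each of
them `X ^ k ≡ ±1` for an explicit `k`, and Cayley-Hamilton gives `M ^ k = ±1`.  Consequences for `PSp₆(3)`: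
every element satisfies `g ^ k = 1` for some `k ∈ {13, 14, 20, 24, 30, 36}`, so there is no element of order
`21, 35, 91, 26, 39, 65` and every prime order is in `{2, 3, 5, 7, 13}`.
-/

set_option autoImplicit false
set_option linter.unusedSimpArgs false

namespace Cfsg.Agent.Lib.Helper22.Sp63Pow

open Matrix Polynomial

variable {F : Type*} [Field F]

abbrev I6 := Fin 3 ⊕ Fin 3

/-- the characteristic polynomial of a symplectic matrix is self-reciprocal -/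
theorem charpoly_reverse_of_symplectic {l : Type*} [Fintype l] [DecidableEq l]
    (A : Matrix (l ⊕ l) (l ⊕ l) F) (hA : A ∈ symplecticGroup l F) :
    A.charpoly.reverse = A.charpoly := by
  have hdet : A.det = 1 := SymplecticGroup.det_eq_one hA
  have hu : IsUnit A := (Matrix.isUnit_iff_isUnit_det A).mpr (by rw [hdet]; exact isUnit_one)
  have h1 : A⁻¹.charpoly = A.charpolyRev := by
    rw [Matrix.charpoly_inv A hu, hdet]
    have hc : Fintype.card (l ⊕ l) = 2 * Fintype.card l := by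
      rw [Fintype.card_sum]; ring
    rw [hc, pow_mul]
    simp
  have h2 : A⁻¹.charpoly = A.charpoly := by
    rw [SymplecticGroup.inv_eq_symplectic_inv A hA]
    have hJu : IsUnit (J l F) := (Matrix.isUnit_iff_isUnit_det _).mpr (isUnit_det_J l F)
    obtain ⟨u, hu'⟩ := hJu
    have hinv : (u⁻¹ : (Matrix (l ⊕ l) (l ⊕ l) F)ˣ).val = -J l F := by
      have : (u.val)⁻¹ = -J l F := by rw [hu']; exact J_inv l F
      rw [← this]
      exact (Matrix.coe_units_inv u)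
    have := Matrix.charpoly_units_conj' u Aᵀ
    rw [← Matrix.coe_units_inv, hinv, hu'] at this
    rw [this, Matrix.charpoly_transpose]
  rw [Matrix.reverse_charpoly, ← h1, h2]


/-- the characteristic polynomial of `M ∈ Sp₆(F)` is `X⁶ + aX⁵ + bX⁴ + cX³ + bX² + aX + 1` -/
theorem charpoly_form (M : Matrix I6 I6 F) (hM : M ∈ symplecticGroup (Fin 3) F) :
    ∃ a b c : F, M.charpoly =
      X ^ 6 + C a * X ^ 5 + C b * X ^ 4 + C c * X ^ 3 + C b * X ^ 2 + C a * X + C 1 := by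
  have hdet : M.det = 1 := SymplecticGroup.det_eq_one hM
  have hm := M.charpoly_monic
  have hd : M.charpoly.natDegree = 6 := by
    rw [Matrix.charpoly_natDegree_eq_dim]; simp
  have h0 : M.charpoly.coeff 0 = 1 := by
    have h := Matrix.det_eq_sign_charpoly_coeff M
    rw [hdet] at h
    have h6 : Fintype.card I6 = 6 := by simp
    rw [h6] at h
    linear_combination -h
  have hrev := charpoly_reverse_of_symplectic M hM
  have hc : ∀ n, M.charpoly.coeff n = M.charpoly.coeff (revAt 6 n) := by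
    intro n
    have := congrArg (fun p => p.coeff n) hrev
    simp only [coeff_reverse, hd] at this
    exact this.symm
  have h5 : M.charpoly.coeff 1 = M.charpoly.coeff 5 := by
    have := hc 1
    rwa [show revAt 6 1 = 5 from by decide] at this
  have h4 : M.charpoly.coeff 2 = M.charpoly.coeff 4 := by
    have := hc 2
    rwa [show revAt 6 2 = 4 from by decide] at this
  refine ⟨M.charpoly.coeff 5, M.charpoly.coeff 4, M.charpoly.coeff 3, ?_⟩
  conv_lhs => rw [hm.as_sum, hd]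
  simp only [Finset.sum_range_succ, Finset.sum_range_zero, h0, h5, h4, pow_zero, pow_one, mul_one,
    zero_add]
  ring


section card3

variable [Fintype F]

theorem three_eq_zero (hF : Fintype.card F = 3) : (3 : F) = 0 := by
  have : Fact (Nat.Prime 3) := ⟨Nat.prime_three⟩
  have := charP_of_card_eq_prime hF
  exact_mod_cast CharP.cast_eq_zero F 3

theorem elts (hF : Fintype.card F = 3) (x : F) : x = 0 ∨ x = 1 ∨ x = -1 := by
  classical
  have h3 : (3 : F) = 0 := three_eq_zero hF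
  have h01 : (0 : F) ≠ 1 := zero_ne_one
  have h1m : (1 : F) ≠ -1 := by
    intro h
    have : (1 : F) = 0 := by linear_combination h3 - h
    exact one_ne_zero this
  have h0m : (0 : F) ≠ -1 := by
    intro h
    have : (1 : F) = 0 := by linear_combination h
    exact one_ne_zero this
  have hs : ({0, 1, -1} : Finset F).card = 3 :=
    Finset.card_eq_three.mpr ⟨0, 1, -1, h01, h0m, h1m, rfl⟩
  have hu : ({0, 1, -1} : Finset F) = Finset.univ :=
    Finset.eq_univ_of_card _ (by rw [hs, hF])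
  have hx : x ∈ ({0, 1, -1} : Finset F) := by rw [hu]; exact Finset.mem_univ x
  simpa using hx

/-- every element of `Sp₆(3)` has an explicit power equal to `±1` -/
theorem sp6_pow (hF : Fintype.card F = 3) (M : Matrix I6 I6 F) (hM : M ∈ symplecticGroup (Fin 3) F) :
    ∃ k ∈ ({6, 7, 8, 9, 12, 13, 14, 15, 18, 20, 24, 30, 36} : Finset ℕ), M ^ k = 1 ∨ M ^ k = -1 := by
  have h3F : (3 : F) = 0 := three_eq_zero hF
  have h3 : (3 : F[X]) = 0 := by
    have h : (C (3 : F) : F[X]) = 0 := by rw [h3F, map_zero]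
    rwa [map_ofNat] at h
  obtain ⟨a, b, c, hP⟩ := charpoly_form M hM
  have hae : aeval M (X ^ 6 + C a * X ^ 5 + C b * X ^ 4 + C c * X ^ 3 + C b * X ^ 2 + C a * X + C 1 : F[X]) = 0 := by
    rw [← hP]; exact Matrix.aeval_self_charpoly M
  have finp : ∀ (n : ℕ) (Q : F[X]),
      (X ^ n - 1 : F[X]) = (X ^ 6 + C a * X ^ 5 + C b * X ^ 4 + C c * X ^ 3 + C b * X ^ 2 + C a * X + C 1) * Q →
        M ^ n = 1 := by
    intro n Q h
    have h' := congrArg (aeval M) h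
    rw [map_mul, hae, zero_mul, map_sub, map_pow, aeval_X, map_one] at h'
    exact sub_eq_zero.mp h'
  have finm : ∀ (n : ℕ) (Q : F[X]),
      (X ^ n + 1 : F[X]) = (X ^ 6 + C a * X ^ 5 + C b * X ^ 4 + C c * X ^ 3 + C b * X ^ 2 + C a * X + C 1) * Q →
        M ^ n = -1 := by
    intro n Q h
    have h' := congrArg (aeval M) h
    rw [map_mul, hae, zero_mul, map_add, map_pow, aeval_X, map_one] at h'
    exact eq_neg_of_add_eq_zero_left h'
  rcases elts hF a with rfl | rfl | rfl <;> rcases elts hF b with rfl | rfl | rfl <;>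
    rcases elts hF c with rfl | rfl | rfl
  · -- a = 0, b = 0, c = 0
    refine ⟨6, by decide, Or.inr (finm 6 (1) ?_)⟩
    simp only [map_zero, map_one, map_neg]
    linear_combination (0 : F[X]) * h3
  · -- a = 0, b = 0, c = 1
    refine ⟨9, by decide, Or.inl (finp 9 (-1 + X ^ 3) ?_)⟩
    simp only [map_zero, map_one, map_neg]
    linear_combination (0 : F[X]) * h3
  · -- a = 0, b = 0, c = -1
    refine ⟨9, by decide, Or.inr (finm 9 (1 + X ^ 3) ?_)⟩
    simp only [map_zero, map_one, map_neg]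
    linear_combination (0 : F[X]) * h3
  · -- a = 0, b = 1, c = 0
    refine ⟨8, by decide, Or.inl (finp 8 (-1 + X ^ 2) ?_)⟩
    simp only [map_zero, map_one, map_neg]
    linear_combination (0 : F[X]) * h3
  · -- a = 0, b = 1, c = 1
    refine ⟨30, by decide, Or.inl (finp 30 (-1 + X ^ 2 + X ^ 3 + X ^ 5 - X ^ 6 + X ^ 7 - X ^ 8 + X ^ 9 + X ^ 10 + X ^ 11 - X ^ 13 - X ^ 14 - X ^ 15 + X ^ 16 - X ^ 17 + X ^ 18 - X ^ 19 - X ^ 21 - X ^ 22 + X ^ 24) ?_)⟩
    simp only [map_zero, map_one, map_neg]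
    linear_combination (-X ^ 5 - X ^ 7 - X ^ 9 - X ^ 11 - X ^ 13 + X ^ 17 + X ^ 19 + X ^ 21 + X ^ 23 + X ^ 25 : F[X]) * h3
  · -- a = 0, b = 1, c = -1
    refine ⟨30, by decide, Or.inl (finp 30 (-1 + X ^ 2 - X ^ 3 - X ^ 5 - X ^ 6 - X ^ 7 - X ^ 8 - X ^ 9 + X ^ 10 - X ^ 11 + X ^ 13 - X ^ 14 + X ^ 15 + X ^ 16 + X ^ 17 + X ^ 18 + X ^ 19 + X ^ 21 - X ^ 22 + X ^ 24) ?_)⟩
    simp only [map_zero, map_one, map_neg]
    linear_combination (X ^ 5 + X ^ 7 + X ^ 9 + X ^ 11 + X ^ 13 - X ^ 17 - X ^ 19 - X ^ 21 - X ^ 23 - X ^ 25 : F[X]) * h3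
  · -- a = 0, b = -1, c = 0
    refine ⟨12, by decide, Or.inl (finp 12 (-1 - X ^ 2 + X ^ 4 + X ^ 6) ?_)⟩
    simp only [map_zero, map_one, map_neg]
    linear_combination (-X ^ 4 + X ^ 8 : F[X]) * h3
  · -- a = 0, b = -1, c = 1
    refine ⟨13, by decide, Or.inr (finm 13 (1 + X ^ 2 - X ^ 3 - X ^ 4 + X ^ 5 + X ^ 7) ?_)⟩
    simp only [map_zero, map_one, map_neg]
    linear_combination (X ^ 4 - X ^ 5 - X ^ 8 + X ^ 9 : F[X]) * h3
  · -- a = 0, b = -1, c = -1
    refine ⟨13, by decide, Or.inl (finp 13 (-1 - X ^ 2 - X ^ 3 + X ^ 4 + X ^ 5 + X ^ 7) ?_)⟩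
    simp only [map_zero, map_one, map_neg]
    linear_combination (-X ^ 4 - X ^ 5 + X ^ 8 + X ^ 9 : F[X]) * h3
  · -- a = 1, b = 0, c = 0
    refine ⟨15, by decide, Or.inr (finm 15 (1 - X + X ^ 2 - X ^ 3 + X ^ 4 + X ^ 5 - X ^ 6 + X ^ 7 - X ^ 8 + X ^ 9) ?_)⟩
    simp only [map_zero, map_one, map_neg]
    linear_combination (-X ^ 5 - X ^ 10 : F[X]) * h3
  · -- a = 1, b = 0, c = 1
    refine ⟨14, by decide, Or.inr (finm 14 (1 - X + X ^ 2 + X ^ 3 + X ^ 5 + X ^ 6 - X ^ 7 + X ^ 8) ?_)⟩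
    simp only [map_zero, map_one, map_neg]
    linear_combination (-X ^ 3 - X ^ 5 - X ^ 6 - X ^ 8 - X ^ 9 - X ^ 11 : F[X]) * h3
  · -- a = 1, b = 0, c = -1
    refine ⟨12, by decide, Or.inl (finp 12 (-1 + X - X ^ 2 + X ^ 4 - X ^ 5 + X ^ 6) ?_)⟩
    simp only [map_zero, map_one, map_neg]
    linear_combination (0 : F[X]) * h3
  · -- a = 1, b = 1, c = 0
    refine ⟨24, by decide, Or.inl (finp 24 (-1 + X - X ^ 3 - X ^ 4 - X ^ 5 - X ^ 6 - X ^ 7 + X ^ 8 - X ^ 10 + X ^ 11 + X ^ 12 + X ^ 13 + X ^ 14 + X ^ 15 - X ^ 17 + X ^ 18) ?_)⟩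
    simp only [map_zero, map_one, map_neg]
    linear_combination (X ^ 4 + X ^ 5 + X ^ 6 + X ^ 7 + X ^ 8 + X ^ 9 + X ^ 10 + X ^ 11 - X ^ 13 - X ^ 14 - X ^ 15 - X ^ 16 - X ^ 17 - X ^ 18 - X ^ 19 - X ^ 20 : F[X]) * h3
  · -- a = 1, b = 1, c = 1
    refine ⟨7, by decide, Or.inl (finp 7 (-1 + X) ?_)⟩
    simp only [map_zero, map_one, map_neg]
    linear_combination (0 : F[X]) * h3
  · -- a = 1, b = 1, c = -1
    refine ⟨36, by decide, Or.inl (finp 36 (-1 + X + X ^ 3 + X ^ 4 + X ^ 5 - X ^ 6 - X ^ 7 + X ^ 8 - X ^ 9 + X ^ 10 - X ^ 11 + X ^ 14 - X ^ 16 + X ^ 19 - X ^ 20 + X ^ 21 - X ^ 22 + X ^ 23 + X ^ 24 - X ^ 25 - X ^ 26 - X ^ 27 - X ^ 29 + X ^ 30) ?_)⟩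
    simp only [map_zero, map_one, map_neg]
    linear_combination (-X ^ 3 - X ^ 5 - X ^ 9 - X ^ 10 + X ^ 11 + X ^ 13 - X ^ 14 + X ^ 17 - X ^ 19 + X ^ 22 - X ^ 23 - X ^ 25 + X ^ 26 + X ^ 27 + X ^ 31 + X ^ 33 : F[X]) * h3
  · -- a = 1, b = -1, c = 0
    refine ⟨13, by decide, Or.inl (finp 13 (-1 + X + X ^ 2 - X ^ 5 - X ^ 6 + X ^ 7) ?_)⟩
    simp only [map_zero, map_one, map_neg]
    linear_combination (-X ^ 2 + X ^ 5 + X ^ 6 - X ^ 7 - X ^ 8 + X ^ 11 : F[X]) * h3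
  · -- a = 1, b = -1, c = 1
    refine ⟨18, by decide, Or.inl (finp 18 (-1 + X + X ^ 2 + X ^ 3 + X ^ 4 + X ^ 5 - X ^ 7 - X ^ 8 - X ^ 9 - X ^ 10 - X ^ 11 + X ^ 12) ?_)⟩
    simp only [map_zero, map_one, map_neg]
    linear_combination (-X ^ 2 - X ^ 4 + X ^ 14 + X ^ 16 : F[X]) * h3
  · -- a = 1, b = -1, c = -1
    refine ⟨20, by decide, Or.inl (finp 20 (-1 + X + X ^ 2 - X ^ 3 - X ^ 4 - X ^ 6 + X ^ 8 + X ^ 10 + X ^ 11 - X ^ 12 - X ^ 13 + X ^ 14) ?_)⟩
    simp only [map_zero, map_one, map_neg]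
    linear_combination (-X ^ 2 + X ^ 4 + X ^ 5 - X ^ 7 - X ^ 8 + X ^ 12 + X ^ 13 - X ^ 15 - X ^ 16 + X ^ 18 : F[X]) * h3
  · -- a = -1, b = 0, c = 0
    refine ⟨15, by decide, Or.inl (finp 15 (-1 - X - X ^ 2 - X ^ 3 - X ^ 4 + X ^ 5 + X ^ 6 + X ^ 7 + X ^ 8 + X ^ 9) ?_)⟩
    simp only [map_zero, map_one, map_neg]
    linear_combination (-X ^ 5 + X ^ 10 : F[X]) * h3
  · -- a = -1, b = 0, c = 1
    refine ⟨12, by decide, Or.inl (finp 12 (-1 - X - X ^ 2 + X ^ 4 + X ^ 5 + X ^ 6) ?_)⟩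
    simp only [map_zero, map_one, map_neg]
    linear_combination (0 : F[X]) * h3
  · -- a = -1, b = 0, c = -1
    refine ⟨14, by decide, Or.inr (finm 14 (1 + X + X ^ 2 - X ^ 3 - X ^ 5 + X ^ 6 + X ^ 7 + X ^ 8) ?_)⟩
    simp only [map_zero, map_one, map_neg]
    linear_combination (X ^ 3 + X ^ 5 - X ^ 6 - X ^ 8 + X ^ 9 + X ^ 11 : F[X]) * h3
  · -- a = -1, b = 1, c = 0
    refine ⟨24, by decide, Or.inl (finp 24 (-1 - X + X ^ 3 - X ^ 4 + X ^ 5 - X ^ 6 + X ^ 7 + X ^ 8 - X ^ 10 - X ^ 11 + X ^ 12 - X ^ 13 + X ^ 14 - X ^ 15 + X ^ 17 + X ^ 18) ?_)⟩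
    simp only [map_zero, map_one, map_neg]
    linear_combination (X ^ 4 - X ^ 5 + X ^ 6 - X ^ 7 + X ^ 8 - X ^ 9 + X ^ 10 - X ^ 11 + X ^ 13 - X ^ 14 + X ^ 15 - X ^ 16 + X ^ 17 - X ^ 18 + X ^ 19 - X ^ 20 : F[X]) * h3
  · -- a = -1, b = 1, c = 1
    refine ⟨36, by decide, Or.inl (finp 36 (-1 - X - X ^ 3 + X ^ 4 - X ^ 5 - X ^ 6 + X ^ 7 + X ^ 8 + X ^ 9 + X ^ 10 + X ^ 11 + X ^ 14 - X ^ 16 - X ^ 19 - X ^ 20 - X ^ 21 - X ^ 22 - X ^ 23 + X ^ 24 + X ^ 25 - X ^ 26 + X ^ 27 + X ^ 29 + X ^ 30) ?_)⟩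
    simp only [map_zero, map_one, map_neg]
    linear_combination (X ^ 3 + X ^ 5 + X ^ 9 - X ^ 10 - X ^ 11 - X ^ 13 - X ^ 14 - X ^ 17 + X ^ 19 + X ^ 22 + X ^ 23 + X ^ 25 + X ^ 26 - X ^ 27 - X ^ 31 - X ^ 33 : F[X]) * h3
  · -- a = -1, b = 1, c = -1
    refine ⟨7, by decide, Or.inr (finm 7 (1 + X) ?_)⟩
    simp only [map_zero, map_one, map_neg]
    linear_combination (0 : F[X]) * h3
  · -- a = -1, b = -1, c = 0
    refine ⟨13, by decide, Or.inr (finm 13 (1 + X - X ^ 2 - X ^ 5 + X ^ 6 + X ^ 7) ?_)⟩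
    simp only [map_zero, map_one, map_neg]
    linear_combination (X ^ 2 + X ^ 5 - X ^ 6 - X ^ 7 + X ^ 8 + X ^ 11 : F[X]) * h3
  · -- a = -1, b = -1, c = 1
    refine ⟨20, by decide, Or.inl (finp 20 (-1 - X + X ^ 2 + X ^ 3 - X ^ 4 - X ^ 6 + X ^ 8 + X ^ 10 - X ^ 11 - X ^ 12 + X ^ 13 + X ^ 14) ?_)⟩
    simp only [map_zero, map_one, map_neg]
    linear_combination (-X ^ 2 + X ^ 4 - X ^ 5 + X ^ 7 - X ^ 8 + X ^ 12 - X ^ 13 + X ^ 15 - X ^ 16 + X ^ 18 : F[X]) * h3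
  · -- a = -1, b = -1, c = -1
    refine ⟨18, by decide, Or.inl (finp 18 (-1 - X + X ^ 2 - X ^ 3 + X ^ 4 - X ^ 5 + X ^ 7 - X ^ 8 + X ^ 9 - X ^ 10 + X ^ 11 + X ^ 12) ?_)⟩
    simp only [map_zero, map_one, map_neg]
    linear_combination (-X ^ 2 - X ^ 4 + X ^ 14 + X ^ 16 : F[X]) * h3

end card3

/-! ### consequences for `PSp₆(3)` -/

section psp

variable [Fintype F]

omit [Fintype F] in
/-- `-1` as an element of the symplectic group -/
def negOne : symplecticGroup (Fin 3) F := ⟨-1, SymplecticGroup.neg_mem (one_mem _)⟩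

omit [Fintype F] in
theorem negOne_mem_center : (negOne : symplecticGroup (Fin 3) F) ∈ Subgroup.center (symplecticGroup (Fin 3) F) := by
  rw [Subgroup.mem_center_iff]
  intro g
  apply Subtype.ext
  show (g : Matrix I6 I6 F) * (-1) = (-1) * (g : Matrix I6 I6 F)
  rw [mul_neg, mul_one, neg_mul, one_mul]

/-- every element of `PSp₆(3)` is killed by one of the exponents of the raw list -/
theorem psp6_pow_raw (hF : Fintype.card F = 3) (g : Cfsg.PSp 3 F) :
    ∃ k ∈ ({6, 7, 8, 9, 12, 13, 14, 15, 18, 20, 24, 30, 36} : Finset ℕ), g ^ k = 1 := by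
  induction g using QuotientGroup.induction_on with
  | H M =>
    obtain ⟨k, hk, h⟩ := sp6_pow hF (M : Matrix I6 I6 F) M.2
    refine ⟨k, hk, ?_⟩
    rw [← QuotientGroup.mk_pow, QuotientGroup.eq_one_iff]
    rcases h with h | h
    · have : M ^ k = 1 := by
        apply Subtype.ext
        rw [SubmonoidClass.coe_pow, h]
        rfl
      rw [this]
      exact one_mem _
    · have : M ^ k = negOne := by
        apply Subtype.ext
        rw [SubmonoidClass.coe_pow, h]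
        rfl
      rw [this]
      exact negOne_mem_center

/-- every element of `PSp₆(3)` is killed by `13, 14, 20, 24, 30` or `36` -/
theorem psp6_pow (hF : Fintype.card F = 3) (g : Cfsg.PSp 3 F) :
    ∃ k ∈ ({13, 14, 20, 24, 30, 36} : Finset ℕ), g ^ k = 1 := by
  obtain ⟨k, hk, h⟩ := psp6_pow_raw hF g
  have key : ∀ a b : ℕ, g ^ a = 1 → g ^ (a * b) = 1 := fun a b ha => by rw [pow_mul, ha, one_pow]
  simp only [Finset.mem_insert, Finset.mem_singleton] at hk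
  rcases hk with rfl | rfl | rfl | rfl | rfl | rfl | rfl | rfl | rfl | rfl | rfl | rfl | rfl
  · exact ⟨24, by decide, key 6 4 h⟩
  · exact ⟨14, by decide, key 7 2 h⟩
  · exact ⟨24, by decide, key 8 3 h⟩
  · exact ⟨36, by decide, key 9 4 h⟩
  · exact ⟨24, by decide, key 12 2 h⟩
  · exact ⟨13, by decide, h⟩
  · exact ⟨14, by decide, h⟩
  · exact ⟨30, by decide, key 15 2 h⟩
  · exact ⟨36, by decide, key 18 2 h⟩
  · exact ⟨20, by decide, h⟩
  · exact ⟨24, by decide, h⟩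
  · exact ⟨30, by decide, h⟩
  · exact ⟨36, by decide, h⟩

/-- the order of an element of `PSp₆(3)` divides `13, 14, 20, 24, 30` or `36` -/
theorem orderOf_dvd (hF : Fintype.card F = 3) (g : Cfsg.PSp 3 F) :
    ∃ k ∈ ({13, 14, 20, 24, 30, 36} : Finset ℕ), orderOf g ∣ k := by
  obtain ⟨k, hk, h⟩ := psp6_pow hF g
  exact ⟨k, hk, orderOf_dvd_of_pow_eq_one h⟩

/-- `PSp₆(3)` has no element of order `21, 35, 91, 26, 39, 65`: the non-edges of its prime graph -/
theorem not_exists_orderOf (hF : Fintype.card F = 3) :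
    ∀ n ∈ ({21, 35, 91, 26, 39, 65} : Finset ℕ), ¬ ∃ g : Cfsg.PSp 3 F, orderOf g = n := by
  intro n hn
  rintro ⟨g, hg⟩
  obtain ⟨k, hk, hd⟩ := orderOf_dvd hF g
  rw [hg] at hd
  simp only [Finset.mem_insert, Finset.mem_singleton] at hn hk
  rcases hn with rfl | rfl | rfl | rfl | rfl | rfl <;>
    rcases hk with rfl | rfl | rfl | rfl | rfl | rfl <;> revert hd <;> decide

/-- a prime divisor of one of the exponents is `2, 3, 5, 7` or `13` -/
theorem prime_of_dvd (p : ℕ) (hp : p.Prime) (k : ℕ) (hk : k ∈ ({13, 14, 20, 24, 30, 36} : Finset ℕ)) (hd : p ∣ k) :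
    p ∈ ({2, 3, 5, 7, 13} : Finset ℕ) := by
  simp only [Finset.mem_insert, Finset.mem_singleton] at hk
  have hple : p ≤ 36 := by
    rcases hk with rfl | rfl | rfl | rfl | rfl | rfl <;> exact (Nat.le_of_dvd (by norm_num) hd).trans (by norm_num)
  interval_cases p <;> first | (exfalso; revert hp; decide) | decide |
    (exfalso; rcases hk with rfl | rfl | rfl | rfl | rfl | rfl <;> revert hd <;> decide)

/-- more generally: if `p q` are distinct primes and `PSp₆(3)` has an element of order `p * q`, then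
`p * q ∈ {6, 10, 15, 14}` -/
theorem mul_mem_of_orderOf (hF : Fintype.card F = 3) (p q : ℕ) (hp : p.Prime) (hq : q.Prime) (hpq : p ≠ q)
    (h : ∃ g : Cfsg.PSp 3 F, orderOf g = p * q) : p * q ∈ ({6, 10, 15, 14} : Finset ℕ) := by
  obtain ⟨g, hg⟩ := h
  obtain ⟨k, hk, hd⟩ := orderOf_dvd hF g
  rw [hg] at hd
  have hpk : p ∣ k := (Dvd.intro _ rfl).trans hd
  have hqk : q ∣ k := (Dvd.intro_left _ rfl).trans hd
  have hp5 := prime_of_dvd p hp k hk hpk
  have hq5 := prime_of_dvd q hq k hk hqk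
  simp only [Finset.mem_insert, Finset.mem_singleton] at hk hp5 hq5
  rcases hp5 with rfl | rfl | rfl | rfl | rfl <;> rcases hq5 with rfl | rfl | rfl | rfl | rfl <;>
    first | (exfalso; exact hpq rfl) | decide |
      (exfalso; rcases hk with rfl | rfl | rfl | rfl | rfl | rfl <;> revert hd <;> decide)

/-- every element of prime order of `PSp₆(3)` has order `2, 3, 5, 7` or `13` -/
theorem prime_mem_of_orderOf (hF : Fintype.card F = 3) (p : ℕ) (hp : p.Prime)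
    (h : ∃ g : Cfsg.PSp 3 F, orderOf g = p) : p ∈ ({2, 3, 5, 7, 13} : Finset ℕ) := by
  obtain ⟨g, hg⟩ := h
  obtain ⟨k, hk, hd⟩ := orderOf_dvd hF g
  rw [hg] at hd
  exact prime_of_dvd p hp k hk hd

/-- the prime divisors of `|PSp₆(3)|` are among `2, 3, 5, 7, 13` -/
theorem prime_mem_of_dvd_card (hF : Fintype.card F = 3) (p : ℕ) (hp : p.Prime)
    (h : p ∣ Nat.card (Cfsg.PSp 3 F)) : p ∈ ({2, 3, 5, 7, 13} : Finset ℕ) := by
  have : Fact p.Prime := ⟨hp⟩
  obtain ⟨g, hg⟩ := exists_prime_orderOf_dvd_card' p h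
  exact prime_mem_of_orderOf hF p hp ⟨g, hg⟩

end psp

end Cfsg.Agent.Lib.Helper22.Sp63Pow
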