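import Mathlib

/-!
# The spectrum of the alternating group of degree 10  (helper22; piece for S3489)

`Set.range (orderOf : alternatingGroup (Fin 10) → ℕ) = {1,2,3,4,5,6,7,8,9,10,12,15,21}`.

Method: for a permutation of `Fin 10` the triple `(sum, lcm, card)` of its cycle type lies in an explicit set of 42 triples,
closed under "add a part `2 ≤ x` while the sum stays `≤ 10`" (multiset induction + one small `decide`); the sign is
`(-1)^(sum + card)`. Witnesses come from Mathlib's `Equiv.Perm.exists_with_cycleType_iff`.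
-/

set_option autoImplicit false

namespace Cfsg.Agent.Lib.Helper22.SpecA10

open Equiv Equiv.Perm

/-- the reachable triples `(sum, lcm, card)` of multisets with parts `≥ 2` and sum `≤ 10` -/
def Rl : List (ℕ × ℕ × ℕ) :=
  [(0, 1, 0), (2, 2, 1), (3, 3, 1), (4, 2, 2), (4, 4, 1), (5, 5, 1), (5, 6, 2), (6, 2, 3), (6, 3, 2), (6, 4, 2),
   (6, 6, 1), (7, 6, 3), (7, 7, 1), (7, 10, 2), (7, 12, 2), (8, 2, 4), (8, 4, 2), (8, 4, 3), (8, 6, 2), (8, 6, 3),
   (8, 8, 1), (8, 15, 2), (9, 3, 3), (9, 6, 2), (9, 6, 4), (9, 9, 1), (9, 10, 3), (9, 12, 3), (9, 14, 2), (9, 20, 2),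
   (10, 2, 5), (10, 4, 3), (10, 4, 4), (10, 5, 2), (10, 6, 3), (10, 6, 4), (10, 8, 2), (10, 10, 1), (10, 12, 2),
   (10, 12, 3), (10, 21, 2), (10, 30, 3)]

/-- add a part `x` -/
def step (x : ℕ) (t : ℕ × ℕ × ℕ) : ℕ × ℕ × ℕ := (x + t.1, Nat.lcm x t.2.1, t.2.2 + 1)

theorem Rl_closed : ∀ t ∈ Rl, ∀ x ∈ List.range 11, 2 ≤ x → x + t.1 ≤ 10 → step x t ∈ Rl := by
  decide

theorem Rl_even : ∀ t ∈ Rl, (t.1 + t.2.2) % 2 = 0 →
    t.2.1 ∈ ({1, 2, 3, 4, 5, 6, 7, 8, 9, 10, 12, 15, 21} : Finset ℕ) := by
  decide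

theorem Rl_all : ∀ t ∈ Rl,
    t.2.1 ∈ ({1, 2, 3, 4, 5, 6, 7, 8, 9, 10, 12, 14, 15, 20, 21, 30} : Finset ℕ) := by
  decide

/-- the triple of a multiset with parts `≥ 2` and sum `≤ 10` is reachable -/
theorem triple_mem (m : Multiset ℕ) : (∀ x ∈ m, 2 ≤ x) → m.sum ≤ 10 →
    (m.sum, m.lcm, Multiset.card m) ∈ Rl := by
  induction m using Multiset.induction_on with
  | empty =>
    intro _ _
    rw [Multiset.sum_zero, Multiset.lcm_zero, Multiset.card_zero]
    decide
  | cons x m ih =>
    intro h2 hs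
    rw [Multiset.sum_cons] at hs
    have hx2 : 2 ≤ x := h2 x (Multiset.mem_cons_self x m)
    have hm2 : ∀ y ∈ m, 2 ≤ y := fun y hy => h2 y (Multiset.mem_cons_of_mem hy)
    have hms : m.sum ≤ 10 := by omega
    have h := Rl_closed _ (ih hm2 hms) x (List.mem_range.mpr (by omega)) hx2 hs
    rw [Multiset.sum_cons, Multiset.lcm_cons, Multiset.card_cons, lcm_eq_nat_lcm]
    exact h

/-- every element order of `S₁₀` -/
theorem orderOf_mem (g : Perm (Fin 10)) :
    orderOf g ∈ ({1, 2, 3, 4, 5, 6, 7, 8, 9, 10, 12, 14, 15, 20, 21, 30} : Finset ℕ) := by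
  have h := triple_mem g.cycleType (fun x hx => two_le_of_mem_cycleType hx)
    (by have := sum_cycleType_le g; simpa using this)
  have := Rl_all _ h
  rwa [lcm_cycleType] at this

/-- every element order of `A₁₀` -/
theorem orderOf_mem_of_sign (g : Perm (Fin 10)) (hg : sign g = 1) :
    orderOf g ∈ ({1, 2, 3, 4, 5, 6, 7, 8, 9, 10, 12, 15, 21} : Finset ℕ) := by
  have h := triple_mem g.cycleType (fun x hx => two_le_of_mem_cycleType hx)
    (by have := sum_cycleType_le g; simpa using this)
  have hpar : (g.cycleType.sum + Multiset.card g.cycleType) % 2 = 0 := by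
    rw [sign_of_cycleType] at hg
    rcases Nat.even_or_odd (g.cycleType.sum + Multiset.card g.cycleType) with he | ho
    · exact Nat.even_iff.mp he
    · rw [ho.neg_one_pow] at hg
      exact absurd hg (by decide)
  have := Rl_even _ h hpar
  rwa [lcm_cycleType] at this

/-- a permutation of `Fin 10` with a given cycle type -/
theorem exists_of_cycleType (m : Multiset ℕ) (hs : m.sum ≤ 10) (h2 : ∀ a ∈ m, 2 ≤ a)
    (hpar : Even (m.sum + Multiset.card m)) :
    ∃ g : alternatingGroup (Fin 10), orderOf g = m.lcm := by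
  obtain ⟨g, hg⟩ := (exists_with_cycleType_iff (α := Fin 10)).mpr ⟨by simpa using hs, h2⟩
  have hsg : sign g = 1 := by
    rw [sign_of_cycleType, hg, hpar.neg_one_pow]
  refine ⟨⟨g, mem_alternatingGroup.mpr hsg⟩, ?_⟩
  rw [← Subgroup.orderOf_coe, ← lcm_cycleType, hg]

theorem range_orderOf_A10_finset :
    Set.range (orderOf : alternatingGroup (Fin 10) → ℕ) =
      (↑({1, 2, 3, 4, 5, 6, 7, 8, 9, 10, 12, 15, 21} : Finset ℕ) : Set ℕ) := by
  ext n
  constructor
  · rintro ⟨g, rfl⟩
    rw [← Subgroup.orderOf_coe]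
    exact orderOf_mem_of_sign (g : Perm (Fin 10)) (mem_alternatingGroup.mp g.2)
  · intro hn
    rw [Finset.mem_coe] at hn
    simp only [Finset.mem_insert, Finset.mem_singleton] at hn
    rcases hn with rfl | rfl | rfl | rfl | rfl | rfl | rfl | rfl | rfl | rfl | rfl | rfl | rfl
    · exact exists_of_cycleType 0 (by decide) (by decide) (by decide)
    · exact exists_of_cycleType {2, 2} (by decide) (by decide) (by decide)
    · exact exists_of_cycleType {3} (by decide) (by decide) (by decide)
    · exact exists_of_cycleType {4, 2} (by decide) (by decide) (by decide)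
    · exact exists_of_cycleType {5} (by decide) (by decide) (by decide)
    · exact exists_of_cycleType {3, 2, 2} (by decide) (by decide) (by decide)
    · exact exists_of_cycleType {7} (by decide) (by decide) (by decide)
    · exact exists_of_cycleType {8, 2} (by decide) (by decide) (by decide)
    · exact exists_of_cycleType {9} (by decide) (by decide) (by decide)
    · exact exists_of_cycleType {5, 2, 2} (by decide) (by decide) (by decide)
    · exact exists_of_cycleType {4, 3, 2} (by decide) (by decide) (by decide)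
    · exact exists_of_cycleType {5, 3} (by decide) (by decide) (by decide)
    · exact exists_of_cycleType {7, 3} (by decide) (by decide) (by decide)

/-- the spectrum of `A₁₀` -/
theorem range_orderOf_A10 :
    Set.range (orderOf : alternatingGroup (Fin 10) → ℕ) = ({1, 2, 3, 4, 5, 6, 7, 8, 9, 10, 12, 15, 21} : Set ℕ) := by
  rw [range_orderOf_A10_finset]
  ext n
  simp

end Cfsg.Agent.Lib.Helper22.SpecA10
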