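import Mathlib

/-!
# The spectrum of the symmetric group of degree 8  (helper22)

`Set.range (orderOf : Equiv.Perm (Fin 8) → ℕ) = {1, 2, 3, 4, 5, 6, 7, 8, 10, 12, 15}`.

Method: for a permutation of `Fin 8` the triple `(sum, lcm, card)` of its cycle type lies in an explicit finite set of
triples, closed under "add a part `2 ≤ x` while the sum stays `≤ 8`" (multiset induction + one small `decide`).
Witnesses come from Mathlib's `Equiv.Perm.exists_with_cycleType_iff`.
-/

set_option autoImplicit false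

namespace Cfsg.Agent.Lib.Helper22.SpecS8

open Equiv Equiv.Perm

/-- the reachable triples `(sum, lcm, card)` of multisets with parts `≥ 2` and sum `≤ 8` -/
def Rl : List (ℕ × ℕ × ℕ) :=
  [(0, 1, 0), (2, 2, 1), (3, 3, 1), (4, 2, 2), (4, 4, 1), (5, 5, 1), (5, 6, 2), (6, 2, 3), (6, 3, 2), (6, 4, 2),
   (6, 6, 1), (7, 6, 3), (7, 7, 1), (7, 10, 2), (7, 12, 2), (8, 2, 4), (8, 4, 2), (8, 4, 3), (8, 6, 2), (8, 6, 3),
   (8, 8, 1), (8, 15, 2)]

/-- add a part `x` -/
def step (x : ℕ) (t : ℕ × ℕ × ℕ) : ℕ × ℕ × ℕ := (x + t.1, Nat.lcm x t.2.1, t.2.2 + 1)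

theorem Rl_closed : ∀ t ∈ Rl, ∀ x ∈ List.range 9, 2 ≤ x → x + t.1 ≤ 8 → step x t ∈ Rl := by
  decide

theorem Rl_all : ∀ t ∈ Rl,
    t.2.1 ∈ ({1, 2, 3, 4, 5, 6, 7, 8, 10, 12, 15} : Finset ℕ) := by
  decide

/-- the triple of a multiset with parts `≥ 2` and sum `≤ 8` is reachable -/
theorem triple_mem (m : Multiset ℕ) : (∀ x ∈ m, 2 ≤ x) → m.sum ≤ 8 →
    (m.sum, m.lcm, Multiset.card m) ∈ Rl := by
  induction m using Multiset.induction_on with
  | empty =>
    intro _ _
    rw [Multiset.sum_zero, Multiset.lcm_zero, Multiset.card_zero]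
    decide
  | cons x m ih =>
    intro h2 hs
    rw [Multiset.sum_cons] at hs
    have hx2 : 2 ≤ x := h2 x (Multiset.mem_cons_self x m)
    have hm2 : ∀ y ∈ m, 2 ≤ y := fun y hy => h2 y (Multiset.mem_cons_of_mem hy)
    have hms : m.sum ≤ 8 := by omega
    have h := Rl_closed _ (ih hm2 hms) x (List.mem_range.mpr (by omega)) hx2 hs
    rw [Multiset.sum_cons, Multiset.lcm_cons, Multiset.card_cons, lcm_eq_nat_lcm]
    exact h

/-- every element order of `S_8` -/
theorem orderOf_mem (g : Perm (Fin 8)) :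
    orderOf g ∈ ({1, 2, 3, 4, 5, 6, 7, 8, 10, 12, 15} : Finset ℕ) := by
  have h := triple_mem g.cycleType (fun x hx => two_le_of_mem_cycleType hx)
    (by have := sum_cycleType_le g; simpa using this)
  have := Rl_all _ h
  rwa [lcm_cycleType] at this

/-- a permutation of `Fin 8` with a given cycle type -/
theorem exists_of_cycleType (m : Multiset ℕ) (hs : m.sum ≤ 8) (h2 : ∀ a ∈ m, 2 ≤ a) :
    ∃ g : Perm (Fin 8), orderOf g = m.lcm := by
  obtain ⟨g, hg⟩ := (exists_with_cycleType_iff (α := Fin 8)).mpr ⟨by simpa using hs, h2⟩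
  exact ⟨g, by rw [← lcm_cycleType, hg]⟩

theorem range_orderOf_S8_finset :
    Set.range (orderOf : Perm (Fin 8) → ℕ) =
      (↑({1, 2, 3, 4, 5, 6, 7, 8, 10, 12, 15} : Finset ℕ) : Set ℕ) := by
  ext k
  constructor
  · rintro ⟨g, rfl⟩
    exact orderOf_mem g
  · intro hk
    rw [Finset.mem_coe] at hk
    simp only [Finset.mem_insert, Finset.mem_singleton] at hk
    rcases hk with rfl | rfl | rfl | rfl | rfl | rfl | rfl | rfl | rfl | rfl | rfl
    · exact exists_of_cycleType 0 (by decide) (by decide)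
    · exact exists_of_cycleType {2} (by decide) (by decide)
    · exact exists_of_cycleType {3} (by decide) (by decide)
    · exact exists_of_cycleType {4} (by decide) (by decide)
    · exact exists_of_cycleType {5} (by decide) (by decide)
    · exact exists_of_cycleType {6} (by decide) (by decide)
    · exact exists_of_cycleType {7} (by decide) (by decide)
    · exact exists_of_cycleType {8} (by decide) (by decide)
    · exact exists_of_cycleType {5, 2} (by decide) (by decide)
    · exact exists_of_cycleType {4, 3} (by decide) (by decide)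
    · exact exists_of_cycleType {5, 3} (by decide) (by decide)

/-- the spectrum of `S_8` -/
theorem range_orderOf_S8 :
    Set.range (orderOf : Perm (Fin 8) → ℕ) = ({1, 2, 3, 4, 5, 6, 7, 8, 10, 12, 15} : Set ℕ) := by
  rw [range_orderOf_S8_finset]
  ext k
  simp

end Cfsg.Agent.Lib.Helper22.SpecS8
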