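import Mathlib
import Cfsg.Agent.S1854

/-!
# Conjugation-family induction for relations on pairs `(D, x)`

A variant of the Alperin–Goldschmidt induction of `Cfsg.Agent.S1854` in which the links of a chain
are pairs `(D, x)` subject to a relation `R D x` (rather than `D` good and `x ∈ N(D)` arbitrary),
and the decomposition ends with an element of `N(P)`:
`g = c * x₁ ⋯ xₙ * y`, `c ∈ C(Q)`, `y ∈ N(P)`.
-/

set_option autoImplicit false

namespace Cfsg.Agent.Lib.Helper22.StrongAG

open Cfsg Cfsg.Agent.S1854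
open Cfsg.Agent.Lib.Helper13 Cfsg.Agent.Lib.Helper17 Cfsg.Agent.Lib.Helper16

variable {G : Type*} [Group G]

/-- chain validity for a relation on pairs -/
def PChain (R : Subgroup G → G → Prop) : Subgroup G → List (Subgroup G × G) → Prop
  | _, [] => True
  | Q, (d :: l) => R d.1 d.2 ∧ Q ≤ d.1 ∧ PChain R (cj d.2 Q) l

/-- the relation consists of normalizing pairs and is closed under inverses -/
structure IsLinkRel (R : Subgroup G → G → Prop) : Prop where
  mem_normalizer : ∀ {D : Subgroup G} {x : G}, R D x → x ∈ Subgroup.normalizer (D : Set G)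
  inv : ∀ {D : Subgroup G} {x : G}, R D x → R D x⁻¹

/-- invariance of the relation under conjugation by `N(P)` -/
def IsConjInv (R : Subgroup G → G → Prop) (P : Subgroup G) : Prop :=
  ∀ y ∈ Subgroup.normalizer (P : Set G), ∀ (D : Subgroup G) (x : G), R D x →
    R (cj y D) (y⁻¹ * x * y)

variable {R : Subgroup G → G → Prop}

theorem PChain.mono {l : List (Subgroup G × G)} : ∀ {Q Q' : Subgroup G}, Q' ≤ Q →
    PChain R Q l → PChain R Q' l := by
  induction l with
  | nil => intro _ _ _ _; trivial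
  | cons d l ih =>
    intro Q Q' h hc
    exact ⟨hc.1, h.trans hc.2.1, ih (cj_mono h _) hc.2.2⟩

theorem PChain.append {l₁ : List (Subgroup G × G)} :
    ∀ {Q : Subgroup G} {l₂ : List (Subgroup G × G)},
    PChain R Q l₁ → PChain R (cj (lprod l₁) Q) l₂ → PChain R Q (l₁ ++ l₂) := by
  induction l₁ with
  | nil => intro Q l₂ _ h2; simpa using h2
  | cons d l ih =>
    intro Q l₂ h1 h2
    refine ⟨h1.1, h1.2.1, ?_⟩
    apply ih h1.2.2
    rw [← cj_mul]
    simpa using h2

theorem PChain.rev (hR : IsLinkRel R) {l : List (Subgroup G × G)} : ∀ {Q : Subgroup G},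
    PChain R Q l → PChain R (cj (lprod l) Q) (lrev l) := by
  induction l with
  | nil => intro Q _; trivial
  | cons d l ih =>
    intro Q h
    have e : lrev (d :: l) = lrev l ++ [(d.1, d.2⁻¹)] := by simp [lrev]
    rw [e, lprod_cons, cj_mul]
    apply PChain.append (ih h.2.2)
    rw [lprod_lrev, cj_inv_cj]
    refine ⟨hR.inv h.1, ?_, trivial⟩
    have := cj_mono h.2.1 d.2
    rwa [cj_eq_self_of_mem_normalizer (hR.mem_normalizer h.1)] at this

/-- conjugate a chain -/
def lconj (y : G) (l : List (Subgroup G × G)) : List (Subgroup G × G) :=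
  l.map (fun d => (cj y d.1, y⁻¹ * d.2 * y))

theorem lprod_lconj (y : G) (l : List (Subgroup G × G)) :
    lprod (lconj y l) = y⁻¹ * lprod l * y := by
  induction l with
  | nil => simp [lconj, lprod]
  | cons d l ih =>
    have e : lconj y (d :: l) = (cj y d.1, y⁻¹ * d.2 * y) :: lconj y l := rfl
    rw [e, lprod_cons, lprod_cons, ih]
    group

theorem PChain.conj {y : G} (hy : ∀ (D : Subgroup G) (x : G), R D x → R (cj y D) (y⁻¹ * x * y))
    {l : List (Subgroup G × G)} :
    ∀ {Q : Subgroup G}, PChain R Q l → PChain R (cj y Q) (lconj y l) := by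
  induction l with
  | nil => intro Q _; trivial
  | cons d l ih =>
    intro Q h
    have e : cj (y⁻¹ * d.2 * y) (cj y Q) = cj y (cj d.2 Q) := by
      rw [← cj_mul, ← cj_mul]; congr 1; group
    refine ⟨hy _ _ h.1, cj_mono h.2.1 y, ?_⟩
    show PChain R (cj (y⁻¹ * d.2 * y) (cj y Q)) (lconj y l)
    rw [e]
    exact ih h.2.2

theorem PChain.forall_mem {l : List (Subgroup G × G)} :
    ∀ {Q : Subgroup G}, PChain R Q l → ∀ d ∈ l, R d.1 d.2 := by
  induction l with
  | nil => intro Q _ d hd; simp at hd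
  | cons e l ih =>
    intro Q h d hd
    rcases List.mem_cons.mp hd with rfl | hd
    · exact h.1
    · exact ih h.2.2 d hd

theorem PChain.take_le {l : List (Subgroup G × G)} :
    ∀ {Q : Subgroup G}, PChain R Q l → ∀ (j : ℕ) (h : j < l.length),
      cj (lprod (l.take j)) Q ≤ (l.get ⟨j, h⟩).1 := by
  induction l with
  | nil => intro Q _ j h; simp at h
  | cons e l ih =>
    intro Q hc j h
    cases j with
    | zero => simpa using hc.2.1
    | succ j =>
      simp only [List.take_succ_cons, lprod_cons, List.get_eq_getElem, List.getElem_cons_succ]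
      rw [cj_mul]
      have := ih hc.2.2 j (by simpa using h)
      simpa using this

/-- `(Q, g)` decomposes along `R`, up to `C(Q)` on the left and `N(P)` on the right. -/
def PDec (R : Subgroup G → G → Prop) (P : Subgroup G) (Q : Subgroup G) (g : G) : Prop :=
  ∃ (l : List (Subgroup G × G)) (c y : G), PChain R Q l ∧
    c ∈ Subgroup.centralizer (Q : Set G) ∧ y ∈ Subgroup.normalizer (P : Set G) ∧
    g = c * lprod l * y

variable {P : Subgroup G}

theorem PDec.of_mem_centralizer {Q : Subgroup G} {c : G}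
    (hc : c ∈ Subgroup.centralizer (Q : Set G)) : PDec R P Q c :=
  ⟨[], c, 1, trivial, hc, Subgroup.one_mem _, by simp⟩

theorem PDec.of_mem_normalizer {Q : Subgroup G} {y : G}
    (hy : y ∈ Subgroup.normalizer (P : Set G)) : PDec R P Q y :=
  ⟨[], 1, y, trivial, Subgroup.one_mem _, hy, by simp⟩

theorem PDec.single {Q D : Subgroup G} {x : G} (hD : R D x) (hQ : Q ≤ D) : PDec R P Q x :=
  ⟨[(D, x)], 1, 1, ⟨hD, hQ, trivial⟩, Subgroup.one_mem _, Subgroup.one_mem _, by simp⟩

theorem PDec.mono {Q Q' : Subgroup G} {g : G} (hQ : Q' ≤ Q) (h : PDec R P Q g) :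
    PDec R P Q' g := by
  obtain ⟨l, c, y, h1, h2, h3, h4⟩ := h
  exact ⟨l, c, y, h1.mono hQ, Subgroup.centralizer_le (by exact_mod_cast hQ) h2, h3, h4⟩

theorem PDec.mul (hc : IsConjInv R P) {Q : Subgroup G} {g h : G} (h1 : PDec R P Q g)
    (h2 : PDec R P (cj g Q) h) : PDec R P Q (g * h) := by
  obtain ⟨l₁, c₁, y₁, a1, a2, a3, a4⟩ := h1
  obtain ⟨l₂, c₂, y₂, b1, b2, b3, b4⟩ := h2
  have hgQ : cj g Q = cj y₁ (cj (lprod l₁) Q) := by
    rw [a4, cj_mul, cj_mul, cj_eq_self_of_mem_centralizer a2]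
  rw [hgQ] at b1 b2
  have hy₁inv : y₁⁻¹ ∈ Subgroup.normalizer (P : Set G) := Subgroup.inv_mem _ a3
  have b1' : PChain R (cj (lprod l₁) Q) (lconj y₁⁻¹ l₂) := by
    have := PChain.conj (hc y₁⁻¹ hy₁inv) b1
    rwa [cj_inv_cj] at this
  refine ⟨l₁ ++ lconj y₁⁻¹ l₂, c₁ * (lprod l₁ * y₁ * c₂ * y₁⁻¹ * (lprod l₁)⁻¹), y₁ * y₂,
    a1.append b1', ?_, Subgroup.mul_mem _ a3 b3, ?_⟩
  · apply Subgroup.mul_mem _ a2
    rw [← cj_mul, centralizer_cj, mem_cj] at b2
    have e : lprod l₁ * y₁ * c₂ * y₁⁻¹ * (lprod l₁)⁻¹ = lprod l₁ * y₁ * c₂ * (lprod l₁ * y₁)⁻¹ := by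
      group
    rw [e]; exact b2
  · rw [a4, b4, lprod_append, lprod_lconj]; group

theorem PDec.inv (hR : IsLinkRel R) (hc : IsConjInv R P) {Q : Subgroup G} {g : G}
    (h : PDec R P Q g) : PDec R P (cj g Q) g⁻¹ := by
  obtain ⟨l, c, y, a1, a2, a3, a4⟩ := h
  have hgQ : cj g Q = cj y (cj (lprod l) Q) := by
    rw [a4, cj_mul, cj_mul, cj_eq_self_of_mem_centralizer a2]
  rw [hgQ]
  have h1 : PChain R (cj y (cj (lprod l) Q)) (lconj y (lrev l)) :=
    PChain.conj (hc y a3) (a1.rev hR)
  refine ⟨lconj y (lrev l), (lprod l * y)⁻¹ * c⁻¹ * (lprod l * y), y⁻¹, h1, ?_,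
    Subgroup.inv_mem _ a3, ?_⟩
  · rw [← cj_mul, centralizer_cj, mem_cj]
    have : lprod l * y * ((lprod l * y)⁻¹ * c⁻¹ * (lprod l * y)) * (lprod l * y)⁻¹ = c⁻¹ := by group
    rw [this]; exact Subgroup.inv_mem _ a2
  · rw [a4, lprod_lconj, lprod_lrev]; group

section Induction

variable {p : ℕ} [Fact p.Prime] [Finite G]

theorem main_induction' (P : Sylow p G) (R : Subgroup G → G → Prop) (hR : IsLinkRel R)
    (hc : IsConjInv R (P : Subgroup G))
    (hstep : ∀ Q : Subgroup G, Q ≤ P → Q ≠ P → FN P Q →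
      (∀ R' : Subgroup G, R' ≤ P → Nat.card Q < Nat.card R' → ∀ n : G, cj n R' ≤ P →
        PDec R (P : Subgroup G) R' n) →
      ∀ m ∈ Subgroup.normalizer (Q : Set G), PDec R (P : Subgroup G) Q m) :
    ∀ Q : Subgroup G, Q ≤ P → ∀ g : G, cj g Q ≤ P → PDec R (P : Subgroup G) Q g := by
  have key : ∀ k : ℕ, ∀ Q : Subgroup G, Q ≤ P → Nat.card (P : Subgroup G) - Nat.card Q = k →
      ∀ g : G, cj g Q ≤ P → PDec R (P : Subgroup G) Q g := by
    intro k
    induction k using Nat.strong_induction_on with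
    | _ k ih =>
      intro Q hQP hk g hg
      have hcardle : ∀ R' : Subgroup G, R' ≤ P → Nat.card R' ≤ Nat.card (P : Subgroup G) :=
        fun R' hR' => Subgroup.card_le_of_le hR'
      have IH : ∀ R' : Subgroup G, R' ≤ P → Nat.card Q < Nat.card R' → ∀ n : G, cj n R' ≤ P →
          PDec R (P : Subgroup G) R' n := by
        intro R' hR' hlt n hn
        have := hcardle R' hR'
        exact ih (Nat.card (P : Subgroup G) - Nat.card R') (by omega) R' hR' rfl n hn
      by_cases hQeq : Q = P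
      · subst hQeq
        exact PDec.of_mem_normalizer (mem_normalizer_of_cj_eq_self (cj_eq_of_le hg))
      · have hQlt : Q < P := lt_of_le_of_ne hQP hQeq
        have hQp : IsPGroup p Q := P.2.to_le hQP
        obtain ⟨t, ht1, ht2⟩ := exists_FN P hQp
        have gen : ∀ Q' : Subgroup G, Q' ≤ P → Nat.card Q' = Nat.card Q → ∀ v : G,
            cj v Q' = cj t Q → ∃ h : G, cj h Q' = cj t Q ∧ PDec R (P : Subgroup G) Q' h := by
          intro Q' hQ'P hcard v hv
          obtain ⟨h, hh1, hh2⟩ := exists_move P ht2 hv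
          refine ⟨h, hh1, ?_⟩
          have hQ'lt : Q' < P := by
            refine lt_of_le_of_ne hQ'P ?_
            intro he
            rw [he] at hcard
            have := Cfsg.Agent.Lib.Helper1.card_lt_of_lt hQlt
            omega
          obtain ⟨n, hn1, hn2, hn3⟩ := pgroup_normalizer_gt P.2 hQ'lt
          have hle : Q' ≤ (P : Subgroup G) ⊓ Subgroup.normalizer (Q' : Set G) :=
            le_inf hQ'P Subgroup.le_normalizer
          have hlt : Q' < (P : Subgroup G) ⊓ Subgroup.normalizer (Q' : Set G) :=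
            lt_of_le_of_ne hle (fun he => hn3 (he ▸ ⟨hn1, hn2⟩))
          have := Cfsg.Agent.Lib.Helper1.card_lt_of_lt hlt
          exact (IH _ inf_le_left (by omega) h hh2).mono hle
        obtain ⟨h₁, a1, a2⟩ := gen Q hQP rfl t rfl
        obtain ⟨h₂, b1, b2⟩ := gen (cj g Q) hg (card_cj _ _) (g⁻¹ * t) (by
          rw [cj_mul, cj_inv_cj])
        set m := h₁⁻¹ * g * h₂ with hm
        have hmQ : cj m (cj t Q) = cj t Q := by
          rw [hm, cj_mul, cj_mul, ← a1, cj_inv_cj, a1, b1]
        have hmN := mem_normalizer_of_cj_eq_self hmQ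
        have hcard : Nat.card (cj t Q) = Nat.card Q := card_cj _ _
        have hne : cj t Q ≠ P := by
          intro he
          rw [he] at hcard
          have := Cfsg.Agent.Lib.Helper1.card_lt_of_lt hQlt
          omega
        have hDm : PDec R (P : Subgroup G) (cj t Q) m := by
          apply hstep (cj t Q) ht1 hne ht2 _ m hmN
          intro R' hR' hlt
          exact IH R' hR' (by omega)
        have hg' : g = h₁ * m * h₂⁻¹ := by rw [hm]; group
        rw [hg']
        refine (a2.mul hc (a1 ▸ hDm)).mul hc ?_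
        have e : cj (h₁ * m) Q = cj t Q := by rw [cj_mul, a1, hmQ]
        rw [e, ← b1]
        exact b2.inv hR hc
  intro Q hQ g hg
  exact key _ Q hQ rfl g hg

end Induction

end Cfsg.Agent.Lib.Helper22.StrongAG
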