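import Mathlib
import Cfsg.Prelude.Def_SylowChains
import Cfsg.Agent.Lib.Helper13.Sylow
import Cfsg.Agent.Lib.Helper17.SylowLemmas
import Cfsg.Agent.Lib.Helper16.SylowInf
import Cfsg.Agent.Lib.Helper1.Basic
import Cfsg.Agent.Lib.Helper12.Generation

/-!
# Chain-connectedness of Sylow subgroups

* `Edge`, `Conn`: the graph on Sylow `p`-subgroups (edges: distinct, meeting nontrivially) and its
  connectivity relation; `isSylowChainConnected_iff`.
* `compStab S`: the stabilizer of the component of `S`; contains `N(D)` for `1 ≠ D ≤ S`.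
* `eq_top_of_conn`: a subgroup containing `N(D)` for all `1 ≠ D ≤ S` is everything when the graph is
  connected.
* `conn_of_inf_coprime`: two normal subgroups of order divisible by `p` meeting in a `p'`-group force
  connectedness; `exists_min_normal`: a disconnected group has a least normal subgroup of order
  divisible by `p`.
* `isSylowChainConnected_of_mulEquiv`.
-/

set_option autoImplicit false

namespace Cfsg.Agent.Lib.Helper22.SylowConn

open scoped Pointwise
open Cfsg.Agent.Lib.Helper13 Cfsg.Agent.Lib.Helper17 Cfsg.Agent.Lib.Helper16 Cfsg.Agent.Lib.Helper1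

variable {K : Type*} [Group K] {p : ℕ}

/-- the edge relation on Sylow subgroups -/
def Edge (A B : Sylow p K) : Prop := A ≠ B ∧ (A : Subgroup K) ⊓ (B : Subgroup K) ≠ ⊥

/-- connectedness -/
def Conn (A B : Sylow p K) : Prop := Relation.ReflTransGen Edge A B

theorem inf_ne_bot_iff (A B : Subgroup K) :
    A ⊓ B ≠ ⊥ ↔ ∃ x, x ∈ A ∧ x ∈ B ∧ x ≠ 1 := by
  rw [Ne, Subgroup.eq_bot_iff_forall]
  constructor
  · intro h
    by_contra hcon
    apply h
    intro x hx
    by_contra hx1
    exact hcon ⟨x, hx.1, hx.2, hx1⟩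
  · rintro ⟨x, h1, h2, h3⟩ h
    exact h3 (h x ⟨h1, h2⟩)

theorem edge_symm {A B : Sylow p K} (h : Edge A B) : Edge B A :=
  ⟨h.1.symm, by rw [inf_comm]; exact h.2⟩

theorem Conn.symm {A B : Sylow p K} (h : Conn A B) : Conn B A := by
  induction h with
  | refl => exact Relation.ReflTransGen.refl
  | tail _ hbc ih => exact Relation.ReflTransGen.head (edge_symm hbc) ih

theorem Conn.trans {A B C : Sylow p K} (h1 : Conn A B) (h2 : Conn B C) : Conn A C :=
  Relation.ReflTransGen.trans h1 h2

theorem Conn.refl (A : Sylow p K) : Conn A A := Relation.ReflTransGen.refl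

theorem conn_of_mem_mem {A B : Sylow p K} {x : K} (hA : x ∈ (A : Subgroup K))
    (hB : x ∈ (B : Subgroup K)) (hx : x ≠ 1) : Conn A B := by
  by_cases h : A = B
  · subst h; exact Conn.refl _
  · exact Relation.ReflTransGen.single ⟨h, (inf_ne_bot_iff _ _).mpr ⟨x, hA, hB, hx⟩⟩

theorem edge_smul (g : K) {A B : Sylow p K} (h : Edge A B) : Edge (g • A) (g • B) := by
  refine ⟨fun he => h.1 (MulAction.injective g he), ?_⟩
  obtain ⟨x, h1, h2, h3⟩ := (inf_ne_bot_iff _ _).mp h.2
  refine (inf_ne_bot_iff _ _).mpr ⟨g * x * g⁻¹, ?_, ?_, ?_⟩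
  · rw [mem_smul_sylow_iff]
    have : g⁻¹ * (g * x * g⁻¹) * g = x := by group
    rw [this]; exact h1
  · rw [mem_smul_sylow_iff]
    have : g⁻¹ * (g * x * g⁻¹) * g = x := by group
    rw [this]; exact h2
  · intro he
    apply h3
    have : x = g⁻¹ * (g * x * g⁻¹) * g := by group
    rw [this, he]; group

theorem conn_smul (g : K) {A B : Sylow p K} (h : Conn A B) : Conn (g • A) (g • B) := by
  induction h with
  | refl => exact Relation.ReflTransGen.refl
  | tail _ hbc ih => exact Relation.ReflTransGen.tail ih (edge_smul g hbc)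

theorem conn_of_chain (n : ℕ) (c : Fin (n + 1) → Sylow p K)
    (h : ∀ i : Fin n, Edge (c i.castSucc) (c i.succ)) : Conn (c 0) (c (Fin.last n)) := by
  have key : ∀ i : Fin (n + 1), Conn (c 0) (c i) := by
    intro i
    induction i using Fin.induction with
    | zero => exact Conn.refl _
    | succ i ih => exact Relation.ReflTransGen.tail ih (h i)
  exact key _

theorem chain_of_conn {A B : Sylow p K} (h : Conn A B) :
    ∃ (n : ℕ) (c : Fin (n + 1) → Sylow p K), c 0 = A ∧ c (Fin.last n) = B ∧
      ∀ i : Fin n, Edge (c i.castSucc) (c i.succ) := by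
  induction h with
  | refl => exact ⟨0, fun _ => A, rfl, rfl, fun i => i.elim0⟩
  | @tail b c' _ hbc ih =>
    obtain ⟨n, c₀, h0, hl, he⟩ := ih
    refine ⟨n + 1, @Fin.snoc (n + 1) (fun _ => Sylow p K) c₀ c', ?_, ?_, ?_⟩
    · have : (0 : Fin (n + 2)) = Fin.castSucc (0 : Fin (n + 1)) := rfl
      rw [this, Fin.snoc_castSucc]; exact h0
    · exact Fin.snoc_last (α := fun _ => Sylow p K) c' c₀
    · intro i
      refine Fin.lastCases ?_ ?_ i
      · have e1 : (Fin.last n).succ = Fin.last (n + 1) := rfl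
        rw [e1, Fin.snoc_castSucc, Fin.snoc_last, hl]
        exact hbc
      · intro j
        have e1 : j.castSucc.succ = j.succ.castSucc := rfl
        rw [e1, Fin.snoc_castSucc, Fin.snoc_castSucc]
        exact he j

theorem isSylowChainConnected_iff :
    Cfsg.IsSylowChainConnected p K ↔ ∀ A B : Sylow p K, Conn A B := by
  constructor
  · intro h A B
    obtain ⟨n, c, h0, hl, -, he⟩ := h A B
    rw [← h0, ← hl]
    exact conn_of_chain n c he
  · intro h A B
    by_cases hAB : (A : Subgroup K) ⊓ B = ⊥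
    · obtain ⟨n, c, h0, hl, he⟩ := chain_of_conn (h A B)
      exact ⟨n, c, h0, hl, fun i => by rw [hAB]; exact bot_le, he⟩
    · by_cases heq : A = B
      · subst heq
        exact ⟨0, fun _ => A, rfl, rfl, fun _ => inf_le_left, fun i => i.elim0⟩
      · refine ⟨1, ![A, B], rfl, rfl, ?_, ?_⟩
        · intro i
          fin_cases i
          · exact inf_le_left
          · exact inf_le_right
        · intro i
          fin_cases i
          exact ⟨heq, hAB⟩

/-- the stabilizer of the connected component of `S`. -/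
def compStab (S : Sylow p K) : Subgroup K where
  carrier := {g | Conn (g • S) S}
  one_mem' := by
    show Conn ((1 : K) • S) S
    rw [one_smul]; exact Conn.refl _
  mul_mem' := by
    intro a b ha hb
    show Conn ((a * b) • S) S
    rw [mul_smul]
    exact (conn_smul a hb).trans ha
  inv_mem' := by
    intro a ha
    show Conn (a⁻¹ • S) S
    have h := conn_smul a⁻¹ ha
    rw [inv_smul_smul] at h
    exact h.symm

theorem mem_compStab {S : Sylow p K} {g : K} : g ∈ compStab S ↔ Conn (g • S) S := Iff.rfl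

theorem normalizer_le_compStab (S : Sylow p K) {D : Subgroup K} (hDS : D ≤ S) (hD : D ≠ ⊥) :
    Subgroup.normalizer (D : Set K) ≤ compStab S := by
  intro g hg
  rw [mem_compStab]
  obtain ⟨⟨x, hx⟩, hx1'⟩ := (Subgroup.ne_bot_iff_exists_ne_one).mp hD
  have hx1 : x ≠ 1 := fun h => hx1' (Subtype.ext h)
  have hgx : g * x * g⁻¹ ∈ D := (Subgroup.mem_normalizer_iff.mp hg x).mp hx
  refine conn_of_mem_mem (x := g * x * g⁻¹) ?_ (hDS hgx) ?_
  · rw [mem_smul_sylow_iff]
    have : g⁻¹ * (g * x * g⁻¹) * g = x := by group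
    rw [this]; exact hDS hx
  · intro he
    apply hx1
    have : x = g⁻¹ * (g * x * g⁻¹) * g := by group
    rw [this, he]; group

theorem conn_of_compStab_eq_top [Finite K] [Fact p.Prime] (S : Sylow p K) (h : compStab S = ⊤) :
    ∀ A B : Sylow p K, Conn A B := by
  have key : ∀ A : Sylow p K, Conn A S := by
    intro A
    obtain ⟨g, rfl⟩ := MulAction.exists_smul_eq K S A
    have : g ∈ compStab S := by rw [h]; trivial
    exact this
  intro A B
  exact (key A).trans (key B).symm

/-- Alperin-type step: a Sylow subgroup meeting `S` nontrivially is an `M`-conjugate of `S`, for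
any subgroup `M` containing the normalizers of the nontrivial subgroups of `S`. -/
theorem exists_smul_eq_of_inf_ne_bot [Finite K] [Fact p.Prime] (S : Sylow p K) (M : Subgroup K)
    (hM : ∀ D : Subgroup K, D ≤ S → D ≠ ⊥ → Subgroup.normalizer (D : Set K) ≤ M) :
    ∀ (n : ℕ) (T : Sylow p K),
      Nat.card (S : Subgroup K) - Nat.card ((S : Subgroup K) ⊓ T : Subgroup K) = n →
      (S : Subgroup K) ⊓ T ≠ ⊥ → ∃ m ∈ M, T = m • S := by
  intro n
  induction n using Nat.strong_induction_on with
  | _ n ih =>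
    intro T hn hne
    set D : Subgroup K := (S : Subgroup K) ⊓ T with hD
    by_cases hDS : D = S
    · have hST : (S : Subgroup K) ≤ T := by rw [← hDS]; exact inf_le_right
      refine ⟨1, M.one_mem, ?_⟩
      rw [one_smul]
      exact Sylow.ext (S.3 T.2 hST)
    · have hDltS : D < S := lt_of_le_of_ne inf_le_left hDS
      have hDT : D ≠ T := by
        intro h
        have hTS : (T : Subgroup K) ≤ S := by rw [← h]; exact inf_le_left
        have h2 : (S : Subgroup K) = T := T.3 S.2 hTS
        apply hDS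
        rw [hD, ← h2, inf_idem]
      have hDltT : D < T := lt_of_le_of_ne inf_le_right hDT
      obtain ⟨s, hsS, hsN, hsD⟩ := pgroup_normalizer_gt S.2 hDltS
      obtain ⟨t, htT, htN, htD⟩ := pgroup_normalizer_gt T.2 hDltT
      set ND := Subgroup.normalizer (D : Set K) with hND
      set NS : Subgroup K := (S : Subgroup K) ⊓ ND with hNS
      set NT : Subgroup K := (T : Subgroup K) ⊓ ND with hNT
      have hNSp : IsPGroup p NS := S.2.to_le inf_le_left
      have hNTp : IsPGroup p NT := T.2.to_le inf_le_left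
      obtain ⟨U, hU⟩ := (hNSp.comap_subtype (K := ND)).exists_le_sylow
      obtain ⟨U', hU'⟩ := (hNTp.comap_subtype (K := ND)).exists_le_sylow
      obtain ⟨k, hk⟩ := MulAction.exists_smul_eq ND U' U
      obtain ⟨S', hS'⟩ := (U.2.map ND.subtype).exists_le_sylow
      have hNSS' : NS ≤ S' := by
        intro x hx
        apply hS'
        exact ⟨⟨x, hx.2⟩, hU (Subgroup.mem_subgroupOf.mpr hx), rfl⟩
      have hNTS' : ∀ x ∈ NT, (k : K) * x * (k : K)⁻¹ ∈ (S' : Subgroup K) := by
        intro x hx
        apply hS'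
        have hxN : x ∈ ND := (Subgroup.mem_inf.mp hx).2
        have hmem : k * ⟨x, hxN⟩ * k⁻¹ ∈ (U : Subgroup ND) := by
          rw [← hk, mem_smul_sylow_iff]
          have : k⁻¹ * (k * ⟨x, hxN⟩ * k⁻¹) * k = ⟨x, hxN⟩ := by group
          rw [this]
          exact hU' (Subgroup.mem_subgroupOf.mpr hx)
        exact ⟨k * ⟨x, hxN⟩ * k⁻¹, hmem, rfl⟩
      have hDND : D ≤ ND := Subgroup.le_normalizer
      have hcardS : Nat.card (S : Subgroup K) - Nat.card D = n := hn
      have hDSlt : Nat.card D < Nat.card (S : Subgroup K) := card_lt_of_lt hDltS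
      -- first application: `S' = m₁ • S`
      have hDlt1 : D < (S : Subgroup K) ⊓ S' := by
        refine lt_of_le_of_ne (le_inf inf_le_left ((le_inf inf_le_left hDND).trans hNSS')) ?_
        intro he
        apply hsD
        rw [he]
        exact ⟨hsS, hNSS' ⟨hsS, hsN⟩⟩
      have hc1 := card_lt_of_lt hDlt1
      have hc1' : Nat.card ((S : Subgroup K) ⊓ S' : Subgroup K) ≤ Nat.card (S : Subgroup K) :=
        Subgroup.card_le_of_le inf_le_left
      have hne1 : (S : Subgroup K) ⊓ S' ≠ ⊥ := by
        intro he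
        exact hne (le_bot_iff.mp (he ▸ hDlt1.le))
      obtain ⟨m₁, hm₁, hS'eq⟩ := ih _ (by omega) S' rfl hne1
      -- second application
      set T₂ : Sylow p K := (m₁⁻¹ * (k : K)) • T with hT₂
      have hsub : MulAut.conj (m₁⁻¹ * (k : K)) • NT ≤ (S : Subgroup K) ⊓ T₂ := by
        rintro _ ⟨x, hx, rfl⟩
        have hx' : x ∈ NT := hx
        simp only [MulDistribMulAction.toMonoidEnd_apply, MulDistribMulAction.toMonoidHom_apply,
          MulAut.smul_def, MulAut.conj_apply]
        refine Subgroup.mem_inf.mpr ⟨?_, ?_⟩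
        · have h1 := hNTS' x hx'
          rw [hS'eq, mem_smul_sylow_iff] at h1
          have e : m₁⁻¹ * (k : K) * x * (m₁⁻¹ * (k : K))⁻¹ = m₁⁻¹ * ((k : K) * x * (k : K)⁻¹) * m₁ := by
            group
          rw [e]; exact h1
        · rw [hT₂, mem_smul_sylow_iff]
          have e : (m₁⁻¹ * (k : K))⁻¹ * (m₁⁻¹ * (k : K) * x * (m₁⁻¹ * (k : K))⁻¹) * (m₁⁻¹ * (k : K)) = x := by
            group
          rw [e]; exact hx'.1
      have hDltNT : D < NT := by
        refine lt_of_le_of_ne (le_inf inf_le_right hDND) ?_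
        intro he
        apply htD
        rw [he]
        exact ⟨htT, htN⟩
      have hc2 : Nat.card D < Nat.card ((S : Subgroup K) ⊓ T₂ : Subgroup K) := by
        have h1 := card_lt_of_lt hDltNT
        have h2 := Subgroup.card_le_of_le hsub
        rw [card_conj_smul] at h2
        omega
      have hc2' : Nat.card ((S : Subgroup K) ⊓ T₂ : Subgroup K) ≤ Nat.card (S : Subgroup K) :=
        Subgroup.card_le_of_le inf_le_left
      have hne2 : (S : Subgroup K) ⊓ T₂ ≠ ⊥ := by
        intro he
        rw [he, Subgroup.card_bot] at hc2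
        have : 0 < Nat.card D := Nat.card_pos
        omega
      obtain ⟨m₂, hm₂, hT₂eq⟩ := ih _ (by omega) T₂ rfl hne2
      have hkM : (k : K) ∈ M := hM D inf_le_left hne k.2
      refine ⟨(k : K)⁻¹ * m₁ * m₂, M.mul_mem (M.mul_mem (M.inv_mem hkM) hm₁) hm₂, ?_⟩
      have h3 : T = (m₁⁻¹ * (k : K))⁻¹ • T₂ := by rw [hT₂, inv_smul_smul]
      rw [h3, hT₂eq, ← mul_smul]
      congr 1
      group

/-- If the Sylow graph is connected, a subgroup containing the normalizers of all nontrivial
subgroups of a nontrivial Sylow subgroup `S` is the whole group. -/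
theorem eq_top_of_conn [Finite K] [Fact p.Prime] (S : Sylow p K) (M : Subgroup K)
    (hS : (S : Subgroup K) ≠ ⊥)
    (hM : ∀ D : Subgroup K, D ≤ S → D ≠ ⊥ → Subgroup.normalizer (D : Set K) ≤ M)
    (hconn : ∀ A B : Sylow p K, Conn A B) : M = ⊤ := by
  have key : ∀ A : Sylow p K, Conn S A → ∃ m ∈ M, A = m • S := by
    intro A hA
    induction hA with
    | refl => exact ⟨1, M.one_mem, by rw [one_smul]⟩
    | @tail B C _ hBC ih =>
      obtain ⟨m, hm, rfl⟩ := ih
      have hedge : Edge S (m⁻¹ • C) := by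
        have := edge_smul m⁻¹ hBC
        rwa [inv_smul_smul] at this
      obtain ⟨m', hm', he⟩ := exists_smul_eq_of_inf_ne_bot S M hM _ (m⁻¹ • C) rfl hedge.2
      refine ⟨m * m', M.mul_mem hm hm', ?_⟩
      rw [mul_smul, ← he, smul_inv_smul]
  rw [eq_top_iff]
  intro g _
  obtain ⟨m, hm, he⟩ := key (g • S) (hconn _ _)
  have h1 : (m⁻¹ * g) • S = S := by rw [mul_smul, he, inv_smul_smul]
  have h2 : m⁻¹ * g ∈ M := hM S le_rfl hS (Sylow.smul_eq_iff_mem_normalizer.mp h1)
  have : g = m * (m⁻¹ * g) := by group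
  rw [this]
  exact M.mul_mem hm h2

/-- Two normal subgroups of order divisible by `p` meeting in a `p'`-group force the Sylow graph
to be connected. -/
theorem conn_of_inf_coprime [Finite K] [hp : Fact p.Prime] (Y₁ Y₂ : Subgroup K) [hY₁ : Y₁.Normal]
    [hY₂ : Y₂.Normal] (h1 : p ∣ Nat.card Y₁) (h2 : p ∣ Nat.card Y₂)
    (hD : ¬ p ∣ Nat.card (Y₁ ⊓ Y₂ : Subgroup K)) : ∀ A B : Sylow p K, Conn A B := by
  obtain ⟨S⟩ : Nonempty (Sylow p K) := inferInstance
  apply conn_of_compStab_eq_top S
  set M := compStab S with hMdef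
  set D : Subgroup K := Y₁ ⊓ Y₂ with hDdef
  have hDn : D.Normal := Subgroup.normal_inf_normal Y₁ Y₂
  -- elements of order p
  have hex : ∀ Y : Subgroup K, Y.Normal → p ∣ Nat.card Y → ∃ a, a ∈ (S : Subgroup K) ∧ a ∈ Y ∧
      orderOf a = p := by
    intro Y hY hdvd
    obtain ⟨y, hy⟩ := exists_prime_orderOf_dvd_card' p hdvd
    have hy' : orderOf (y : K) = p := by rw [Subgroup.orderOf_coe]; exact hy
    obtain ⟨c, hc⟩ := exists_conj_mem_sylow S (y : K) ⟨1, by rw [pow_one, ← hy']; exact pow_orderOf_eq_one _⟩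
    refine ⟨c * y * c⁻¹, hc, hY.conj_mem _ y.2 c, ?_⟩
    rw [← hy']
    exact (MulAut.conj c).orderOf_eq (y : K)
  obtain ⟨a, haS, haY, hao⟩ := hex Y₁ hY₁ h1
  obtain ⟨b, hbS, hbY, hbo⟩ := hex Y₂ hY₂ h2
  have ha1 : a ≠ 1 := by
    intro h; rw [h, orderOf_one] at hao; exact hp.out.one_lt.ne hao
  have hb1 : b ≠ 1 := by
    intro h; rw [h, orderOf_one] at hbo; exact hp.out.one_lt.ne hbo
  -- `D ⊓ S = ⊥`
  have hDS : ∀ x, x ∈ D → x ∈ (S : Subgroup K) → x = 1 := by
    intro x hxD hxS
    have h3 : orderOf x ∣ Nat.card D := Subgroup.orderOf_dvd_natCard D hxD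
    obtain ⟨k, hk⟩ := (S.2.to_le (Subgroup.zpowers_le.mpr hxS) :
      IsPGroup p (Subgroup.zpowers x)).exists_card_eq
    rw [Nat.card_zpowers] at hk
    rw [hk] at h3
    cases k with
    | zero => rwa [pow_zero, orderOf_eq_one_iff] at hk
    | succ k => exact absurd ((dvd_pow_self p (Nat.succ_ne_zero k)).trans h3) hD
  have hcomm : a * b = b * a := by
    have hc : a * b * a⁻¹ * b⁻¹ = 1 := by
      apply hDS
      · constructor
        · have : a * b * a⁻¹ * b⁻¹ = a * (b * a⁻¹ * b⁻¹) := by group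
          rw [this]
          exact Y₁.mul_mem haY (hY₁.conj_mem _ (Y₁.inv_mem haY) b)
        · exact Y₂.mul_mem (hY₂.conj_mem _ hbY a) (Y₂.inv_mem hbY)
      · exact Subgroup.mul_mem _ (Subgroup.mul_mem _ (Subgroup.mul_mem _ haS hbS)
          (Subgroup.inv_mem _ haS)) (Subgroup.inv_mem _ hbS)
    have : a * b = (a * b * a⁻¹ * b⁻¹) * (b * a) := by group
    rw [this, hc, one_mul]
  set E : Subgroup K := Subgroup.closure {a, b} with hE
  have haE : a ∈ E := Subgroup.subset_closure (by simp)
  have hbE : b ∈ E := Subgroup.subset_closure (by simp)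
  have hES : E ≤ S := by
    rw [hE, Subgroup.closure_le]
    rintro x (rfl | rfl)
    · exact haS
    · exact hbS
  have hEc : IsMulCommutative E := by
    rw [hE]
    apply Subgroup.isMulCommutative_closure
    rintro x (rfl | rfl) y (rfl | rfl)
    · rfl
    · exact hcomm
    · exact hcomm.symm
    · rfl
  have hEcomm : ∀ x ∈ E, ∀ y ∈ E, x * y = y * x := by
    intro x hx y hy
    exact congrArg Subtype.val (mul_comm' (⟨x, hx⟩ : E) ⟨y, hy⟩)
  have hEexp : ∀ x ∈ E, x ^ p = 1 := by
    intro x hx
    rw [hE] at hx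
    induction hx using Subgroup.closure_induction with
    | mem y hy =>
      rcases hy with rfl | rfl
      · rw [← hao]; exact pow_orderOf_eq_one _
      · rw [← hbo]; exact pow_orderOf_eq_one _
    | one => exact one_pow _
    | mul x y hx hy ihx ihy =>
      have hc : Commute x y := hEcomm x (hE ▸ hx) y (hE ▸ hy)
      rw [hc.mul_pow, ihx, ihy, one_mul]
    | inv x _ ihx => rw [inv_pow, ihx, inv_one]
  have hab : a ∉ Subgroup.zpowers b := by
    intro h
    apply ha1
    apply hDS a ⟨haY, ?_⟩ haS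
    exact (Subgroup.zpowers_le.mpr hbY) h
  -- coprime generation: `D ≤ M`
  have hDM : D ≤ M := by
    refine (Cfsg.Agent.Lib.Helper12.le_genC_of_noncyclic hEcomm hEexp ?_ hD haE hbE hab hb1).trans ?_
    · intro x _
      rw [Subgroup.normalizer_eq_top]
      trivial
    · unfold Cfsg.Agent.Lib.Helper12.genC
      apply iSup_le
      rintro ⟨e, heE, he1⟩
      refine inf_le_right.trans ?_
      refine le_trans ?_ (normalizer_le_compStab S (D := Subgroup.zpowers e)
        (Subgroup.zpowers_le.mpr (hES heE)) ?_)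
      · intro x hx
        rw [Subgroup.mem_centralizer_iff] at hx
        have hxe : e * x = x * e := hx e rfl
        rw [Subgroup.mem_normalizer_iff]
        intro y
        have hconj : ∀ z ∈ Subgroup.zpowers e, x * z * x⁻¹ = z := by
          intro z hz
          obtain ⟨i, rfl⟩ := Subgroup.mem_zpowers_iff.mp hz
          have : Commute x (e ^ i) := (Commute.zpow_right hxe.symm i)
          rw [this.eq]; group
        constructor
        · intro hy; rw [hconj y hy]; exact hy
        · intro hy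
          have h5 := hconj _ hy
          have h6 : x * y * x⁻¹ = y := by
            have : y = x⁻¹ * (x * y * x⁻¹) * x := by group
            have h7 : x⁻¹ * (x * (x * y * x⁻¹) * x⁻¹) * x = x⁻¹ * (x * y * x⁻¹) * x := by rw [h5]
            have h8 : x⁻¹ * (x * (x * y * x⁻¹) * x⁻¹) * x = x * y * x⁻¹ := by group
            rw [h8] at h7
            rw [h7, ← this]
          rw [← h6]; exact hy
      · intro he
        apply he1
        have : e ∈ Subgroup.zpowers e := Subgroup.mem_zpowers e
        rw [he, Subgroup.mem_bot] at this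
        exact this
  have hSne : (S : Subgroup K) ≠ ⊥ := by
    intro h
    apply ha1
    rw [h, Subgroup.mem_bot] at haS
    exact haS
  have hSM : (S : Subgroup K) ≤ M :=
    Subgroup.le_normalizer.trans (normalizer_le_compStab S le_rfl hSne)
  -- `Y₁ ≤ M`
  set S₂ : Subgroup K := (S : Subgroup K) ⊓ Y₂ with hS₂
  have hS₂ne : S₂ ≠ ⊥ := by
    intro h
    apply hb1
    have : b ∈ S₂ := ⟨hbS, hbY⟩
    rw [h, Subgroup.mem_bot] at this
    exact this
  have hS₂p : IsPGroup p S₂ := S.2.to_le inf_le_left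
  set L : Subgroup K := D ⊔ S₂ with hL
  have hLY : L ≤ Y₂ := sup_le inf_le_right inf_le_right
  have hLM : L ≤ M := sup_le hDM (inf_le_left.trans hSM)
  have hS₂L : S₂ ≤ L := le_sup_right
  have hidx : ¬ p ∣ S₂.relIndex L := by
    intro hdvd
    have h3 := Subgroup.relIndex_mul_relIndex S₂ L Y₂ hS₂L hLY
    have h4 : p ∣ S₂.relIndex Y₂ := h3 ▸ Dvd.dvd.mul_right hdvd _
    rw [hS₂, Subgroup.inf_relIndex_right] at h4
    have h5 := (sylowInf S Y₂).not_dvd_index
    rw [coe_sylowInf] at h5
    exact h5 h4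
  have hY₁M : Y₁ ≤ M := by
    intro y hy
    set T : Subgroup K := MulAut.conj y • S₂ with hT
    have hTp : IsPGroup p T := hS₂p.map _
    have hTL : T ≤ L := by
      rintro _ ⟨s, hs, rfl⟩
      have hs' : s ∈ S₂ := hs
      simp only [MulDistribMulAction.toMonoidEnd_apply, MulDistribMulAction.toMonoidHom_apply,
        MulAut.smul_def, MulAut.conj_apply]
      have e : y * s * y⁻¹ = (y * s * y⁻¹ * s⁻¹) * s := by group
      rw [e]
      refine Subgroup.mul_mem _ (Subgroup.mem_sup_left ⟨?_, ?_⟩) (Subgroup.mem_sup_right hs')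
      · have : y * s * y⁻¹ * s⁻¹ = y * (s * y⁻¹ * s⁻¹) := by group
        rw [this]
        exact Y₁.mul_mem hy (hY₁.conj_mem _ (Y₁.inv_mem hy) s)
      · exact Y₂.mul_mem (hY₂.conj_mem _ hs'.2 y) (Y₂.inv_mem hs'.2)
    obtain ⟨l, hlL, hl⟩ := exists_conj_le_of_relIndex L S₂ T hS₂p hidx hTL hTp
    have hly : l * y ∈ Subgroup.normalizer (S₂ : Set K) := by
      apply Subgroup.mem_normalizer_fintype
      intro s hs
      have : l * y * s * (l * y)⁻¹ = l * (y * s * y⁻¹) * l⁻¹ := by group
      rw [this]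
      apply hl
      exact ⟨s, hs, by simp [MulAut.smul_def, MulAut.conj_apply]⟩
    have h3 : l * y ∈ M := normalizer_le_compStab S inf_le_left hS₂ne hly
    have : y = l⁻¹ * (l * y) := by group
    rw [this]
    exact M.mul_mem (M.inv_mem (hLM hlL)) h3
  -- Frattini
  rw [eq_top_iff]
  intro g _
  obtain ⟨n, hn, c, hc, rfl⟩ := frattini_inf_normal S Y₁ g
  refine M.mul_mem ?_ (hY₁M hc)
  refine normalizer_le_compStab S inf_le_left ?_ hn
  intro h
  apply ha1
  have : a ∈ (S : Subgroup K) ⊓ Y₁ := ⟨haS, haY⟩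
  rw [h, Subgroup.mem_bot] at this
  exact this

/-- A group whose Sylow `p`-graph is disconnected has a least normal subgroup of order divisible
by `p`. -/
theorem exists_min_normal [Finite K] [hp : Fact p.Prime] (h : ¬ Cfsg.IsSylowChainConnected p K) :
    ∃ X : Subgroup K, X.Normal ∧ p ∣ Nat.card X ∧
      ∀ Y : Subgroup K, Y.Normal → p ∣ Nat.card Y → X ≤ Y := by
  have hpK : p ∣ Nat.card K := by
    by_contra hcon
    apply h
    rw [isSylowChainConnected_iff]
    intro A B
    have hAB : A = B := by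
      have hA : Nat.card (A : Subgroup K) = 1 := by
        rw [Sylow.card_eq_multiplicity, Nat.factorization_eq_zero_of_not_dvd hcon, pow_zero]
      have hB : Nat.card (B : Subgroup K) = 1 := by
        rw [Sylow.card_eq_multiplicity, Nat.factorization_eq_zero_of_not_dvd hcon, pow_zero]
      apply Sylow.ext
      rw [Subgroup.eq_bot_of_card_eq _ hA, Subgroup.eq_bot_of_card_eq _ hB]
    rw [hAB]
    exact Conn.refl _
  obtain ⟨X, -, hX⟩ := exists_minimal_le_of_wellFoundedLT
    (fun Y : Subgroup K => Y.Normal ∧ p ∣ Nat.card Y) ⊤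
    ⟨inferInstance, by rw [Subgroup.card_top]; exact hpK⟩
  refine ⟨X, hX.prop.1, hX.prop.2, ?_⟩
  intro Y hY hYp
  have := hX.prop.1
  have := hY
  have hXY : p ∣ Nat.card (X ⊓ Y : Subgroup K) := by
    by_contra hcon
    apply h
    rw [isSylowChainConnected_iff]
    exact conn_of_inf_coprime X Y hX.prop.2 hYp hcon
  have := hX.le_of_le ⟨Subgroup.normal_inf_normal X Y, hXY⟩ inf_le_left
  exact le_inf_iff.mp this |>.2

/-- Chain-connectedness is invariant under isomorphism. -/
theorem isSylowChainConnected_of_mulEquiv [Finite K] [Fact p.Prime] {K' : Type*} [Group K']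
    (e : K ≃* K') (h : Cfsg.IsSylowChainConnected p K) : Cfsg.IsSylowChainConnected p K' := by
  rw [isSylowChainConnected_iff] at h ⊢
  have hsurj : Function.Surjective (e : K →* K') := e.surjective
  set f : Sylow p K → Sylow p K' := Sylow.mapSurjective hsurj with hf
  have hfinj : Function.Injective f := by
    intro A B hAB
    apply Sylow.ext
    have h1 : ((f A : Sylow p K') : Subgroup K') = f B := by rw [hAB]
    rw [hf, Sylow.coe_mapSurjective, Sylow.coe_mapSurjective] at h1
    exact Subgroup.map_injective e.injective h1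
  have hedge : ∀ A B : Sylow p K, Edge A B → Edge (f A) (f B) := by
    intro A B hAB
    refine ⟨fun he => hAB.1 (hfinj he), ?_⟩
    obtain ⟨x, h1, h2, h3⟩ := (inf_ne_bot_iff _ _).mp hAB.2
    refine (inf_ne_bot_iff _ _).mpr ⟨e x, ?_, ?_, ?_⟩
    · rw [hf, Sylow.coe_mapSurjective]; exact ⟨x, h1, rfl⟩
    · rw [hf, Sylow.coe_mapSurjective]; exact ⟨x, h2, rfl⟩
    · intro he
      apply h3
      apply e.injective
      rw [he, map_one]
  have hlift : ∀ A B : Sylow p K, Conn A B → Conn (f A) (f B) := by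
    intro A B hAB
    induction hAB with
    | refl => exact Relation.ReflTransGen.refl
    | tail _ hbc ih => exact Relation.ReflTransGen.tail ih (hedge _ _ hbc)
  intro A B
  obtain ⟨A₀, rfl⟩ := Sylow.mapSurjective_surjective hsurj p A
  obtain ⟨B₀, rfl⟩ := Sylow.mapSurjective_surjective hsurj p B
  exact hlift _ _ (h A₀ B₀)

end Cfsg.Agent.Lib.Helper22.SylowConn
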