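import Mathlib
import Cfsg.Agent.S1854
import Cfsg.Agent.Lib.Helper22.StrongAG
import Cfsg.Agent.Lib.Helper22.SylowConn
import Cfsg.Agent.Lib.Helper10.Transport
import Cfsg.Agent.Lib.Helper17.PResidual
import Cfsg.Agent.Lib.Helper13.Residual
import Cfsg.Prelude.Def_SylowChains

/-!
# The strong Alperin–Goldschmidt family

`SG P H X x`: `H ≤ P` is fully normalized, centric, `O_{p',p}(N(H)) = H C(H)`, the Sylow graph of
`N(H)/H` is disconnected, `X/H` is the least normal subgroup of `N(H)/H` of order divisible by `p`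
and `x ∈ O^p(X)`. The family is invariant under conjugation by `N(P)`.
-/

set_option autoImplicit false

namespace Cfsg.Agent.Lib.Helper22.StrongAG

open Cfsg Cfsg.Agent.S1854
open Cfsg.Agent.Lib.Helper13 Cfsg.Agent.Lib.Helper17 Cfsg.Agent.Lib.Helper16 Cfsg.Agent.Lib.Helper10
open Cfsg.Agent.Lib.Helper22.SylowConn

variable {G : Type*} [Group G] {p : ℕ}

/-- the minimality package for `X` -/
def MinX (p : ℕ) (H X : Subgroup G) : Prop :=
  H ≤ X ∧ X ≤ Subgroup.normalizer (H : Set G) ∧
    (X.subgroupOf (Subgroup.normalizer (H : Set G))).Normal ∧ p ∣ H.relIndex X ∧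
    ∀ Y : Subgroup G, H ≤ Y → Y ≤ Subgroup.normalizer (H : Set G) →
      (Y.subgroupOf (Subgroup.normalizer (H : Set G))).Normal → p ∣ H.relIndex Y → X ≤ Y

/-- the strong Alperin–Goldschmidt family -/
def SG (P : Sylow p G) (H X : Subgroup G) (x : G) : Prop :=
  H ≤ (P : Subgroup G) ∧
  ¬ p ∣ ((P : Subgroup G) ⊓ Subgroup.normalizer (H : Set G)).relIndex
    (Subgroup.normalizer (H : Set G)) ∧
  (P : Subgroup G) ⊓ Subgroup.centralizer (H : Set G) ≤ H ∧
  (Cfsg.pPrimePCore p ↥(Subgroup.normalizer (H : Set G))).map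
    (Subgroup.normalizer (H : Set G)).subtype = H ⊔ Subgroup.centralizer (H : Set G) ∧
  ¬ Cfsg.IsSylowChainConnected p
      (↥(Subgroup.normalizer (H : Set G)) ⧸ H.subgroupOf (Subgroup.normalizer (H : Set G))) ∧
  MinX p H X ∧
  x ∈ (Cfsg.pResidual p ↥X).map X.subtype

/-- the relation on pairs -/
def SGRel (P : Sylow p G) (D : Subgroup G) (x : G) : Prop := ∃ X : Subgroup G, SG P D X x

theorem isLinkRel_SGRel (P : Sylow p G) : IsLinkRel (SGRel P) where
  mem_normalizer := by
    rintro D x ⟨X, -, -, -, -, -, hX, hx⟩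
    obtain ⟨u, -, rfl⟩ := hx
    exact hX.2.1 u.2
  inv := by
    rintro D x ⟨X, h1, h2, h3, h4, h5, hX, hx⟩
    exact ⟨X, h1, h2, h3, h4, h5, hX, Subgroup.inv_mem _ hx⟩

/-! ### conjugation transport -/

theorem cj_inf (y : G) (A B : Subgroup G) : cj y (A ⊓ B) = cj y A ⊓ cj y B :=
  Subgroup.map_inf A B _ (MulEquiv.injective _)

theorem pPrimePCore_normalizer_cj (y : G) (H : Subgroup G) (p : ℕ) :
    (Cfsg.pPrimePCore p ↥(Subgroup.normalizer ((cj y H : Subgroup G) : Set G))).map
        (Subgroup.normalizer ((cj y H : Subgroup G) : Set G)).subtype =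
      cj y ((Cfsg.pPrimePCore p ↥(Subgroup.normalizer (H : Set G))).map
        (Subgroup.normalizer (H : Set G)).subtype) := by
  have h1 : Subgroup.normalizer ((H.map (MulAut.conj y⁻¹).toMonoidHom : Subgroup G) : Set G) =
      (Subgroup.normalizer (H : Set G)).map (MulAut.conj y⁻¹).toMonoidHom := normalizer_cj y H
  show (Cfsg.pPrimePCore p
      ↥(Subgroup.normalizer ((H.map (MulAut.conj y⁻¹).toMonoidHom : Subgroup G) : Set G))).map
      (Subgroup.normalizer ((H.map (MulAut.conj y⁻¹).toMonoidHom : Subgroup G) : Set G)).subtype =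
    ((Cfsg.pPrimePCore p ↥(Subgroup.normalizer (H : Set G))).map
        (Subgroup.normalizer (H : Set G)).subtype).map (MulAut.conj y⁻¹).toMonoidHom
  rw [map_subtype_map, map_pPrimePCore]
  exact congrArg (fun K : Subgroup G => (Cfsg.pPrimePCore p ↥K).map K.subtype) h1

/-- conjugation isomorphism between normalizers -/
def normConj (y : G) (H : Subgroup G) :
    ↥(Subgroup.normalizer (H : Set G)) ≃* ↥(Subgroup.normalizer ((cj y H : Subgroup G) : Set G)) where
  toFun n := ⟨y⁻¹ * n * y, by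
    rw [normalizer_cj, mem_cj]
    have : y * (y⁻¹ * (n : G) * y) * y⁻¹ = n := by group
    rw [this]; exact n.2⟩
  invFun n := ⟨y * n * y⁻¹, by
    have h : (n : G) ∈ cj y (Subgroup.normalizer (H : Set G)) := by
      rw [← normalizer_cj]; exact n.2
    exact mem_cj.mp h⟩
  left_inv n := Subtype.ext (by
    show y * (y⁻¹ * (n : G) * y) * y⁻¹ = n
    group)
  right_inv n := Subtype.ext (by
    show y⁻¹ * (y * (n : G) * y⁻¹) * y = n
    group)
  map_mul' a b := Subtype.ext (by
    show y⁻¹ * ((a : G) * b) * y = (y⁻¹ * a * y) * (y⁻¹ * b * y)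
    group)

theorem map_normConj (y : G) (H : Subgroup G) :
    (H.subgroupOf (Subgroup.normalizer (H : Set G))).map (normConj y H).toMonoidHom =
      (cj y H).subgroupOf (Subgroup.normalizer ((cj y H : Subgroup G) : Set G)) := by
  ext z
  rw [Subgroup.mem_subgroupOf, mem_cj]
  constructor
  · rintro ⟨n, hn, rfl⟩
    have hn' : (n : G) ∈ H := Subgroup.mem_subgroupOf.mp hn
    show y * (y⁻¹ * (n : G) * y) * y⁻¹ ∈ H
    have : y * (y⁻¹ * (n : G) * y) * y⁻¹ = n := by group
    rw [this]; exact hn'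
  · intro hz
    refine ⟨(normConj y H).symm z, ?_, ?_⟩
    · rw [SetLike.mem_coe, Subgroup.mem_subgroupOf]
      exact hz
    · exact (normConj y H).apply_symm_apply z

theorem not_conn_cj [Finite G] [Fact p.Prime] (y : G) (H : Subgroup G)
    (h : ¬ Cfsg.IsSylowChainConnected p
      (↥(Subgroup.normalizer (H : Set G)) ⧸ H.subgroupOf (Subgroup.normalizer (H : Set G)))) :
    ¬ Cfsg.IsSylowChainConnected p
      (↥(Subgroup.normalizer ((cj y H : Subgroup G) : Set G)) ⧸
        (cj y H).subgroupOf (Subgroup.normalizer ((cj y H : Subgroup G) : Set G))) := by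
  intro hc
  apply h
  exact isSylowChainConnected_of_mulEquiv
    (QuotientGroup.congr _ _ (normConj y H) (map_normConj y H)).symm hc

theorem normal_subgroupOf_cj (y : G) {H X : Subgroup G}
    (hXN : X ≤ Subgroup.normalizer (H : Set G))
    (hn : (X.subgroupOf (Subgroup.normalizer (H : Set G))).Normal) :
    ((cj y X).subgroupOf (Subgroup.normalizer ((cj y H : Subgroup G) : Set G))).Normal := by
  have hXN' : cj y X ≤ Subgroup.normalizer ((cj y H : Subgroup G) : Set G) := by
    rw [normalizer_cj]; exact cj_mono hXN y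
  rw [Subgroup.normal_subgroupOf_iff_le_normalizer hXN', normalizer_cj, normalizer_cj]
  exact cj_mono ((Subgroup.normal_subgroupOf_iff_le_normalizer hXN).mp hn) y

theorem minX_cj [Finite G] (y : G) {H X : Subgroup G} (h : MinX p H X) :
    MinX p (cj y H) (cj y X) := by
  obtain ⟨h1, h2, h3, h4, h5⟩ := h
  refine ⟨cj_mono h1 y, ?_, normal_subgroupOf_cj y h2 h3, ?_, ?_⟩
  · rw [normalizer_cj]; exact cj_mono h2 y
  · rw [relIndex_cj y h1]; exact h4
  · intro Y hY1 hY2 hY3 hY4
    have e1 : cj y⁻¹ (cj y H) = H := cj_inv_cj y H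
    have hY2' : cj y⁻¹ Y ≤ Subgroup.normalizer (H : Set G) := by
      have := cj_mono hY2 y⁻¹
      rwa [← normalizer_cj, e1] at this
    have hY1' : H ≤ cj y⁻¹ Y := by
      have := cj_mono hY1 y⁻¹
      rwa [e1] at this
    have hY3' : ((cj y⁻¹ Y).subgroupOf (Subgroup.normalizer (H : Set G))).Normal := by
      have := normal_subgroupOf_cj y⁻¹ hY2 hY3
      rwa [e1] at this
    have hY4' : p ∣ H.relIndex (cj y⁻¹ Y) := by
      have := relIndex_cj y⁻¹ hY1
      rw [e1] at this
      rw [this]; exact hY4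
    have := cj_mono (h5 _ hY1' hY2' hY3' hY4') y
    rwa [cj_cj_inv] at this

theorem pResidual_cj (y : G) {X : Subgroup G} {x : G}
    (hx : x ∈ (Cfsg.pResidual p ↥X).map X.subtype) :
    y⁻¹ * x * y ∈ (Cfsg.pResidual p ↥(cj y X)).map (cj y X).subtype := by
  rw [map_subtype_pResidual] at hx ⊢
  induction hx using Subgroup.closure_induction with
  | mem z hz =>
    apply Subgroup.subset_closure
    refine ⟨conj_mem_cj hz.1, ?_⟩
    have : orderOf (y⁻¹ * z * y) = orderOf z := by
      have := (MulAut.conj y⁻¹).orderOf_eq z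
      simpa [MulAut.conj_apply] using this
    rw [this]; exact hz.2
  | one =>
    have : y⁻¹ * 1 * y = 1 := by group
    rw [this]; exact Subgroup.one_mem _
  | mul a b _ _ iha ihb =>
    have : y⁻¹ * (a * b) * y = (y⁻¹ * a * y) * (y⁻¹ * b * y) := by group
    rw [this]; exact Subgroup.mul_mem _ iha ihb
  | inv a _ iha =>
    have : y⁻¹ * a⁻¹ * y = (y⁻¹ * a * y)⁻¹ := by group
    rw [this]; exact Subgroup.inv_mem _ iha

theorem SG_cj [Finite G] [Fact p.Prime] (P : Sylow p G) {y : G}
    (hy : y ∈ Subgroup.normalizer ((P : Subgroup G) : Set G)) {H X : Subgroup G} {x : G}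
    (h : SG P H X x) : SG P (cj y H) (cj y X) (y⁻¹ * x * y) := by
  obtain ⟨h1, h2, h3, h4, h5, h6, h7⟩ := h
  have hP : cj y (P : Subgroup G) = P := cj_eq_self_of_mem_normalizer hy
  refine ⟨?_, ?_, ?_, ?_, not_conn_cj y H h5, minX_cj y h6, pResidual_cj y h7⟩
  · have := cj_mono h1 y
    rwa [hP] at this
  · have e : (P : Subgroup G) ⊓ Subgroup.normalizer ((cj y H : Subgroup G) : Set G) =
        cj y ((P : Subgroup G) ⊓ Subgroup.normalizer (H : Set G)) := by
      rw [cj_inf, hP, normalizer_cj]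
    rw [e, normalizer_cj, relIndex_cj y inf_le_right]
    exact h2
  · have e : (P : Subgroup G) ⊓ Subgroup.centralizer ((cj y H : Subgroup G) : Set G) =
        cj y ((P : Subgroup G) ⊓ Subgroup.centralizer (H : Set G)) := by
      rw [cj_inf, hP, centralizer_cj]
    rw [e]
    exact cj_mono h3 y
  · rw [pPrimePCore_normalizer_cj, h4, cj_sup, centralizer_cj]

theorem isConjInv_SGRel [Finite G] [Fact p.Prime] (P : Sylow p G) :
    IsConjInv (SGRel P) (P : Subgroup G) := by
  rintro y hy D x ⟨X, hX⟩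
  exact ⟨cj y X, SG_cj P hy hX⟩

end Cfsg.Agent.Lib.Helper22.StrongAG
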