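import Mathlib
import Cfsg.Agent.S1854
import Cfsg.Agent.Lib.Helper22.StrongAGFam

/-!
# The inductive step for the strong Alperin–Goldschmidt theorem
-/

set_option autoImplicit false

namespace Cfsg.Agent.Lib.Helper22.StrongAG

open Cfsg Cfsg.Agent.S1854
open Cfsg.Agent.Lib.Helper13 Cfsg.Agent.Lib.Helper17 Cfsg.Agent.Lib.Helper16 Cfsg.Agent.Lib.Helper10
  Cfsg.Agent.Lib.Helper1
open Cfsg.Agent.Lib.Helper22.SylowConn

variable {G : Type*} [Group G] [Finite G] {p : ℕ} [Fact p.Prime]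

omit [Finite G] [Fact p.Prime] in
theorem pPrimePCore_eq_of_AG (P : Sylow p G) {Q : Subgroup G} (h : AG P Q) :
    (Cfsg.pPrimePCore p ↥(Subgroup.normalizer (Q : Set G))).map
      (Subgroup.normalizer (Q : Set G)).subtype = Q ⊔ Subgroup.centralizer (Q : Set G) := by
  obtain ⟨-, hC, ⟨-, hQW, hcomm, -, hsup⟩, -⟩ := h
  apply le_antisymm
  · rw [← hsup]
    apply sup_le
    · intro k hk
      apply Subgroup.mem_sup_right
      rw [Subgroup.mem_centralizer_iff]
      intro b hb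
      exact (hcomm k hk b hb).symm
    · exact le_sup_left
  · exact sup_le hQW hC

/-- If the Sylow graph of `N(Q)/Q` is connected, `N(Q)` is generated by the normalizers in `N(Q)`
of the subgroups `R` with `Q < R ≤ P`. -/
theorem generation_of_conn (P : Sylow p G) (Q : Subgroup G) (hQP : Q ≤ P) (hQne : Q ≠ P)
    (hFN : FN P Q) (Dd : Subgroup G)
    (hDd : ∀ (R : Subgroup G) (n : G), n ∈ Subgroup.normalizer (Q : Set G) → Q ≤ R → R ≤ P →
      ¬ R ≤ Q → cj n R = R → n ∈ Dd)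
    (hconn : Cfsg.IsSylowChainConnected p
      (↥(Subgroup.normalizer (Q : Set G)) ⧸ Q.subgroupOf (Subgroup.normalizer (Q : Set G)))) :
    Subgroup.normalizer (Q : Set G) ≤ Dd := by
  set N := Subgroup.normalizer (Q : Set G) with hN
  have hQN : Q ≤ N := Subgroup.le_normalizer
  set S := sylN P hFN with hS
  set Qn : Subgroup N := Q.subgroupOf N with hQn
  set π : N →* N ⧸ Qn := QuotientGroup.mk' Qn with hπ
  have hπs : Function.Surjective π := QuotientGroup.mk'_surjective Qn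
  have hπ1 : ∀ z : N, π z = 1 ↔ (z : G) ∈ Q := by
    intro z
    rw [hπ, QuotientGroup.mk'_apply, QuotientGroup.eq_one_iff, hQn, Subgroup.mem_subgroupOf]
  have hπeq : ∀ a b : N, π a = π b → ((a⁻¹ * b : N) : G) ∈ Q := by
    intro a b hab
    rw [← hπ1, map_mul, map_inv, hab, inv_mul_cancel]
  have hQlt : Q < P := lt_of_le_of_ne hQP hQne
  -- `Q ≤ Dd`
  have hQDd : Q ≤ Dd := by
    intro q hq
    obtain ⟨n, hn1, hn2, hn3⟩ := pgroup_normalizer_gt P.2 hQlt
    refine hDd ((P : Subgroup G) ⊓ N) q (hQN hq) (le_inf hQP hQN) inf_le_left ?_ ?_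
    · intro hle
      exact hn3 (hle ⟨hn1, hn2⟩)
    · exact cj_eq_self_of_mem_normalizer (Subgroup.le_normalizer ⟨hQP hq, hQN hq⟩)
  set Sb : Sylow p (N ⧸ Qn) := S.mapSurjective hπs with hSb
  have hSbmem : ∀ z : N, z ∈ (S : Subgroup N) → π z ∈ (Sb : Subgroup (N ⧸ Qn)) := by
    intro z hz
    rw [hSb, Sylow.coe_mapSurjective]
    exact ⟨z, hz, rfl⟩
  have hSbne : (Sb : Subgroup (N ⧸ Qn)) ≠ ⊥ := by
    intro hbot
    obtain ⟨n, hn1, hn2, hn3⟩ := pgroup_normalizer_gt P.2 hQlt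
    have h1 : π ⟨n, hn2⟩ ∈ (Sb : Subgroup (N ⧸ Qn)) :=
      hSbmem _ ((mem_sylN P hFN ⟨n, hn2⟩).mpr hn1)
    rw [hbot, Subgroup.mem_bot, hπ1] at h1
    exact hn3 h1
  set M : Subgroup (N ⧸ Qn) := (Dd.subgroupOf N).map π with hM
  have hMtop : M = ⊤ := by
    apply eq_top_of_conn Sb M hSbne _ (isSylowChainConnected_iff.mp hconn)
    intro Db hDbS hDbne k hk
    obtain ⟨n, rfl⟩ := hπs k
    set R₀ : Subgroup N := Db.comap π with hR₀
    set R : Subgroup G := R₀.map N.subtype with hR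
    have hQR : Q ≤ R := by
      intro q hq
      refine ⟨⟨q, hQN hq⟩, ?_, rfl⟩
      show π ⟨q, hQN hq⟩ ∈ Db
      rw [(hπ1 _).mpr hq]
      exact Subgroup.one_mem _
    have hRP : R ≤ P := by
      rintro _ ⟨r, hr, rfl⟩
      have hr' : π r ∈ Db := hr
      have h1 := hDbS hr'
      rw [hSb, Sylow.coe_mapSurjective] at h1
      obtain ⟨s, hs, hsr⟩ := h1
      have h2 := hπeq s r hsr
      have h3 : (s : G) ∈ (P : Subgroup G) := (mem_sylN P hFN s).mp hs
      have h4 : (r : G) = (s : G) * ((s⁻¹ * r : N) : G) := by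
        simp only [Subgroup.coe_mul, Subgroup.coe_inv]; group
      rw [Subgroup.subtype_apply, h4]
      exact Subgroup.mul_mem _ h3 (hQP h2)
    have hRQ : ¬ R ≤ Q := by
      intro hle
      apply hDbne
      rw [Subgroup.eq_bot_iff_forall]
      intro d hd
      obtain ⟨r, rfl⟩ := hπs d
      rw [hπ1]
      exact hle ⟨r, hd, rfl⟩
    have hnR₀ : n ∈ Subgroup.normalizer (R₀ : Set N) := by
      rw [Subgroup.mem_normalizer_iff]
      intro z
      rw [hR₀, Subgroup.mem_comap, Subgroup.mem_comap, map_mul, map_mul, map_inv]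
      exact (Subgroup.mem_normalizer_iff.mp hk) (π z)
    have hnR : cj (n : G) R = R := cj_val_eq_of_mem_normalizer hnR₀
    have hnDd : (n : G) ∈ Dd := hDd R n n.2 hQR hRP hRQ hnR
    exact ⟨n, Subgroup.mem_subgroupOf.mpr hnDd, rfl⟩
  intro m hm
  have h1 : π ⟨m, hm⟩ ∈ M := by rw [hMtop]; trivial
  obtain ⟨d, hd, hdm⟩ := h1
  have h2 := hπeq d ⟨m, hm⟩ hdm
  have h3 : m = (d : G) * ((d⁻¹ * ⟨m, hm⟩ : N) : G) := by
    simp only [Subgroup.coe_mul, Subgroup.coe_inv]; group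
  rw [h3]
  exact Dd.mul_mem (Subgroup.mem_subgroupOf.mp hd) (hQDd h2)

/-- If the Sylow graph of `N(Q)/Q` is disconnected, there is a least normal subgroup `X/Q` of
`N(Q)/Q` of order divisible by `p`. -/
theorem exists_minX_of_not_conn (Q : Subgroup G)
    (hconn : ¬ Cfsg.IsSylowChainConnected p
      (↥(Subgroup.normalizer (Q : Set G)) ⧸ Q.subgroupOf (Subgroup.normalizer (Q : Set G)))) :
    ∃ X : Subgroup G, MinX p Q X := by
  set N := Subgroup.normalizer (Q : Set G) with hN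
  have hQN : Q ≤ N := Subgroup.le_normalizer
  set Qn : Subgroup N := Q.subgroupOf N with hQn
  set π : N →* N ⧸ Qn := QuotientGroup.mk' Qn with hπ
  have hπs : Function.Surjective π := QuotientGroup.mk'_surjective Qn
  have hπ1 : ∀ z : N, π z = 1 ↔ (z : G) ∈ Q := by
    intro z
    rw [hπ, QuotientGroup.mk'_apply, QuotientGroup.eq_one_iff, hQn, Subgroup.mem_subgroupOf]
  have hπeq : ∀ a b : N, π a = π b → ((a⁻¹ * b : N) : G) ∈ Q := by
    intro a b hab
    rw [← hπ1, map_mul, map_inv, hab, inv_mul_cancel]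
  have hrel : ∀ Y : Subgroup G, Y ≤ N → Q.relIndex Y = Nat.card ((Y.subgroupOf N).map π) := by
    intro Y hYN
    rw [← Subgroup.relIndex_subgroupOf hYN, ← Subgroup.relIndex_bot_left,
      ← Subgroup.relIndex_comap, MonoidHom.comap_bot, hπ, QuotientGroup.ker_mk']
  obtain ⟨Xb, hXbn, hXbp, hXbmin⟩ := exists_min_normal hconn
  set X₀ : Subgroup N := Xb.comap π with hX₀
  set X : Subgroup G := X₀.map N.subtype with hX
  have hXN : X ≤ N := Subgroup.map_subtype_le _
  have hXsub : X.subgroupOf N = X₀ :=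
    Subgroup.comap_map_eq_self_of_injective N.subtype_injective X₀
  have hXmap : X₀.map π = Xb := Subgroup.map_comap_eq_self_of_surjective hπs Xb
  refine ⟨X, ?_, hXN, ?_, ?_, ?_⟩
  · intro q hq
    refine ⟨⟨q, hQN hq⟩, ?_, rfl⟩
    show π ⟨q, hQN hq⟩ ∈ Xb
    rw [(hπ1 _).mpr hq]
    exact Subgroup.one_mem _
  · rw [hXsub]
    exact Subgroup.Normal.comap hXbn π
  · rw [hrel X hXN, hXsub, hXmap]
    exact hXbp
  · intro Y hQY hYN hYn hYp
    have hYbn : ((Y.subgroupOf N).map π).Normal := Subgroup.Normal.map hYn π hπs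
    have hYbp : p ∣ Nat.card ((Y.subgroupOf N).map π) := by rw [← hrel Y hYN]; exact hYp
    have hle := hXbmin _ hYbn hYbp
    rintro _ ⟨x₀, hx₀, rfl⟩
    have hx₀' : π x₀ ∈ Xb := hx₀
    obtain ⟨y₀, hy₀, hyx⟩ := hle hx₀'
    have h2 := hπeq y₀ x₀ hyx
    have h3 : (x₀ : G) = (y₀ : G) * ((y₀⁻¹ * x₀ : N) : G) := by
      simp only [Subgroup.coe_mul, Subgroup.coe_inv]; group
    rw [Subgroup.subtype_apply, h3]
    exact Y.mul_mem (Subgroup.mem_subgroupOf.mp hy₀) (hQY h2)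

/-- Frattini decomposition `N(Q) = O^p(X) N_{N(Q)}(P ∩ X)`. -/
theorem decomp_of_minX (P : Sylow p G) (Q : Subgroup G) (hQP : Q ≤ P) (hFN : FN P Q)
    {X : Subgroup G} (hX : MinX p Q X) (m : G) (hm : m ∈ Subgroup.normalizer (Q : Set G)) :
    ∃ x n : G, x ∈ (Cfsg.pResidual p ↥X).map X.subtype ∧
      cj n ((P : Subgroup G) ⊓ X) = (P : Subgroup G) ⊓ X ∧ m = x * n ∧
      ¬ ((P : Subgroup G) ⊓ X ≤ Q) := by
  obtain ⟨hQX, hXN, hXn, hXp, -⟩ := hX
  set N := Subgroup.normalizer (Q : Set G) with hN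
  set S := sylN P hFN with hS
  set X₀ : Subgroup N := X.subgroupOf N with hX₀
  haveI : X₀.Normal := hXn
  have e1 : ((P : Subgroup G) ⊓ N).relIndex X = (P : Subgroup G).relIndex X := by
    unfold Subgroup.relIndex
    congr 1
    ext z
    simp only [Subgroup.mem_subgroupOf, Subgroup.mem_inf]
    exact ⟨fun h => h.1, fun h => ⟨h, hXN z.2⟩⟩
  have hidx : ¬ p ∣ ((P : Subgroup G).subgroupOf X).index := by
    have h1 := (sylowInf S X₀).not_dvd_index
    rw [coe_sylowInf] at h1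
    have h2 : ((S : Subgroup N).subgroupOf X₀).index =
        (((P : Subgroup G) ⊓ N).subgroupOf N).relIndex (X.subgroupOf N) := rfl
    rw [h2, Subgroup.relIndex_subgroupOf hXN, e1] at h1
    exact h1
  obtain ⟨a, ha, c, hc, hmac⟩ := frattini_inf_normal S X₀ (⟨m, hm⟩ : N)⁻¹
  have hcX : (c : G) ∈ X := Subgroup.mem_subgroupOf.mp hc
  obtain ⟨s, hs, u, hu, hcsu⟩ := exists_mul_of_sylow_pResidual p
    ((P : Subgroup G).subgroupOf X) hidx ⟨(c : G), hcX⟩
  have hsP : (s : G) ∈ (P : Subgroup G) := Subgroup.mem_subgroupOf.mp hs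
  have hcsu' : (c : G) = (s : G) * (u : G) := by
    have := congrArg Subtype.val hcsu
    simpa using this
  have hmeq : m = ((u⁻¹ : X) : G) * ((s : G)⁻¹ * ((a : N) : G)⁻¹) := by
    have h1 : (⟨m, hm⟩ : N) = c⁻¹ * a⁻¹ := by
      have h2 : (⟨m, hm⟩ : N) = ((⟨m, hm⟩ : N)⁻¹)⁻¹ := by simp
      rw [h2, hmac]; group
    have h3 := congrArg Subtype.val h1
    simp only [Subgroup.coe_mul, Subgroup.coe_inv] at h3
    rw [h3, hcsu']
    simp only [Subgroup.coe_inv]
    group
  have hRmap : ((S : Subgroup N) ⊓ X₀).map N.subtype = (P : Subgroup G) ⊓ X := by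
    ext z
    constructor
    · rintro ⟨z₀, hz₀, rfl⟩
      exact ⟨(mem_sylN P hFN z₀).mp hz₀.1, Subgroup.mem_subgroupOf.mp hz₀.2⟩
    · rintro ⟨hz1, hz2⟩
      exact ⟨⟨z, hXN hz2⟩, ⟨(mem_sylN P hFN _).mpr hz1, Subgroup.mem_subgroupOf.mpr hz2⟩, rfl⟩
  refine ⟨((u⁻¹ : X) : G), (s : G)⁻¹ * ((a : N) : G)⁻¹, ⟨u⁻¹, Subgroup.inv_mem _ hu, rfl⟩, ?_,
    hmeq, ?_⟩
  · rw [cj_mul]
    have hsR : (s : G)⁻¹ ∈ (P : Subgroup G) ⊓ X :=
      Subgroup.inv_mem _ ⟨hsP, s.2⟩
    rw [cj_eq_self_of_mem_normalizer (Subgroup.le_normalizer hsR), ← hRmap]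
    have hainv : a⁻¹ ∈ Subgroup.normalizer ((((S : Subgroup N) ⊓ X₀ : Subgroup N)) : Set N) :=
      Subgroup.inv_mem _ ha
    have := cj_val_eq_of_mem_normalizer hainv
    simpa using this
  · intro hle
    have heq : (P : Subgroup G) ⊓ X = Q := le_antisymm hle (le_inf hQP hQX)
    apply hidx
    have : ((P : Subgroup G).subgroupOf X).index = Q.relIndex X := by
      rw [← heq, Subgroup.inf_relIndex_right]; rfl
    rw [this]
    exact hXp

/-- The inductive step. -/
theorem strong_step (P : Sylow p G) (Q : Subgroup G) (hQP : Q ≤ P) (hQne : Q ≠ P) (hFN : FN P Q)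
    (IH : ∀ R : Subgroup G, R ≤ P → Nat.card Q < Nat.card R → ∀ n : G, cj n R ≤ P →
      PDec (SGRel P) (P : Subgroup G) R n) :
    ∀ m ∈ Subgroup.normalizer (Q : Set G), PDec (SGRel P) (P : Subgroup G) Q m := by
  intro m hm
  have hLR := isLinkRel_SGRel P
  have hCI := isConjInv_SGRel P
  set N := Subgroup.normalizer (Q : Set G) with hN
  have hQN : Q ≤ N := Subgroup.le_normalizer
  set S := sylN P hFN with hS
  haveI hQHn : (Q.subgroupOf N).Normal := Subgroup.normal_in_normalizer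
  have hQp : IsPGroup p Q := P.2.to_le hQP
  have hQHp : IsPGroup p (Q.subgroupOf N) := hQp.comap_subtype
  have hQW : Q.subgroupOf N ≤ pPrimePCore p N := pgroup_normal_le_pPrimePCore hQHp
  -- elements normalizing a bigger subgroup
  have big : ∀ (R : Subgroup G) (n : G), Q ≤ R → R ≤ P → ¬ R ≤ Q → cj n R = R →
      PDec (SGRel P) (P : Subgroup G) Q n := by
    intro R n hQR hRP hRQ hn
    have hlt : Q < R := lt_of_le_not_ge hQR hRQ
    exact (IH R hRP (card_lt_of_lt hlt) n (hn.le.trans hRP)).mono hQR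
  have concl : ∀ (R : Subgroup G) (c n : G), Q ≤ R → R ≤ P → ¬ R ≤ Q →
      c ∈ Subgroup.centralizer (Q : Set G) → cj n R = R → m = c * n →
      PDec (SGRel P) (P : Subgroup G) Q m := by
    intro R c n hQR hRP hRQ hc hn hmcn
    rw [hmcn]
    refine (PDec.of_mem_centralizer hc).mul hCI ?_
    rw [cj_eq_self_of_mem_centralizer hc]
    exact big R n hQR hRP hRQ hn
  by_cases hC : (P : Subgroup G) ⊓ Subgroup.centralizer (Q : Set G) ≤ Q
  · by_cases hR : (P : Subgroup G) ⊓ (Cfsg.pPrimePCore p ↥N).map N.subtype ≤ Q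
    · have hAG : AG P Q := good_of P hQP hFN hC hR
      have h4 := pPrimePCore_eq_of_AG P hAG
      by_cases hconn : Cfsg.IsSylowChainConnected p (↥N ⧸ Q.subgroupOf N)
      · let Dd : Subgroup G :=
          { carrier := {n | n ∈ N ∧ PDec (SGRel P) (P : Subgroup G) Q n}
            one_mem' := ⟨Subgroup.one_mem _, PDec.of_mem_centralizer (Subgroup.one_mem _)⟩
            mul_mem' := by
              rintro a b ⟨ha1, ha2⟩ ⟨hb1, hb2⟩
              refine ⟨Subgroup.mul_mem _ ha1 hb1, ha2.mul hCI ?_⟩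
              rw [cj_eq_self_of_mem_normalizer ha1]
              exact hb2
            inv_mem' := by
              rintro a ⟨ha1, ha2⟩
              refine ⟨Subgroup.inv_mem _ ha1, ?_⟩
              have := ha2.inv hLR hCI
              rwa [cj_eq_self_of_mem_normalizer ha1] at this }
        have hgen := generation_of_conn P Q hQP hQne hFN Dd
          (fun R n hnN hQR hRP hRQ hn => ⟨hnN, big R n hQR hRP hRQ hn⟩) hconn
        exact (hgen hm).2
      · obtain ⟨X, hX⟩ := exists_minX_of_not_conn Q hconn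
        obtain ⟨x, n, hx, hn, hmxn, hRQ⟩ := decomp_of_minX P Q hQP hFN hX m hm
        have hSG : SGRel P Q x := ⟨X, hQP, hFN, hC, h4, hconn, hX, hx⟩
        rw [hmxn]
        refine (PDec.single hSG le_rfl).mul hCI ?_
        rw [cj_eq_self_of_mem_normalizer (hLR.mem_normalizer hSG)]
        exact big ((P : Subgroup G) ⊓ X) n (le_inf hQP hX.1) inf_le_left hRQ hn
    · obtain ⟨c, hc, n, hn, hmcn⟩ := lemA_decomp S ⟨m, hm⟩
      have hmap : ((S : Subgroup N) ⊓ pPrimePCore p N).map N.subtype =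
          (P : Subgroup G) ⊓ (Cfsg.pPrimePCore p ↥N).map N.subtype := by
        ext x
        constructor
        · rintro ⟨y, hy, rfl⟩
          exact ⟨(mem_sylN P hFN y).mp hy.1, ⟨y, hy.2, rfl⟩⟩
        · rintro ⟨hx1, ⟨y, hy, rfl⟩⟩
          exact ⟨y, ⟨(mem_sylN P hFN y).mpr hx1, hy⟩, rfl⟩
      apply concl ((P : Subgroup G) ⊓ (Cfsg.pPrimePCore p ↥N).map N.subtype) (c : G) (n : G)
      · apply le_inf hQP
        intro q hq
        exact ⟨⟨q, hQN hq⟩, hQW (Subgroup.mem_subgroupOf.mpr hq), rfl⟩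
      · exact inf_le_left
      · exact hR
      · rw [Subgroup.mem_centralizer_iff]
        intro q hq
        have := commute_pPrimeCore_of_normal_pGroup hQHp hc
          (q := ⟨q, hQN hq⟩) (Subgroup.mem_subgroupOf.mpr hq)
        exact (congrArg Subtype.val this).symm
      · rw [← hmap]
        exact cj_val_eq_of_mem_normalizer hn
      · exact congrArg Subtype.val hmcn
  · -- centralizer case
    set CH := Subgroup.centralizer ((Q.subgroupOf N : Subgroup N) : Set N) with hCH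
    obtain ⟨a, ha, c, hc, hmac⟩ := frattini_inf_normal S CH (⟨m, hm⟩ : N)⁻¹
    have hmap : ((S : Subgroup N) ⊓ CH).map N.subtype =
        (P : Subgroup G) ⊓ Subgroup.centralizer (Q : Set G) := by
      ext x
      constructor
      · rintro ⟨y, hy, rfl⟩
        exact ⟨(mem_sylN P hFN y).mp hy.1, (mem_centralizer_subgroupOf hQN y).mp hy.2⟩
      · rintro ⟨hx1, hx2⟩
        have hxN : x ∈ N := Subgroup.centralizer_le_normalizer _ hx2
        exact ⟨⟨x, hxN⟩, ⟨(mem_sylN P hFN _).mpr hx1,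
          (mem_centralizer_subgroupOf hQN ⟨x, hxN⟩).mpr hx2⟩, rfl⟩
    have hainv : a⁻¹ ∈ Subgroup.normalizer ((((S : Subgroup N) ⊓ CH : Subgroup N)) : Set N) :=
      Subgroup.inv_mem _ ha
    apply concl (Q ⊔ ((P : Subgroup G) ⊓ Subgroup.centralizer (Q : Set G)))
      ((c⁻¹ : N) : G) ((a⁻¹ : N) : G)
    · exact le_sup_left
    · exact sup_le hQP inf_le_left
    · intro h
      exact hC (le_sup_right.trans h)
    · exact (mem_centralizer_subgroupOf hQN c⁻¹).mp (Subgroup.inv_mem _ hc)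
    · rw [cj_sup, ← hmap, cj_val_eq_of_mem_normalizer hainv]
      congr 1
      exact cj_eq_self_of_mem_normalizer (a⁻¹).2
    · have : (⟨m, hm⟩ : N) = c⁻¹ * a⁻¹ := by
        have h1 : (⟨m, hm⟩ : N) = ((⟨m, hm⟩ : N)⁻¹)⁻¹ := by simp
        rw [h1, hmac]; group
      exact congrArg Subtype.val this

/-- The strong decomposition theorem. -/
theorem strong_main (P : Sylow p G) : ∀ Q : Subgroup G, Q ≤ P → ∀ g : G, cj g Q ≤ P →
    PDec (SGRel P) (P : Subgroup G) Q g :=
  main_induction' P (SGRel P) (isLinkRel_SGRel P) (isConjInv_SGRel P)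
    (fun Q hQP hQne hFN IH => strong_step P Q hQP hQne hFN IH)

end Cfsg.Agent.Lib.Helper22.StrongAG
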