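import Mathlib

set_option autoImplicit false

namespace Cfsg.Agent.Lib.Helper22

open Subgroup

variable {K : Type*} [Group K]

/-- An `r`-element lies in every normal subgroup of index prime to `r`. -/
theorem mem_normal_of_pow_prime_pow_eq_one [Finite K] (N : Subgroup K) [N.Normal] {r : ℕ}
    (hr : r.Prime) (hrN : ¬ r ∣ N.index) (x : K) (k : ℕ) (hx : x ^ r ^ k = 1) : x ∈ N := by
  rw [← QuotientGroup.eq_one_iff]
  have h1 : orderOf (QuotientGroup.mk x : K ⧸ N) ∣ r ^ k := by
    apply orderOf_dvd_of_pow_eq_one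
    rw [← QuotientGroup.mk_pow, hx]; rfl
  have h2 : orderOf (QuotientGroup.mk x : K ⧸ N) ∣ N.index := by
    rw [Subgroup.index_eq_card]
    exact orderOf_dvd_natCard _
  have h3 : (r ^ k).Coprime N.index := Nat.Coprime.pow_left k ((Nat.Prime.coprime_iff_not_dvd hr).mpr hrN)
  have h4 : orderOf (QuotientGroup.mk x : K ⧸ N) = 1 := Nat.eq_one_of_dvd_coprimes h3 h1 h2
  exact orderOf_eq_one_iff.mp h4

/-- If the normal subgroup `N` has no proper supplement in the finite group `K`, then every prime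
divisor of `|K|` divides `|K : N|`. -/
theorem prime_dvd_index_of_minimal_supplement [Finite K] (N : Subgroup K) [N.Normal]
    (hmin : ∀ T : Subgroup K, T ⊔ N = ⊤ → T = ⊤) (r : ℕ) [hr : Fact r.Prime]
    (hrK : r ∣ Nat.card K) : r ∣ N.index := by
  by_contra hnd
  obtain ⟨P⟩ : Nonempty (Sylow r K) := inferInstance
  have hPN : (P : Subgroup K) ≤ N := by
    intro x hx
    obtain ⟨k, hk⟩ := P.2 ⟨x, hx⟩
    have hk' : x ^ r ^ k = 1 := by simpa using congrArg Subtype.val hk
    exact mem_normal_of_pow_prime_pow_eq_one N hr.out hnd x k hk'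
  have h1 := Sylow.normalizer_sup_eq_top' P hPN
  have h2 := hmin _ h1
  have hPnormal : (P : Subgroup K).Normal := Subgroup.normalizer_eq_top_iff.mp h2
  obtain ⟨T, hT⟩ := Subgroup.exists_right_complement'_of_coprime (N := (P : Subgroup K)) P.card_coprime_index
  have h3 : T ⊔ N = ⊤ := by
    rw [eq_top_iff, ← hT.sup_eq_top]
    exact sup_le (le_trans hPN le_sup_right) le_sup_left
  have h4 := hmin T h3
  have h5 := hT.card_mul_card
  rw [h4, Subgroup.card_top] at h5
  have h6 : Nat.card (P : Subgroup K) = 1 := by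
    have hpos : 0 < Nat.card K := Nat.card_pos
    exact Nat.eq_of_mul_eq_mul_right hpos (by rw [h5, one_mul])
  have h7 : r ∣ Nat.card (P : Subgroup K) := P.dvd_card_of_dvd_card hrK
  rw [h6] at h7
  exact hr.out.one_lt.ne' (Nat.dvd_one.mp h7)

/-- Every normal subgroup `N` of a finite group has a supplement `H` all of whose prime divisors
divide `|G : N|`. -/
theorem exists_supplement_primes_dvd_index [Finite K] (N : Subgroup K) [N.Normal] :
    ∃ H : Subgroup K, H ⊔ N = ⊤ ∧ ∀ r : ℕ, r.Prime → r ∣ Nat.card H → r ∣ N.index := by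
  obtain ⟨H, hH⟩ := exists_minimal_of_wellFoundedLT (fun H : Subgroup K => H ⊔ N = ⊤) ⟨⊤, top_sup_eq N⟩
  refine ⟨H, hH.1, ?_⟩
  intro r hr hrH
  have : Fact r.Prime := ⟨hr⟩
  have hmin : ∀ T : Subgroup H, T ⊔ N.subgroupOf H = ⊤ → T = ⊤ := by
    intro T hT
    have h1 : T.map H.subtype ⊔ N = ⊤ := by
      rw [eq_top_iff, ← hH.1]
      refine sup_le ?_ le_sup_right
      intro x hx
      have hx' : (⟨x, hx⟩ : H) ∈ T ⊔ N.subgroupOf H := by rw [hT]; trivial
      have : x ∈ (T ⊔ N.subgroupOf H).map H.subtype := ⟨⟨x, hx⟩, hx', rfl⟩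
      rw [Subgroup.map_sup] at this
      have hle : Subgroup.map H.subtype T ⊔ Subgroup.map H.subtype (N.subgroupOf H) ≤
          Subgroup.map H.subtype T ⊔ N := by
        refine sup_le le_sup_left (le_trans ?_ le_sup_right)
        rw [Subgroup.subgroupOf_map_subtype]
        exact inf_le_left
      exact hle this
    have h2 : T.map H.subtype ≤ H := Subgroup.map_subtype_le T
    have h3 : H ≤ T.map H.subtype := hH.2 h1 h2
    rw [eq_top_iff]
    intro x _
    obtain ⟨y, hy, hyx⟩ := h3 x.2
    have : y = x := Subtype.ext hyx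
    rw [← this]; exact hy
  have h4 := prime_dvd_index_of_minimal_supplement (N.subgroupOf H) hmin r hrH
  have h5 : (N.subgroupOf H).index = N.index := by
    show N.relIndex H = N.index
    rw [← Subgroup.relIndex_sup_right, hH.1, Subgroup.relIndex_top_right]
  rwa [h5] at h4

end Cfsg.Agent.Lib.Helper22
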