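import Cfsg.Agent.Lib.Helper22.SuzOPathR

/-!
# S2074 (helper22): checking a long list slice by slice

The kernel keeps every intermediate term of one declaration in its caches, so a Boolean check of a
long list is split into slices, each checked in its own theorem.
-/

set_option autoImplicit false

namespace Cfsg.Agent.Lib.Helper22.SuzOut

open Cfsg.Agent.Lib.Helper28.BSGS

theorem forall_of_slices {α : Type*} (P : α → Prop) (l : List α) (m : ℕ) (hm : 0 < m)
    (h : ∀ k, k * m < l.length → ∀ e ∈ (l.drop (k * m)).take m, P e) : ∀ e ∈ l, P e := by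
  intro e he
  obtain ⟨i, hi, rfl⟩ := List.getElem_of_mem he
  have hk : i / m * m ≤ i := Nat.div_mul_le_self i m
  apply h (i / m) (lt_of_le_of_lt hk hi)
  rw [List.mem_take_iff_getElem]
  have hmod : i - i / m * m < m := by
    have h1 := Nat.mod_lt i hm
    have h2 := Nat.div_add_mod' i m
    omega
  refine ⟨i - i / m * m, ?_, ?_⟩
  · rw [List.length_drop]
    omega
  · rw [List.getElem_drop]
    congr 1
    omega

/-- the Boolean version: a predicate holds on every slice -/
theorem all_of_slices {α : Type*} (f : α → Bool) (l : List α) (m : ℕ) (hm : 0 < m)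
    (h : ∀ k, k * m < l.length → ((l.drop (k * m)).take m).all f = true) :
    ∀ e ∈ l, f e = true :=
  forall_of_slices (fun e => f e = true) l m hm
    (fun k hk => List.all_eq_true.mp (h k hk))

theorem paths_of_slices (n w : ℕ) [NeZero n] (gens : List (ℕ × ℕ)) (hg : gensOK n w gens = true)
    (tr : List Entry) (css : List (List ℕ)) (m : ℕ) (hm : 0 < m)
    (h : ∀ k, k * m < tr.length →
      pathsOKR n w gens ((tr.drop (k * m)).take m) ((css.drop (k * m)).take m) = true) :
    ∀ e ∈ tr, pairOK n w e.2.1 e.2.2 = true ∧ permOf n w e.2.1 e.2.2 ∈ genGroup n w gens :=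
  forall_of_slices _ tr m hm (fun k hk => pathsR_sound n w gens hg _ _ (h k hk))

end Cfsg.Agent.Lib.Helper22.SuzOut
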