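import Cfsg.Agent.Lib.Helper15.O73ClsC
import Cfsg.Agent.Lib.Helper4.TC.SuzG24Glue
import Cfsg.Agent.Lib.Helper22.SuzOSlice
import Cfsg.Agent.Lib.Helper22.SuzOTab

/-! S2074 (helper22): kernel check: the seven tables satisfy the relators of the presentation of
`Suz` (in slices of six relators) -/

set_option autoImplicit false
set_option maxRecDepth 100000

namespace Cfsg.Agent.Lib.Helper22.SuzOut.PD

open Cfsg.Agent.Lib.Helper28.BSGS Cfsg.Agent.Lib.Helper22.SuzOut Cfsg.Agent.Helper4.TC

/-- the table of a presentation generator -/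
def tGen : Cfsg.Spor.Suz.Gen → ℕ × ℕ
  | .a => tT0
  | .b => tT1
  | .c => tT2
  | .d => tT3
  | .e => tT4
  | .f => tT5
  | .g => tT6

/-- the relator with letter codes `b` holds for the tables -/
def relOK (b : List ℕ) : Bool :=
  wordId 1782 11 ((b.map SuzG24.dec).reverse.map fun l => if l.2 then (tGen l.1).1 else (tGen l.1).2)

theorem rel_0 : ((SuzG24.bases.drop (0 * 6)).take 6).all relOK = true := by decide +kernel
theorem rel_1 : ((SuzG24.bases.drop (1 * 6)).take 6).all relOK = true := by decide +kernel
theorem rel_2 : ((SuzG24.bases.drop (2 * 6)).take 6).all relOK = true := by decide +kernel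
theorem rel_3 : ((SuzG24.bases.drop (3 * 6)).take 6).all relOK = true := by decide +kernel
theorem rel_4 : ((SuzG24.bases.drop (4 * 6)).take 6).all relOK = true := by decide +kernel
theorem rel_5 : ((SuzG24.bases.drop (5 * 6)).take 6).all relOK = true := by decide +kernel
theorem rel_6 : ((SuzG24.bases.drop (6 * 6)).take 6).all relOK = true := by decide +kernel
theorem rel_7 : ((SuzG24.bases.drop (7 * 6)).take 6).all relOK = true := by decide +kernel
theorem rel_8 : ((SuzG24.bases.drop (8 * 6)).take 6).all relOK = true := by decide +kernel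

theorem bases_length : SuzG24.bases.length = 54 := by decide +kernel

theorem rel_all : ∀ b ∈ SuzG24.bases, relOK b = true := by
  apply all_of_slices relOK SuzG24.bases 6 (by decide)
  intro j hj
  rw [bases_length] at hj
  have hj' : j < 9 := by omega
  interval_cases j
  exacts [rel_0, rel_1, rel_2, rel_3, rel_4, rel_5, rel_6, rel_7, rel_8]

end Cfsg.Agent.Lib.Helper22.SuzOut.PD
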