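import Cfsg.Agent.Lib.Helper22.SuzOExclDefs
import Cfsg.Agent.Lib.Helper22.SuzOTab
import Cfsg.Agent.Lib.Helper22.SuzOTr

/-! S2074 (helper22): kernel checks of the small facts about the anchors `a` (order 13), `d`
(order 6), `y` (order 4), the diagram symmetry `P2` and the outer element `Q = H * P2` -/

set_option autoImplicit false
set_option maxRecDepth 100000

namespace Cfsg.Agent.Lib.Helper22.SuzOut.PD

open Cfsg.Agent.Lib.Helper28.BSGS Cfsg.Agent.Lib.Helper22.SuzOut

theorem a13 : wordId 1782 11 (List.replicate 13 tA.1) = true := by decide +kernel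

theorem a_ne : wordId 1782 11 [tA.1] = false := by decide +kernel

theorem t0_ne : wordId 1782 11 [tT0.1] = false := by decide +kernel

theorem dad : wordEq 1782 11 [tD.1, tA.1, tD.2] (List.replicate 4 tA.1) = true := by decide +kernel

theorem yd : wordEq 1782 11 [tY.1, tD.1] [tD.1, tY.1] = true := by decide +kernel

theorem y4 : wordId 1782 11 (List.replicate 4 tY.1) = true := by decide +kernel

theorem y2 : wordId 1782 11 (List.replicate 2 tY.1) = false := by decide +kernel

/-- the word of `(a * d * y) ^ 18` -/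
def wADY : List ℕ := (List.replicate 18 [tA.1, tD.1, tY.1]).flatten

/-- the word of `(a * d * y⁻¹) ^ 18` -/
def wADYi : List ℕ := (List.replicate 18 [tA.1, tD.1, tY.2]).flatten

theorem ady18 : wordId 1782 11 wADY = true := by decide +kernel

theorem adyi18 : wordId 1782 11 wADYi = false := by decide +kernel

theorem baseA : rest1.map (fun lv => lv.1) = powImgs 11 tA.1 [1, 4, 3, 12, 9] 625 := by
  decide +kernel

theorem baseD : rest1.map (fun lv => lv.1) = powImgs 11 tD.1 (List.range 5) 714 := by
  decide +kernel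

theorem cyc0_eq : cyc0 = powImgs 11 tA.1 (List.range 13) 625 := by decide +kernel

theorem d_fix : look 11 tD.1 625 = 625 := by decide +kernel

theorem pair_P2 : pairOK 1782 11 tP2.1 tP2.2 = true := by decide +kernel

theorem pair_H : pairOK 1782 11 tH.1 tH.2 = true := by decide +kernel

theorem p2_T0 : wordEq 1782 11 [tP2.1, tT0.1, tP2.2] [tT0.1] = true := by decide +kernel
theorem p2_T1 : wordEq 1782 11 [tP2.1, tT1.1, tP2.2] [tT1.1] = true := by decide +kernel
theorem p2_T2 : wordEq 1782 11 [tP2.1, tT2.1, tP2.2] [tT2.1] = true := by decide +kernel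
theorem p2_T3 : wordEq 1782 11 [tP2.1, tT3.1, tP2.2] [tT3.1] = true := by decide +kernel
theorem p2_T4 : wordEq 1782 11 [tP2.1, tT4.1, tP2.2] [tT4.1] = true := by decide +kernel
theorem p2_T5 : wordEq 1782 11 [tP2.1, tT5.1, tP2.2] [tT6.1] = true := by decide +kernel
theorem p2_T6 : wordEq 1782 11 [tP2.1, tT6.1, tP2.2] [tT5.1] = true := by decide +kernel

theorem sift_H : siftB 1782 11 levels [tH.1] = true := by decide +kernel

theorem q_a : wordEq 1782 11 [tH.1, tP2.1, tA.1, tP2.2, tH.2] [tA.1, tA.1] = true := by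
  decide +kernel

end Cfsg.Agent.Lib.Helper22.SuzOut.PD
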