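import Cfsg.Agent.Lib.Helper22.SuzOCertSeq
import Cfsg.Agent.Lib.Helper22.SuzOCertRel
import Cfsg.Agent.Lib.Helper22.SuzOCertSmall
import Cfsg.Agent.Lib.Helper21.SuzOF6
import Cfsg.Agent.Lib.Helper4.TC.SuzSMain
import Cfsg.Agent.Lib.Helper29.SpecPerm

/-!
# S2074 (helper22): the presented group `Suz` as a permutation group on 1782 points

The seven tables satisfy the relators, `Suz` is simple of order `448345497600` (helper4), hence
`Suz ≃* KT`, the group generated by the seven tables.  The anchors `a`, `d`, `y` are words in the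
seven tables, and the strong generators are words in the anchors.
-/

set_option autoImplicit false
set_option maxRecDepth 100000

namespace Cfsg.Agent.Lib.Helper22.SuzOut.PD

open Cfsg.Agent.Lib.Helper28.BSGS Cfsg.Agent.Lib.Helper22.SuzOut Cfsg.Agent.Helper4.TC

/-- the group generated by the seven tables -/
abbrev KT : Subgroup (Equiv.Perm (Fin 1782)) := genGroup 1782 11 tT

/-- the group generated by the anchors and the further strong generators -/
abbrev K : Subgroup (Equiv.Perm (Fin 1782)) := genGroup 1782 11 gens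

/-- the group generated by the anchors -/
abbrev K3 : Subgroup (Equiv.Perm (Fin 1782)) := genGroup 1782 11 [tA, tY, tD]

theorem seqT_all : gensOK 1782 11 knT3 = true ∧ genGroup 1782 11 knT3 = KT := by
  have h1 := seq_sound 1782 11 tT seqT1 gensOK_tT seqT1_ok
  have h2 := seq_sound 1782 11 knT1 seqT2 h1.1 seqT2_ok
  have h3 := seq_sound 1782 11 knT2 seqT3 h2.1 seqT3_ok
  exact ⟨h3.1, h3.2.trans (h2.2.trans h1.2)⟩

theorem pair_of_knT3 {g : ℕ × ℕ} (hg : g ∈ knT3) :
    pairOK 1782 11 g.1 g.2 = true ∧ permOf 1782 11 g.1 g.2 ∈ KT := by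
  refine ⟨gensOK_spec 1782 11 seqT_all.1 g hg, ?_⟩
  rw [← seqT_all.2]
  exact Subgroup.subset_closure (mem_semGens 1782 11 hg)

theorem mem_knT3_A : tA ∈ knT3 := by simp [knT3, knT2, knT1]
theorem mem_knT3_Y : tY ∈ knT3 := by simp [knT3, knT2, knT1]
theorem mem_knT3_D : tD ∈ knT3 := by simp [knT3, knT2, knT1]

theorem pair_A : pairOK 1782 11 tA.1 tA.2 = true := (pair_of_knT3 mem_knT3_A).1
theorem pair_Y : pairOK 1782 11 tY.1 tY.2 = true := (pair_of_knT3 mem_knT3_Y).1
theorem pair_D : pairOK 1782 11 tD.1 tD.2 = true := (pair_of_knT3 mem_knT3_D).1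

theorem gensOK_3 : gensOK 1782 11 [tA, tY, tD] = true := by
  unfold gensOK
  rw [List.all_cons, List.all_cons, List.all_cons, List.all_nil, pair_A, pair_Y, pair_D]
  rfl

theorem seqA_all : gensOK 1782 11 gens = true ∧ K = K3 := by
  have h1 := seq_sound 1782 11 [tA, tY, tD] seqA1 gensOK_3 seqA1_ok
  have h2 := seq_sound 1782 11 knA1 seqA2 h1.1 seqA2_ok
  exact ⟨h2.1, h2.2.trans h1.2⟩

theorem K3_le_KT : K3 ≤ KT := by
  show Subgroup.closure {s | s ∈ semGens 1782 11 [tA, tY, tD]} ≤ KT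
  rw [Subgroup.closure_le]
  intro s hs
  obtain ⟨g, hg, rfl⟩ := List.mem_map.mp hs
  have hg' : g ∈ knT3 := by
    simp only [List.mem_cons, List.not_mem_nil, or_false] at hg
    rcases hg with rfl | rfl | rfl
    · exact mem_knT3_A
    · exact mem_knT3_Y
    · exact mem_knT3_D
  exact (pair_of_knT3 hg').2

theorem K_le_KT : K ≤ KT := by
  rw [seqA_all.2]
  exact K3_le_KT

/-! ### the presented group -/

theorem pair_tGen (x : Cfsg.Spor.Suz.Gen) : pairOK 1782 11 (tGen x).1 (tGen x).2 = true := by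
  apply gensOK_spec 1782 11 gensOK_tT
  cases x <;> simp [tGen, tT]

theorem tGen_mem (s : ℕ × ℕ) : s ∈ tT ↔ ∃ x, tGen x = s := by
  constructor
  · intro hs
    simp only [tT, List.mem_cons, List.not_mem_nil, or_false] at hs
    rcases hs with rfl | rfl | rfl | rfl | rfl | rfl | rfl
    exacts [⟨.a, rfl⟩, ⟨.b, rfl⟩, ⟨.c, rfl⟩, ⟨.d, rfl⟩, ⟨.e, rfl⟩, ⟨.f, rfl⟩, ⟨.g, rfl⟩]
  · rintro ⟨x, rfl⟩
    cases x <;> simp [tGen, tT]

theorem T0_ne_one : permOf 1782 11 (tGen .a).1 (tGen .a).2 ≠ 1 :=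
  Cfsg.Agent.Lib.Helper29.SpecPerm.ne_one_of_wordId_false 1782 11
    (actsByW_single (permOf_apply (pair_tGen .a))) t0_ne

theorem suz_equiv_KT : Nonempty (Cfsg.Spor.Suz ≃* ↥KT) := by
  obtain ⟨φ, hφ⟩ := Cfsg.Agent.Lib.Helper2.O73Cls.exists_hom_perm SuzG24.Rset SuzG24.dec
    SuzG24.bases SuzG24.hR1 1782 11 tGen pair_tGen rel_all
  exact presented_equiv_genGroup SuzG24.Rset SuzS.main.1 1782 11 tGen tT tGen_mem φ hφ .a T0_ne_one

theorem card_KT : Nat.card ↥KT = 448345497600 := by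
  obtain ⟨e⟩ := suz_equiv_KT
  rw [← Nat.card_congr e.toEquiv]
  exact SuzS.main.2

end Cfsg.Agent.Lib.Helper22.SuzOut.PD
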