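import Cfsg.Agent.Lib.Helper22.SuzOSlice
import Cfsg.Agent.Lib.Helper22.SuzOTab
import Cfsg.Agent.Lib.Helper22.SuzOTr

/-! S2074 (helper22): kernel check of the path certificates of the level-2 transversal, in slices of 30 entries -/

set_option autoImplicit false
set_option maxRecDepth 100000

namespace Cfsg.Agent.Lib.Helper22.SuzOut.PD

open Cfsg.Agent.Lib.Helper28.BSGS Cfsg.Agent.Lib.Helper22.SuzOut

theorem p2_0 : pathsOKR 1782 11 gens ((tr2.drop (0 * 30)).take 30) ((cs2.drop (0 * 30)).take 30) = true := by decide +kernel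
theorem p2_1 : pathsOKR 1782 11 gens ((tr2.drop (1 * 30)).take 30) ((cs2.drop (1 * 30)).take 30) = true := by decide +kernel
theorem p2_2 : pathsOKR 1782 11 gens ((tr2.drop (2 * 30)).take 30) ((cs2.drop (2 * 30)).take 30) = true := by decide +kernel
theorem p2_3 : pathsOKR 1782 11 gens ((tr2.drop (3 * 30)).take 30) ((cs2.drop (3 * 30)).take 30) = true := by decide +kernel

theorem paths2 (j : ℕ) (hj : j * 30 < tr2.length) :
    pathsOKR 1782 11 gens ((tr2.drop (j * 30)).take 30) ((cs2.drop (j * 30)).take 30) = true := by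
  have hlen : tr2.length = 100 := by decide +kernel
  rw [hlen] at hj
  have hj' : j < 4 := by omega
  interval_cases j
  exacts [p2_0, p2_1, p2_2, p2_3]

end Cfsg.Agent.Lib.Helper22.SuzOut.PD
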