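import Cfsg.Agent.Lib.Helper22.SuzOAsmA
import Cfsg.Agent.Lib.Helper22.SuzOCertChain
import Cfsg.Agent.Lib.Helper22.SuzOCertP0_0
import Cfsg.Agent.Lib.Helper22.SuzOCertP0_1
import Cfsg.Agent.Lib.Helper22.SuzOCertP0_2
import Cfsg.Agent.Lib.Helper22.SuzOCertP0_3
import Cfsg.Agent.Lib.Helper22.SuzOCertP0_4
import Cfsg.Agent.Lib.Helper22.SuzOCertP0_5
import Cfsg.Agent.Lib.Helper22.SuzOCertP1
import Cfsg.Agent.Lib.Helper22.SuzOCertP2
import Cfsg.Agent.Lib.Helper22.SuzOCertP3
import Cfsg.Agent.Lib.Helper22.SuzOCertP4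
import Cfsg.Agent.Lib.Helper22.SuzOCertP5

/-!
# S2074 (helper22): the chain of the group `K` by counting

All transversal tables are products of the strong generators (path certificates), the points of
the chain are right, and `|K| ≤ |KT| = |Suz|` is the product of the orbit lengths: so the chain is
complete, `K = KT`, and sifting decides membership.
-/

set_option autoImplicit false
set_option maxRecDepth 100000

namespace Cfsg.Agent.Lib.Helper22.SuzOut.PD

open Cfsg.Agent.Lib.Helper28.BSGS Cfsg.Agent.Lib.Helper22.SuzOut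

/-- the good entries -/
def GoodE (e : Entry) : Prop :=
  pairOK 1782 11 e.2.1 e.2.2 = true ∧ permOf 1782 11 e.2.1 e.2.2 ∈ K

theorem good0_0 : ∀ e ∈ tr0_0, GoodE e :=
  paths_of_slices 1782 11 gens seqA_all.1 tr0_0 cs0_0 30 (by decide) paths0_0
theorem good0_1 : ∀ e ∈ tr0_1, GoodE e :=
  paths_of_slices 1782 11 gens seqA_all.1 tr0_1 cs0_1 30 (by decide) paths0_1
theorem good0_2 : ∀ e ∈ tr0_2, GoodE e :=
  paths_of_slices 1782 11 gens seqA_all.1 tr0_2 cs0_2 30 (by decide) paths0_2
theorem good0_3 : ∀ e ∈ tr0_3, GoodE e :=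
  paths_of_slices 1782 11 gens seqA_all.1 tr0_3 cs0_3 30 (by decide) paths0_3
theorem good0_4 : ∀ e ∈ tr0_4, GoodE e :=
  paths_of_slices 1782 11 gens seqA_all.1 tr0_4 cs0_4 30 (by decide) paths0_4
theorem good0_5 : ∀ e ∈ tr0_5, GoodE e :=
  paths_of_slices 1782 11 gens seqA_all.1 tr0_5 cs0_5 30 (by decide) paths0_5

theorem good0 : ∀ e ∈ tr0, GoodE e := by
  intro e he
  simp only [tr0, List.mem_append] at he
  rcases he with ((((he | he) | he) | he) | he) | he
  exacts [good0_0 e he, good0_1 e he, good0_2 e he, good0_3 e he, good0_4 e he, good0_5 e he]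

theorem good1 : ∀ e ∈ tr1, GoodE e :=
  paths_of_slices 1782 11 gens seqA_all.1 tr1 cs1 30 (by decide) paths1
theorem good2 : ∀ e ∈ tr2, GoodE e :=
  paths_of_slices 1782 11 gens seqA_all.1 tr2 cs2 30 (by decide) paths2
theorem good3 : ∀ e ∈ tr3, GoodE e :=
  paths_of_slices 1782 11 gens seqA_all.1 tr3 cs3 30 (by decide) paths3
theorem good4 : ∀ e ∈ tr4, GoodE e :=
  paths_of_slices 1782 11 gens seqA_all.1 tr4 cs4 30 (by decide) paths4
theorem good5 : ∀ e ∈ tr5, GoodE e :=
  paths_of_slices 1782 11 gens seqA_all.1 tr5 cs5 30 (by decide) paths5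

theorem levels_eq : levels = [(625, tr0), (714, tr1), (1648, tr2), (859, tr3), (860, tr4),
    (402, tr5)] := rfl

theorem good_all : ∀ lv ∈ levels, ∀ e ∈ lv.2, GoodE e := by
  intro lv hlv
  rw [levels_eq] at hlv
  simp only [List.mem_cons, List.not_mem_nil, or_false] at hlv
  rcases hlv with rfl | rfl | rfl | rfl | rfl | rfl
  exacts [good0, good1, good2, good3, good4, good5]

theorem card_K_le : Nat.card ↥K ≤ codeSize levels := by
  rw [code_size, ← card_KT]
  exact Subgroup.card_le_of_le K_le_KT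

theorem count_K : Nat.card ↥K = codeSize levels ∧ LevelsWF 1782 11 levels ∧
    (∀ z ∈ K, Sifts (semLevels 1782 11 gens levels) z) ∧
    (∀ z, Sifts (semLevels 1782 11 gens levels) z → z ∈ K) :=
  count_main 1782 11 gens levels good_all chain_ok card_K_le

theorem card_K : Nat.card ↥K = 448345497600 := count_K.1.trans code_size

theorem levels_wf : LevelsWF 1782 11 levels := count_K.2.1

theorem K_complete : ∀ z ∈ K, Sifts (semLevels 1782 11 gens levels) z := count_K.2.2.1

theorem K_sound : ∀ z, Sifts (semLevels 1782 11 gens levels) z → z ∈ K := count_K.2.2.2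

theorem K_eq_KT : K = KT :=
  Subgroup.eq_of_le_of_card_ge K_le_KT (by rw [card_K, card_KT])

end Cfsg.Agent.Lib.Helper22.SuzOut.PD
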