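import Cfsg.Agent.Lib.Helper22.SuzOExclDefs
import Cfsg.Agent.Lib.Helper22.SuzOSlice
import Cfsg.Agent.Lib.Helper22.SuzOTab
import Cfsg.Agent.Lib.Helper22.SuzOTr

/-! S2074 (helper22): the exceptional base images for the centraliser of `d` -/

set_option autoImplicit false
set_option maxRecDepth 100000

namespace Cfsg.Agent.Lib.Helper22.SuzOut.PD

open Cfsg.Agent.Lib.Helper28.BSGS Cfsg.Agent.Lib.Helper22.SuzOut

/-- the base images of `y` and of `y⁻¹` -/
def exY : ℕ → ℕ → Bool := fun x0 x1 => (x0 == look 11 tY.1 625 && x1 == look 11 tY.1 714) ||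
  (x0 == look 11 tY.2 625 && x1 == look 11 tY.2 714)


end Cfsg.Agent.Lib.Helper22.SuzOut.PD
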