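import Cfsg.Agent.Lib.Helper22.SuzOExclDefs
import Cfsg.Agent.Lib.Helper22.SuzOSlice
import Cfsg.Agent.Lib.Helper22.SuzOTab
import Cfsg.Agent.Lib.Helper22.SuzOTr
import Cfsg.Agent.Lib.Helper22.SuzOCertCdDef

/-! S2074 (helper22): kernel check for the centraliser of `d`: slices [2, 3, 4] of the first transversal, the second image in ranges of 162 points -/

set_option autoImplicit false
set_option maxRecDepth 100000

namespace Cfsg.Agent.Lib.Helper22.SuzOut.PD

open Cfsg.Agent.Lib.Helper28.BSGS Cfsg.Agent.Lib.Helper22.SuzOut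

theorem cd_2_0 : ((tr0.drop (2 * 300)).take 300).all (cdEntryR 1782 11 rest1 tD.1 5 exY (0 * 162) 162) = true := by decide +kernel
theorem cd_2_1 : ((tr0.drop (2 * 300)).take 300).all (cdEntryR 1782 11 rest1 tD.1 5 exY (1 * 162) 162) = true := by decide +kernel
theorem cd_2_2 : ((tr0.drop (2 * 300)).take 300).all (cdEntryR 1782 11 rest1 tD.1 5 exY (2 * 162) 162) = true := by decide +kernel
theorem cd_2_3 : ((tr0.drop (2 * 300)).take 300).all (cdEntryR 1782 11 rest1 tD.1 5 exY (3 * 162) 162) = true := by decide +kernel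
theorem cd_2_4 : ((tr0.drop (2 * 300)).take 300).all (cdEntryR 1782 11 rest1 tD.1 5 exY (4 * 162) 162) = true := by decide +kernel
theorem cd_2_5 : ((tr0.drop (2 * 300)).take 300).all (cdEntryR 1782 11 rest1 tD.1 5 exY (5 * 162) 162) = true := by decide +kernel
theorem cd_2_6 : ((tr0.drop (2 * 300)).take 300).all (cdEntryR 1782 11 rest1 tD.1 5 exY (6 * 162) 162) = true := by decide +kernel
theorem cd_2_7 : ((tr0.drop (2 * 300)).take 300).all (cdEntryR 1782 11 rest1 tD.1 5 exY (7 * 162) 162) = true := by decide +kernel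
theorem cd_2_8 : ((tr0.drop (2 * 300)).take 300).all (cdEntryR 1782 11 rest1 tD.1 5 exY (8 * 162) 162) = true := by decide +kernel
theorem cd_2_9 : ((tr0.drop (2 * 300)).take 300).all (cdEntryR 1782 11 rest1 tD.1 5 exY (9 * 162) 162) = true := by decide +kernel
theorem cd_2_10 : ((tr0.drop (2 * 300)).take 300).all (cdEntryR 1782 11 rest1 tD.1 5 exY (10 * 162) 162) = true := by decide +kernel
theorem cd_3_0 : ((tr0.drop (3 * 300)).take 300).all (cdEntryR 1782 11 rest1 tD.1 5 exY (0 * 162) 162) = true := by decide +kernel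
theorem cd_3_1 : ((tr0.drop (3 * 300)).take 300).all (cdEntryR 1782 11 rest1 tD.1 5 exY (1 * 162) 162) = true := by decide +kernel
theorem cd_3_2 : ((tr0.drop (3 * 300)).take 300).all (cdEntryR 1782 11 rest1 tD.1 5 exY (2 * 162) 162) = true := by decide +kernel
theorem cd_3_3 : ((tr0.drop (3 * 300)).take 300).all (cdEntryR 1782 11 rest1 tD.1 5 exY (3 * 162) 162) = true := by decide +kernel
theorem cd_3_4 : ((tr0.drop (3 * 300)).take 300).all (cdEntryR 1782 11 rest1 tD.1 5 exY (4 * 162) 162) = true := by decide +kernel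
theorem cd_3_5 : ((tr0.drop (3 * 300)).take 300).all (cdEntryR 1782 11 rest1 tD.1 5 exY (5 * 162) 162) = true := by decide +kernel
theorem cd_3_6 : ((tr0.drop (3 * 300)).take 300).all (cdEntryR 1782 11 rest1 tD.1 5 exY (6 * 162) 162) = true := by decide +kernel
theorem cd_3_7 : ((tr0.drop (3 * 300)).take 300).all (cdEntryR 1782 11 rest1 tD.1 5 exY (7 * 162) 162) = true := by decide +kernel
theorem cd_3_8 : ((tr0.drop (3 * 300)).take 300).all (cdEntryR 1782 11 rest1 tD.1 5 exY (8 * 162) 162) = true := by decide +kernel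
theorem cd_3_9 : ((tr0.drop (3 * 300)).take 300).all (cdEntryR 1782 11 rest1 tD.1 5 exY (9 * 162) 162) = true := by decide +kernel
theorem cd_3_10 : ((tr0.drop (3 * 300)).take 300).all (cdEntryR 1782 11 rest1 tD.1 5 exY (10 * 162) 162) = true := by decide +kernel
theorem cd_4_0 : ((tr0.drop (4 * 300)).take 300).all (cdEntryR 1782 11 rest1 tD.1 5 exY (0 * 162) 162) = true := by decide +kernel
theorem cd_4_1 : ((tr0.drop (4 * 300)).take 300).all (cdEntryR 1782 11 rest1 tD.1 5 exY (1 * 162) 162) = true := by decide +kernel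
theorem cd_4_2 : ((tr0.drop (4 * 300)).take 300).all (cdEntryR 1782 11 rest1 tD.1 5 exY (2 * 162) 162) = true := by decide +kernel
theorem cd_4_3 : ((tr0.drop (4 * 300)).take 300).all (cdEntryR 1782 11 rest1 tD.1 5 exY (3 * 162) 162) = true := by decide +kernel
theorem cd_4_4 : ((tr0.drop (4 * 300)).take 300).all (cdEntryR 1782 11 rest1 tD.1 5 exY (4 * 162) 162) = true := by decide +kernel
theorem cd_4_5 : ((tr0.drop (4 * 300)).take 300).all (cdEntryR 1782 11 rest1 tD.1 5 exY (5 * 162) 162) = true := by decide +kernel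
theorem cd_4_6 : ((tr0.drop (4 * 300)).take 300).all (cdEntryR 1782 11 rest1 tD.1 5 exY (6 * 162) 162) = true := by decide +kernel
theorem cd_4_7 : ((tr0.drop (4 * 300)).take 300).all (cdEntryR 1782 11 rest1 tD.1 5 exY (7 * 162) 162) = true := by decide +kernel
theorem cd_4_8 : ((tr0.drop (4 * 300)).take 300).all (cdEntryR 1782 11 rest1 tD.1 5 exY (8 * 162) 162) = true := by decide +kernel
theorem cd_4_9 : ((tr0.drop (4 * 300)).take 300).all (cdEntryR 1782 11 rest1 tD.1 5 exY (9 * 162) 162) = true := by decide +kernel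
theorem cd_4_10 : ((tr0.drop (4 * 300)).take 300).all (cdEntryR 1782 11 rest1 tD.1 5 exY (10 * 162) 162) = true := by decide +kernel

end Cfsg.Agent.Lib.Helper22.SuzOut.PD
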