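import Cfsg.Agent.Lib.Helper22.SuzOExclDefs
import Cfsg.Agent.Lib.Helper22.SuzOSlice
import Cfsg.Agent.Lib.Helper22.SuzOTab
import Cfsg.Agent.Lib.Helper22.SuzOTr
import Cfsg.Agent.Lib.Helper22.SuzOCertCd0
import Cfsg.Agent.Lib.Helper22.SuzOCertCd1
import Cfsg.Agent.Lib.Helper22.SuzOCertCd5
import Cfsg.Agent.Lib.Helper22.SuzOCertCdL

/-! S2074 (helper22): kernel check for the centraliser of `d`, all slices and ranges -/

set_option autoImplicit false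
set_option maxRecDepth 100000

namespace Cfsg.Agent.Lib.Helper22.SuzOut.PD

open Cfsg.Agent.Lib.Helper28.BSGS Cfsg.Agent.Lib.Helper22.SuzOut

theorem cd_all (j r : ℕ) (hj : j < 6) (hr : r < 11) :
    ((tr0.drop (j * 300)).take 300).all (cdEntryR 1782 11 rest1 tD.1 5 exY (r * 162) 162) = true := by
  interval_cases j
  · interval_cases r
    exacts [cd_0_0, cd_0_1, cd_0_2, cd_0_3, cd_0_4, cd_0_5, cd_0_6, cd_0_7, cd_0_8, cd_0_9, cd_0_10]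
  · interval_cases r
    exacts [cd_1_0, cd_1_1, cd_1_2, cd_1_3, cd_1_4, cd_1_5, cd_1_6, cd_1_7, cd_1_8, cd_1_9, cd_1_10]
  · interval_cases r
    exacts [cd_2_0, cd_2_1, cd_2_2, cd_2_3, cd_2_4, cd_2_5, cd_2_6, cd_2_7, cd_2_8, cd_2_9, cd_2_10]
  · interval_cases r
    exacts [cd_3_0, cd_3_1, cd_3_2, cd_3_3, cd_3_4, cd_3_5, cd_3_6, cd_3_7, cd_3_8, cd_3_9, cd_3_10]
  · interval_cases r
    exacts [cd_4_0, cd_4_1, cd_4_2, cd_4_3, cd_4_4, cd_4_5, cd_4_6, cd_4_7, cd_4_8, cd_4_9, cd_4_10]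
  · interval_cases r
    exacts [cd_5_0, cd_5_1, cd_5_2, cd_5_3, cd_5_4, cd_5_5, cd_5_6, cd_5_7, cd_5_8, cd_5_9, cd_5_10]

end Cfsg.Agent.Lib.Helper22.SuzOut.PD
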