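import Cfsg.Agent.Lib.Helper22.SuzOExclDefs
import Cfsg.Agent.Lib.Helper22.SuzOSlice
import Cfsg.Agent.Lib.Helper22.SuzOTab
import Cfsg.Agent.Lib.Helper22.SuzOTr

/-! S2074 (helper22): kernel check: no element conjugates `a` to its square -/

set_option autoImplicit false
set_option maxRecDepth 100000

namespace Cfsg.Agent.Lib.Helper22.SuzOut.PD

open Cfsg.Agent.Lib.Helper28.BSGS Cfsg.Agent.Lib.Helper22.SuzOut

theorem no_0 : ((tr0.drop (0 * 300)).take 300).all (exclPt 11 rest1 tA.1 ([1, 4, 3, 12, 9].map (fun k => k * 2)) []) = true := by decide +kernel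
theorem no_1 : ((tr0.drop (1 * 300)).take 300).all (exclPt 11 rest1 tA.1 ([1, 4, 3, 12, 9].map (fun k => k * 2)) []) = true := by decide +kernel
theorem no_2 : ((tr0.drop (2 * 300)).take 300).all (exclPt 11 rest1 tA.1 ([1, 4, 3, 12, 9].map (fun k => k * 2)) []) = true := by decide +kernel
theorem no_3 : ((tr0.drop (3 * 300)).take 300).all (exclPt 11 rest1 tA.1 ([1, 4, 3, 12, 9].map (fun k => k * 2)) []) = true := by decide +kernel
theorem no_4 : ((tr0.drop (4 * 300)).take 300).all (exclPt 11 rest1 tA.1 ([1, 4, 3, 12, 9].map (fun k => k * 2)) []) = true := by decide +kernel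
theorem no_5 : ((tr0.drop (5 * 300)).take 300).all (exclPt 11 rest1 tA.1 ([1, 4, 3, 12, 9].map (fun k => k * 2)) []) = true := by decide +kernel

theorem tr0_length_no : tr0.length = 1782 := by decide +kernel

theorem no_all (j : ℕ) (hj : j * 300 < tr0.length) :
    ((tr0.drop (j * 300)).take 300).all (exclPt 11 rest1 tA.1 ([1, 4, 3, 12, 9].map (fun k => k * 2)) []) = true := by
  rw [tr0_length_no] at hj
  have hj' : j < 6 := by omega
  interval_cases j
  exacts [no_0, no_1, no_2, no_3, no_4, no_5]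

end Cfsg.Agent.Lib.Helper22.SuzOut.PD
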