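import Cfsg.Agent.Lib.Helper22.SuzOAsmB
import Cfsg.Agent.Lib.Helper22.SuzOCertCa
import Cfsg.Agent.Lib.Helper22.SuzOCertNo
import Cfsg.Agent.Lib.Helper22.SuzOCertCd
import Cfsg.Agent.Lib.Helper21.SuzOF34
import Cfsg.Agent.Lib.Helper19.SuzOF5

/-!
# S2074 (helper22): the rigidity facts about the anchors `a`, `d`, `y` of `Suz` on 1782 points
-/

set_option autoImplicit false
set_option maxRecDepth 100000

namespace Cfsg.Agent.Lib.Helper22.SuzOut.PD

open Cfsg.Agent.Lib.Helper28.BSGS Cfsg.Agent.Lib.Helper22.SuzOut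

/-- the anchor of order 13 -/
abbrev pA : Equiv.Perm (Fin 1782) := permOf 1782 11 tA.1 tA.2
/-- the anchor of order 6 -/
abbrev pD : Equiv.Perm (Fin 1782) := permOf 1782 11 tD.1 tD.2
/-- the anchor of order 4 -/
abbrev pY : Equiv.Perm (Fin 1782) := permOf 1782 11 tY.1 tY.2

theorem actA : ∀ a : Fin 1782, (pA a).val = look 11 tA.1 a.val := permOf_apply pair_A
theorem actD : ∀ a : Fin 1782, (pD a).val = look 11 tD.1 a.val := permOf_apply pair_D
theorem actY : ∀ a : Fin 1782, (pY a).val = look 11 tY.1 a.val := permOf_apply pair_Y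
theorem actDi : ∀ a : Fin 1782, (pD⁻¹ a).val = look 11 tD.2 a.val := permOf_inv_apply pair_D
theorem actYi : ∀ a : Fin 1782, (pY⁻¹ a).val = look 11 tY.2 a.val := permOf_inv_apply pair_Y

theorem mem_K3 {g : ℕ × ℕ} (hg : g ∈ [tA, tY, tD]) : permOf 1782 11 g.1 g.2 ∈ K := by
  rw [seqA_all.2]
  exact Subgroup.subset_closure (mem_semGens 1782 11 hg)

theorem A_mem : pA ∈ K := mem_K3 (by simp)
theorem Y_mem : pY ∈ K := mem_K3 (by simp)
theorem D_mem : pD ∈ K := mem_K3 (by simp)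

theorem A_pow13 : pA ^ 13 = 1 := eq_one_of_wordId 1782 11 (actsByW_pow 1782 11 actA 13) a13

theorem A_ne : pA ≠ 1 :=
  Cfsg.Agent.Lib.Helper29.SpecPerm.ne_one_of_wordId_false 1782 11 (actsByW_single actA) a_ne

instance fact13 : Fact (Nat.Prime 13) := ⟨by norm_num⟩

theorem orderOf_A : orderOf pA = 13 := orderOf_eq_prime A_pow13 A_ne

theorem DAD : pD * pA * pD⁻¹ = pA ^ 4 := by
  rw [mul_assoc]
  exact eq_of_wordEq 1782 11 (actsByW_cons actD (actsByW_cons actA (actsByW_single actDi)))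
    (actsByW_pow 1782 11 actA 4) dad

theorem YD : pY * pD = pD * pY :=
  eq_of_wordEq 1782 11 (actsByW_cons actY (actsByW_single actD))
    (actsByW_cons actD (actsByW_single actY)) yd

theorem Y4 : pY ^ 4 = 1 := eq_one_of_wordId 1782 11 (actsByW_pow 1782 11 actY 4) y4

theorem Y2 : pY ^ 2 ≠ 1 :=
  Cfsg.Agent.Lib.Helper29.SpecPerm.ne_one_of_wordId_false 1782 11 (actsByW_pow 1782 11 actY 2) y2

theorem actsByW_pow_word {g : Equiv.Perm (Fin 1782)} {ws : List ℕ} (hg : ActsByW 1782 11 g ws)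
    (k : ℕ) : ActsByW 1782 11 (g ^ k) (List.replicate k ws).flatten := by
  induction k with
  | zero => rw [pow_zero]; exact actsByW_one 1782 11
  | succ k ih =>
    rw [pow_succ', List.replicate_succ, List.flatten_cons]
    exact Helper19.actsByW_append hg ih

theorem ADY18 : (pA * pD * pY) ^ 18 = 1 := by
  have h : ActsByW 1782 11 (pA * pD * pY) [tA.1, tD.1, tY.1] := by
    rw [mul_assoc]
    exact actsByW_cons actA (actsByW_cons actD (actsByW_single actY))
  exact eq_one_of_wordId 1782 11 (actsByW_pow_word h 18) ady18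

theorem ADYi18 : (pA * pD * pY⁻¹) ^ 18 ≠ 1 := by
  have h : ActsByW 1782 11 (pA * pD * pY⁻¹) [tA.1, tD.1, tY.2] := by
    rw [mul_assoc]
    exact actsByW_cons actA (actsByW_cons actD (actsByW_single actYi))
  exact Cfsg.Agent.Lib.Helper29.SpecPerm.ne_one_of_wordId_false 1782 11 (actsByW_pow_word h 18)
    adyi18

/-! ### the three exclusion arguments -/

theorem ca_pts : ∀ e ∈ tr0, exclPt 11 rest1 tA.1 [1, 4, 3, 12, 9] cyc0 e = true :=
  all_of_slices _ tr0 300 (by decide) ca_all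

theorem no_pts : ∀ e ∈ tr0,
    exclPt 11 rest1 tA.1 ([1, 4, 3, 12, 9].map (fun k => k * 2)) [] e = true :=
  all_of_slices _ tr0 300 (by decide) no_all

theorem tr0_length : tr0.length = 1782 := tr0_length_ca

theorem cd_pts : ∀ e0 ∈ tr0, look 11 tD.1 e0.1 = e0.1 → ∀ x1, x1 < 1782 →
    cdPt 1782 11 rest1 tD.1 5 exY e0 x1 = true := by
  intro e0 he0 hfix x1 hx1
  have hr : x1 / 162 < 11 := by omega
  have h1 : ∀ e ∈ tr0, cdEntryR 1782 11 rest1 tD.1 5 exY (x1 / 162 * 162) 162 e = true := by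
    apply all_of_slices _ tr0 300 (by decide)
    intro j hj
    rw [tr0_length] at hj
    exact cd_all j (x1 / 162) (by omega) hr
  have h2 := h1 e0 he0
  unfold cdEntryR at h2
  rw [Bool.or_eq_true] at h2
  rcases h2 with h2 | h2
  · rw [hfix] at h2
    simp at h2
  · have h3 := allBelow_spec h2 (x1 % 162) (Nat.mod_lt _ (by norm_num))
    have h4 : x1 / 162 * 162 + x1 % 162 = x1 := Nat.div_add_mod' x1 162
    rw [h4] at h3
    exact h3

theorem hCa_perm : ∀ c ∈ K, c * pA = pA * c → c ∈ Subgroup.zpowers pA :=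
  centralizer_le_zpowers 1782 11 gens 625 tr0 rest1 levels_wf K_complete tA pair_A A_mem
    [1, 4, 3, 12, 9] baseA 13 cyc0 cyc0_eq ca_pts

theorem hno_perm : ∀ g ∈ K, g * pA * g⁻¹ ≠ pA ^ 2 :=
  no_conj_pow 1782 11 gens 625 tr0 rest1 levels_wf K_complete tA pair_A [1, 4, 3, 12, 9] baseA 2
    no_pts

theorem hy_perm : ∀ z ∈ K, z * pD = pD * z → z ^ 4 = 1 → z ^ 2 ≠ 1 → z = pY ∨ z = pY⁻¹ :=
  cd_unique 1782 11 gens 625 tr0 rest1 levels_wf K_complete tD tY pair_D pair_Y Y_mem YD d_fix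
    714 5 (by decide) baseD cd_pts

end Cfsg.Agent.Lib.Helper22.SuzOut.PD
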