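import Cfsg.Agent.Lib.Helper22.SuzOAsmC
import Cfsg.Agent.Lib.Helper9.SuzOP5
import Cfsg.Agent.Lib.Helper17.HeOutP1

/-!
# S2074 (helper22): `|Out(Suz)| = 2`

The rigidity criterion of helper17 (`out_card_two_of_rigid`) applied to the group `K` on 1782
points with the anchors `a` (order 13), `d` (order 6, `d a d⁻¹ = a ^ 4`), `y` (order 4 in `C(d)`);
the outer automorphism is conjugation by `Q = H * P2`, where `P2` is the diagram symmetry `f ↔ g`
of the presentation, realised as an involution of the 1782 points.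
-/

set_option autoImplicit false
set_option maxRecDepth 100000

namespace Cfsg.Agent.Lib.Helper22.SuzOut.PD

open Cfsg.Agent.Lib.Helper28.BSGS Cfsg.Agent.Lib.Helper22.SuzOut

/-- isomorphic groups have outer automorphism groups of the same order -/
theorem out_card_congr' {G : Type*} {H : Type*} [Group G] [Group H] (e : G ≃* H) :
    Nat.card (Cfsg.Out G) = Nat.card (Cfsg.Out H) := by
  show Nat.card (MulAut G ⧸ Cfsg.Inn G) = Nat.card (MulAut H ⧸ Cfsg.Inn H)
  rw [← Subgroup.index_eq_card, ← Subgroup.index_eq_card,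
    ← Subgroup.index_map_equiv (Cfsg.Inn G) (MulAut.congr e)]
  congr 1
  ext φ
  constructor
  · rintro ⟨ψ, ⟨g, rfl⟩, rfl⟩
    refine ⟨e g, ?_⟩
    ext x
    simp [MulAut.congr]
  · rintro ⟨h, rfl⟩
    refine ⟨MulAut.conj (e.symm h), ⟨e.symm h, rfl⟩, ?_⟩
    ext x
    simp [MulAut.congr]

/-- the anchors as elements of `K` -/
def gA : ↥K := ⟨pA, A_mem⟩
def gD : ↥K := ⟨pD, D_mem⟩
def gY : ↥K := ⟨pY, Y_mem⟩

theorem orderOf_gA : orderOf gA = 13 := by
  rw [← orderOf_A]
  exact Subgroup.orderOf_mk pA A_mem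

theorem fac13 : (Nat.card ↥K).factorization 13 = 1 := by
  rw [card_K]
  have hp : Nat.Prime 13 := by norm_num
  have h : (448345497600 : ℕ) = 13 * 34488115200 := by norm_num
  rw [h, Nat.factorization_mul (by norm_num) (by norm_num), Finsupp.add_apply,
    hp.factorization_self, Nat.factorization_eq_zero_of_not_dvd (by norm_num)]

theorem hd_K : gD * gA * gD⁻¹ = gA ^ 4 := by
  apply Subtype.ext
  rw [Subgroup.coe_pow]
  exact DAD

theorem hr_K : ∀ k : ℕ, 1 ≤ k → k < 13 → ∃ i : ℕ, k * 4 ^ i % 13 = 1 ∨ k * 4 ^ i % 13 = 2 := by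
  intro k h1 h2
  interval_cases k
  · exact ⟨0, by decide⟩
  · exact ⟨0, by decide⟩
  · exact ⟨4, by decide⟩
  · exact ⟨5, by decide⟩
  · exact ⟨2, by decide⟩
  · exact ⟨4, by decide⟩
  · exact ⟨1, by decide⟩
  · exact ⟨5, by decide⟩
  · exact ⟨2, by decide⟩
  · exact ⟨1, by decide⟩
  · exact ⟨3, by decide⟩
  · exact ⟨3, by decide⟩

theorem hCa_K : ∀ c : ↥K, c * gA = gA * c → c ∈ Subgroup.zpowers gA := by
  intro c hc
  have h := hCa_perm c.1 c.2 (congrArg Subtype.val hc)
  obtain ⟨k, hk⟩ := Subgroup.mem_zpowers_iff.mp h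
  refine Subgroup.mem_zpowers_iff.mpr ⟨k, ?_⟩
  apply Subtype.ext
  rw [Subgroup.coe_zpow]
  exact hk

theorem hgen_K : Subgroup.closure ({gA, gD, gY} : Set ↥K) = ⊤ := by
  have key : ∀ x (hx3 : x ∈ K3), ∀ hx : x ∈ K,
      (⟨x, hx⟩ : ↥K) ∈ Subgroup.closure ({gA, gD, gY} : Set ↥K) := by
    intro x hx3
    induction hx3 using Subgroup.closure_induction with
    | mem s hs =>
      intro hx
      apply Subgroup.subset_closure
      obtain ⟨g, hg, rfl⟩ := List.mem_map.mp hs
      simp only [List.mem_cons, List.not_mem_nil, or_false] at hg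
      rcases hg with rfl | rfl | rfl
      · left; rfl
      · right; right; rfl
      · right; left; rfl
    | one =>
      intro hx
      exact Subgroup.one_mem _
    | mul x y hx hy ihx ihy =>
      intro hxy
      have hxK : x ∈ K := by rw [seqA_all.2]; exact hx
      have hyK : y ∈ K := by rw [seqA_all.2]; exact hy
      exact Subgroup.mul_mem _ (ihx hxK) (ihy hyK)
    | inv x hx ihx =>
      intro hxi
      have hxK : x ∈ K := by rw [seqA_all.2]; exact hx
      exact Subgroup.inv_mem _ (ihx hxK)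
  rw [eq_top_iff]
  intro g _
  have hg3 : g.1 ∈ K3 := by rw [← seqA_all.2]; exact g.2
  exact key g.1 hg3 g.2

theorem hy_K : ∀ ψ : MulAut ↥K, ψ gA = gA → ψ gD = gD → ψ gY = gY := by
  intro ψ hψA hψD
  have hyd : gY * gD = gD * gY := Subtype.ext YD
  have h1 : (ψ gY).1 * pD = pD * (ψ gY).1 := by
    have := congrArg ψ hyd
    rw [map_mul, map_mul, hψD] at this
    exact congrArg Subtype.val this
  have hy4 : gY ^ 4 = 1 := by
    apply Subtype.ext
    rw [Subgroup.coe_pow]
    exact Y4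
  have h2 : (ψ gY).1 ^ 4 = 1 := by
    have := congrArg ψ hy4
    rw [map_pow, map_one] at this
    have h := congrArg Subtype.val this
    rw [Subgroup.coe_pow] at h
    exact h
  have h3 : (ψ gY).1 ^ 2 ≠ 1 := by
    intro h
    have h' : (ψ gY) ^ 2 = 1 := by
      apply Subtype.ext
      rw [Subgroup.coe_pow]
      exact h
    rw [← map_pow] at h'
    have h'' : gY ^ 2 = 1 := by
      have := ψ.injective (h'.trans (map_one ψ).symm)
      exact this
    apply Y2
    have := congrArg Subtype.val h''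
    rw [Subgroup.coe_pow] at this
    exact this
  rcases hy_perm (ψ gY).1 (ψ gY).2 h1 h2 h3 with h | h
  · exact Subtype.ext h
  · exfalso
    apply ADYi18
    have h18 : (gA * gD * gY) ^ 18 = 1 := by
      apply Subtype.ext
      rw [Subgroup.coe_pow]
      exact ADY18
    have := congrArg ψ h18
    rw [map_pow, map_mul, map_mul, hψA, hψD, map_one] at this
    have h' := congrArg Subtype.val this
    rw [Subgroup.coe_pow, Subgroup.coe_mul, Subgroup.coe_mul, h] at h'
    exact h'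

theorem hno_K : ∀ g : ↥K, g * gA * g⁻¹ ≠ gA ^ 2 := by
  intro g h
  apply hno_perm g.1 g.2
  have := congrArg Subtype.val h
  rw [Subgroup.coe_pow] at this
  exact this

/-! ### the outer automorphism -/

/-- the diagram symmetry on the 1782 points -/
abbrev pP2 : Equiv.Perm (Fin 1782) := permOf 1782 11 tP2.1 tP2.2
/-- the inner correction -/
abbrev pH : Equiv.Perm (Fin 1782) := permOf 1782 11 tH.1 tH.2
/-- the element inducing the outer automorphism -/
abbrev pQ : Equiv.Perm (Fin 1782) := pH * pP2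

theorem actP2 : ∀ a : Fin 1782, (pP2 a).val = look 11 tP2.1 a.val := permOf_apply pair_P2
theorem actP2i : ∀ a : Fin 1782, (pP2⁻¹ a).val = look 11 tP2.2 a.val := permOf_inv_apply pair_P2
theorem actH : ∀ a : Fin 1782, (pH a).val = look 11 tH.1 a.val := permOf_apply pair_H
theorem actHi : ∀ a : Fin 1782, (pH⁻¹ a).val = look 11 tH.2 a.val := permOf_inv_apply pair_H

theorem H_mem : pH ∈ K :=
  K_sound pH (siftB_sound 1782 11 levels gens [tH.1] pH levels_wf sift_H (actsByW_single actH))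

theorem p2_conj {s t : ℕ × ℕ} (hs : s ∈ tT) (ht : t ∈ tT)
    (h : wordEq 1782 11 [tP2.1, s.1, tP2.2] [t.1] = true) :
    pP2 * permOf 1782 11 s.1 s.2 * pP2⁻¹ ∈ KT := by
  have hs' := permOf_apply (gensOK_spec 1782 11 gensOK_tT s hs)
  have ht' := permOf_apply (gensOK_spec 1782 11 gensOK_tT t ht)
  have : pP2 * permOf 1782 11 s.1 s.2 * pP2⁻¹ = permOf 1782 11 t.1 t.2 := by
    rw [mul_assoc]
    exact eq_of_wordEq 1782 11 (actsByW_cons actP2 (actsByW_cons hs' (actsByW_single actP2i)))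
      (actsByW_single ht') h
  rw [this]
  exact Subgroup.subset_closure (mem_semGens 1782 11 ht)

theorem Q_conj_gens : ∀ s ∈ {s | s ∈ semGens 1782 11 tT}, pQ * s * pQ⁻¹ ∈ KT := by
  intro s hs
  have hH : pH ∈ KT := K_eq_KT ▸ H_mem
  have h1 : pP2 * s * pP2⁻¹ ∈ KT := by
    obtain ⟨g, hg, rfl⟩ := List.mem_map.mp hs
    simp only [tT, List.mem_cons, List.not_mem_nil, or_false] at hg
    rcases hg with rfl | rfl | rfl | rfl | rfl | rfl | rfl
    · exact p2_conj (by simp [tT]) (by simp [tT]) p2_T0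
    · exact p2_conj (by simp [tT]) (by simp [tT]) p2_T1
    · exact p2_conj (by simp [tT]) (by simp [tT]) p2_T2
    · exact p2_conj (by simp [tT]) (by simp [tT]) p2_T3
    · exact p2_conj (by simp [tT]) (by simp [tT]) p2_T4
    · exact p2_conj (by simp [tT]) (by simp [tT]) p2_T5
    · exact p2_conj (by simp [tT]) (by simp [tT]) p2_T6
  have h2 : pQ * s * pQ⁻¹ = pH * (pP2 * s * pP2⁻¹) * pH⁻¹ := by
    show pH * pP2 * s * (pH * pP2)⁻¹ = _
    rw [mul_inv_rev]
    simp only [mul_assoc]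
  rw [h2]
  exact KT.mul_mem (KT.mul_mem hH h1) (KT.inv_mem hH)

theorem Q_norm : (∀ k ∈ K, pQ * k * pQ⁻¹ ∈ K) ∧ (∀ k ∈ K, pQ⁻¹ * k * pQ ∈ K) := by
  have h := normalizes_of_gens KT {s | s ∈ semGens 1782 11 tT} rfl pQ Q_conj_gens
  rw [K_eq_KT]
  exact h

theorem QA : pQ * pA * pQ⁻¹ = pA ^ 2 := by
  have h1 : pQ * pA * pQ⁻¹ = pH * (pP2 * (pA * (pP2⁻¹ * pH⁻¹))) := by
    show pH * pP2 * pA * (pH * pP2)⁻¹ = _
    rw [mul_inv_rev]
    simp only [mul_assoc]
  rw [h1, pow_two]
  exact eq_of_wordEq 1782 11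
    (actsByW_cons actH (actsByW_cons actP2 (actsByW_cons actA (actsByW_cons actP2i
      (actsByW_single actHi)))))
    (actsByW_cons actA (actsByW_single actA)) q_a

/-- the outer automorphism -/
def tauK : MulAut ↥K := conjAut K pQ Q_norm.1 Q_norm.2

theorem tauK_A : tauK gA = gA ^ 2 := by
  apply Subtype.ext
  rw [Subgroup.coe_pow]
  exact QA

theorem out_K : Nat.card (Cfsg.Out ↥K) = 2 :=
  Cfsg.Agent.Lib.Helper29.HeOut.out_card_two_of_rigid (p := 13) (a := gA) (d := gD) (y := gY)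
    (r := 4) (t := 2) orderOf_gA fac13 hd_K (by decide) hr_K hCa_K hgen_K hy_K hno_K tauK tauK_A

theorem out_Suz : Nat.card (Cfsg.Out Cfsg.Spor.Suz) = 2 := by
  obtain ⟨e⟩ := suz_equiv_KT
  have e' : Cfsg.Spor.Suz ≃* ↥K := e.trans (MulEquiv.subgroupCongr K_eq_KT.symm)
  rw [out_card_congr' e']
  exact out_K

end Cfsg.Agent.Lib.Helper22.SuzOut.PD
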