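import Cfsg.Agent.Lib.Helper21.SuzOP3
import Cfsg.Agent.Lib.Helper22.SuzOTab

/-! S2074 (helper22): kernel checks: the anchors are words in the seven presentation generators,
the further strong generators are words in the anchors (in segments, to bound the memory of one
kernel check) -/

set_option autoImplicit false
set_option maxRecDepth 100000

namespace Cfsg.Agent.Lib.Helper22.SuzOut.PD

open Cfsg.Agent.Lib.Helper28.BSGS Cfsg.Agent.Lib.Helper22.SuzOut

theorem gensOK_tT : gensOK 1782 11 tT = true := by decide +kernel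

/-- the words of the `T`-sequence, in three segments -/
def seqT1 : List ((ℕ × ℕ) × List ℕ) := [(tn7, w_tn7), (tn8, w_tn8), (tn9, w_tn9), (tn10, w_tn10)]
def seqT2 : List ((ℕ × ℕ) × List ℕ) := [(tn11, w_tn11), (tn12, w_tn12), (tn13, w_tn13)]
def seqT3 : List ((ℕ × ℕ) × List ℕ) := [(tn14, w_tn14), (tD, w_tD), (tY, w_tY), (tA, w_tA)]

def knT1 : List (ℕ × ℕ) := tT ++ [tn7, tn8, tn9, tn10]
def knT2 : List (ℕ × ℕ) := knT1 ++ [tn11, tn12, tn13]
def knT3 : List (ℕ × ℕ) := knT2 ++ [tn14, tD, tY, tA]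

theorem seqT1_ok : seqOK 1782 11 tT seqT1 = true := by decide +kernel
theorem seqT2_ok : seqOK 1782 11 knT1 seqT2 = true := by decide +kernel
theorem seqT3_ok : seqOK 1782 11 knT2 seqT3 = true := by decide +kernel

/-- the words of the `A`-sequence, in two segments -/
def seqA1 : List ((ℕ × ℕ) × List ℕ) := [(x3, w_x3), (x4, w_x4), (x5, w_x5), (x6, w_x6)]
def seqA2 : List ((ℕ × ℕ) × List ℕ) := [(x7, w_x7), (x8, w_x8), (x9, w_x9), (x10, w_x10)]

def knA1 : List (ℕ × ℕ) := [tA, tY, tD] ++ [x3, x4, x5, x6]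

theorem seqA1_ok : seqOK 1782 11 [tA, tY, tD] seqA1 = true := by decide +kernel
theorem seqA2_ok : seqOK 1782 11 knA1 seqA2 = true := by decide +kernel

end Cfsg.Agent.Lib.Helper22.SuzOut.PD
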