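import Cfsg.Agent.Lib.Helper21.ImgSiftP
import Cfsg.Agent.Lib.Helper21.SuzOP3

/-!
# S2074 (helper22): Boolean exclusion checks on base images (definitions)

For a certified chain `(b0, tr) :: rest`, an element of the group is determined by the images of the
base points.  If the base points of `rest` are images of `b0` (or of one further point) under powers
of a table `t`, then the base images of an element commuting with (or normalising) that
permutation are determined by one (or two) points; the checks below run over all candidates.
-/

set_option autoImplicit false

namespace Cfsg.Agent.Lib.Helper22.SuzOut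

open Cfsg.Agent.Lib.Helper28.BSGS

/-- images of `x` under the powers of the table `t` with the exponents `ks` -/
def powImgs (w t : ℕ) (ks : List ℕ) (x : ℕ) : List ℕ :=
  ks.map fun k => evalW w (List.replicate k t) x

/-- for the entry `e` of the first transversal: its point is one of the exceptions `exc`, or no
element of the chain has the base images `e.1 :: powImgs w t ks e.1` -/
def exclPt (w : ℕ) (rest : List CLevel) (t : ℕ) (ks : List ℕ) (exc : List ℕ) (e : Entry) : Bool :=
  exc.contains e.1 || (imgSift w rest (powImgs w t ks e.1) [e.2.2]).isNone

/-- for the entry `e0` of the first transversal and the point `x1`: every element of the chain with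
base images `e0.1 :: powImgs w t (range m) x1` is an exception `ex e0.1 x1`, or has square one, or
has fourth power different from one -/
def cdPt (n w : ℕ) (rest : List CLevel) (t m : ℕ) (ex : ℕ → ℕ → Bool) (e0 : Entry) (x1 : ℕ) : Bool :=
  ex e0.1 x1 ||
    match imgSift w rest (powImgs w t (List.range m) x1) [e0.2.2] with
    | none => true
    | some ws => wordId n w (ws ++ ws) || !(wordId n w (ws ++ ws ++ ws ++ ws))

/-- `cdPt` for the points `lo ≤ x1 < lo + len`, for the entries whose point is fixed by `t` -/
noncomputable def cdEntryR (n w : ℕ) (rest : List CLevel) (t m : ℕ) (ex : ℕ → ℕ → Bool)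
    (lo len : ℕ) (e0 : Entry) : Bool :=
  (look w t e0.1 != e0.1) || allBelow (fun i => cdPt n w rest t m ex e0 (lo + i)) len

end Cfsg.Agent.Lib.Helper22.SuzOut
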