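import Cfsg.Agent.Lib.Helper17.SuzOP4

/-!
# S2074 (helper22): a linear certificate for the absence of repetitions, and `lvlOK` from its parts

`nodupB` on the 1782 points of the first transversal needs 1.6 million comparisons in the kernel; a
table of positions does the same job with one lookup per point.
-/

set_option autoImplicit false

namespace Cfsg.Agent.Lib.Helper22.SuzOut

open Cfsg.Agent.Lib.Helper28.BSGS

/-- position certificate: the table `posT` sends every listed point to its position -/
def posOK (w posT : ℕ) (l : List ℕ) : Bool := l.zipIdx.all fun p => look w posT p.1 == p.2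

theorem nodup_of_posOK (w posT : ℕ) (l : List ℕ) (h : posOK w posT l = true) : l.Nodup := by
  unfold posOK at h
  rw [List.all_eq_true] at h
  rw [List.nodup_iff_injective_get]
  have key : ∀ i : Fin l.length, look w posT (l.get i) = i.val := by
    intro i
    have hm : (l.get i, i.val) ∈ l.zipIdx := by
      rw [List.mem_zipIdx_iff_getElem?]
      simp
    exact beq_iff_eq.mp (h _ hm)
  intro i j hij
  apply Fin.ext
  rw [← key i, ← key j, hij]

theorem nodupB_of_nodup : ∀ l : List ℕ, l.Nodup → nodupB l = true := by
  intro l
  induction l with
  | nil => intro _; rfl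
  | cons x xs ih =>
    intro h
    rw [List.nodup_cons] at h
    unfold nodupB
    rw [Bool.and_eq_true]
    refine ⟨?_, ih h.2⟩
    cases hc : xs.contains x with
    | false => rfl
    | true => exact absurd (List.contains_iff_mem.mp hc) h.1

/-- the check of one level from its three parts -/
theorem lvlOK_of (n w : ℕ) (prev : List ℕ) (b : ℕ) (tr : List Entry) (hb : b < n)
    (hnd : (tr.map fun e => e.1).Nodup)
    (hall : (tr.all fun e => decide (e.1 < n) && (look w e.2.1 b == e.1) &&
      prev.all fun p => look w e.2.1 p == p) = true) : lvlOK n w prev (b, tr) = true := by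
  unfold lvlOK
  rw [Bool.and_eq_true, Bool.and_eq_true]
  exact ⟨⟨decide_eq_true hb, nodupB_of_nodup _ hnd⟩, hall⟩

theorem chainOK_cons (n w : ℕ) (prev : List ℕ) (lv : CLevel) (rest : List CLevel) :
    chainOK n w prev (lv :: rest) = (lvlOK n w prev lv && chainOK n w (lv.1 :: prev) rest) := rfl

theorem chainOK_nil (n w : ℕ) (prev : List ℕ) : chainOK n w prev [] = true := rfl

end Cfsg.Agent.Lib.Helper22.SuzOut
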