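import Cfsg.Agent.Lib.Helper21.SuzOP3

/-!
# S2074 (helper22): path certificates for a list of entries, with direct recursors

`pathsOKR` is the same check as helper21's `pathsOK`, written with `List.rec` directly, which the
kernel evaluates about ten times faster than the compiled structural recursion on two lists.
-/

set_option autoImplicit false

namespace Cfsg.Agent.Lib.Helper22.SuzOut

open Cfsg.Agent.Lib.Helper28.BSGS

/-- path certificates for a list of entries (direct recursors) -/
noncomputable def pathsOKR (n w : ℕ) (gens : List (ℕ × ℕ)) (tr : List Entry)
    (css : List (List ℕ)) : Bool :=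
  List.rec (motive := fun _ => List (List ℕ) → Bool) (fun _ => true)
    (fun e _ ih css => List.rec (motive := fun _ => Bool) false
      (fun cs css' _ => pathOK n w gens e cs && ih css') css) tr css

theorem pathsOKR_cons_nil (n w : ℕ) (gens : List (ℕ × ℕ)) (e : Entry) (es : List Entry) :
    pathsOKR n w gens (e :: es) [] = false := rfl

theorem pathsOKR_cons_cons (n w : ℕ) (gens : List (ℕ × ℕ)) (e : Entry) (es : List Entry)
    (cs : List ℕ) (css : List (List ℕ)) :
    pathsOKR n w gens (e :: es) (cs :: css) =
      (pathOK n w gens e cs && pathsOKR n w gens es css) := rfl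

theorem pathsR_sound (n w : ℕ) [NeZero n] (gens : List (ℕ × ℕ)) (hg : gensOK n w gens = true)
    (tr : List Entry) (css : List (List ℕ)) (h : pathsOKR n w gens tr css = true) :
    ∀ e ∈ tr, pairOK n w e.2.1 e.2.2 = true ∧ permOf n w e.2.1 e.2.2 ∈ genGroup n w gens := by
  induction tr generalizing css with
  | nil => intro e he; exact absurd he List.not_mem_nil
  | cons e0 es ih =>
    cases css with
    | nil =>
      rw [pathsOKR_cons_nil] at h
      exact absurd h (by decide)
    | cons cs css =>
      rw [pathsOKR_cons_cons, Bool.and_eq_true] at h
      intro e he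
      rcases List.mem_cons.mp he with rfl | he'
      · have := path_sound n w gens hg e cs h.1
        exact ⟨this.1, this.2.2⟩
      · exact ih css h.2 e he'

end Cfsg.Agent.Lib.Helper22.SuzOut
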