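import Mathlib
import Cfsg.Prelude.Def_Local
import Cfsg.Agent.Lib.Helper22.FixDvdGrp
import Cfsg.Agent.H5.PSolvable

set_option autoImplicit false

/-!
# The number of Sylow subgroups containing a `p`-element, in `p`-solvable groups

`lam p x` is the number of Sylow `p`-subgroups containing `x`.  Main result (`prod_lam_pow_le`):
for a `p`-solvable group `G` with Sylow `p`-subgroup `P`,
`(∏_{x ∈ P} lam p x) ^ p ≤ |Syl_p(G)| ^ |P|`.
-/

namespace Cfsg.Agent.Lib.Helper22.SylowLambda

open Subgroup Finset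
open scoped Pointwise

open Cfsg.Agent.Lib.Helper22.FixDvdGrp

universe u

section Basic

variable {G : Type u} [Group G] [Finite G]

/-- number of Sylow `p`-subgroups containing `x` -/
noncomputable def lam (p : ℕ) (x : G) : ℕ := Nat.card {Q : Sylow p G // x ∈ Q}

theorem lam_one (p : ℕ) : lam p (1 : G) = Nat.card (Sylow p G) := by
  unfold lam
  exact Nat.card_congr (Equiv.subtypeUnivEquiv (fun Q => one_mem Q))

/-- fibres of the quotient map on a subgroup -/
theorem card_filter_mk (L P : Subgroup G) [L.Normal] {y : G ⧸ L}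
    (hy : y ∈ elems (P.map (QuotientGroup.mk' L))) [DecidableEq (G ⧸ L)] :
    ((elems P).filter (fun x => QuotientGroup.mk' L x = y)).card = Nat.card ↥(L ⊓ P) := by
  classical
  obtain ⟨x₀, hx₀, rfl⟩ := mem_elems.mp hy
  have : (elems P).filter (fun x => QuotientGroup.mk' L x = QuotientGroup.mk' L x₀) =
      (elems (L ⊓ P)).image (fun l => x₀ * l) := by
    ext x
    rw [Finset.mem_filter, Finset.mem_image, mem_elems]
    constructor
    · rintro ⟨hxP, hx⟩
      refine ⟨x₀⁻¹ * x, mem_elems.mpr (Subgroup.mem_inf.mpr ⟨?_, mul_mem (inv_mem hx₀) hxP⟩),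
        by group⟩
      rw [QuotientGroup.mk'_apply, QuotientGroup.mk'_apply, QuotientGroup.eq] at hx
      have := inv_mem hx
      simpa using this
    · rintro ⟨l, hl, rfl⟩
      obtain ⟨hlL, hlP⟩ := Subgroup.mem_inf.mp (mem_elems.mp hl)
      refine ⟨mul_mem hx₀ hlP, ?_⟩
      rw [map_mul]
      have : QuotientGroup.mk' L l = 1 := by
        rw [QuotientGroup.mk'_apply, QuotientGroup.eq_one_iff]; exact hlL
      rw [this, mul_one]
  rw [this, Finset.card_image_of_injective _ (mul_right_injective x₀), card_elems]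

theorem prod_comp_mk (L P : Subgroup G) [L.Normal] (F : G ⧸ L → ℕ) :
    ∏ x ∈ elems P, F (QuotientGroup.mk' L x) =
      (∏ y ∈ elems (P.map (QuotientGroup.mk' L)), F y) ^ Nat.card ↥(L ⊓ P) := by
  classical
  have h : ∀ x ∈ elems P, QuotientGroup.mk' L x ∈ elems (P.map (QuotientGroup.mk' L)) :=
    fun x hx => mem_elems.mpr (mem_map_of_mem _ (mem_elems.mp hx))
  rw [← Finset.prod_fiberwise_of_maps_to' h F, ← Finset.prod_pow]
  apply Finset.prod_congr rfl
  intro y hy
  rw [Finset.prod_const, card_filter_mk L P hy]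

theorem card_eq_card_map_mul (L P : Subgroup G) [L.Normal] :
    Nat.card P = Nat.card ↥(P.map (QuotientGroup.mk' L)) * Nat.card ↥(L ⊓ P) := by
  classical
  have h : ((elems P : Finset G) : Set G).MapsTo (QuotientGroup.mk' L)
      (elems (P.map (QuotientGroup.mk' L))) :=
    fun x hx => mem_elems.mpr (mem_map_of_mem _ (mem_elems.mp hx))
  rw [← card_elems P, Finset.card_eq_sum_card_fiberwise h,
    Finset.sum_congr rfl (fun y hy => card_filter_mk L P hy), Finset.sum_const, card_elems,
    smul_eq_mul]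

/-- Sylow subgroups containing `x` correspond to Sylow subgroups of the quotient by a normal
`p`-subgroup containing the image of `x`. -/
noncomputable def sylowQuotEquiv {p : ℕ} [Fact p.Prime] (L : Subgroup G) [L.Normal]
    (hL : IsPGroup p L) (x : G) :
    {Q : Sylow p G // x ∈ Q} ≃ {R : Sylow p (G ⧸ L) // QuotientGroup.mk' L x ∈ R} where
  toFun Q := ⟨Q.1.mapSurjective (QuotientGroup.mk'_surjective L), mem_map_of_mem _ Q.2⟩
  invFun R := ⟨R.1.comapOfKerIsPGroup (QuotientGroup.mk' L)
    (by rw [QuotientGroup.ker_mk']; exact hL)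
    (by rw [MonoidHom.range_eq_top.mpr (QuotientGroup.mk'_surjective L)]; exact le_top), R.2⟩
  left_inv Q := by
    apply Subtype.ext
    apply Sylow.ext
    show (Q.1.map (QuotientGroup.mk' L)).comap (QuotientGroup.mk' L) = Q.1
    rw [comap_map_eq, QuotientGroup.ker_mk', sup_eq_left]
    exact hL.le_sylow_of_normal Q.1
  right_inv R := by
    apply Subtype.ext
    apply Sylow.ext
    show (R.1.comap (QuotientGroup.mk' L)).map (QuotientGroup.mk' L) = R.1
    exact map_comap_eq_self_of_surjective (QuotientGroup.mk'_surjective L) _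

theorem lam_mk_of_isPGroup {p : ℕ} [Fact p.Prime] (L : Subgroup G) [L.Normal]
    (hL : IsPGroup p L) (x : G) : lam p (QuotientGroup.mk' L x) = lam p x :=
  (Nat.card_congr (sylowQuotEquiv L hL x)).symm

theorem card_sylow_quot_of_isPGroup {p : ℕ} [Fact p.Prime] (L : Subgroup G) [L.Normal]
    (hL : IsPGroup p L) : Nat.card (Sylow p (G ⧸ L)) = Nat.card (Sylow p G) := by
  rw [← lam_one, ← lam_one, ← lam_mk_of_isPGroup L hL 1, map_one]

end Basic

section PPrime

variable {G : Type u} [Group G] [Finite G] {p : ℕ} [hp : Fact p.Prime]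
  (L : Subgroup G) [L.Normal]

omit [Finite G] in
theorem coe_smul_sylow (g : G) (Q : Sylow p G) :
    ((g • Q : Sylow p G) : Subgroup G) = MulAut.conj g • (Q : Subgroup G) := rfl

/-- Every Sylow subgroup of `G ⧸ L` containing the image of the `p`-element `x` is the image
of a Sylow subgroup of `G` containing `x`. -/
theorem exists_sylow_mem_map_eq {x : G} (hx : IsPGroup p (zpowers x)) (R : Sylow p (G ⧸ L))
    (hxR : QuotientGroup.mk' L x ∈ R) :
    ∃ Q₀ : Sylow p G, x ∈ Q₀ ∧ (Q₀ : Subgroup G).map (QuotientGroup.mk' L) = R := by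
  set π := QuotientGroup.mk' L with hπ
  have hπs : Function.Surjective π := QuotientGroup.mk'_surjective L
  obtain ⟨Q₁, hQ₁⟩ := Sylow.mapSurjective_surjective hπs p R
  have hQ₁' : (Q₁ : Subgroup G).map π = R := by rw [← hQ₁]; rfl
  set R' := (Q₁ : Subgroup G) ⊔ L with hR'
  have hxR' : x ∈ R' := by
    have : x ∈ ((Q₁ : Subgroup G).map π).comap π := by
      rw [mem_comap, hQ₁']
      exact hxR
    rwa [comap_map_eq, hπ, QuotientGroup.ker_mk'] at this
  have hX : IsPGroup p ((zpowers x).subgroupOf R') := hx.comap_subtype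
  obtain ⟨S', hS'⟩ := hX.exists_le_sylow
  obtain ⟨r, hr⟩ := MulAction.exists_smul_eq ↥R' (Q₁.subtype (le_sup_left : (Q₁ : Subgroup G) ≤ R')) S'
  have hxS : (⟨x, hxR'⟩ : ↥R') ∈ (S' : Subgroup ↥R') :=
    hS' (mem_subgroupOf.mpr (mem_zpowers x))
  have hxQ₁ : (r : G)⁻¹ * x * (r : G) ∈ (Q₁ : Subgroup G) := by
    rw [← hr] at hxS
    have h1 : (⟨x, hxR'⟩ : ↥R') ∈ MulAut.conj r • ((Q₁.subtype (le_sup_left : (Q₁ : Subgroup G) ≤ R') :
        Sylow p ↥R') : Subgroup ↥R') := hxS
    rw [Helper1.mem_conj_smul, Sylow.coe_subtype, mem_subgroupOf] at h1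
    exact h1
  refine ⟨(r : G) • Q₁, ?_, ?_⟩
  · show x ∈ ((r : G) • Q₁ : Sylow p G).1
    rw [show ((r : G) • Q₁ : Sylow p G).1 = MulAut.conj (r : G) • (Q₁ : Subgroup G) from rfl,
      Helper1.mem_conj_smul]
    exact hxQ₁
  · rw [coe_smul_sylow, Helper1.map_conj_smul, hQ₁']
    apply conj_smul_eq_self_of_mem
    have h2 : (R' : Subgroup G).map π = R := by
      rw [hR', Subgroup.map_sup, hQ₁', hπ, QuotientGroup.map_mk'_self, sup_bot_eq]
    have : π (r : G) ∈ (R' : Subgroup G).map π := mem_map_of_mem π r.2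
    rw [h2] at this
    exact this

theorem coprimeAct_sylow (hL : ¬ p ∣ Nat.card L) (Q₀ : Sylow p G) :
    Helper1.CoprimeAct (Q₀ : Subgroup G) L :=
  coprimeAct_of_isPGroup Q₀.2 (by rw [normalizer_eq_top]; exact le_top) hL

/-- The fibre of `Q ↦ Q L / L` through `Q₀ ∋ x` is the `C_L(x)`-orbit of `Q₀`. -/
theorem fibre_iff (hL : ¬ p ∣ Nat.card L) {x : G} (Q₀ : Sylow p G) (hx : x ∈ Q₀)
    (Q : Sylow p G) :
    (x ∈ Q ∧ (Q : Subgroup G).map (QuotientGroup.mk' L) =
        (Q₀ : Subgroup G).map (QuotientGroup.mk' L)) ↔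
      ∃ c : ↥(L ⊓ centralizer ({x} : Set G)), c • Q₀ = Q := by
  set π := QuotientGroup.mk' L with hπ
  have hcop := coprimeAct_sylow L hL Q₀
  constructor
  · rintro ⟨hxQ, hmap⟩
    have hle : (Q : Subgroup G) ≤ (Q₀ : Subgroup G) ⊔ L := by
      have h1 : (Q : Subgroup G) ≤ ((Q : Subgroup G).map π).comap π := le_comap_map _ _
      rw [hmap, comap_map_eq, hπ, QuotientGroup.ker_mk'] at h1
      exact h1
    have hcard : Nat.card (Q : Subgroup G) = Nat.card (Q₀ : Subgroup G) := by
      rw [Sylow.card_eq_multiplicity, Sylow.card_eq_multiplicity]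
    obtain ⟨k, hk, hkQ⟩ := hcop.exists_conj_eq (Q : Subgroup G) hle hcard
    have hkx : k ∈ centralizer ({x} : Set G) := by
      rw [mem_centralizer_singleton_iff]
      have h1 : k⁻¹ * x * k ∈ (Q₀ : Subgroup G) := by
        rw [← Helper1.mem_conj_smul, hkQ]
        exact hxQ
      have h2 : x⁻¹ * (k⁻¹ * x * k) ∈ L ⊓ (Q₀ : Subgroup G) := by
        refine Subgroup.mem_inf.mpr ⟨?_, mul_mem (inv_mem hx) h1⟩
        have h3 : x⁻¹ * (k⁻¹ * x * k) = (x⁻¹ * k⁻¹ * x⁻¹⁻¹) * k := by group
        rw [h3]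
        exact mul_mem (Normal.conj_mem inferInstance _ (inv_mem hk) _) hk
      rw [hcop.inf_eq_bot, mem_bot] at h2
      have h4 : k⁻¹ * x * k = x := by
        have := congrArg (fun y => x * y) h2
        simpa [mul_assoc] using this
      calc k * x = k * (k⁻¹ * x * k) := by rw [h4]
        _ = x * k := by group
    refine ⟨⟨k, Subgroup.mem_inf.mpr ⟨hk, hkx⟩⟩, ?_⟩
    apply Sylow.ext
    exact hkQ
  · rintro ⟨c, rfl⟩
    obtain ⟨hcL, hcx⟩ := Subgroup.mem_inf.mp c.2
    constructor
    · show x ∈ (((c : G) • Q₀ : Sylow p G) : Subgroup G)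
      rw [coe_smul_sylow, Helper1.mem_conj_smul]
      have h1 : (c : G)⁻¹ * x * (c : G) = x := by
        have := mem_centralizer_singleton_iff.mp hcx
        calc (c : G)⁻¹ * x * (c : G) = (c : G)⁻¹ * (x * (c : G)) := by group
          _ = (c : G)⁻¹ * ((c : G) * x) := by rw [this]
          _ = x := by group
      rw [h1]
      exact hx
    · show (((c : G) • Q₀ : Sylow p G) : Subgroup G).map π = _
      rw [coe_smul_sylow, Helper1.map_conj_smul]
      have : π (c : G) = 1 := by
        rw [hπ, QuotientGroup.mk'_apply, QuotientGroup.eq_one_iff]; exact hcL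
      rw [this, map_one, one_smul]

/-- The stabilizer of `Q₀` in `C_L(x)` is `C_L(Q₀)`. -/
theorem card_stabilizer (hL : ¬ p ∣ Nat.card L) {x : G} (Q₀ : Sylow p G) (hx : x ∈ Q₀) :
    Nat.card (MulAction.stabilizer ↥(L ⊓ centralizer ({x} : Set G)) Q₀) =
      Nat.card ↥(L ⊓ centralizer ((Q₀ : Subgroup G) : Set G)) := by
  have hcop := coprimeAct_sylow L hL Q₀
  have hle : L ⊓ centralizer ((Q₀ : Subgroup G) : Set G) ≤ L ⊓ centralizer ({x} : Set G) :=
    inf_le_inf_left _ (centralizer_le (Set.singleton_subset_iff.mpr hx))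
  have h1 : MulAction.stabilizer ↥(L ⊓ centralizer ({x} : Set G)) Q₀ =
      (L ⊓ centralizer ((Q₀ : Subgroup G) : Set G)).subgroupOf (L ⊓ centralizer ({x} : Set G)) := by
    ext c
    rw [MulAction.mem_stabilizer_iff, mem_subgroupOf, Subgroup.mem_inf]
    show (c : G) • Q₀ = Q₀ ↔ _
    rw [Sylow.smul_eq_iff_mem_normalizer]
    constructor
    · intro h
      exact ⟨(Subgroup.mem_inf.mp c.2).1,
        hcop.mem_centralizer_of_mem_normalizer (Subgroup.mem_inf.mp c.2).1 h⟩
    · intro h
      exact centralizer_le_normalizer _ h.2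
  rw [h1]
  exact Nat.card_congr (subgroupOfEquivOfLe hle).toEquiv

/-- `|C_L(Q)|` does not depend on the Sylow subgroup `Q`. -/
theorem card_fix_sylow_eq (P Q₀ : Sylow p G) :
    Nat.card ↥(L ⊓ centralizer ((Q₀ : Subgroup G) : Set G)) =
      Nat.card ↥(L ⊓ centralizer ((P : Subgroup G) : Set G)) := by
  obtain ⟨g, hg⟩ := MulAction.exists_smul_eq G P Q₀
  have h1 : L ⊓ centralizer ((Q₀ : Subgroup G) : Set G) =
      MulAut.conj g • (L ⊓ centralizer ((P : Subgroup G) : Set G)) := by
    ext y
    rw [Helper1.mem_conj_smul, Subgroup.mem_inf, Subgroup.mem_inf]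
    have hL1 : g⁻¹ * y * g ∈ L ↔ y ∈ L := by
      constructor
      · intro h
        have := Normal.conj_mem (inferInstance : L.Normal) _ h g
        simpa [mul_assoc] using this
      · intro h
        have := Normal.conj_mem (inferInstance : L.Normal) _ h g⁻¹
        simpa [mul_assoc] using this
    rw [hL1]
    apply and_congr Iff.rfl
    rw [mem_centralizer_iff, mem_centralizer_iff]
    constructor
    · intro h a ha
      have ha' : g * a * g⁻¹ ∈ (Q₀ : Subgroup G) := by
        rw [← hg, coe_smul_sylow, Helper1.mem_conj_smul]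
        have : g⁻¹ * (g * a * g⁻¹) * g = a := by group
        rw [this]
        exact ha
      have h2 := h _ ha'
      calc a * (g⁻¹ * y * g) = g⁻¹ * ((g * a * g⁻¹) * y) * g := by group
        _ = g⁻¹ * (y * (g * a * g⁻¹)) * g := by rw [h2]
        _ = g⁻¹ * y * g * a := by group
    · intro h a ha
      have ha' : g⁻¹ * a * g ∈ (P : Subgroup G) := by
        rw [← hg, coe_smul_sylow] at ha
        exact Helper1.mem_conj_smul.mp ha
      have h2 := h _ ha'
      calc a * y = g * ((g⁻¹ * a * g) * (g⁻¹ * y * g)) * g⁻¹ := by group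
        _ = g * ((g⁻¹ * y * g) * (g⁻¹ * a * g)) * g⁻¹ := by rw [h2]
        _ = y * a := by group
  rw [h1, Helper1.card_conj_smul]

/-- size of a fibre of `Q ↦ Q L / L` on the Sylow subgroups containing `x` -/
theorem card_fibre (hL : ¬ p ∣ Nat.card L) {x : G} (P Q₀ : Sylow p G) (hx : x ∈ Q₀) :
    Nat.card {Q : Sylow p G // x ∈ Q ∧ (Q : Subgroup G).map (QuotientGroup.mk' L) =
        (Q₀ : Subgroup G).map (QuotientGroup.mk' L)} *
      Nat.card ↥(L ⊓ centralizer ((P : Subgroup G) : Set G)) =
      Nat.card ↥(L ⊓ centralizer ({x} : Set G)) := by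
  have e1 : {Q : Sylow p G // x ∈ Q ∧ (Q : Subgroup G).map (QuotientGroup.mk' L) =
        (Q₀ : Subgroup G).map (QuotientGroup.mk' L)} ≃
      ↥(MulAction.orbit ↥(L ⊓ centralizer ({x} : Set G)) Q₀) :=
    Equiv.subtypeEquivRight (fun Q => (fibre_iff L hL Q₀ hx Q).trans MulAction.mem_orbit_iff.symm)
  have e2 := MulAction.orbitEquivQuotientStabilizer ↥(L ⊓ centralizer ({x} : Set G)) Q₀
  rw [Nat.card_congr (e1.trans e2), ← card_fix_sylow_eq L P Q₀, ← card_stabilizer L hL Q₀ hx,
    ← card_eq_card_quotient_mul_card_subgroup]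

/-- `λ_G(x) |C_L(P)| = λ_{G/L}(xL) |C_L(x)|` for a normal `p'`-subgroup `L` and `x ∈ P`. -/
theorem lam_mul_card_fix (hL : ¬ p ∣ Nat.card L) (P : Sylow p G) {x : G} (hx : x ∈ P) :
    lam p x * Nat.card ↥(L ⊓ centralizer ((P : Subgroup G) : Set G)) =
      lam p (QuotientGroup.mk' L x) * Nat.card ↥(L ⊓ centralizer ({x} : Set G)) := by
  classical
  set π := QuotientGroup.mk' L with hπ
  have hπs : Function.Surjective π := QuotientGroup.mk'_surjective L
  have hxp : IsPGroup p (zpowers x) := P.2.to_le (zpowers_le.mpr hx)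
  let f : {Q : Sylow p G // x ∈ Q} → {R : Sylow p (G ⧸ L) // π x ∈ R} :=
    fun Q => ⟨Q.1.mapSurjective hπs, mem_map_of_mem π Q.2⟩
  have hfib : ∀ R : {R : Sylow p (G ⧸ L) // π x ∈ R},
      Nat.card {Q : {Q : Sylow p G // x ∈ Q} // f Q = R} *
        Nat.card ↥(L ⊓ centralizer ((P : Subgroup G) : Set G)) =
      Nat.card ↥(L ⊓ centralizer ({x} : Set G)) := by
    intro R
    obtain ⟨Q₀, hxQ₀, hQ₀R⟩ := exists_sylow_mem_map_eq L hxp R.1 R.2
    have e : {Q : {Q : Sylow p G // x ∈ Q} // f Q = R} ≃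
        {Q : Sylow p G // x ∈ Q ∧ (Q : Subgroup G).map π = (Q₀ : Subgroup G).map π} :=
      (Equiv.subtypeEquivRight (fun Q => by
        rw [Subtype.ext_iff, Sylow.ext_iff, hQ₀R]
        rfl)).trans (Equiv.subtypeSubtypeEquivSubtypeInter _ _)
    rw [Nat.card_congr e]
    exact card_fibre L hL P Q₀ hxQ₀
  have : Fintype {R : Sylow p (G ⧸ L) // π x ∈ R} := Fintype.ofFinite _
  unfold lam
  rw [Nat.card_congr (Equiv.sigmaFiberEquiv f).symm, Nat.card_sigma, Finset.sum_mul,
    Finset.sum_congr rfl (fun R _ => hfib R), Finset.sum_const, Finset.card_univ, smul_eq_mul,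
    ← Nat.card_eq_fintype_card (α := {R : Sylow p (G ⧸ L) // π x ∈ R})]

end PPrime

section Main

theorem lam_le {G : Type u} [Group G] [Finite G] (p : ℕ) (x : G) :
    lam p x ≤ Nat.card (Sylow p G) :=
  Finite.card_subtype_le _

theorem lam_pos {G : Type u} [Group G] [Finite G] {p : ℕ} [Fact p.Prime] (P : Sylow p G) {x : G}
    (hx : x ∈ P) : 0 < lam p x := by
  unfold lam
  have : Nonempty {Q : Sylow p G // x ∈ Q} := ⟨⟨P, hx⟩⟩
  exact Nat.card_pos

/-- **Theorem A**: in a `p`-solvable group, `(∏_{x ∈ P} λ(x))^p ≤ n_p^{|P|}`. -/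
theorem prod_lam_pow_le {p : ℕ} [hp : Fact p.Prime] :
    ∀ (k : ℕ) (G : Type u) [Group G] [Finite G], Nat.card G = k → Cfsg.IsPSolvable p G →
      ∀ P : Sylow p G, (∏ x ∈ elems (P : Subgroup G), lam p x) ^ p ≤
        Nat.card (Sylow p G) ^ Nat.card (P : Subgroup G) := by
  intro k
  induction k using Nat.strong_induction_on with
  | _ k ih =>
    intro G _ _ hk hsolv P
    by_cases hG : Subsingleton G
    · -- trivial group
      have hn : Nat.card (Sylow p G) = 1 := by
        rw [Nat.card_eq_one_iff_unique]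
        refine ⟨⟨fun Q₁ Q₂ => Sylow.ext (Subsingleton.elim _ _)⟩, inferInstance⟩
      rw [hn, one_pow]
      have h1 : ∏ x ∈ elems (P : Subgroup G), lam p x ≤ 1 :=
        calc ∏ x ∈ elems (P : Subgroup G), lam p x ≤ ∏ _x ∈ elems (P : Subgroup G), 1 :=
              Finset.prod_le_prod (fun _ _ => Nat.zero_le _) (fun x _ => hn ▸ lam_le p x)
          _ = 1 := Finset.prod_const_one
      calc (∏ x ∈ elems (P : Subgroup G), lam p x) ^ p ≤ 1 ^ p := Nat.pow_le_pow_left h1 p
        _ = 1 := one_pow p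
    · rw [not_subsingleton_iff_nontrivial] at hG
      obtain ⟨L, -, hLn, hL1, hL⟩ := Cfsg.H5.exists_normal_p_or_pPrime_le hsolv ⊤ inferInstance
        top_ne_bot
      set π := QuotientGroup.mk' L with hπ
      have hπs : Function.Surjective π := QuotientGroup.mk'_surjective L
      have hcardG : Nat.card G = Nat.card (G ⧸ L) * Nat.card L :=
        card_eq_card_quotient_mul_card_subgroup L
      have hL2 : 1 < Nat.card L := (Subgroup.one_lt_card_iff_ne_bot (H := L)).mpr hL1
      have hlt : Nat.card (G ⧸ L) < Nat.card G := by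
        rw [hcardG]
        have : 0 < Nat.card (G ⧸ L) := Nat.card_pos
        nlinarith
      have hsolvq := Cfsg.H5.isPSolvable_quotient L hsolv
      have ihq := ih (Nat.card (G ⧸ L)) (hk ▸ hlt) (G ⧸ L) rfl hsolvq (P.mapSurjective hπs)
      rw [Sylow.coe_mapSurjective] at ihq
      have hcardP := card_eq_card_map_mul L (P : Subgroup G)
      set B := ∏ y ∈ elems ((P : Subgroup G).map π), lam p y with hB
      rcases hL with hLp | hLc
      · -- `L` a `p`-group
        have h1 : ∏ x ∈ elems (P : Subgroup G), lam p x = B ^ Nat.card ↥(L ⊓ (P : Subgroup G)) := by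
          rw [hB, ← prod_comp_mk L (P : Subgroup G) (fun y => lam p y)]
          exact Finset.prod_congr rfl (fun x _ => (lam_mk_of_isPGroup L hLp x).symm)
        rw [h1, ← pow_mul, mul_comm, pow_mul, hcardP, pow_mul,
          ← card_sylow_quot_of_isPGroup L hLp]
        exact Nat.pow_le_pow_left ihq _
      · -- `L` a `p'`-group
        have hLnd : ¬ p ∣ Nat.card L := by
          intro h
          have := Nat.Coprime.eq_one_of_dvd hLc.symm h
          exact hp.out.one_lt.ne' this
        have hLP : L ⊓ (P : Subgroup G) = ⊥ := by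
          apply disjoint_iff.mp
          apply disjoint_of_coprime_natCard
          obtain ⟨j, hj⟩ := IsPGroup.iff_card.mp P.2
          rw [hj]
          exact Nat.Coprime.pow_right _ hLc
        have hc1 : Nat.card ↥(L ⊓ (P : Subgroup G)) = 1 := by rw [hLP, Subgroup.card_bot]
        rw [hc1, mul_one] at hcardP
        set cP := Nat.card ↥(L ⊓ centralizer ((P : Subgroup G) : Set G)) with hcP
        set D := ∏ x ∈ elems (P : Subgroup G), Nat.card ↥(L ⊓ centralizer ({x} : Set G)) with hD
        set A := ∏ x ∈ elems (P : Subgroup G), lam p x with hA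
        set m := Nat.card (P : Subgroup G) with hm
        have h1 : ∏ x ∈ elems (P : Subgroup G), lam p (π x) = B := by
          rw [prod_comp_mk L (P : Subgroup G) (fun y => lam p y), hc1, pow_one]
        have h2 : A * cP ^ m = B * D := by
          rw [hA, hD, ← h1, ← Finset.prod_mul_distrib, hm, ← card_elems, ← Finset.prod_const,
            ← Finset.prod_mul_distrib]
          exact Finset.prod_congr rfl (fun x hx => lam_mul_card_fix L hLnd P (mem_elems.mp hx))
        have h3 : Nat.card (Sylow p G) * cP = Nat.card (Sylow p (G ⧸ L)) * Nat.card L := by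
          have := lam_mul_card_fix L hLnd P (one_mem _)
          rw [map_one, lam_one, lam_one] at this
          have e : L ⊓ centralizer ({1} : Set G) = L := by
            rw [inf_eq_left]
            intro l _
            rw [mem_centralizer_singleton_iff, mul_one, one_mul]
          rw [e] at this
          exact this
        have hPN : (P : Subgroup G) ≤ normalizer (L : Set G) := by
          rw [normalizer_eq_top]; exact le_top
        have h4 := prod_card_fix_pow_le (p := p) (Nat.card L) L (P : Subgroup G) rfl hPN P.2 hLnd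
        rw [← hD, ← hcP, ← hm] at h4
        rw [← hcardP] at ihq
        have hcPpos : 0 < cP := Nat.card_pos
        have hpos : 0 < cP ^ (m * p) := pow_pos hcPpos _
        apply Nat.le_of_mul_le_mul_right _ hpos
        have hp1 : p = 1 + (p - 1) := by have := hp.out.one_lt; omega
        calc A ^ p * cP ^ (m * p) = (A * cP ^ m) ^ p := by rw [mul_pow, ← pow_mul]
          _ = B ^ p * D ^ p := by rw [h2, mul_pow]
          _ ≤ Nat.card (Sylow p (G ⧸ L)) ^ m * (Nat.card L ^ m * cP ^ (m * (p - 1))) :=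
            Nat.mul_le_mul ihq h4
          _ = (Nat.card (Sylow p (G ⧸ L)) * Nat.card L) ^ m * cP ^ (m * (p - 1)) := by
            rw [mul_pow, mul_assoc]
          _ = (Nat.card (Sylow p G) * cP) ^ m * cP ^ (m * (p - 1)) := by rw [h3]
          _ = Nat.card (Sylow p G) ^ m * cP ^ (m * p) := by
            rw [mul_pow, mul_assoc, ← pow_add]
            congr 2
            have : m * p = m * (1 + (p - 1)) := by rw [← hp1]
            rw [this]
            ring

end Main

end Cfsg.Agent.Lib.Helper22.SylowLambda
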