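import Mathlib
import Cfsg.Prelude.Def_Solvable
import Cfsg.Agent.Lib.Helper1.Frobenius
import Cfsg.Agent.Lib.Helper1.Coprime
import Cfsg.Agent.Lib.Helper1.CoprimeSylow

/-!
# Groups acting with constant centralizers are Frobenius complements (helper22 library)

If `H` acts coprimely on `N` with `C_N(h) = C_N(H)` for every `1 ≠ h ∈ H`, and `H` does not
centralize `N`, then `H` is isomorphic to a Frobenius complement (of a section of `N ⋊ H`).
-/

set_option autoImplicit false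

universe u

namespace Cfsg.Agent.Lib.Helper22.TIFrob
open Cfsg.Agent.Lib.Helper1 Subgroup
open scoped Pointwise

/-- A finite nontrivial group partitioned by a conjugation-closed family of malnormal subgroups
is itself a member of the family. -/
theorem top_mem_of_partition {H : Type*} [Group H] [Finite H] [Nontrivial H]
    (𝒟 : Set (Subgroup H))
    (hconj : ∀ D ∈ 𝒟, ∀ y : H, MulAut.conj y • D ∈ 𝒟)
    (hmal : ∀ D ∈ 𝒟, ∀ x ∈ D, x ≠ 1 → ∀ y : H, y * x * y⁻¹ ∈ D → y ∈ D)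
    (hTI : ∀ D ∈ 𝒟, ∀ D' ∈ 𝒟, ∀ x : H, x ≠ 1 → x ∈ D → x ∈ D' → D = D')
    (hcov : ∀ x : H, x ≠ 1 → ∃ D ∈ 𝒟, x ∈ D) : ⊤ ∈ 𝒟 := by
  by_contra htop
  have hfrob : ∀ D ∈ 𝒟, ∀ x ∈ D, x ≠ 1 → Cfsg.IsFrobeniusComplement D := by
    intro D hD x hx hx1
    refine ⟨?_, ?_, ?_⟩
    · intro hbot
      rw [hbot, Subgroup.mem_bot] at hx
      exact hx1 hx
    · intro h
      rw [h] at hD
      exact htop hD
    · intro g hg
      rw [eq_bot_iff]
      intro w hw
      obtain ⟨hw1, hw2⟩ := Subgroup.mem_inf.mp hw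
      rw [Subgroup.mem_bot]
      by_contra hw0
      rw [mem_conj_smul] at hw2
      apply hg
      have h1 : g⁻¹ * w * g⁻¹⁻¹ ∈ D := by rwa [inv_inv]
      have := hmal D hD w hw1 hw0 g⁻¹ h1
      simpa using D.inv_mem this
  obtain ⟨x, hx1⟩ := exists_ne (1 : H)
  obtain ⟨D, hD, hxD⟩ := hcov x hx1
  have hDf := hfrob D hD x hxD hx1
  have hker := IsFrobeniusComplement.card_kernel hDf
  have hidx : 2 ≤ D.index := by
    have h1 : D.index ≠ 1 := fun h => hDf.2.1 (Subgroup.index_eq_one.mp h)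
    have h0 : D.index ≠ 0 := Subgroup.index_ne_zero_of_finite
    omega
  obtain ⟨x', hx'k, hx'1⟩ : ∃ x' ∈ Cfsg.frobeniusKernel D, x' ≠ 1 := by
    by_contra hcon
    push Not at hcon
    have hsub : Cfsg.frobeniusKernel D ⊆ {1} := fun y hy => hcon y hy
    have h2 := Set.ncard_le_ncard hsub (Set.toFinite _)
    rw [Set.ncard_singleton, ← Nat.card_coe_set_eq, hker] at h2
    omega
  obtain ⟨D', hD', hx'D'⟩ := hcov x' hx'1
  have hD'f := hfrob D' hD' x' hx'D' hx'1
  have hc1 := IsFrobeniusComplement.card_compl_kernel hDf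
  have hc2 := IsFrobeniusComplement.card_compl_kernel hD'f
  have hdisj : Disjoint ((Cfsg.frobeniusKernel D)ᶜ) ((Cfsg.frobeniusKernel D')ᶜ) := by
    rw [Set.disjoint_left]
    intro w hw hw'
    simp only [Cfsg.frobeniusKernel, Set.mem_compl_iff, Set.mem_ofPred_eq, not_or, not_forall,
      not_not] at hw hw'
    obtain ⟨hw1, g, hg⟩ := hw
    obtain ⟨-, g', hg'⟩ := hw'
    have e := hTI _ (hconj D hD g) _ (hconj D' hD' g') w hw1 hg hg'
    rcases hx'k with h | h
    · exact hx'1 h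
    · apply h (g'⁻¹ * g)
      have h3 : x' ∈ MulAut.conj g'⁻¹ • MulAut.conj g' • D' := by
        rw [map_inv, inv_smul_smul]
        exact hx'D'
      rw [← e, smul_smul, ← map_mul] at h3
      exact h3
  -- counting
  have hone : (1 : H) ∉ (Cfsg.frobeniusKernel D)ᶜ ∪ (Cfsg.frobeniusKernel D')ᶜ := by
    rintro (h | h)
    · exact h (one_mem_frobeniusKernel D)
    · exact h (one_mem_frobeniusKernel D')
  have h3 := Set.ncard_insert_of_notMem hone (Set.toFinite _)
  rw [Set.ncard_union_eq hdisj (Set.toFinite _) (Set.toFinite _)] at h3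
  have h4 : (insert (1 : H) ((Cfsg.frobeniusKernel D)ᶜ ∪ (Cfsg.frobeniusKernel D')ᶜ)).ncard
      ≤ Nat.card H := by
    rw [← Set.ncard_univ]
    exact Set.ncard_le_ncard (Set.subset_univ _) (Set.toFinite _)
  rw [Nat.card_coe_set_eq] at hc1 hc2
  rw [h3, hc1, hc2] at h4
  have e1 := Subgroup.index_mul_card D
  have e2 := Subgroup.index_mul_card D'
  have hb1 : 2 ≤ Nat.card D := (Subgroup.one_lt_card_iff_ne_bot D).mpr hDf.1
  have hb2 : 2 ≤ Nat.card D' := (Subgroup.one_lt_card_iff_ne_bot D').mpr hD'f.1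
  have f1 : D.index * (Nat.card D - 1) = D.index * Nat.card D - D.index := Nat.mul_sub_one _ _
  have f2 : D'.index * (Nat.card D' - 1) = D'.index * Nat.card D' - D'.index := Nat.mul_sub_one _ _
  have g1 : D.index * 2 ≤ D.index * Nat.card D := Nat.mul_le_mul_left _ hb1
  have g2 : D'.index * 2 ≤ D'.index * Nat.card D' := Nat.mul_le_mul_left _ hb2
  omega

section Main

variable {G : Type u} [Group G] [Finite G] {H N : Subgroup G}

/-- `H` acts coprimely on the normal subgroup `N`, and all nonidentity elements of `H` have the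
same centralizer in `N`. -/
structure Setting (H N : Subgroup G) : Prop where
  normal : N.Normal
  cent : ∀ h ∈ H, h ≠ 1 → ∀ n ∈ N, n * h = h * n → ∀ y ∈ H, n * y = y * n
  cop : (Nat.card N).Coprime (Nat.card H)

theorem Setting.disj (hS : Setting H N) : N ⊓ H = ⊥ :=
  disjoint_iff.mp (Subgroup.disjoint_of_coprime_natCard hS.cop)

theorem Setting.eq_one_of_mem (hS : Setting H N) {x : G} (hN : x ∈ N) (hH : x ∈ H) : x = 1 := by
  have : x ∈ N ⊓ H := Subgroup.mem_inf.mpr ⟨hN, hH⟩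
  rwa [hS.disj, Subgroup.mem_bot] at this

theorem Setting.le_normalizer (hS : Setting H N) (A : Subgroup G) : A ≤ normalizer (N : Set G) := by
  have := hS.normal
  rw [Subgroup.normalizer_eq_top_iff.mpr this]
  exact le_top

/-- If `a v a⁻¹ = v z` with `z ∈ N` commuting with `a ∈ H`, then `z = 1`. -/
theorem Setting.eq_one_of_conj_eq_mul (hS : Setting H N) {a v z : G} (ha : a ∈ H) (hz : z ∈ N)
    (hza : z * a = a * z) (h : a * v * a⁻¹ = v * z) : z = 1 := by
  have key : ∀ i : ℕ, a ^ i * v * (a ^ i)⁻¹ = v * z ^ i := by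
    intro i
    induction i with
    | zero => simp
    | succ i ih =>
      have hc : a * z ^ i * a⁻¹ = z ^ i := by
        have hcm : Commute a (z ^ i) := Commute.pow_right (show Commute a z from hza.symm) i
        rw [hcm.eq]
        group
      calc a ^ (i + 1) * v * (a ^ (i + 1))⁻¹ = a * (a ^ i * v * (a ^ i)⁻¹) * a⁻¹ := by
            rw [pow_succ']; group
        _ = a * (v * z ^ i) * a⁻¹ := by rw [ih]
        _ = (a * v * a⁻¹) * (a * z ^ i * a⁻¹) := by group
        _ = v * z * z ^ i := by rw [h, hc]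
        _ = v * z ^ (i + 1) := by rw [pow_succ', mul_assoc]
  have h1 := key (orderOf a)
  rw [pow_orderOf_eq_one] at h1
  have h2 : z ^ orderOf a = 1 := by
    have : v * 1 = v * z ^ orderOf a := by rw [← h1]; group
    exact (mul_left_cancel this).symm
  have d1 : orderOf z ∣ Nat.card H :=
    (orderOf_dvd_of_pow_eq_one h2).trans (Subgroup.orderOf_dvd_natCard H ha)
  have d2 : orderOf z ∣ Nat.card N := Subgroup.orderOf_dvd_natCard N hz
  exact orderOf_eq_one_iff.mp (Nat.eq_one_of_dvd_coprimes hS.cop d2 d1)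

/-- `y ∈ H`, `c ∈ N` commuting and `y c ∈ X` imply `y ∈ X`. -/
theorem Setting.mem_of_mul_mem (hS : Setting H N) {X : Subgroup G} {y c : G} (hy : y ∈ H)
    (hc : c ∈ N) (hcomm : c * y = y * c) (h : y * c ∈ X) : y ∈ X := by
  have h1 : (y * c) ^ Nat.card N = y ^ Nat.card N := by
    rw [(show Commute y c from hcomm.symm).mul_pow]
    have : c ^ Nat.card N = 1 := by
      have := pow_card_eq_one' (G := N) (x := ⟨c, hc⟩)
      exact congrArg Subtype.val this
    rw [this, mul_one]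
  have h2 : y ^ Nat.card N ∈ X := by
    rw [← h1]
    exact X.pow_mem h _
  have hcop : (Nat.card N).Coprime (orderOf y) :=
    Nat.Coprime.coprime_dvd_right (Subgroup.orderOf_dvd_natCard H hy) hS.cop
  obtain ⟨m, hm⟩ := exists_pow_eq_self_of_coprime hcop
  rw [← hm]
  exact X.pow_mem h2 _

theorem mem_normalizer_conj_smul {R : Subgroup G} {y z : G} :
    z ∈ normalizer ((MulAut.conj y • R : Subgroup G) : Set G) ↔
      y⁻¹ * z * y ∈ normalizer (R : Set G) := by
  rw [← conj_smul_eq_self_iff_mem_normalizer, ← conj_smul_eq_self_iff_mem_normalizer, map_mul,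
    map_mul, mul_smul, mul_smul, map_inv, inv_smul_eq_iff]

variable {r : ℕ} [Fact r.Prime]

/-- conjugate of a Sylow subgroup of `N` -/
def conjSyl (hS : Setting H N) (y : G) (R : SylSet r N) : SylSet r N :=
  ⟨MulAut.conj y • R.1, conj_smul_le_of_mem_normalizer (hS.le_normalizer ⊤ (Subgroup.mem_top y)) R.2.1,
    by rw [card_conj_smul]; exact R.2.2⟩

theorem Setting.coprimeAct (hS : Setting H N) {x : G} (hx : x ∈ H) :
    CoprimeAct (zpowers x) N where
  norm := hS.le_normalizer _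
  cop := by
    rw [Nat.card_zpowers]
    exact Nat.Coprime.coprime_dvd_left (Subgroup.orderOf_dvd_natCard H hx) hS.cop.symm
  solv := Or.inl inferInstance

theorem Setting.exists_conj (hS : Setting H N) {x : G} (hx : x ∈ H) (hx1 : x ≠ 1)
    (R R' : SylSet r N) (hR : x ∈ normalizer (R.1 : Set G)) (hR' : x ∈ normalizer (R'.1 : Set G)) :
    ∃ c ∈ N, (∀ y ∈ H, c * y = y * c) ∧ MulAut.conj c • R.1 = R'.1 := by
  obtain ⟨c, hc, hcR⟩ := (hS.coprimeAct hx).exists_conj_sylSet R R'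
    (Subgroup.zpowers_le.mpr hR) (Subgroup.zpowers_le.mpr hR')
  obtain ⟨hcN, hcC⟩ := Subgroup.mem_inf.mp hc
  refine ⟨c, hcN, ?_, hcR⟩
  apply hS.cent x hx hx1 c hcN
  exact ((Subgroup.mem_centralizer_iff.mp hcC) x (Subgroup.mem_zpowers x)).symm

/-- the stabilizer in `H` of a Sylow subgroup of `N` -/
def DR (H : Subgroup G) (R : SylSet r N) : Subgroup H := (normalizer (R.1 : Set G)).subgroupOf H

/-- There is an `H`-invariant Sylow `r`-subgroup of `N`. -/
theorem Setting.exists_invariant (hS : Setting H N) (hH : H ≠ ⊥) (r : ℕ) [Fact r.Prime] :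
    ∃ R : SylSet r N, H ≤ normalizer (R.1 : Set G) := by
  haveI : Nontrivial H := (Subgroup.nontrivial_iff_ne_bot H).mpr hH
  have key : (⊤ : Subgroup H) ∈ Set.range (DR (r := r) (N := N) H) := by
    apply top_mem_of_partition
    · -- conjugation closed
      rintro _ ⟨R, rfl⟩ y
      refine ⟨conjSyl hS (y : G) R, ?_⟩
      ext z
      rw [mem_conj_smul]
      simp only [DR, Subgroup.mem_subgroupOf, conjSyl]
      rw [mem_normalizer_conj_smul]
      simp
    · -- malnormal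
      rintro _ ⟨R, rfl⟩ x hx hx1 y hy
      simp only [DR, Subgroup.mem_subgroupOf] at hx hy ⊢
      have hx1' : (x : G) ≠ 1 := fun h => hx1 (Subtype.ext h)
      have hR' : (x : G) ∈ normalizer ((conjSyl hS ((y : G)⁻¹) R).1 : Set G) := by
        simp only [conjSyl]
        rw [mem_normalizer_conj_smul]
        simpa using hy
      obtain ⟨c, hcN, hcH, hcR⟩ := hS.exists_conj x.2 hx1' R _ hx hR'
      have h1 : MulAut.conj ((y : G) * c) • R.1 = R.1 := by
        rw [map_mul, mul_smul, hcR]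
        simp only [conjSyl]
        rw [map_inv, smul_inv_smul]
      have h2 : (y : G) * c ∈ normalizer (R.1 : Set G) :=
        conj_smul_eq_self_iff_mem_normalizer.mp h1
      exact hS.mem_of_mul_mem y.2 hcN (hcH y y.2) h2
    · -- TI
      rintro _ ⟨R, rfl⟩ _ ⟨R', rfl⟩ x hx1 hx hx'
      simp only [DR, Subgroup.mem_subgroupOf] at hx hx'
      have hx1' : (x : G) ≠ 1 := fun h => hx1 (Subtype.ext h)
      obtain ⟨c, hcN, hcH, hcR⟩ := hS.exists_conj x.2 hx1' R R' hx hx'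
      ext z
      simp only [DR, Subgroup.mem_subgroupOf]
      rw [← hcR, mem_normalizer_conj_smul]
      have e : c⁻¹ * (z : G) * c = z := by
        rw [mul_assoc, ← hcH z z.2]
        group
      rw [e]
    · -- cover
      intro x hx1
      obtain ⟨R, hR⟩ := (hS.coprimeAct x.2).exists_invariant_sylSet r
      refine ⟨_, ⟨R, rfl⟩, ?_⟩
      simp only [DR, Subgroup.mem_subgroupOf]
      exact hR (Subgroup.mem_zpowers _)
  obtain ⟨R, hR⟩ := key
  refine ⟨R, ?_⟩
  intro y hy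
  have : (⟨y, hy⟩ : H) ∈ DR H R := by rw [hR]; exact Subgroup.mem_top _
  exact this

/-- core computation for malnormality in the quotient -/
theorem Setting.core (hS : Setting H N) {R₀ R₁ : Subgroup G} (hR₀N : R₀ ≤ N) (hR₁N : R₁ ≤ N)
    (hcomm : ∀ y ∈ H, ∀ z ∈ R₀, z * y = y * z)
    (hmem : ∀ w ∈ R₁, (∀ y ∈ H, w * y = y * w) → w ∈ R₀)
    {a b v' h' : G} (ha : a ∈ H) (ha1 : a ≠ 1) (hb : b ∈ H) (hv' : v' ∈ R₁) (hh' : h' ∈ H)
    (hz : ((v' * h')⁻¹ * a * (v' * h'))⁻¹ * b ∈ R₀) : v' ∈ R₀ := by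
  have hN := hS.normal
  set X : G := (v' * h')⁻¹ * a * (v' * h') with hX
  set z₁ : G := b⁻¹ * X with hz₁
  have hz₁R : z₁ ∈ R₀ := by
    have e : z₁ = (X⁻¹ * b)⁻¹ := by rw [hz₁]; group
    rw [e]
    exact R₀.inv_mem hz
  have hz₁N : z₁ ∈ N := hR₀N hz₁R
  have hv'N : v' ∈ N := hR₁N hv'
  set b' : G := h' * b * h'⁻¹ with hb'
  have hb'H : b' ∈ H := H.mul_mem (H.mul_mem hh' hb) (H.inv_mem hh')
  have e1 : v'⁻¹ * a * v' = b' * z₁ := by
    have c1 : z₁ * h'⁻¹ = h'⁻¹ * z₁ := hcomm _ (H.inv_mem hh') _ hz₁R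
    calc v'⁻¹ * a * v' = h' * b * (z₁ * h'⁻¹) := by rw [hz₁, hX]; group
      _ = h' * b * (h'⁻¹ * z₁) := by rw [c1]
      _ = b' * z₁ := by rw [hb']; group
  have e2 : a⁻¹ * b' ∈ N := by
    have e : a⁻¹ * b' = (a⁻¹ * v'⁻¹ * a⁻¹⁻¹) * v' * z₁⁻¹ := by
      have : b' = v'⁻¹ * a * v' * z₁⁻¹ := by rw [e1]; group
      rw [this]; group
    rw [e]
    exact N.mul_mem (N.mul_mem (hN.conj_mem _ (N.inv_mem hv'N) _) hv'N) (N.inv_mem hz₁N)
  have e3 : a = b' := by
    have := hS.eq_one_of_mem e2 (H.mul_mem (H.inv_mem ha) hb'H)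
    exact inv_mul_eq_one.mp this
  have hza : z₁ * a = a * z₁ := hcomm a ha z₁ hz₁R
  have e4 : a * v' * a⁻¹ = v' * z₁ := by
    have e1' : v'⁻¹ * a * v' = a * z₁ := by rw [e1, ← e3]
    have e5 : a * v' = v' * (a * z₁) := by
      rw [← e1']; group
    calc a * v' * a⁻¹ = v' * (a * z₁) * a⁻¹ := by rw [e5]
      _ = v' * (z₁ * a) * a⁻¹ := by rw [hza]
      _ = v' * z₁ := by group
  have hz1 : z₁ = 1 := hS.eq_one_of_conj_eq_mul ha hz₁N hza e4
  rw [hz1, mul_one] at e4
  have hva : v' * a = a * v' := by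
    calc v' * a = (a * v' * a⁻¹) * a := by rw [e4]
      _ = a * v' := by group
  exact hmem v' hv' (hS.cent a ha ha1 v' hv'N hva)

/-- **Theorem B.** -/
theorem Setting.exists_frobenius (hS : Setting H N) (hH : H ≠ ⊥)
    (hNC : ¬ N ≤ centralizer (H : Set G)) :
    ∃ (F : Type u) (_ : Group F) (_ : Finite F) (C : Subgroup F),
      Cfsg.IsFrobeniusComplement C ∧ Nonempty (H ≃* C) := by
  classical
  set K' : Subgroup G := N ⊓ centralizer (H : Set G) with hK'
  have hK'N : K' ≤ N := inf_le_left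
  have hK'lt : K' < N := lt_of_le_of_ne hK'N (fun h => hNC (h ▸ inf_le_right))
  obtain ⟨m, hm⟩ := Subgroup.card_dvd_of_le hK'N
  have hm1 : m ≠ 1 := by
    intro h
    rw [h, mul_one] at hm
    exact absurd hm (card_lt_of_lt hK'lt).ne'
  have hNpos : Nat.card N ≠ 0 := Nat.card_pos.ne'
  have hK'pos : Nat.card K' ≠ 0 := Nat.card_pos.ne'
  have hm0 : m ≠ 0 := by
    rintro rfl
    rw [mul_zero] at hm
    exact hNpos hm
  have hrp : (m.minFac).Prime := Nat.minFac_prime hm1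
  haveI : Fact (m.minFac).Prime := ⟨hrp⟩
  have hfac : (Nat.card K').factorization m.minFac < (Nat.card N).factorization m.minFac := by
    rw [hm, Nat.factorization_mul hK'pos hm0, Finsupp.add_apply]
    have := Nat.Prime.factorization_pos_of_dvd hrp hm0 (Nat.minFac_dvd m)
    omega
  obtain ⟨R, hRH⟩ := hS.exists_invariant hH m.minFac
  have hRK' : ¬ R.1 ≤ K' := by
    intro hle
    have h1 := Subgroup.card_dvd_of_le hle
    rw [R.2.2, Nat.Prime.pow_dvd_iff_le_factorization hrp hK'pos] at h1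
    omega
  set R₀ : Subgroup G := R.1 ⊓ centralizer (H : Set G) with hR₀
  have hR₀R : R₀ ≤ R.1 := inf_le_left
  have hR₀C : R₀ ≤ centralizer (H : Set G) := inf_le_right
  have hR₀N : R₀ ≤ N := hR₀R.trans R.2.1
  have hR₀ne : R₀ ≠ R.1 := by
    intro h
    apply hRK'
    rw [← h]
    exact le_inf hR₀N hR₀C
  have hRp : IsPGroup m.minFac R.1 := IsPGroup.of_card R.2.2
  haveI : Group.IsNilpotent R.1 := hRp.isNilpotent
  have hnc := Group.normalizerCondition_of_isNilpotent (G := R.1)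
  have hlt : R₀.subgroupOf R.1 < ⊤ := by
    rw [lt_top_iff_ne_top]
    intro h
    rw [Subgroup.subgroupOf_eq_top] at h
    exact hR₀ne (le_antisymm hR₀R h)
  obtain ⟨v, hvn, hvR₀⟩ := SetLike.exists_of_lt (hnc _ hlt)
  have hvn' : (v : G) ∈ normalizer (R₀ : Set G) := by
    rw [Subgroup.mem_normalizer_iff] at hvn ⊢
    intro h
    constructor
    · intro hh
      have := (hvn ⟨h, hR₀R hh⟩).mp (Subgroup.mem_subgroupOf.mpr hh)
      exact Subgroup.mem_subgroupOf.mp this
    · intro hh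
      have hhR : h ∈ R.1 := by
        have : h = (v : G)⁻¹ * ((v : G) * h * (v : G)⁻¹) * v := by group
        rw [this]
        exact R.1.mul_mem (R.1.mul_mem (R.1.inv_mem v.2) (hR₀R hh)) v.2
      have := (hvn ⟨h, hhR⟩).mpr (Subgroup.mem_subgroupOf.mpr hh)
      exact Subgroup.mem_subgroupOf.mp this
  have hvR₀' : (v : G) ∉ R₀ := fun h => hvR₀ (Subgroup.mem_subgroupOf.mpr h)
  set R₁ : Subgroup G := normalizer (R₀ : Set G) ⊓ R.1 with hR₁
  have hvR₁ : (v : G) ∈ R₁ := Subgroup.mem_inf.mpr ⟨hvn', v.2⟩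
  have hR₁N : R₁ ≤ N := inf_le_right.trans R.2.1
  have hcomm : ∀ y ∈ H, ∀ z ∈ R₀, z * y = y * z := by
    intro y hy z hz
    exact ((Subgroup.mem_centralizer_iff.mp (hR₀C hz)) y hy).symm
  have hmem : ∀ w ∈ R₁, (∀ y ∈ H, w * y = y * w) → w ∈ R₀ := by
    intro w hw hwy
    refine Subgroup.mem_inf.mpr ⟨(Subgroup.mem_inf.mp hw).2, ?_⟩
    rw [Subgroup.mem_centralizer_iff]
    intro y hy
    exact (hwy y hy).symm
  have hHR₀ : H ≤ normalizer (R₀ : Set G) := by
    apply le_normalizer_of_forall_conj_mem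
    intro y hy z hz
    have : y * z * y⁻¹ = z := by
      rw [← hcomm y hy z hz]; group
    rw [this]
    exact hz
  have hHR₁ : H ≤ normalizer (R₁ : Set G) := by
    apply le_normalizer_of_forall_conj_mem
    intro y hy w hw
    obtain ⟨hw1, hw2⟩ := Subgroup.mem_inf.mp hw
    refine Subgroup.mem_inf.mpr ⟨?_, ?_⟩
    · exact Subgroup.mul_mem _ (Subgroup.mul_mem _ (hHR₀ hy) hw1) (Subgroup.inv_mem _ (hHR₀ hy))
    · exact (Subgroup.mem_normalizer_iff.mp (hRH hy) w).mp hw2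
  set Y : Subgroup G := R₁ ⊔ H with hYdef
  have hY : Y ≤ normalizer (R₀ : Set G) := sup_le inf_le_left hHR₀
  have hdec : ∀ y ∈ Y, ∃ w ∈ R₁, ∃ h ∈ H, y = w * h := by
    intro y hy
    have h1 : y ∈ ((R₁ ⊔ H : Subgroup G) : Set G) := hy
    rw [Subgroup.coe_mul_of_right_le_normalizer_left R₁ H hHR₁] at h1
    obtain ⟨w, hw, h, hh, rfl⟩ := Set.mem_mul.mp h1
    exact ⟨w, hw, h, hh, rfl⟩
  haveI : (R₀.subgroupOf Y).Normal := Subgroup.normal_subgroupOf_of_le_normalizer hY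
  let f : H →* (Y ⧸ R₀.subgroupOf Y) :=
    (QuotientGroup.mk' (R₀.subgroupOf Y)).comp (Subgroup.inclusion (le_sup_right : H ≤ Y))
  have hf : ∀ a : H, f a = QuotientGroup.mk (Subgroup.inclusion (le_sup_right : H ≤ Y) a) :=
    fun a => rfl
  have hmk : ∀ a b : Y, (QuotientGroup.mk a : Y ⧸ R₀.subgroupOf Y) = QuotientGroup.mk b ↔
      (a : G)⁻¹ * (b : G) ∈ R₀ := by
    intro a b
    rw [QuotientGroup.eq, Subgroup.mem_subgroupOf]
    simp
  have hfinj : Function.Injective f := by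
    rw [injective_iff_map_eq_one]
    intro a ha
    rw [hf, QuotientGroup.eq_one_iff, Subgroup.mem_subgroupOf] at ha
    have ha' : (a : G) ∈ R₀ := ha
    exact Subtype.ext (hS.eq_one_of_mem (hR₀N ha') a.2)
  refine ⟨Y ⧸ R₀.subgroupOf Y, inferInstance, inferInstance, f.range, ⟨?_, ?_, ?_⟩,
    ⟨MonoidHom.ofInjective hfinj⟩⟩
  · -- C ≠ ⊥
    obtain ⟨a, ha1⟩ := (Subgroup.ne_bot_iff_exists_ne_one).mp hH
    intro hbot
    have h1 : f a ∈ f.range := ⟨a, rfl⟩
    rw [hbot, Subgroup.mem_bot] at h1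
    exact ha1 (hfinj (by rw [h1, map_one]))
  · -- C ≠ ⊤
    intro htop
    have h1 : (QuotientGroup.mk (⟨v, Subgroup.mem_sup_left hvR₁⟩ : Y) : Y ⧸ R₀.subgroupOf Y)
        ∈ f.range := by rw [htop]; exact Subgroup.mem_top _
    obtain ⟨a, ha⟩ := h1
    rw [hf, hmk] at ha
    have ha' : (a : G)⁻¹ * (v : G) ∈ R₀ := ha
    have h2 : (a : G)⁻¹ ∈ N := by
      have : (a : G)⁻¹ = ((a : G)⁻¹ * (v : G)) * (v : G)⁻¹ := by group
      rw [this]
      exact N.mul_mem (hR₀N ha') (N.inv_mem (R.2.1 v.2))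
    have h3 : (a : G)⁻¹ = 1 := hS.eq_one_of_mem h2 (H.inv_mem a.2)
    rw [h3, one_mul] at ha'
    exact hvR₀' ha'
  · -- malnormal
    intro q hq
    rw [eq_bot_iff]
    intro w hw
    obtain ⟨hw1, hw2⟩ := Subgroup.mem_inf.mp hw
    rw [Subgroup.mem_bot]
    obtain ⟨a, rfl⟩ := hw1
    rw [mem_conj_smul] at hw2
    obtain ⟨b, hb⟩ := hw2
    by_cases ha1 : a = 1
    · rw [ha1, map_one]
    · exfalso
      apply hq
      obtain ⟨y, rfl⟩ := QuotientGroup.mk_surjective q
      obtain ⟨w', hw', h', hh', hy⟩ := hdec (y : G) y.2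
      have hb' : (QuotientGroup.mk (Subgroup.inclusion (le_sup_right : H ≤ Y) b) :
          Y ⧸ R₀.subgroupOf Y) = QuotientGroup.mk
            (y⁻¹ * Subgroup.inclusion (le_sup_right : H ≤ Y) a * y) := by
        rw [← hf, hb, hf]
        rfl
      rw [eq_comm, hmk] at hb'
      have hz : ((w' * h')⁻¹ * (a : G) * (w' * h'))⁻¹ * (b : G) ∈ R₀ := by
        rw [← hy]
        exact hb'
      have ha1' : (a : G) ≠ 1 := fun h => ha1 (Subtype.ext h)
      have hw'R₀ := hS.core hR₀N hR₁N hcomm hmem a.2 ha1' b.2 hw' hh' hz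
      refine ⟨⟨h', hh'⟩, ?_⟩
      rw [hf, hmk]
      show h'⁻¹ * (y : G) ∈ R₀
      rw [hy]
      have : h'⁻¹ * (w' * h') = h'⁻¹ * w' * h'⁻¹⁻¹ := by group
      rw [this]
      exact (Subgroup.mem_normalizer_iff.mp (hHR₀ (H.inv_mem hh')) w').mp hw'R₀

end Main

end Cfsg.Agent.Lib.Helper22.TIFrob
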