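import Mathlib
import Cfsg.Prelude
import Cfsg.Agent.Lib.Helper20.RelSub
import Cfsg.Agent.Lib.Helper17.CoprimeGen

/-!
Tools for the Thompson–Wielandt theorem (iterated core form): relative cores, the subgroup
generated by `p'`-elements, and the basic "pushing-up" lemma.
-/

set_option autoImplicit false

namespace Cfsg.Agent.Lib.Helper22.TW

open Cfsg Cfsg.Agent.Lib.Helper20 Cfsg.Agent.Lib.Helper17
open Subgroup

section basic

variable {G : Type*} [Group G]

/-- The core of `Y` in `M`, as a subgroup of `G`. -/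
def coreIn (M Y : Subgroup G) : Subgroup G := ((Y.subgroupOf M).normalCore).map M.subtype

theorem mem_coreIn_iff {M Y : Subgroup G} {x : G} :
    x ∈ coreIn M Y ↔ x ∈ M ∧ ∀ m ∈ M, m * x * m⁻¹ ∈ Y := by
  unfold coreIn
  constructor
  · rintro ⟨⟨y, hyM⟩, hy, rfl⟩
    refine ⟨hyM, ?_⟩
    intro m hm
    have := hy ⟨m, hm⟩
    rw [Subgroup.mem_subgroupOf] at this
    simpa using this
  · rintro ⟨hxM, h⟩
    refine ⟨⟨x, hxM⟩, ?_, rfl⟩
    intro b
    rw [Subgroup.mem_subgroupOf]
    have := h b.1 b.2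
    simpa using this

theorem coreIn_le_left (M Y : Subgroup G) : coreIn M Y ≤ M := fun _ hx => (mem_coreIn_iff.mp hx).1

theorem coreIn_le_right (M Y : Subgroup G) : coreIn M Y ≤ Y := by
  intro x hx
  have := (mem_coreIn_iff.mp hx).2 1 M.one_mem
  simpa using this

theorem le_normalizer_coreIn (M Y : Subgroup G) : M ≤ normalizer (coreIn M Y : Set G) := by
  unfold coreIn
  exact le_normalizer_map_of_normal _

/-- the subgroup generated by the `p'`-elements of `Y` -/
def opp (p : ℕ) (Y : Subgroup G) : Subgroup G :=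
  closure {x : G | x ∈ Y ∧ (orderOf x).Coprime p}

theorem opp_le (p : ℕ) (Y : Subgroup G) : opp p Y ≤ Y := by
  unfold opp
  rw [closure_le]
  rintro x ⟨hx, _⟩
  exact hx

theorem normalizer_le_normalizer_opp (p : ℕ) (Y : Subgroup G) :
    normalizer (Y : Set G) ≤ normalizer (opp p Y : Set G) :=
  normalizer_le_normalizer_closure_coprime Y

theorem isPGroup_of_opp_eq_bot [Finite G] {p : ℕ} [Fact p.Prime] {Y : Subgroup G}
    (h : opp p Y = ⊥) : IsPGroup p Y := by
  apply isPGroup_of_coprime_elements_trivial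
  intro c hc hcop
  have : c ∈ opp p Y := subset_closure ⟨hc, hcop⟩
  rw [h] at this
  exact Subgroup.mem_bot.mp this

theorem opp_sup_eq [Finite G] {p : ℕ} [Fact p.Prime] {Y Q : Subgroup G} (hQ : IsPGroup p Q)
    (hQY : Q ≤ normalizer (Y : Set G)) : opp p (Y ⊔ Q) = opp p Y := by
  apply le_antisymm
  · unfold opp
    rw [closure_le]
    rintro x ⟨hx, hxo⟩
    exact subset_closure ⟨mem_of_coprime_of_mem_sup_pgroup hQ hQY hx hxo, hxo⟩
  · unfold opp
    apply Subgroup.closure_mono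
    rintro x ⟨hx, hxo⟩
    exact ⟨(le_sup_left : Y ≤ Y ⊔ Q) hx, hxo⟩

/-- `N_G(K)` normalizes the image of a characteristic subgroup of `K`. -/
theorem normalizer_le_normalizer_map_of_characteristic [Finite G] {K : Subgroup G}
    (C : Subgroup ↥K) [hC : C.Characteristic] :
    normalizer (K : Set G) ≤ normalizer ((C.map K.subtype : Subgroup G) : Set G) := by
  intro g hg
  apply mem_normalizer_of_map_conj_le
  rintro _ ⟨_, ⟨c, hc, rfl⟩, rfl⟩
  have hK : K.map (MulAut.conj g).toMonoidHom = K := map_conj_eq_of_mem_normalizer hg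
  let φ : ↥K ≃* ↥K := ((MulAut.conj g).subgroupMap K).trans (MulEquiv.subgroupCongr hK)
  have hφ : ∀ k : ↥K, ((φ k : ↥K) : G) = g * (k : G) * g⁻¹ := fun k => rfl
  have h1 : φ c ∈ C := by
    have h2 := (Subgroup.characteristic_iff_map_eq.mp hC) φ
    rw [← h2]
    exact ⟨c, hc, rfl⟩
  exact ⟨φ c, h1, by simp [hφ]⟩

end basic

section general

variable {G : Type*} [Group G] [Finite G]

theorem normalizer_le_normalizer_layerOf (K : Subgroup G) :
    normalizer (K : Set G) ≤ normalizer (layerOf K : Set G) := by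
  have : (layer ↥K).Characteristic := Cfsg.Agent.Lib.Helper9.layer_characteristic (G := ↥K)
  exact normalizer_le_normalizer_map_of_characteristic _

/-- a subgroup that is both a `p`-group and an `r`-group, `p ≠ r`, is trivial -/
theorem eq_bot_of_isPGroup_of_isPGroup {p r : ℕ} [Fact p.Prime] [Fact r.Prime] (hpr : p ≠ r)
    {T : Subgroup G}
    (hp : IsPGroup p T) (hr : IsPGroup r T) : T = ⊥ := by
  have := (IsPGroup.disjoint_of_ne p r hpr T T hp hr).eq_bot
  rwa [inf_idem] at this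

theorem layerOf_le_of_snIn {N K : Subgroup G} (h : SnIn N K) : layerOf N ≤ layerOf K := by
  rw [layerOf_eq_sSup]
  apply sSup_le
  intro L hL
  have hL' : IsComponentOf L N := hL
  apply IsComponentOf.le_layerOf
  rw [isComponentOf_iff] at hL' ⊢
  exact ⟨hL'.1.trans h, hL'.2⟩

theorem layerOf_eq_of_normal_of_le {N K : Subgroup G} (hNK : N ≤ K)
    (hn : K ≤ normalizer (N : Set G)) (hle : layerOf K ≤ N) : layerOf K = layerOf N := by
  apply le_antisymm
  · rw [layerOf_eq_sSup]
    apply sSup_le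
    intro L hL
    have hL' : IsComponentOf L K := hL
    have hLN : L ≤ N := (IsComponentOf.le_layerOf hL').trans hle
    apply IsComponentOf.le_layerOf
    rw [isComponentOf_iff] at hL' ⊢
    exact ⟨hL'.1.restrict hLN hNK, hL'.2⟩
  · exact layerOf_le_of_snIn (SnIn.of_normal hNK hn)

theorem pCoreOf_le_of_normal {r : ℕ} [Fact r.Prime] {N K : Subgroup G} (hNK : N ≤ K)
    (hn : K ≤ normalizer (N : Set G)) : pCoreOf r N ≤ pCoreOf r K :=
  le_pCoreOf ((pCoreOf_le N).trans hNK) (hn.trans (normalizer_le_normalizer_pCoreOf N))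
    (pCoreOf_isPGroup N)

theorem pCoreOf_eq_of_normal_of_le {r : ℕ} [Fact r.Prime] {N K : Subgroup G} (hNK : N ≤ K)
    (hn : K ≤ normalizer (N : Set G)) (hle : pCoreOf r K ≤ N) : pCoreOf r K = pCoreOf r N := by
  apply le_antisymm
  · exact le_pCoreOf hle (hNK.trans (le_normalizer_pCoreOf K)) (pCoreOf_isPGroup K)
  · exact pCoreOf_le_of_normal hNK hn

theorem gfsOf_eq_pCoreOf {M : Subgroup G} {p : ℕ} (hp : p.Prime) (hE : layerOf M = ⊥)
    (hr : ∀ r : ℕ, r.Prime → r ≠ p → pCoreOf r M = ⊥) : gfsOf M = pCoreOf p M := by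
  rw [gfsOf_eq, hE, bot_sup_eq, fitOf_eq_iSup]
  apply le_antisymm
  · apply iSup_le
    intro q
    by_cases hq : (q : ℕ) = p
    · rw [hq]
    · rw [hr q q.2 hq]; exact bot_le
  · exact le_iSup (fun q : Nat.Primes => pCoreOf (q : ℕ) M) ⟨p, hp⟩

theorem gfsOf_ne_bot {M : Subgroup G} (hM : M ≠ ⊥) : gfsOf M ≠ ⊥ := by
  intro h
  apply hM
  rw [eq_bot_iff]
  intro x hx
  have h1 := inf_centralizer_gfsOf_le M
  rw [h] at h1
  apply h1
  refine mem_inf.mpr ⟨hx, ?_⟩
  rw [mem_centralizer_iff]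
  intro y hy
  have : y = 1 := by simpa using hy
  rw [this, one_mul, mul_one]

theorem exists_pCoreOf_ne_bot {M : Subgroup G} (hM : M ≠ ⊥) (hE : layerOf M = ⊥) :
    ∃ p : ℕ, p.Prime ∧ pCoreOf p M ≠ ⊥ := by
  by_contra hcon
  push Not at hcon
  apply gfsOf_ne_bot hM
  rw [gfsOf_eq, hE, bot_sup_eq, fitOf_eq_iSup]
  rw [eq_bot_iff]
  apply iSup_le
  intro q
  rw [hcon q q.2]

end general

end Cfsg.Agent.Lib.Helper22.TW
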