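import Mathlib
import Cfsg.Prelude
import Cfsg.Agent.Lib.Helper22.TWCore

/-!
The Thompson–Wielandt theorem in iterated-core form, for an abstract configuration.
-/

set_option autoImplicit false

namespace Cfsg.Agent.Lib.Helper22.TW

open Cfsg Cfsg.Agent.Lib.Helper20 Cfsg.Agent.Lib.Helper17
open Subgroup
open scoped Pointwise

variable {G : Type*} [Group G] [Finite G]

/-- A Thompson–Wielandt configuration: `M₁ ≠ M₂` "primitive" subgroups, `K_i` the core of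
`M₁ ∩ M₂` in `M_i`, and `N_i ≤ K₁ ∩ K₂` nontrivial and normal in `M_i`. -/
structure Config (M₁ M₂ K₁ K₂ N₁ N₂ : Subgroup G) : Prop where
  ne : M₁ ≠ M₂
  prim₁ : ∀ Z : Subgroup G, Z ≠ ⊥ → Z ≤ M₁ → M₁ ≤ normalizer (Z : Set G) →
    normalizer (Z : Set G) ≤ M₁
  prim₂ : ∀ Z : Subgroup G, Z ≠ ⊥ → Z ≤ M₂ → M₂ ≤ normalizer (Z : Set G) →
    normalizer (Z : Set G) ≤ M₂
  card : ∀ (p : ℕ) [Fact p.Prime], Nat.card (pCoreOf p M₁) = Nat.card (pCoreOf p M₂)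
  K₁_le₁ : K₁ ≤ M₁
  K₁_le₂ : K₁ ≤ M₂
  K₁_norm : M₁ ≤ normalizer (K₁ : Set G)
  K₁_univ : ∀ x ∈ M₁, (∀ m ∈ M₁, m * x * m⁻¹ ∈ M₂) → x ∈ K₁
  K₂_le₁ : K₂ ≤ M₁
  K₂_le₂ : K₂ ≤ M₂
  K₂_norm : M₂ ≤ normalizer (K₂ : Set G)
  K₂_univ : ∀ x ∈ M₂, (∀ m ∈ M₂, m * x * m⁻¹ ∈ M₁) → x ∈ K₂
  N₁_le₁ : N₁ ≤ K₁
  N₁_le₂ : N₁ ≤ K₂
  N₁_norm : M₁ ≤ normalizer (N₁ : Set G)
  N₁_ne : N₁ ≠ ⊥
  N₂_le₁ : N₂ ≤ K₁
  N₂_le₂ : N₂ ≤ K₂
  N₂_norm : M₂ ≤ normalizer (N₂ : Set G)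
  N₂_ne : N₂ ≠ ⊥

namespace Config

variable {M₁ M₂ K₁ K₂ N₁ N₂ : Subgroup G}

theorem symm (h : Config M₁ M₂ K₁ K₂ N₁ N₂) : Config M₂ M₁ K₂ K₁ N₂ N₁ where
  ne := h.ne.symm
  prim₁ := h.prim₂
  prim₂ := h.prim₁
  card := fun p _ => (h.card p).symm
  K₁_le₁ := h.K₂_le₂
  K₁_le₂ := h.K₂_le₁
  K₁_norm := h.K₂_norm
  K₁_univ := h.K₂_univ
  K₂_le₁ := h.K₁_le₂
  K₂_le₂ := h.K₁_le₁
  K₂_norm := h.K₁_norm
  K₂_univ := h.K₁_univ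
  N₁_le₁ := h.N₂_le₂
  N₁_le₂ := h.N₂_le₁
  N₁_norm := h.N₂_norm
  N₁_ne := h.N₂_ne
  N₂_le₁ := h.N₁_le₂
  N₂_le₂ := h.N₁_le₁
  N₂_norm := h.N₁_norm
  N₂_ne := h.N₁_ne

theorem univ_sub (h : Config M₁ M₂ K₁ K₂ N₁ N₂) {Z : Subgroup G} (h1 : Z ≤ M₁) (h2 : Z ≤ M₂)
    (hn : M₁ ≤ normalizer (Z : Set G)) : Z ≤ K₁ := by
  intro x hx
  exact h.K₁_univ x (h1 hx) (fun m hm => h2 ((mem_normalizer_iff.mp (hn hm) x).mp hx))

theorem eq_bot_of_both (h : Config M₁ M₂ K₁ K₂ N₁ N₂) {Z : Subgroup G} (h1 : Z ≤ M₁)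
    (h2 : Z ≤ M₂) (hn1 : M₁ ≤ normalizer (Z : Set G)) (hn2 : M₂ ≤ normalizer (Z : Set G)) :
    Z = ⊥ := by
  by_contra hZ
  have a := h.prim₁ Z hZ h1 hn1
  have b := h.prim₂ Z hZ h2 hn2
  exact h.ne (le_antisymm (hn1.trans b) (hn2.trans a))

/-- The pushing-up lemma. -/
theorem pushup (h : Config M₁ M₂ K₁ K₂ N₁ N₂) {p : ℕ} [Fact p.Prime] {R Y : Subgroup G}
    (hR : IsPGroup p R) (hRn : M₂ ≤ normalizer (R : Set G)) (hY : Y ≤ K₁)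
    (hYn : M₂ ≤ normalizer (Y : Set G)) (hYp : ¬ IsPGroup p Y) : R ⊓ M₁ ≤ K₁ := by
  intro x hx
  obtain ⟨hxR, hxM⟩ := mem_inf.mp hx
  apply h.K₁_univ x hxM
  intro m hm
  have hZne : opp p Y ≠ ⊥ := fun hz => hYp (isPGroup_of_opp_eq_bot hz)
  have hZM₂ : opp p Y ≤ M₂ := (opp_le p Y).trans (hY.trans h.K₁_le₂)
  have hNZ : normalizer (opp p Y : Set G) ≤ M₂ :=
    h.prim₂ _ hZne hZM₂ (hYn.trans (normalizer_le_normalizer_opp p Y))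
  apply hNZ
  have hQ₁p : IsPGroup p (pCoreOf p K₁) := pCoreOf_isPGroup K₁
  have hM₁Q₁ : M₁ ≤ normalizer (pCoreOf p K₁ : Set G) :=
    h.K₁_norm.trans (normalizer_le_normalizer_pCoreOf K₁)
  have hx'M : m * x * m⁻¹ ∈ M₁ := M₁.mul_mem (M₁.mul_mem hm hxM) (M₁.inv_mem hm)
  have hx'R : m * x * m⁻¹ ∈ R.map (MulAut.conj m).toMonoidHom := conj_mem_map_conj hxR
  have hK₁Rm : K₁ ≤ normalizer ((R.map (MulAut.conj m).toMonoidHom : Subgroup G) : Set G) := by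
    intro k hk
    have h1 : m⁻¹ * k * m ∈ K₁ := by
      have := (mem_normalizer_iff.mp (h.K₁_norm (M₁.inv_mem hm)) k).mp hk
      simpa using this
    have h2 : m⁻¹ * k * m ∈ normalizer (R : Set G) := hRn (h.K₁_le₂ h1)
    apply mem_normalizer_of_map_conj_le
    rintro _ ⟨_, ⟨r, hr, rfl⟩, rfl⟩
    have h3 := (mem_normalizer_iff.mp h2 r).mp hr
    refine ⟨(m⁻¹ * k * m) * r * (m⁻¹ * k * m)⁻¹, h3, ?_⟩
    simp only [MulEquiv.coe_toMonoidHom, MulAut.conj_apply]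
    group
  have hT : K₁ ⊓ R.map (MulAut.conj m).toMonoidHom ≤ pCoreOf p K₁ := by
    apply le_pCoreOf inf_le_left
    · intro k hk
      exact mem_normalizer_inf (le_normalizer hk) (hK₁Rm hk)
    · exact (hR.map _).to_le inf_le_right
  have hc : ∀ y ∈ Y, (m * x * m⁻¹) * y * (m * x * m⁻¹)⁻¹ * y⁻¹ ∈ pCoreOf p K₁ := by
    intro y hy
    apply hT
    refine mem_inf.mpr ⟨?_, ?_⟩
    · have hyK : y ∈ K₁ := hY hy
      have := (mem_normalizer_iff.mp (h.K₁_norm hx'M) y).mp hyK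
      exact K₁.mul_mem this (K₁.inv_mem hyK)
    · have := (mem_normalizer_iff.mp (hK₁Rm (hY hy)) (m * x * m⁻¹)⁻¹).mp
        (Subgroup.inv_mem _ hx'R)
      have e : (m * x * m⁻¹) * y * (m * x * m⁻¹)⁻¹ * y⁻¹ =
          (m * x * m⁻¹) * (y * (m * x * m⁻¹)⁻¹ * y⁻¹) := by group
      rw [e]; exact Subgroup.mul_mem _ hx'R this
  have hW : m * x * m⁻¹ ∈ normalizer ((Y ⊔ pCoreOf p K₁ : Subgroup G) : Set G) := by
    apply mem_normalizer_of_map_conj_le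
    rw [Subgroup.map_sup]
    apply sup_le
    · rintro _ ⟨y, hy, rfl⟩
      simp only [MulEquiv.coe_toMonoidHom, MulAut.conj_apply]
      have e : (m * x * m⁻¹) * y * (m * x * m⁻¹)⁻¹ =
          ((m * x * m⁻¹) * y * (m * x * m⁻¹)⁻¹ * y⁻¹) * y := by group
      rw [e]
      exact Subgroup.mul_mem _ ((le_sup_right : pCoreOf p K₁ ≤ Y ⊔ pCoreOf p K₁) (hc y hy))
        ((le_sup_left : Y ≤ Y ⊔ pCoreOf p K₁) hy)
    · rw [map_conj_eq_of_mem_normalizer (hM₁Q₁ hx'M)]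
      exact le_sup_right
  have hopp : opp p (Y ⊔ pCoreOf p K₁) = opp p Y :=
    opp_sup_eq hQ₁p ((pCoreOf_le K₁).trans (h.K₁_le₂.trans hYn))
  have := normalizer_le_normalizer_opp p (Y ⊔ pCoreOf p K₁) hW
  rwa [hopp] at this

theorem isPGroup_of_not_le (h : Config M₁ M₂ K₁ K₂ N₁ N₂) {p : ℕ} [Fact p.Prime]
    {R Y : Subgroup G} (hR : IsPGroup p R) (hRn : M₂ ≤ normalizer (R : Set G)) (hRM : R ≤ M₁)
    (hRK : ¬ R ≤ K₁) (hY : Y ≤ K₁) (hYn : M₂ ≤ normalizer (Y : Set G)) : IsPGroup p Y := by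
  by_contra hYp
  apply hRK
  have := h.pushup hR hRn hY hYn hYp
  rwa [inf_eq_left.mpr hRM] at this

/-- `C_{M₁}(K₁) ≤ K₁`. -/
theorem inf_centralizer_le (h : Config M₁ M₂ K₁ K₂ N₁ N₂) :
    M₁ ⊓ centralizer (K₁ : Set G) ≤ K₁ := by
  apply h.univ_sub inf_le_left
  · refine inf_le_right.trans ?_
    refine (centralizer_le (by exact_mod_cast h.N₂_le₁)).trans ?_
    refine (centralizer_le_normalizer _).trans ?_
    exact h.prim₂ N₂ h.N₂_ne (h.N₂_le₂.trans h.K₂_le₂) h.N₂_norm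
  · intro m hm
    exact mem_normalizer_inf (le_normalizer hm)
      (normalizer_le_normalizer_centralizer _ (h.K₁_norm hm))

theorem layerOf_le (h : Config M₁ M₂ K₁ K₂ N₁ N₂) : layerOf K₂ ≤ K₁ := by
  rw [layerOf_eq_sSup]
  apply sSup_le
  intro L hL
  have hL' : IsComponentOf L K₂ := hL
  have hK₂D : SnIn K₂ (M₁ ⊓ M₂) :=
    SnIn.of_normal (le_inf h.K₂_le₁ h.K₂_le₂) (inf_le_right.trans h.K₂_norm)
  have hK₁D : SnIn K₁ (M₁ ⊓ M₂) :=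
    SnIn.of_normal (le_inf h.K₁_le₁ h.K₁_le₂) (inf_le_left.trans h.K₁_norm)
  have hLD : IsComponentOf L (M₁ ⊓ M₂) := by
    rw [isComponentOf_iff] at hL' ⊢
    exact ⟨hL'.1.trans hK₂D, hL'.2⟩
  rcases IsComponentOf.le_or_commutator_eq_bot hLD hK₁D with h1 | h1
  · exact h1
  · have h2 : L ≤ centralizer (K₁ : Set G) := commutator_eq_bot_iff_le_centralizer.mp h1
    exact (le_inf (hL'.1.trans h.K₂_le₁) h2).trans h.inf_centralizer_le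

theorem layerOf_eq_bot (h : Config M₁ M₂ K₁ K₂ N₁ N₂) : layerOf K₁ = ⊥ := by
  have hI₁ : K₁ ≤ normalizer ((K₁ ⊓ K₂ : Subgroup G) : Set G) := fun k hk =>
    mem_normalizer_inf (le_normalizer hk) (h.K₂_norm (h.K₁_le₂ hk))
  have hI₂ : K₂ ≤ normalizer ((K₁ ⊓ K₂ : Subgroup G) : Set G) := fun k hk =>
    mem_normalizer_inf (h.K₁_norm (h.K₂_le₁ hk)) (le_normalizer hk)
  have e₁ : layerOf K₁ = layerOf (K₁ ⊓ K₂) :=
    layerOf_eq_of_normal_of_le inf_le_left hI₁ (le_inf (Helper20.layerOf_le K₁) h.symm.layerOf_le)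
  have e₂ : layerOf K₂ = layerOf (K₁ ⊓ K₂) :=
    layerOf_eq_of_normal_of_le inf_le_right hI₂ (le_inf h.layerOf_le (Helper20.layerOf_le K₂))
  apply h.eq_bot_of_both
  · exact (Helper20.layerOf_le K₁).trans h.K₁_le₁
  · exact (Helper20.layerOf_le K₁).trans h.K₁_le₂
  · exact h.K₁_norm.trans (normalizer_le_normalizer_layerOf K₁)
  · rw [e₁, ← e₂]
    exact h.K₂_norm.trans (normalizer_le_normalizer_layerOf K₂)

theorem pCoreOf_eq_bot_of_le (h : Config M₁ M₂ K₁ K₂ N₁ N₂) {r : ℕ} [Fact r.Prime]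
    (h1 : pCoreOf r K₁ ≤ K₂) (h2 : pCoreOf r K₂ ≤ K₁) : pCoreOf r K₁ = ⊥ := by
  have hI₁ : K₁ ≤ normalizer ((K₁ ⊓ K₂ : Subgroup G) : Set G) := fun k hk =>
    mem_normalizer_inf (le_normalizer hk) (h.K₂_norm (h.K₁_le₂ hk))
  have hI₂ : K₂ ≤ normalizer ((K₁ ⊓ K₂ : Subgroup G) : Set G) := fun k hk =>
    mem_normalizer_inf (h.K₁_norm (h.K₂_le₁ hk)) (le_normalizer hk)
  have e₁ : pCoreOf r K₁ = pCoreOf r (K₁ ⊓ K₂) :=
    pCoreOf_eq_of_normal_of_le inf_le_left hI₁ (le_inf (pCoreOf_le K₁) h1)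
  have e₂ : pCoreOf r K₂ = pCoreOf r (K₁ ⊓ K₂) :=
    pCoreOf_eq_of_normal_of_le inf_le_right hI₂ (le_inf h2 (pCoreOf_le K₂))
  apply h.eq_bot_of_both
  · exact (pCoreOf_le K₁).trans h.K₁_le₁
  · exact (pCoreOf_le K₁).trans h.K₁_le₂
  · exact h.K₁_norm.trans (normalizer_le_normalizer_pCoreOf K₁)
  · rw [e₁, ← e₂]
    exact h.K₂_norm.trans (normalizer_le_normalizer_pCoreOf K₂)

end Config

/-- normalizers grow in `p`-groups, ambient form -/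
theorem exists_mem_normalizer_not_mem {p : ℕ} [Fact p.Prime] {Q P : Subgroup G}
    (hP : IsPGroup p P) (hQP : Q ≤ P) (hne : ¬ P ≤ Q) :
    ∃ x ∈ P, x ∈ normalizer (Q : Set G) ∧ x ∉ Q := by
  have : Group.IsNilpotent ↥P := hP.isNilpotent
  have hlt : Q.subgroupOf P < ⊤ := by
    rw [lt_top_iff_ne_top]
    intro h
    apply hne
    intro x hx
    have : (⟨x, hx⟩ : ↥P) ∈ Q.subgroupOf P := by rw [h]; exact Subgroup.mem_top _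
    exact this
  have hnc := Group.normalizerCondition_of_isNilpotent (G := ↥P) _ hlt
  obtain ⟨x, hxN, hxQ⟩ := SetLike.exists_of_lt hnc
  refine ⟨x.1, x.2, ?_, ?_⟩
  · rw [← Subgroup.subgroupOf_normalizer_eq hQP] at hxN
    exact Subgroup.mem_subgroupOf.mp hxN
  · intro hx
    exact hxQ (Subgroup.mem_subgroupOf.mpr hx)

namespace Config

variable {M₁ M₂ K₁ K₂ N₁ N₂ : Subgroup G}

/-- If a normal `p`-subgroup `R` of `M₁` is not in `M₂` and `O_p(K₂) ≠ 1`, then every subgroup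
of `K₂` normal in `M₁` is a `p`-group. -/
theorem le_of_not_isPGroup (h : Config M₁ M₂ K₁ K₂ N₁ N₂) {p : ℕ} [Fact p.Prime]
    {R Y : Subgroup G} (hR : IsPGroup p R) (hRn : M₁ ≤ normalizer (R : Set G))
    (hQ₂ : pCoreOf p K₂ ≠ ⊥) (hY : Y ≤ K₂) (hYn : M₁ ≤ normalizer (Y : Set G))
    (hYp : ¬ IsPGroup p Y) : R ≤ M₂ := by
  have hR₀K : R ⊓ M₂ ≤ K₂ := h.symm.pushup hR hRn hY hYn hYp
  have hRK₂ : R ⊓ K₂ ≤ pCoreOf p K₂ := by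
    apply le_pCoreOf inf_le_right
    · intro k hk
      exact mem_normalizer_inf (hRn (h.K₂_le₁ hk)) (le_normalizer hk)
    · exact hR.to_le inf_le_left
  have hR₀ : R ⊓ M₂ ≤ pCoreOf p K₂ := (le_inf inf_le_left hR₀K).trans hRK₂
  have hNQ : normalizer (pCoreOf p K₂ : Set G) ≤ M₂ :=
    h.prim₂ _ hQ₂ ((pCoreOf_le K₂).trans h.K₂_le₂)
      (h.K₂_norm.trans (normalizer_le_normalizer_pCoreOf K₂))
  have hQR : pCoreOf p K₂ ≤ normalizer (R : Set G) :=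
    ((pCoreOf_le K₂).trans h.K₂_le₁).trans hRn
  have hP : IsPGroup p ((R ⊔ pCoreOf p K₂ : Subgroup G)) :=
    IsPGroup.to_sup_of_normal_left' hR (pCoreOf_isPGroup K₂) hQR
  have hRQ : R ≤ pCoreOf p K₂ := by
    by_contra hcon
    have hne : ¬ (R ⊔ pCoreOf p K₂) ≤ pCoreOf p K₂ := fun hle => hcon (le_sup_left.trans hle)
    obtain ⟨x, hxP, hxN, hxQ⟩ := exists_mem_normalizer_not_mem hP le_sup_right hne
    apply hxQ
    have hmul : ((R ⊔ pCoreOf p K₂ : Subgroup G) : Set G) = (R : Set G) * (pCoreOf p K₂ : Set G) :=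
      Subgroup.coe_mul_of_right_le_normalizer_left R (pCoreOf p K₂) hQR
    have hxP' : x ∈ ((R ⊔ pCoreOf p K₂ : Subgroup G) : Set G) := hxP
    rw [hmul] at hxP'
    obtain ⟨r, hr, q, hq, rfl⟩ := Set.mem_mul.mp hxP'
    have hqM : q ∈ M₂ := h.K₂_le₂ (pCoreOf_le K₂ hq)
    have hrM : r ∈ M₂ := by
      have h1 : r * q ∈ M₂ := hNQ hxN
      have e : r = r * q * q⁻¹ := by group
      rw [e]
      exact M₂.mul_mem h1 (M₂.inv_mem hqM)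
    exact Subgroup.mul_mem _ (hR₀ (mem_inf.mpr ⟨hr, hrM⟩)) hq
  exact hRQ.trans ((pCoreOf_le K₂).trans h.K₂_le₂)

/-- Step 1: `N₂` is a `p`-group. -/
theorem N₂_isPGroup (h : Config M₁ M₂ K₁ K₂ N₁ N₂) {p : ℕ} [Fact p.Prime]
    (hQ : ¬ pCoreOf p K₂ ≤ K₁) : IsPGroup p N₂ :=
  h.isPGroup_of_not_le (pCoreOf_isPGroup K₂)
    (h.K₂_norm.trans (normalizer_le_normalizer_pCoreOf K₂)) ((pCoreOf_le K₂).trans h.K₂_le₁) hQ
    h.N₂_le₁ h.N₂_norm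

/-- Step 1: `O_r(K₂) = 1` for `r ≠ p`. -/
theorem pCoreOf_K₂_eq_bot (h : Config M₁ M₂ K₁ K₂ N₁ N₂) {p : ℕ} [Fact p.Prime]
    (hQ : ¬ pCoreOf p K₂ ≤ K₁) (r : ℕ) (hr : r.Prime) (hrp : r ≠ p) : pCoreOf r K₂ = ⊥ := by
  have : Fact r.Prime := ⟨hr⟩
  by_cases hT : pCoreOf r K₂ ≤ K₁
  · have h1 : IsPGroup p (pCoreOf r K₂) :=
      h.isPGroup_of_not_le (pCoreOf_isPGroup K₂)
        (h.K₂_norm.trans (normalizer_le_normalizer_pCoreOf K₂)) ((pCoreOf_le K₂).trans h.K₂_le₁)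
        hQ hT (h.K₂_norm.trans (normalizer_le_normalizer_pCoreOf K₂))
    exact eq_bot_of_isPGroup_of_isPGroup hrp (pCoreOf_isPGroup K₂) h1
  · exfalso
    have h1 : IsPGroup r N₂ := h.N₂_isPGroup hT
    exact h.N₂_ne (eq_bot_of_isPGroup_of_isPGroup hrp h1 (h.N₂_isPGroup hQ))

/-- Step 2: `O_p(N₁) ≠ 1`. -/
theorem pCoreOf_N₁_ne_bot (h : Config M₁ M₂ K₁ K₂ N₁ N₂) {p : ℕ} [Fact p.Prime]
    (hQ : ¬ pCoreOf p K₂ ≤ K₁) : pCoreOf p N₁ ≠ ⊥ := by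
  have hN₁K₂ : K₂ ≤ normalizer (N₁ : Set G) := h.K₂_le₁.trans h.N₁_norm
  have hE : layerOf N₁ = ⊥ := by
    have := layerOf_le_of_snIn (SnIn.of_normal h.N₁_le₂ hN₁K₂)
    rwa [h.symm.layerOf_eq_bot, le_bot_iff] at this
  obtain ⟨q, hq, hqne⟩ := exists_pCoreOf_ne_bot h.N₁_ne hE
  have : Fact q.Prime := ⟨hq⟩
  by_cases hqp : q = p
  · rw [← hqp]; exact hqne
  · exfalso
    apply hqne
    have := pCoreOf_le_of_normal (r := q) h.N₁_le₂ hN₁K₂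
    rwa [h.pCoreOf_K₂_eq_bot hQ q hq hqp, le_bot_iff] at this

/-- The big groups: `F*(M₂) = O_p(M₂)` given the same for `K₂` and a suitable `p`-subgroup. -/
theorem gfsOf_M₂ (h : Config M₁ M₂ K₁ K₂ N₁ N₂) {p : ℕ} [hp : Fact p.Prime]
    (hr : ∀ r : ℕ, r.Prime → r ≠ p → pCoreOf r K₂ = ⊥) {S : Subgroup G}
    (hS : S ≤ pCoreOf p M₂) (hSc : centralizer (S : Set G) ≤ M₁) :
    gfsOf M₂ = pCoreOf p M₂ := by
  apply gfsOf_eq_pCoreOf hp.out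
  · -- the layer
    have hN₁sn : SnIn N₁ M₂ :=
      (SnIn.of_normal h.N₁_le₂ (h.K₂_le₁.trans h.N₁_norm)).trans
        (SnIn.of_normal h.K₂_le₂ h.K₂_norm)
    have hNN : normalizer (N₁ : Set G) ≤ M₁ :=
      h.prim₁ N₁ h.N₁_ne (h.N₁_le₁.trans h.K₁_le₁) h.N₁_norm
    have h1 : layerOf M₂ ≤ M₁ := by
      rw [layerOf_eq_sSup]
      apply sSup_le
      intro L hL
      have hL' : IsComponentOf L M₂ := hL
      rcases IsComponentOf.le_or_commutator_eq_bot hL' hN₁sn with h2 | h2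
      · exact h2.trans (h.N₁_le₁.trans h.K₁_le₁)
      · have h3 : L ≤ centralizer (N₁ : Set G) := commutator_eq_bot_iff_le_centralizer.mp h2
        exact h3.trans ((centralizer_le_normalizer _).trans hNN)
    have h2 : layerOf M₂ ≤ K₂ :=
      h.symm.univ_sub (Helper20.layerOf_le M₂) h1 (le_normalizer_layerOf M₂)
    rw [layerOf_eq_of_normal_of_le h.K₂_le₂ h.K₂_norm h2]
    exact h.symm.layerOf_eq_bot
  · intro r hrp hne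
    have : Fact r.Prime := ⟨hrp⟩
    have hcomm : ∀ x ∈ pCoreOf r M₂, ∀ y ∈ pCoreOf p M₂, x * y = y * x := by
      apply commute_of_le_normalizer_of_inf_eq_bot
      · exact (pCoreOf_le M₂).trans (le_normalizer_pCoreOf M₂)
      · exact (pCoreOf_le M₂).trans (le_normalizer_pCoreOf M₂)
      · exact (IsPGroup.disjoint_of_ne r p hne _ _ (pCoreOf_isPGroup M₂)
          (pCoreOf_isPGroup M₂)).eq_bot
    have h1 : pCoreOf r M₂ ≤ M₁ := by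
      refine le_trans ?_ hSc
      intro x hx
      rw [mem_centralizer_iff]
      intro y hy
      exact (hcomm x hx y (hS hy)).symm
    have h2 : pCoreOf r M₂ ≤ K₂ :=
      h.symm.univ_sub (pCoreOf_le M₂) h1 (le_normalizer_pCoreOf M₂)
    have h3 : pCoreOf r M₂ ≤ pCoreOf r K₂ :=
      le_pCoreOf h2 (h.K₂_le₂.trans (le_normalizer_pCoreOf M₂)) (pCoreOf_isPGroup M₂)
    rwa [hr r hrp hne, le_bot_iff] at h3

/-- Step 4a: `O_r(K₁) = 1` for `r ≠ p`. -/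
theorem pCoreOf_K₁_eq_bot (h : Config M₁ M₂ K₁ K₂ N₁ N₂) {p : ℕ} [Fact p.Prime]
    (hQ : ¬ pCoreOf p K₂ ≤ K₁) (r : ℕ) (hr : r.Prime) (hrp : r ≠ p) : pCoreOf r K₁ = ⊥ := by
  have : Fact r.Prime := ⟨hr⟩
  have hM₁T : M₁ ≤ normalizer (pCoreOf r K₁ : Set G) :=
    h.K₁_norm.trans (normalizer_le_normalizer_pCoreOf K₁)
  by_cases hT : pCoreOf r K₁ ≤ K₂
  · have h1 : pCoreOf r K₁ ≤ pCoreOf r K₂ :=
      le_pCoreOf hT (h.K₂_le₁.trans hM₁T) (pCoreOf_isPGroup K₁)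
    rwa [h.pCoreOf_K₂_eq_bot hQ r hr hrp, le_bot_iff] at h1
  · exfalso
    have h1 : IsPGroup r N₁ :=
      h.symm.isPGroup_of_not_le (pCoreOf_isPGroup K₁) hM₁T ((pCoreOf_le K₁).trans h.K₁_le₂) hT
        h.N₁_le₂ h.N₁_norm
    apply h.pCoreOf_N₁_ne_bot hQ
    exact eq_bot_of_isPGroup_of_isPGroup hrp (h1.to_le (pCoreOf_le N₁)) (pCoreOf_isPGroup N₁)

/-- Step 5: `N₁` is a `p`-group. -/
theorem N₁_isPGroup (h : Config M₁ M₂ K₁ K₂ N₁ N₂) {p : ℕ} [Fact p.Prime]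
    (hQ : ¬ pCoreOf p K₂ ≤ K₁) : IsPGroup p N₁ := by
  have hM₁Q₁ : M₁ ≤ normalizer (pCoreOf p K₁ : Set G) :=
    h.K₁_norm.trans (normalizer_le_normalizer_pCoreOf K₁)
  by_cases hQ₁ : pCoreOf p K₁ ≤ K₂
  · by_contra hN₁
    have hQ₂ne : pCoreOf p K₂ ≠ ⊥ := by
      intro h0
      apply hQ
      rw [h0]; exact bot_le
    have hR : pCoreOf p M₁ ≤ M₂ :=
      h.le_of_not_isPGroup (pCoreOf_isPGroup M₁) (le_normalizer_pCoreOf M₁) hQ₂ne h.N₁_le₂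
        h.N₁_norm hN₁
    have h1 : pCoreOf p M₁ ≤ K₁ := h.univ_sub (pCoreOf_le M₁) hR (le_normalizer_pCoreOf M₁)
    have h2 : pCoreOf p M₁ ≤ pCoreOf p K₁ :=
      le_pCoreOf h1 (h.K₁_le₁.trans (le_normalizer_pCoreOf M₁)) (pCoreOf_isPGroup M₁)
    have h3 : pCoreOf p M₁ ≤ pCoreOf p K₂ :=
      le_pCoreOf (h2.trans hQ₁) (h.K₂_le₁.trans (le_normalizer_pCoreOf M₁)) (pCoreOf_isPGroup M₁)
    have h4 : pCoreOf p K₂ ≤ pCoreOf p M₂ := pCoreOf_le_of_normal h.K₂_le₂ h.K₂_norm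
    have h5 : pCoreOf p M₁ = pCoreOf p M₂ :=
      Subgroup.eq_of_le_of_card_ge (h3.trans h4) (h.card p).ge
    apply hQ
    rw [h5] at h1
    exact h4.trans h1
  · exact h.symm.isPGroup_of_not_le (pCoreOf_isPGroup K₁) hM₁Q₁ ((pCoreOf_le K₁).trans h.K₁_le₂)
      hQ₁ h.N₁_le₂ h.N₁_norm

/-- The one-sided theorem. -/
theorem main_of_not_le (h : Config M₁ M₂ K₁ K₂ N₁ N₂) {p : ℕ} [hp : Fact p.Prime]
    (hQ : ¬ pCoreOf p K₂ ≤ K₁) :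
    IsPGroup p (N₁ ⊔ N₂ : Subgroup G) ∧ gfsOf M₁ = pCoreOf p M₁ ∧ gfsOf K₁ = pCoreOf p K₁ ∧
      gfsOf M₂ = pCoreOf p M₂ ∧ gfsOf K₂ = pCoreOf p K₂ := by
  have hN₂p := h.N₂_isPGroup hQ
  refine ⟨?_, ?_, ?_, ?_, ?_⟩
  · exact IsPGroup.to_sup_of_normal_left' (h.N₁_isPGroup hQ) hN₂p
      ((h.N₂_le₂.trans h.K₂_le₁).trans h.N₁_norm)
  · apply h.symm.gfsOf_M₂ (h.pCoreOf_K₁_eq_bot hQ) (S := N₂)
    · have h1 : N₂ ≤ pCoreOf p K₁ := le_pCoreOf h.N₂_le₁ (h.K₁_le₂.trans h.N₂_norm) hN₂p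
      exact h1.trans (pCoreOf_le_of_normal h.K₁_le₁ h.K₁_norm)
    · exact (centralizer_le_normalizer _).trans
        (h.prim₂ N₂ h.N₂_ne (h.N₂_le₂.trans h.K₂_le₂) h.N₂_norm)
  · exact gfsOf_eq_pCoreOf hp.out h.layerOf_eq_bot (h.pCoreOf_K₁_eq_bot hQ)
  · apply h.gfsOf_M₂ (h.pCoreOf_K₂_eq_bot hQ) (S := pCoreOf p N₁)
    · have hK₂N₁ : K₂ ≤ normalizer (N₁ : Set G) := h.K₂_le₁.trans h.N₁_norm
      have h1 : pCoreOf p N₁ ≤ pCoreOf p K₂ := pCoreOf_le_of_normal h.N₁_le₂ hK₂N₁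
      exact h1.trans (pCoreOf_le_of_normal h.K₂_le₂ h.K₂_norm)
    · exact (centralizer_le_normalizer _).trans
        (h.prim₁ _ (h.pCoreOf_N₁_ne_bot hQ) ((pCoreOf_le N₁).trans (h.N₁_le₁.trans h.K₁_le₁))
          (h.N₁_norm.trans (normalizer_le_normalizer_pCoreOf N₁)))
  · exact gfsOf_eq_pCoreOf hp.out h.symm.layerOf_eq_bot (h.pCoreOf_K₂_eq_bot hQ)

/-- The Thompson–Wielandt theorem for a configuration. -/
theorem main (h : Config M₁ M₂ K₁ K₂ N₁ N₂) :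
    ∃ p : ℕ, p.Prime ∧ IsPGroup p (N₁ ⊔ N₂ : Subgroup G) ∧ gfsOf M₁ = pCoreOf p M₁ ∧
      gfsOf K₁ = pCoreOf p K₁ ∧ gfsOf M₂ = pCoreOf p M₂ ∧ gfsOf K₂ = pCoreOf p K₂ := by
  have hK₂ne : K₂ ≠ ⊥ := by
    intro h0
    apply h.N₂_ne
    have := h.N₂_le₂
    rwa [h0, le_bot_iff] at this
  obtain ⟨p, hp, hpne⟩ := exists_pCoreOf_ne_bot hK₂ne h.symm.layerOf_eq_bot
  have : Fact p.Prime := ⟨hp⟩
  by_cases h1 : pCoreOf p K₂ ≤ K₁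
  · by_cases h2 : pCoreOf p K₁ ≤ K₂
    · exact absurd (h.symm.pCoreOf_eq_bot_of_le h1 h2) hpne
    · obtain ⟨a, b, c, d, e⟩ := h.symm.main_of_not_le h2
      refine ⟨p, hp, ?_, d, e, b, c⟩
      rwa [sup_comm]
  · exact ⟨p, hp, h.main_of_not_le h1⟩

end Config

end Cfsg.Agent.Lib.Helper22.TW
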