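import Mathlib
import Cfsg.Agent.S0111

/-!
# Helper22 library: an extremal form of Thompson's transfer lemma

For `K` of relative index two in `H ≤ G` with `H` of odd index, and an involution `u` on which the
transfer `G → ℤˣ` attached to `K` is trivial, every `2`-subgroup `R` centralising `u` can be
conjugated into `H` by an element `g` with `g⁻¹ u g ∈ K`.
-/

set_option autoImplicit false

namespace Cfsg.Agent.Lib.Helper22.TransferFix

open Subgroup MulAction Cfsg.Agent.S0111

variable {G : Type*} [Group G]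

/-- element-level consequence of relative index two -/
theorem mul_mem_iff_of_relIndex_two {H K : Subgroup G} (hKi : K.relIndex H = 2) {a b : G}
    (ha : a ∈ H) (hb : b ∈ H) : a * b ∈ K ↔ (a ∈ K ↔ b ∈ K) := by
  have key : ((⟨a, ha⟩ * ⟨b, hb⟩ : H)) ∈ K.subgroupOf H ↔
      ((⟨a, ha⟩ : H) ∈ K.subgroupOf H ↔ (⟨b, hb⟩ : H) ∈ K.subgroupOf H) :=
    Subgroup.mul_mem_iff_of_index_two hKi
  simpa [mem_subgroupOf] using key

/-- a subgroup of relative index two is normalised -/
theorem conj_mem_of_relIndex_two {H K : Subgroup G} (hKi : K.relIndex H = 2) {h k : G}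
    (hh : h ∈ H) (hkH : k ∈ H) : h⁻¹ * k * h ∈ K ↔ k ∈ K := by
  rw [mul_mem_iff_of_relIndex_two hKi (H.mul_mem (H.inv_mem hh) hkH) hh,
    mul_mem_iff_of_relIndex_two hKi (H.inv_mem hh) hkH, K.inv_mem_iff]
  tauto

/-- commutators of elements of `H` lie in a subgroup of relative index two -/
theorem comm_mem_of_relIndex_two {H K : Subgroup G} (hKi : K.relIndex H = 2) {a b : G}
    (ha : a ∈ H) (hb : b ∈ H) : a * b * a⁻¹ * b⁻¹ ∈ K := by
  have e : a * b * a⁻¹ * b⁻¹ = (a * b) * (a⁻¹ * b⁻¹) := by group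
  rw [e, mul_mem_iff_of_relIndex_two hKi (H.mul_mem ha hb) (H.mul_mem (H.inv_mem ha) (H.inv_mem hb)),
    mul_mem_iff_of_relIndex_two hKi ha hb,
    mul_mem_iff_of_relIndex_two hKi (H.inv_mem ha) (H.inv_mem hb), K.inv_mem_iff, K.inv_mem_iff]

/-- a point fixed by `u` is the chosen representative of its `⟨u⟩`-orbit -/
theorem out_mk_of_fixed {α : Type*} [MulAction G α] (u : G) (x : α) (hx : u • x = x) :
    (Quotient.out (Quotient.mk (orbitRel (zpowers u) α) x) : α) = x := by
  have h1 : (orbitRel (zpowers u) α).r (Quotient.out (Quotient.mk (orbitRel (zpowers u) α) x)) x :=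
    Quotient.exact (Quotient.out_eq _)
  change (Quotient.out (Quotient.mk (orbitRel (zpowers u) α) x) : α) ∈ orbit (zpowers u) x at h1
  obtain ⟨⟨w, hw⟩, hk⟩ := h1
  obtain ⟨k, rfl⟩ := Subgroup.mem_zpowers_iff.mp hw
  have hst : u ^ k ∈ stabilizer G x := (stabilizer G x).zpow_mem (show u ∈ stabilizer G x from hx) k
  rw [← hk]
  exact hst

/-- Extremal Thompson transfer: if the transfer into `H/K` (`K` of index two in `H`, `H` of odd
index) is trivial at the involution `u`, then any `2`-subgroup `R` centralising `u` can be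
conjugated into `H` by some `g` with `g⁻¹ u g ∈ K`. -/
theorem exists_conj_fixed [Finite G] (H K : Subgroup G) (hKH : K ≤ H) (hKi : K.relIndex H = 2)
    (hodd : ¬ 2 ∣ H.index) (u : G) (hu2 : u * u = 1)
    (hV : MonoidHom.transfer (signHom H K hKi) u = 1)
    (R : Subgroup G) (hR : IsPGroup 2 R) (hRu : ∀ r ∈ R, r * u = u * r) :
    ∃ g : G, g⁻¹ * u * g ∈ K ∧ ∀ r ∈ R, g⁻¹ * r * g ∈ H := by
  classical
  have : Fact (Nat.Prime 2) := ⟨Nat.prime_two⟩
  -- the `R`-invariant set of cosets
  let S₀ : SubMulAction R (G ⧸ H) :=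
    { carrier := {x | ∃ g : G, (g : G ⧸ H) = x ∧ g⁻¹ * u * g ∈ K}
      smul_mem' := by
        rintro r x ⟨g, rfl, hg⟩
        refine ⟨(r : G) * g, rfl, ?_⟩
        have hr := hRu r r.2
        have e : ((r : G) * g)⁻¹ * u * ((r : G) * g) = g⁻¹ * ((r : G)⁻¹ * ((r : G) * u)) * g := by
          rw [hr]; group
        rw [e, inv_mul_cancel_left]
        exact hg }
  have hmemS : ∀ x : G ⧸ H, x ∈ S₀ ↔ ∃ g : G, (g : G ⧸ H) = x ∧ g⁻¹ * u * g ∈ K := fun x => Iff.rfl
  -- members of `S₀` are fixed by `u`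
  have hfix : ∀ x : G ⧸ H, x ∈ S₀ → u • x = x := by
    rintro x ⟨g, rfl, hg⟩
    rw [MulAction.Quotient.smul_mk]
    apply (QuotientGroup.eq).mpr
    have : (u • g)⁻¹ * g = (g⁻¹ * u * g)⁻¹ := by simp [smul_eq_mul]; group
    rw [this]
    exact H.inv_mem (hKH hg)
  -- characterisation through the chosen representative
  have hrep : ∀ x : G ⧸ H, u • x = x → (x ∈ S₀ ↔ x.out⁻¹ * u * x.out ∈ K) := by
    intro x hx
    constructor
    · rintro ⟨g, hgx, hg⟩
      have h1 : g⁻¹ * x.out ∈ H := by
        apply (QuotientGroup.eq).mp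
        rw [hgx, QuotientGroup.out_eq']
      have e : x.out⁻¹ * u * x.out = (g⁻¹ * x.out)⁻¹ * (g⁻¹ * u * g) * (g⁻¹ * x.out) := by group
      rw [e]
      exact (conj_mem_of_relIndex_two hKi h1 (hKH hg)).mpr hg
    · intro h
      exact ⟨x.out, QuotientGroup.out_eq' x, h⟩
  haveI : Fintype (Quotient (orbitRel (zpowers u) (G ⧸ H))) := Fintype.ofFinite _
  have hu2' : u ^ 2 = 1 := by rw [pow_two]; exact hu2
  -- the parity computation
  have hprod : (∏ q : Quotient (orbitRel (zpowers u) (G ⧸ H)),
      (if q.out ∈ S₀ then (-1 : ℤˣ) else 1)) = -1 := by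
    have hT := MonoidHom.transfer_eq_prod_quotient_orbitRel_zpowers_quot (signHom H K hKi) u
    have hI := index_eq_sum_minimalPeriod H u
    have hpow : (-1 : ℤˣ) ^ H.index = -1 := by
      have : Odd H.index := Nat.odd_iff.2 (by omega)
      exact this.neg_one_pow
    have key : (∏ q : Quotient (orbitRel (zpowers u) (G ⧸ H)),
        (if q.out ∈ S₀ then (-1 : ℤˣ) else 1)) =
        MonoidHom.transfer (signHom H K hKi) u * (-1 : ℤˣ) ^ H.index := by
      rw [hT, hI, ← Finset.prod_pow_eq_pow_sum, ← Finset.prod_mul_distrib]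
      apply Finset.prod_congr rfl
      intro q _
      have hper : Function.minimalPeriod (u • · : G ⧸ H → G ⧸ H) q.out ∣ 2 := by
        apply Function.IsPeriodicPt.minimalPeriod_dvd
        change (u • · : G ⧸ H → G ⧸ H)^[2] q.out = q.out
        rw [smul_iterate, hu2']; simp only [one_smul]
      have hpos : 0 < Function.minimalPeriod (u • · : G ⧸ H → G ⧸ H) q.out := by
        apply Function.IsPeriodicPt.minimalPeriod_pos (n := 2) (by norm_num)
        change (u • · : G ⧸ H → G ⧸ H)^[2] q.out = q.out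
        rw [smul_iterate, hu2']; simp only [one_smul]
      have hle : Function.minimalPeriod (u • · : G ⧸ H → G ⧸ H) q.out ≤ 2 :=
        Nat.le_of_dvd (by norm_num) hper
      have hcases : Function.minimalPeriod (u • · : G ⧸ H → G ⧸ H) q.out = 1 ∨
          Function.minimalPeriod (u • · : G ⧸ H → G ⧸ H) q.out = 2 := by omega
      rw [Cfsg.Agent.S0111.signHom_apply]
      rcases hcases with hm | hm
      · have hfx : u • q.out = q.out := by
          have := Function.minimalPeriod_eq_one_iff_isFixedPt.mp hm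
          exact this
        have hiff := hrep q.out hfx
        simp only [hm, pow_one]
        by_cases hS : q.out ∈ S₀
        · rw [if_pos hS, if_pos (hiff.mp hS)]; simp
        · rw [if_neg hS, if_neg (fun h => hS (hiff.mpr h))]; simp
      · have hS : q.out ∉ S₀ := by
          intro hS
          have hfx := hfix _ hS
          have : Function.minimalPeriod (u • · : G ⧸ H → G ⧸ H) q.out = 1 :=
            Function.minimalPeriod_eq_one_iff_isFixedPt.mpr hfx
          omega
        rw [if_neg hS]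
        simp only [hm, hu2']
        simp [K.one_mem]
    rw [key, hV, one_mul, hpow]
  -- the number of orbits through `S₀` is odd
  have hcardodd : Odd (Finset.univ.filter
      (fun q : Quotient (orbitRel (zpowers u) (G ⧸ H)) => q.out ∈ S₀)).card := by
    rw [Finset.prod_ite, Finset.prod_const_one, mul_one, Finset.prod_const] at hprod
    by_contra hne
    rw [Nat.not_odd_iff_even] at hne
    rw [hne.neg_one_pow] at hprod
    exact absurd hprod (by decide)
  -- bijection with `S₀`
  have hbij : Nat.card S₀ = (Finset.univ.filter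
      (fun q : Quotient (orbitRel (zpowers u) (G ⧸ H)) => q.out ∈ S₀)).card := by
    rw [← Fintype.card_subtype, ← Nat.card_eq_fintype_card]
    apply Nat.card_congr
    refine ⟨fun x => ⟨Quotient.mk (orbitRel (zpowers u) (G ⧸ H)) x.1, ?_⟩,
      fun q => ⟨q.1.out, q.2⟩, ?_, ?_⟩
    · have := out_mk_of_fixed (α := G ⧸ H) u x.1 (hfix _ x.2)
      exact this.symm ▸ x.2
    · intro x
      apply Subtype.ext
      exact out_mk_of_fixed u x.1 (hfix _ x.2)
    · intro q
      apply Subtype.ext
      exact Quotient.out_eq _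
  have hodd' : Odd (Nat.card S₀) := by rw [hbij]; exact hcardodd
  -- a fixed point of `R`
  have hmod := hR.card_modEq_card_fixedPoints S₀
  have hne : (fixedPoints R S₀).Nonempty := by
    by_contra h
    rw [Set.not_nonempty_iff_eq_empty] at h
    have hz : Nat.card ↥(fixedPoints R S₀) = 0 := by rw [h]; simp
    rw [hz] at hmod
    have h0 : Nat.card S₀ % 2 = 0 := by
      have := hmod
      simpa [Nat.ModEq] using this
    rcases hodd' with ⟨k, hk⟩
    omega
  obtain ⟨⟨x, g, rfl, hg⟩, hx⟩ := hne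
  refine ⟨g, hg, ?_⟩
  intro r hr
  have h1 := hx ⟨r, hr⟩
  have h2 : ((⟨r, hr⟩ : R) • (g : G ⧸ H)) = (g : G ⧸ H) := congrArg Subtype.val h1
  have h3 : (((r * g : G)) : G ⧸ H) = (g : G ⧸ H) := h2
  have h4 := (QuotientGroup.eq).mp h3
  have e : g⁻¹ * r * g = ((r * g)⁻¹ * g)⁻¹ := by group
  rw [e]
  exact H.inv_mem h4

end Cfsg.Agent.Lib.Helper22.TransferFix
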