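import Mathlib
import Cfsg.Prelude.Def_Solvable
import Cfsg.Agent.Lib.Helper1.BaerSuzuki
import Cfsg.Agent.Lib.Helper1.Coprime
import Cfsg.Agent.Lib.Helper1.Cores
import Cfsg.Agent.Lib.Helper9.Signalizer

/-!
# A criterion for a normal Sylow `2`-subgroup (helper22 library)

If a property of finite groups passes to quotients by normal `2`-subgroups and forces the product of
any two involutions to be a `2`-element, then (by Baer–Suzuki) groups with the property have a normal
Sylow `2`-subgroup.  Also: lifting odd order subgroups and normalizing elements through a normal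
`2`-subgroup.
-/

set_option autoImplicit false

namespace Cfsg.Agent.Lib.Helper22

open Subgroup Cfsg
open Pointwise

universe u

section basic

variable {G : Type*} [Group G]

/-- `x ^ a ∈ H`, `x ^ b ∈ H`, `a`, `b` coprime imply `x ∈ H`. -/
theorem mem_of_pow_mem_of_coprime (H : Subgroup G) (x : G) {a b : ℕ} (hab : a.Coprime b)
    (ha : x ^ a ∈ H) (hb : x ^ b ∈ H) : x ∈ H := by
  have h1 : x ^ ((a : ℤ) * Nat.gcdA a b + (b : ℤ) * Nat.gcdB a b) = x := by
    rw [← Nat.gcd_eq_gcd_ab, hab, Nat.cast_one, zpow_one]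
  rw [← h1, zpow_add, zpow_mul, zpow_mul, zpow_natCast, zpow_natCast]
  exact H.mul_mem (H.zpow_mem ha _) (H.zpow_mem hb _)

/-- two involutions whose product is a `2`-element generate a `2`-group -/
theorem isPGroup_closure_pair [Finite G] (s t : G) (hs : s ^ 2 = 1) (ht : t ^ 2 = 1) (k : ℕ)
    (hst : (s * t) ^ 2 ^ k = 1) : IsPGroup 2 (closure ({s, t} : Set G)) := by
  have hsinv : s⁻¹ = s := inv_eq_of_mul_eq_one_left (by rw [← pow_two]; exact hs)
  have htinv : t⁻¹ = t := inv_eq_of_mul_eq_one_left (by rw [← pow_two]; exact ht)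
  have hnorm : zpowers s ≤ normalizer ((zpowers (s * t) : Subgroup G) : Set G) := by
    apply Cfsg.Agent.Lib.Helper9.zpowers_le_normalizer_of_conj_mem
    intro u hu
    obtain ⟨j, rfl⟩ := mem_zpowers_iff.mp hu
    rw [← conj_zpow]
    have : s * (s * t) * s⁻¹ = (s * t)⁻¹ := by
      rw [mul_inv_rev, hsinv, htinv, ← mul_assoc, ← pow_two, hs, one_mul]
    rw [this]
    exact zpow_mem (inv_mem (mem_zpowers _)) j
  have hdvd := Cfsg.Agent.Lib.Helper9.card_sup_dvd_of_le_normalizer hnorm
  have h1 : Nat.card (zpowers (s * t)) ∣ 2 ^ k := by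
    rw [Nat.card_zpowers]; exact orderOf_dvd_of_pow_eq_one hst
  have h2 : Nat.card (zpowers s) ∣ 2 := by
    rw [Nat.card_zpowers]; exact orderOf_dvd_of_pow_eq_one hs
  have h3 : Nat.card ↥(zpowers (s * t) ⊔ zpowers s) ∣ 2 ^ (k + 1) := by
    rw [pow_succ]
    exact hdvd.trans (Nat.mul_dvd_mul h1 h2)
  obtain ⟨j, -, hj⟩ := (Nat.dvd_prime_pow Nat.prime_two).mp h3
  have hp : IsPGroup 2 ↥(zpowers (s * t) ⊔ zpowers s) := IsPGroup.of_card hj
  refine hp.to_le ?_
  rw [closure_le]
  rintro x hx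
  rcases hx with rfl | hx
  · exact mem_sup_right (mem_zpowers _)
  · rw [Set.mem_singleton_iff] at hx
    subst hx
    have h4 : s⁻¹ * (s * x) ∈ zpowers (s * x) ⊔ zpowers s :=
      mul_mem (inv_mem (mem_sup_right (mem_zpowers _))) (mem_sup_left (mem_zpowers _))
    rwa [inv_mul_cancel_left] at h4

end basic

/-- **Criterion for a normal Sylow `2`-subgroup.** -/
theorem sylow_two_normal_of_hereditary
    (Pr : ∀ (G : Type u) [Group G], Prop)
    (h1 : ∀ (G : Type u) [Group G] [Finite G], Pr G → ∀ s t : G, orderOf s = 2 → orderOf t = 2 →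
      ∃ k : ℕ, (s * t) ^ 2 ^ k = 1)
    (h2 : ∀ (G : Type u) [Group G] [Finite G], Pr G → ∀ (N : Subgroup G) [N.Normal], IsPGroup 2 N →
      Pr (G ⧸ N)) :
    ∀ (n : ℕ) (G : Type u) [Group G] [Finite G], Nat.card G = n → Pr G →
      ∀ P : Sylow 2 G, (P : Subgroup G).Normal := by
  have : Fact (Nat.Prime 2) := ⟨Nat.prime_two⟩
  intro n
  induction n using Nat.strong_induction_on with
  | _ n ih =>
  intro G _ _ hn hG P
  by_cases h2G : 2 ∣ Nat.card G
  · -- involutions lie in `O_2(G)`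
    obtain ⟨s0, hs0⟩ := exists_prime_orderOf_dvd_card' 2 h2G
    have hBS := Cfsg.Agent.Lib.Helper1.baer_suzuki (p := 2) {x : G | orderOf x = 2}
      (fun g x hx => by
        show orderOf (g * x * g⁻¹) = 2
        rw [← hx]
        have := (MulAut.conj g).orderOf_eq x
        simpa [MulAut.conj_apply] using this)
      (fun x hx y hy => by
        obtain ⟨k, hk⟩ := h1 G hG x y hx hy
        have hx2 : x ^ 2 = 1 := by rw [← hx]; exact pow_orderOf_eq_one x
        have hy2 : y ^ 2 = 1 := by rw [← hy]; exact pow_orderOf_eq_one y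
        exact isPGroup_closure_pair x y hx2 hy2 k hk)
    have hNn : (pCore 2 G).Normal := Cfsg.Agent.Lib.Helper1.pCore_normal 2
    have hNp : IsPGroup 2 (pCore 2 G) := Cfsg.Agent.Lib.Helper1.pCore_isPGroup 2
    have hNne : pCore 2 G ≠ ⊥ := by
      intro h
      have h3 := hBS s0 hs0
      rw [h, mem_bot] at h3
      rw [h3, orderOf_one] at hs0
      omega
    have hlt : Nat.card (G ⧸ pCore 2 G) < n := by
      rw [← hn]
      exact Cfsg.Agent.Lib.Helper1.card_quotient_lt_of_ne_bot hNne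
    obtain ⟨Q⟩ : Nonempty (Sylow 2 (G ⧸ pCore 2 G)) := inferInstance
    have hQn : (Q : Subgroup (G ⧸ pCore 2 G)).Normal :=
      ih _ hlt (G ⧸ pCore 2 G) rfl (h2 G hG (pCore 2 G) hNp) Q
    -- preimage of `Q` is a normal `2`-subgroup, hence inside the core
    have hMp : IsPGroup 2 ((Q : Subgroup (G ⧸ pCore 2 G)).comap (QuotientGroup.mk' (pCore 2 G))) := by
      apply IsPGroup.comap_of_ker_isPGroup Q.isPGroup'
      rw [QuotientGroup.ker_mk']
      exact hNp
    have hMn : ((Q : Subgroup (G ⧸ pCore 2 G)).comap (QuotientGroup.mk' (pCore 2 G))).Normal :=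
      Subgroup.Normal.comap hQn _
    have hMle := Cfsg.Agent.Lib.Helper1.le_pCore hMn hMp
    have hQbot : (Q : Subgroup (G ⧸ pCore 2 G)) = ⊥ := by
      rw [eq_bot_iff]
      intro y hy
      obtain ⟨x, rfl⟩ := QuotientGroup.mk'_surjective (pCore 2 G) y
      have hx : x ∈ pCore 2 G := hMle hy
      rw [mem_bot]
      exact (QuotientGroup.eq_one_iff x).mpr hx
    -- so the quotient has odd order and the core is the Sylow subgroup
    have hodd : ¬ 2 ∣ Nat.card (G ⧸ pCore 2 G) := by
      have h3 := Q.not_dvd_index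
      rwa [hQbot, Subgroup.index_bot] at h3
    have hPeq : (P : Subgroup G) = pCore 2 G := by
      symm
      apply Subgroup.eq_of_le_of_card_ge (Cfsg.Agent.Lib.Helper1.pCore_le_sylow P)
      apply Nat.le_of_dvd Nat.card_pos
      obtain ⟨k, hk⟩ := P.isPGroup'.exists_card_eq
      have h3 : Nat.card (P : Subgroup G) ∣ Nat.card (G ⧸ pCore 2 G) * Nat.card (pCore 2 G) := by
        rw [← Subgroup.card_eq_card_quotient_mul_card_subgroup]
        exact Subgroup.card_subgroup_dvd_card _
      rw [hk] at h3 ⊢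
      have h4 : (2 ^ k).Coprime (Nat.card (G ⧸ pCore 2 G)) :=
        Nat.Coprime.pow_left k ((Nat.Prime.coprime_iff_not_dvd Nat.prime_two).mpr hodd)
      exact Nat.Coprime.dvd_of_dvd_mul_left h4 h3
    rw [hPeq]
    exact hNn
  · -- odd order: the Sylow subgroup is trivial
    have hP1 : Nat.card (P : Subgroup G) = 1 := by
      rw [Sylow.card_eq_multiplicity, Nat.factorization_eq_zero_of_not_dvd h2G, pow_zero]
    rw [(Subgroup.card_eq_one).mp hP1]
    infer_instance

section lift

variable {G : Type*} [Group G] [Finite G]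

omit [Finite G] in
/-- a lift of a `2`-element modulo a normal `2`-subgroup is a `2`-element -/
theorem exists_pow_eq_one_of_mk (N : Subgroup G) [N.Normal] (hN : IsPGroup 2 N) (g : G) (k : ℕ)
    (hg : (QuotientGroup.mk' N g) ^ 2 ^ k = 1) : ∃ j : ℕ, g ^ 2 ^ j = 1 := by
  have h1 : g ^ 2 ^ k ∈ N := by
    rw [← QuotientGroup.eq_one_iff]
    exact hg
  obtain ⟨j, hj⟩ := hN ⟨g ^ 2 ^ k, h1⟩
  refine ⟨k + j, ?_⟩
  have h2 := congrArg Subtype.val hj
  rw [Subgroup.coe_pow] at h2
  rw [pow_add, pow_mul]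
  exact h2

/-- lifting an odd order subgroup through a normal `2`-subgroup (Schur–Zassenhaus) -/
theorem exists_lift_odd_subgroup (N : Subgroup G) [N.Normal] (hN : IsPGroup 2 N)
    (Hb : Subgroup (G ⧸ N)) (hodd : ¬ 2 ∣ Nat.card Hb) :
    ∃ H₁ : Subgroup G, H₁.map (QuotientGroup.mk' N) = Hb ∧ Nat.card H₁ = Nat.card Hb := by
  have : Fact (Nat.Prime 2) := ⟨Nat.prime_two⟩
  have hsurj := QuotientGroup.mk'_surjective N
  have hcard_map : ∀ K : Subgroup G, Nat.card (K.map (QuotientGroup.mk' N)) = N.relIndex K := by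
    intro K
    rw [← Subgroup.relIndex_bot_left, ← Subgroup.relIndex_comap, MonoidHom.comap_bot,
      QuotientGroup.ker_mk']
  have hNL : N ≤ Hb.comap (QuotientGroup.mk' N) := by
    conv_lhs => rw [← QuotientGroup.ker_mk' N]
    exact MonoidHom.ker_le_comap _ _
  obtain ⟨k, hk⟩ := hN.exists_card_eq
  have hcN' : Nat.card (N.subgroupOf (Hb.comap (QuotientGroup.mk' N))) = 2 ^ k := by
    rw [Nat.card_congr (Subgroup.subgroupOfEquivOfLe hNL).toEquiv, hk]
  have hidx : (N.subgroupOf (Hb.comap (QuotientGroup.mk' N))).index = Nat.card Hb := by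
    show N.relIndex _ = _
    rw [← hcard_map, Subgroup.map_comap_eq_self_of_surjective hsurj]
  have hcop : (Nat.card (N.subgroupOf (Hb.comap (QuotientGroup.mk' N)))).Coprime
      (N.subgroupOf (Hb.comap (QuotientGroup.mk' N))).index := by
    rw [hcN', hidx]
    exact Nat.Coprime.pow_left k ((Nat.Prime.coprime_iff_not_dvd Nat.prime_two).mpr hodd)
  obtain ⟨H', hH'⟩ := Subgroup.exists_right_complement'_of_coprime hcop
  have hcH' : Nat.card H' = Nat.card Hb := by
    rw [← hidx]
    exact hH'.symm.index_eq_card.symm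
  have hinj := Subgroup.subtype_injective (Hb.comap (QuotientGroup.mk' N))
  have hc1 : Nat.card (H'.map (Hb.comap (QuotientGroup.mk' N)).subtype) = Nat.card Hb := by
    rw [Subgroup.card_map_of_injective hinj, hcH']
  refine ⟨H'.map (Hb.comap (QuotientGroup.mk' N)).subtype, ?_, hc1⟩
  have hle : (H'.map (Hb.comap (QuotientGroup.mk' N)).subtype).map (QuotientGroup.mk' N) ≤ Hb := by
    rw [Subgroup.map_le_iff_le_comap]
    exact Subgroup.map_subtype_le _
  apply Subgroup.eq_of_le_of_card_ge hle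
  rw [hcard_map]
  -- `N ⊓ H₁ = ⊥`
  have hinf : N ⊓ H'.map (Hb.comap (QuotientGroup.mk' N)).subtype = ⊥ := by
    rw [← Subgroup.card_eq_one]
    have h1 : Nat.card ↥(N ⊓ H'.map (Hb.comap (QuotientGroup.mk' N)).subtype) ∣ 2 ^ k :=
      hk ▸ Subgroup.card_dvd_of_le inf_le_left
    have h2 : Nat.card ↥(N ⊓ H'.map (Hb.comap (QuotientGroup.mk' N)).subtype) ∣ Nat.card Hb :=
      hc1 ▸ Subgroup.card_dvd_of_le inf_le_right
    have h3 : (2 ^ k).Coprime (Nat.card Hb) :=
      Nat.Coprime.pow_left k ((Nat.Prime.coprime_iff_not_dvd Nat.prime_two).mpr hodd)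
    exact Nat.eq_one_of_dvd_coprimes h3 h1 h2
  have h4 := Cfsg.Agent.Lib.Helper1.card_mul_relIndex_of_le (inf_le_right :
    N ⊓ H'.map (Hb.comap (QuotientGroup.mk' N)).subtype ≤ H'.map (Hb.comap (QuotientGroup.mk' N)).subtype)
  rw [Subgroup.inf_relIndex_right, hinf, Subgroup.card_bot, one_mul] at h4
  rw [h4, hc1]

/-- an element normalizing the image of an odd order subgroup `A` modulo a normal `2`-subgroup `N`
can be corrected by an element of `N` so as to normalize `A` -/
theorem exists_mul_mem_normalizer_of_map (N : Subgroup G) [N.Normal] (hN : IsPGroup 2 N)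
    (A : Subgroup G) (hA : ¬ 2 ∣ Nat.card A) (g : G)
    (hg : QuotientGroup.mk' N g ∈
      normalizer ((A.map (QuotientGroup.mk' N) : Subgroup (G ⧸ N)) : Set (G ⧸ N))) :
    ∃ n ∈ N, n⁻¹ * g ∈ normalizer (A : Set G) := by
  have : Fact (Nat.Prime 2) := ⟨Nat.prime_two⟩
  obtain ⟨k, hk⟩ := hN.exists_card_eq
  have hact : Cfsg.Agent.Lib.Helper1.CoprimeAct A N := by
    refine ⟨?_, ?_, Or.inr ?_⟩
    · rw [normalizer_eq_top_iff.mpr inferInstance]
      exact le_top
    · rw [hk]
      exact (Nat.Coprime.pow_left k ((Nat.Prime.coprime_iff_not_dvd Nat.prime_two).mpr hA)).symm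
    · have : Group.IsNilpotent N := hN.isNilpotent
      infer_instance
  have hB : MulAut.conj g • A ≤ A ⊔ N := by
    rw [Cfsg.Agent.Lib.Helper1.conj_smul_le_iff]
    intro a ha
    have h1 := (mem_normalizer_iff.mp hg (QuotientGroup.mk' N a)).mp ⟨a, ha, rfl⟩
    obtain ⟨a', ha', haa'⟩ := h1
    have h2 : QuotientGroup.mk' N a' = QuotientGroup.mk' N (g * a * g⁻¹) := by
      rw [haa', map_mul, map_mul, map_inv]
    have h3 : a'⁻¹ * (g * a * g⁻¹) ∈ N := QuotientGroup.eq.mp h2
    have h4 : g * a * g⁻¹ = a' * (a'⁻¹ * (g * a * g⁻¹)) := by group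
    rw [h4]
    exact mul_mem (mem_sup_left ha') (mem_sup_right h3)
  obtain ⟨n, hn, hnA⟩ := hact.exists_conj_eq _ hB (Cfsg.Agent.Lib.Helper1.card_conj_smul g A)
  refine ⟨n, hn, ?_⟩
  rw [← Cfsg.Agent.Lib.Helper1.conj_smul_eq_self_iff_mem_normalizer, map_mul, mul_smul, ← hnA,
    ← mul_smul, ← map_mul, inv_mul_cancel, map_one, one_smul]

end lift

end Cfsg.Agent.Lib.Helper22
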