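import Mathlib
import Cfsg.Agent.Lib.Helper4.TC.U33Iso
import Cfsg.Agent.Lib.Helper22.PermIdemRow

/-!
# The rank-4 action of `P ≅ U₃(3)` on the 63 non-isotropic points: irreducible characters of degree 21 and 14
(pieces (L21), (L14) of S3670; data computed by helper22, generic lemmas by helper18)
-/

set_option autoImplicit false
set_option maxRecDepth 100000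
set_option linter.unusedSimpArgs false
set_option linter.style.haveILetI false

namespace Cfsg.Agent.Lib.Helper22.U33Pts63

open Cfsg

abbrev P : Type := PresentedGroup Cfsg.Agent.Helper4.TC.U33PS.Rset
abbrev Gen := Cfsg.Agent.Helper4.Pres.U33.Gen

def tabA : Array (Fin 63) := #[50, 41, 6, 3, 30, 61, 2, 45, 55, 13, 28, 19, 38, 9, 31, 46, 60, 34, 18, 11, 33, 27, 36, 42, 24, 62, 26, 21, 10, 35, 4, 14, 59, 20, 17, 29, 22, 37, 12, 58, 43, 1, 23, 40, 56, 7, 15, 51, 52, 53, 0, 47, 48, 49, 54, 8, 44, 57, 39, 32, 16, 5, 25]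
def tabAi : Array (Fin 63) := #[50, 41, 6, 3, 30, 61, 2, 45, 55, 13, 28, 19, 38, 9, 31, 46, 60, 34, 18, 11, 33, 27, 36, 42, 24, 62, 26, 21, 10, 35, 4, 14, 59, 20, 17, 29, 22, 37, 12, 58, 43, 1, 23, 40, 56, 7, 15, 51, 52, 53, 0, 47, 48, 49, 54, 8, 44, 57, 39, 32, 16, 5, 25]
def tabB : Array (Fin 63) := #[31, 14, 44, 56, 54, 3, 37, 13, 16, 47, 62, 60, 52, 10, 1, 39, 9, 38, 50, 19, 46, 25, 17, 4, 40, 55, 15, 58, 36, 2, 21, 8, 53, 18, 11, 41, 5, 7, 59, 43, 24, 49, 51, 42, 35, 61, 22, 0, 28, 29, 33, 26, 30, 32, 27, 12, 48, 23, 57, 20, 34, 45, 6]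
def tabBi : Array (Fin 63) := #[47, 14, 29, 5, 23, 36, 62, 37, 31, 16, 13, 34, 55, 7, 1, 26, 8, 22, 33, 19, 59, 30, 46, 57, 40, 21, 51, 54, 48, 49, 52, 0, 53, 50, 60, 44, 28, 6, 17, 15, 24, 35, 43, 39, 2, 61, 20, 9, 56, 41, 18, 42, 12, 32, 4, 25, 3, 58, 27, 38, 11, 45, 10]

def pA : Equiv.Perm (Fin 63) :=
  ⟨fun x => tabA.getD x.val 0, fun x => tabAi.getD x.val 0, by decide +kernel, by decide +kernel⟩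
def pB : Equiv.Perm (Fin 63) :=
  ⟨fun x => tabB.getD x.val 0, fun x => tabBi.getD x.val 0, by decide +kernel, by decide +kernel⟩

def f63 : Gen → Equiv.Perm (Fin 63)
  | .a => pA
  | .b => pB

theorem rel1 : pA * pA = 1 := by decide +kernel
theorem rel2 : pB * pB * pB * pB * pB * pB = 1 := by decide +kernel
theorem rel3 : pA * pB * pA * pB * pA * pB * pA * pB * pA * pB * pA * pB * pA * pB = 1 := by decide +kernel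
theorem rel4 : pA * pB⁻¹ * pB⁻¹ * pA * pB⁻¹ * pB⁻¹ * pA * pB⁻¹ * pB⁻¹ * pA * pB * pB * pA * pB * pB * pA * pB * pB = 1 := by
  decide +kernel
theorem rel5 : pA * pB⁻¹ * pA * pB * pA * pB * pA * pB⁻¹ * pA * pB * pB * pA * pB⁻¹ * pA * pB * pB * pA * pB⁻¹ * pA * pB * pB = 1 := by
  decide +kernel

theorem hrel : ∀ r ∈ Cfsg.Agent.Helper4.TC.U33PS.Rset, FreeGroup.lift f63 r = 1 := by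
  intro r hr
  rcases hr with hr | hr
  · obtain ⟨x, hx, -⟩ := hr
    simp [Cfsg.Spor.coxNodes, Cfsg.Agent.Helper4.Pres.U33.edges] at hx
  · have hr' : r ∈ Cfsg.Agent.Helper4.Pres.U33.extra := hr
    simp only [Cfsg.Agent.Helper4.Pres.U33.extra, List.mem_cons, List.not_mem_nil, or_false] at hr'
    rcases hr' with rfl | rfl | rfl | rfl | rfl
    · simp only [map_mul, map_inv, FreeGroup.lift_apply_of, f63]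
      exact rel1
    · simp only [map_mul, map_inv, FreeGroup.lift_apply_of, f63]
      exact rel2
    · simp only [map_mul, map_inv, FreeGroup.lift_apply_of, f63]
      exact rel3
    · simp only [map_mul, map_inv, FreeGroup.lift_apply_of, f63]
      exact rel4
    · simp only [map_mul, map_inv, FreeGroup.lift_apply_of, f63]
      exact rel5

/-- the action of `P` on the 63 non-isotropic points -/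
def σ : P →* Equiv.Perm (Fin 63) := PresentedGroup.toGroup hrel

def gA : P := PresentedGroup.of Cfsg.Agent.Helper4.Pres.U33.Gen.a
def gB : P := PresentedGroup.of Cfsg.Agent.Helper4.Pres.U33.Gen.b

theorem σ_gA : σ gA = pA := PresentedGroup.toGroup.of hrel
theorem σ_gB : σ gB = pB := PresentedGroup.toGroup.of hrel

def Ctab : Array (Array (Fin 4)) := #[#[0, 1, 2, 2, 2, 2, 1, 2, 2, 2, 2, 1, 2, 2, 2, 2, 1, 2, 2, 2, 2, 1, 2, 2, 2, 2, 3, 3, 3, 3, 3, 3, 3, 3, 3, 3, 3, 3, 3, 3, 3, 3, 1, 2, 2, 2, 2, 3, 3, 3, 3, 3, 3, 3, 3, 3, 3, 3, 3, 3, 3, 3, 3], #[1, 0, 2, 2, 2, 2, 1, 1, 1, 1, 1, 2, 3, 3, 3, 3, 2, 3, 3, 3, 3, 2, 3, 3, 3, 3, 2, 2, 2, 3, 3, 2, 3, 3, 2, 2, 2, 3, 3, 2, 3, 3, 2, 3, 3, 3, 3, 2, 2, 2, 3, 3,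 2, 3, 3, 2, 2, 2, 3, 3, 2, 3, 3], #[2, 2, 0, 1, 2, 2, 1, 3, 3, 3, 3, 3, 2, 2, 3, 3, 3, 3, 3, 2, 2, 3, 3, 2, 3, 2, 3, 2, 2, 3, 1, 3, 2, 3, 3, 2, 3, 2, 3, 2, 3, 1, 3, 2, 3, 2, 3, 2, 3, 2, 1, 3, 3, 3, 2, 2, 3, 3, 3, 2, 2, 1, 3], #[2, 2, 1, 0, 2, 2, 1, 3, 3, 3, 3, 3, 3, 3, 2, 2, 3, 2, 2, 3, 3, 3, 2, 3, 2, 3, 2, 3, 3, 3, 2, 2, 1, 3, 2, 3, 2, 1, 3, 3, 3, 2, 3, 3, 2, 3, 2, 3, 2, 3, 2, 3, 2, 3, 1, 3, 2, 2, 3, 1, 3, 2, 3], #[2, 2, 2, 2, 0, 1, 1, 3, 3, 3, 3, 3, 3, 2, 3, 2, 3, 2, 3, 2, 3, 3, 3, 3, 2, 2, 3, 2, 3, 2, 3, 2, 3, 1, 2, 3, 3, 3, 2, 2, 1, 3, 3, 2, 2, 3, 3, 3, 2, 2, 3, 1, 3, 2, 3, 2, 3, 2, 1, 3, 3, 3, 2], #[2, 2, 2, 2, 1, 0, 1, 3, 3, 3, 3, 3, 2, 3, 2, 3, 3, 3, 2, 3, 2, 3, 2, 2, 3, 3, 2, 3, 2, 1, 3,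 3, 3, 2, 3, 2, 2, 3, 1, 3, 2, 3, 3, 3, 3, 2, 2, 2, 3, 3, 3, 2, 2, 1, 3, 3, 2, 3, 2, 3, 2, 3, 1], #[1, 1, 1, 1, 1, 1, 0, 2, 2, 2, 2, 2, 3, 3, 3, 3, 2, 3, 3, 3, 3, 2, 3, 3, 3, 3, 3, 3, 3, 2, 2, 3, 2, 2, 3, 3, 3, 2, 2, 3, 2, 2, 2, 3, 3, 3, 3, 3, 3, 3, 2, 2, 3, 2, 2, 3, 3, 3, 2, 2, 3, 2, 2], #[2, 1, 3, 3, 3, 3, 2, 0, 1, 2, 2, 3, 3, 2, 3, 2, 3, 3, 2, 3, 2, 3, 3, 2, 3, 2, 2, 1, 3, 2, 3, 3, 2, 3, 2, 1, 3, 2, 3, 3, 2, 3, 3, 3, 2, 3, 2, 2, 1, 3, 2, 3, 3, 2, 3, 2, 1, 3, 2, 3, 3, 2, 3], #[2, 1, 3, 3, 3, 3, 2, 1, 0, 2, 2, 3, 2, 3, 2, 3, 3, 2, 3, 2, 3, 3, 2, 3, 2, 3, 1, 2, 3, 3, 2, 3, 3, 2, 1, 2, 3, 3, 2, 3, 3, 2, 3, 2, 3, 2, 3, 1, 2, 3, 3, 2, 3, 3, 2, 1, 2, 3, 3, 2, 3, 3, 2], #[2, 1, 3, 3, 3, 3, 2, 2, 2, 0,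 1, 3, 3, 3, 2, 2, 3, 3, 3, 2, 2, 3, 3, 3, 2, 2, 3, 3, 2, 2, 2, 1, 3, 3, 3, 3, 2, 2, 2, 1, 3, 3, 3, 3, 3, 2, 2, 3, 3, 2, 2, 2, 1, 3, 3, 3, 3, 2, 2, 2, 1, 3, 3], #[2, 1, 3, 3, 3, 3, 2, 2, 2, 1, 0, 3, 2, 2, 3, 3, 3, 2, 2, 3, 3, 3, 2, 2, 3, 3, 3, 3, 1, 3, 3, 2, 2, 2, 3, 3, 1, 3, 3, 2, 2, 2, 3, 2, 2, 3, 3, 3, 3, 1, 3, 3, 2, 2, 2, 3, 3, 1, 3, 3, 2, 2, 2], #[1, 2, 3, 3, 3, 3, 2, 3, 3, 3, 3, 0, 2, 2, 2, 2, 1, 1, 1, 1, 1, 2, 3, 3, 3, 3, 3, 3, 3, 2, 2, 3, 2, 2, 2, 2, 2, 3, 3, 2, 3, 3, 2, 3, 3, 3, 3, 3, 3, 3, 2, 2, 3, 2, 2, 2, 2, 2, 3, 3, 2, 3, 3], #[2, 3, 2, 3, 3, 2, 3, 3, 2, 3, 2, 2, 0, 2, 2, 1, 1, 3, 3, 3, 3, 3, 3, 3, 2, 2, 1, 2, 3, 3, 2, 3, 3, 2, 3, 2, 2, 3, 1, 3, 2, 3, 3, 3, 2, 3, 2, 3, 3, 1, 3, 3, 2,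 2, 2, 2, 3, 3, 3, 2, 2, 1, 3], #[2, 3, 2, 3, 2, 3, 3, 2, 3, 3, 2, 2, 2, 0, 1, 2, 1, 3, 3, 3, 3, 3, 2, 3, 2, 3, 3, 3, 1, 3, 3, 2, 2, 2, 3, 2, 3, 2, 3, 2, 3, 1, 3, 3, 3, 2, 2, 2, 1, 3, 2, 3, 3, 2, 3, 2, 3, 2, 1, 3, 3, 3, 2], #[2, 3, 3, 2, 3, 2, 3, 3, 2, 2, 3, 2, 2, 1, 0, 2, 1, 3, 3, 3, 3, 3, 3, 2, 3, 2, 3, 3, 2, 2, 2, 1, 3, 3, 2, 3, 2, 1, 3, 3, 3, 2, 3, 2, 2, 3, 3, 1, 2, 3, 3, 2, 3, 3, 2, 3, 2, 3, 2, 3, 2, 3, 1], #[2, 3, 3, 2, 2, 3, 3, 2, 3, 2, 3, 2, 1, 2, 2, 0, 1, 3, 3, 3, 3, 3, 2, 2, 3, 3, 2, 1, 3, 2, 3, 3, 2, 3, 2, 3, 3, 3, 2, 2, 1, 3, 3, 2, 3, 2, 3, 3, 3, 2, 2, 2, 1, 3, 3, 3, 2, 2, 3, 1, 3, 2, 3], #[1, 2, 3, 3, 3, 3, 2, 3, 3, 3, 3, 1, 1, 1, 1, 1, 0, 2, 2, 2, 2, 2, 3, 3, 3, 3, 2, 2, 2, 3, 3, 2,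 3, 3, 3, 3, 3, 2, 2, 3, 2, 2, 2, 3, 3, 3, 3, 2, 2, 2, 3, 3, 2, 3, 3, 3, 3, 3, 2, 2, 3, 2, 2], #[2, 3, 3, 2, 2, 3, 3, 3, 2, 3, 2, 1, 3, 3, 3, 3, 2, 0, 2, 2, 1, 3, 3, 2, 3, 2, 2, 3, 3, 3, 2, 2, 1, 3, 3, 3, 1, 3, 3, 2, 2, 2, 3, 3, 3, 2, 2, 3, 2, 2, 3, 1, 3, 2, 3, 1, 2, 3, 3, 2, 3, 3, 2], #[2, 3, 3, 2, 3, 2, 3, 2, 3, 3, 2, 1, 3, 3, 3, 3, 2, 2, 0, 1, 2, 3, 3, 3, 2, 2, 2, 3, 2, 1, 3, 3, 3, 2, 2, 1, 3, 2, 3, 3, 2, 3, 3, 2, 3, 2, 3, 3, 2, 3, 2, 3, 2, 3, 1, 3, 3, 1, 3, 3, 2, 2, 2], #[2, 3, 2, 3, 2, 3, 3, 3, 2, 2, 3, 1, 3, 3, 3, 3, 2, 2, 1, 0, 2, 3, 2, 2, 3, 3, 3, 2, 3, 2, 3, 2, 3, 1, 1, 2, 3, 3, 2, 3, 3, 2, 3, 3, 2, 3, 2, 2, 3, 2, 1, 3, 3, 3, 2, 3, 3, 2, 2, 2, 1, 3, 3], #[2, 3, 2, 3, 3, 2, 3, 2, 3, 2, 3,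 1, 3, 3, 3, 3, 2, 1, 2, 2, 0, 3, 2, 3, 2, 3, 3, 2, 2, 3, 1, 3, 2, 3, 3, 3, 2, 2, 2, 1, 3, 3, 3, 2, 2, 3, 3, 2, 3, 3, 3, 2, 2, 1, 3, 2, 1, 3, 2, 3, 3, 2, 3], #[1, 2, 3, 3, 3, 3, 2, 3, 3, 3, 3, 2, 3, 3, 3, 3, 2, 3, 3, 3, 3, 0, 2, 2, 2, 2, 3, 3, 3, 2, 2, 3, 2, 2, 3, 3, 3, 2, 2, 3, 2, 2, 1, 1, 1, 1, 1, 2, 2, 2, 3, 3, 2, 3, 3, 2, 2, 2, 3, 3, 2, 3, 3], #[2, 3, 3, 2, 3, 2, 3, 3, 2, 3, 2, 3, 3, 2, 3, 2, 3, 3, 3, 2, 2, 2, 0, 2, 2, 1, 3, 3, 1, 3, 3, 2, 2, 2, 1, 2, 3, 3, 2, 3, 3, 2, 1, 3, 3, 3, 3, 2, 3, 3, 3, 2, 2, 1, 3, 3, 2, 2, 3, 1, 3, 2, 3], #[2, 3, 2, 3, 3, 2, 3, 2, 3, 3, 2, 3, 3, 3, 2, 2, 3, 2, 3, 2, 3, 2, 2, 0, 1, 2, 2, 1, 3, 2, 3, 3, 2, 3, 3, 3, 1, 3, 3, 2, 2, 2, 1, 3, 3, 3, 3, 2, 3, 2, 1, 3, 3, 3,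 2, 3, 2, 3, 2, 3, 2, 3, 1], #[2, 3, 3, 2, 2, 3, 3, 3, 2, 2, 3, 3, 2, 2, 3, 3, 3, 3, 2, 3, 2, 2, 2, 1, 0, 2, 1, 2, 3, 3, 2, 3, 3, 2, 3, 3, 2, 2, 2, 1, 3, 3, 1, 3, 3, 3, 3, 3, 2, 3, 2, 3, 2, 3, 1, 2, 3, 2, 1, 3, 3, 3, 2], #[2, 3, 2, 3, 2, 3, 3, 2, 3, 2, 3, 3, 2, 3, 2, 3, 3, 2, 2, 3, 3, 2, 1, 2, 2, 0, 3, 3, 2, 2, 2, 1, 3, 3, 2, 1, 3, 2, 3, 3, 2, 3, 1, 3, 3, 3, 3, 3, 2, 2, 3, 1, 3, 2, 3, 2, 3, 3, 3, 2, 2, 1, 3], #[3, 2, 3, 2, 3, 2, 3, 2, 1, 3, 3, 3, 1, 3, 3, 2, 2, 2, 2, 3, 3, 3, 3, 2, 1, 3, 0, 3, 3, 3, 3, 3, 3, 3, 2, 3, 3, 2, 1, 2, 3, 2, 2, 3, 3, 2, 2, 2, 3, 2, 3, 2, 3, 2, 1, 1, 3, 2, 2, 3, 2, 2, 3], #[3, 2, 2, 3, 2, 3, 3, 1, 2, 3, 3, 3, 2, 3, 3, 1, 2, 3, 3, 2, 2, 3, 3, 1, 2, 3, 3, 0, 3, 3, 3, 3, 3,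 3, 3, 2, 2, 2, 3, 3, 1, 2, 2, 2, 2, 3, 3, 3, 2, 3, 1, 2, 2, 2, 3, 3, 1, 2, 3, 2, 2, 3, 2], #[3, 2, 2, 3, 3, 2, 3, 3, 3, 2, 1, 3, 3, 1, 2, 3, 2, 3, 2, 3, 2, 3, 1, 3, 3, 2, 3, 3, 0, 3, 3, 3, 3, 3, 2, 3, 2, 3, 2, 3, 2, 1, 2, 2, 3, 2, 3, 3, 2, 2, 2, 3, 3, 1, 2, 2, 2, 1, 2, 2, 3, 3, 3], #[3, 3, 3, 3, 2, 1, 2, 2, 3, 2, 3, 2, 3, 3, 2, 2, 3, 3, 1, 2, 3, 2, 3, 2, 3, 2, 3, 3, 3, 0, 3, 3, 3, 3, 3, 1, 2, 3, 2, 2, 3, 2, 3, 3, 2, 1, 3, 2, 2, 3, 3, 3, 1, 2, 2, 2, 3, 2, 3, 2, 3, 2, 1], #[3, 3, 1, 2, 3, 3, 2, 3, 2, 2, 3, 2, 2, 3, 2, 3, 3, 2, 3, 3, 1, 2, 3, 3, 2, 2, 3, 3, 3, 3, 0, 3, 3, 3, 2, 2, 3, 3, 3, 1, 2, 2, 3, 1, 3, 3, 2, 1, 3, 2, 2, 3, 2, 2, 3, 3, 2, 2, 2, 3, 3, 1, 2], #[3, 2, 3, 2, 2, 3, 3, 3, 3, 1, 2, 3,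 3, 2, 1, 3, 2, 2, 3, 2, 3, 3, 2, 3, 3, 1, 3, 3, 3, 3, 3, 0, 3, 3, 3, 2, 3, 1, 2, 2, 2, 3, 2, 3, 2, 3, 2, 2, 3, 3, 2, 1, 2, 3, 2, 2, 2, 3, 3, 3, 1, 2, 2], #[3, 3, 2, 1, 3, 3, 2, 2, 3, 3, 2, 2, 3, 2, 3, 2, 3, 1, 3, 3, 2, 2, 2, 2, 3, 3, 3, 3, 3, 3, 3, 3, 0, 3, 2, 2, 1, 2, 2, 3, 3, 3, 3, 2, 3, 3, 1, 3, 1, 2, 3, 2, 2, 3, 2, 2, 3, 3, 2, 1, 2, 3, 2], #[3, 3, 3, 3, 1, 2, 2, 3, 2, 3, 2, 2, 2, 2, 3, 3, 3, 3, 2, 1, 3, 2, 2, 3, 2, 3, 3, 3, 3, 3, 3, 3, 3, 0, 1, 3, 2, 2, 3, 2, 2, 3, 3, 3, 1, 2, 3, 2, 2, 1, 2, 2, 3, 3, 3, 3, 2, 3, 1, 2, 2, 2, 3], #[3, 2, 3, 2, 2, 3, 3, 2, 1, 3, 3, 2, 3, 3, 2, 2, 3, 3, 2, 1, 3, 3, 1, 3, 3, 2, 2, 3, 2, 3, 2, 3, 2, 1, 0, 3, 3, 3, 3, 3, 3, 3, 2, 2, 2, 3, 3, 1, 3, 2, 2, 3, 2, 2, 3,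 2, 3, 3, 2, 1, 2, 3, 2], #[3, 2, 2, 3, 3, 2, 3, 1, 2, 3, 3, 2, 2, 2, 3, 3, 3, 3, 1, 2, 3, 3, 2, 3, 3, 1, 3, 2, 3, 1, 2, 2, 2, 3, 3, 0, 3, 3, 3, 3, 3, 3, 2, 3, 3, 2, 2, 3, 1, 2, 3, 2, 2, 3, 2, 3, 2, 2, 2, 3, 3, 1, 2], #[3, 2, 3, 2, 3, 2, 3, 3, 3, 2, 1, 2, 2, 3, 2, 3, 3, 1, 3, 3, 2, 3, 3, 1, 2, 3, 3, 2, 2, 2, 3, 3, 1, 2, 3, 3, 0, 3, 3, 3, 3, 3, 2, 3, 2, 3, 2, 2, 2, 1, 2, 2, 3, 3, 3, 2, 3, 2, 3, 2, 3, 2, 1], #[3, 3, 2, 1, 3, 3, 2, 2, 3, 2, 3, 3, 3, 2, 1, 3, 2, 3, 2, 3, 2, 2, 3, 3, 2, 2, 2, 2, 3, 3, 3, 1, 2, 2, 3, 3, 3, 0, 3, 3, 3, 3, 3, 3, 1, 2, 3, 2, 3, 2, 3, 2, 3, 2, 1, 3, 1, 2, 3, 2, 2, 3, 2], #[3, 3, 3, 3, 2, 1, 2, 3, 2, 2, 3, 3, 1, 3, 3, 2, 2, 3, 3, 2, 2, 2, 2, 3, 2, 3, 1, 3, 2, 2, 3, 2, 2, 3,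 3, 3, 3, 3, 0, 3, 3, 3, 3, 2, 3, 3, 1, 3, 2, 2, 2, 3, 3, 1, 2, 2, 2, 3, 3, 3, 1, 2, 2], #[3, 2, 2, 3, 2, 3, 3, 3, 3, 1, 2, 2, 3, 2, 3, 2, 3, 2, 3, 3, 1, 3, 3, 2, 1, 3, 2, 3, 3, 2, 1, 2, 3, 2, 3, 3, 3, 3, 3, 0, 3, 3, 2, 2, 3, 2, 3, 2, 2, 3, 3, 3, 1, 2, 2, 3, 2, 3, 1, 2, 2, 2, 3], #[3, 3, 3, 3, 1, 2, 2, 2, 3, 3, 2, 3, 2, 3, 3, 1, 2, 2, 2, 3, 3, 2, 3, 2, 3, 2, 3, 1, 2, 3, 2, 2, 3, 2, 3, 3, 3, 3, 3, 3, 0, 3, 3, 1, 3, 3, 2, 2, 3, 3, 2, 1, 2, 3, 2, 2, 2, 1, 2, 2, 3, 3, 3], #[3, 3, 1, 2, 3, 3, 2, 3, 2, 3, 2, 3, 3, 1, 2, 3, 2, 2, 3, 2, 3, 2, 2, 2, 3, 3, 2, 2, 1, 2, 2, 3, 3, 3, 3, 3, 3, 3, 3, 3, 3, 0, 3, 3, 2, 1, 3, 3, 2, 3, 1, 2, 2, 2, 3, 1, 3, 2, 2, 3, 2, 2, 3], #[1, 2, 3, 3, 3, 3, 2, 3, 3, 3, 3, 2, 3,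 3, 3, 3, 2, 3, 3, 3, 3, 1, 1, 1, 1, 1, 2, 2, 2, 3, 3, 2, 3, 3, 2, 2, 2, 3, 3, 2, 3, 3, 0, 2, 2, 2, 2, 3, 3, 3, 2, 2, 3, 2, 2, 3, 3, 3, 2, 2, 3, 2, 2], #[2, 3, 2, 3, 2, 3, 3, 3, 2, 3, 2, 3, 3, 3, 2, 2, 3, 3, 2, 3, 2, 1, 3, 3, 3, 3, 3, 2, 2, 3, 1, 3, 2, 3, 2, 3, 3, 3, 2, 2, 1, 3, 2, 0, 2, 2, 1, 1, 2, 3, 3, 2, 3, 3, 2, 3, 3, 1, 3, 3, 2, 2, 2], #[2, 3, 3, 2, 2, 3, 3, 2, 3, 3, 2, 3, 2, 3, 2, 3, 3, 3, 3, 2, 2, 1, 3, 3, 3, 3, 3, 2, 3, 2, 3, 2, 3, 1, 2, 3, 2, 1, 3, 3, 3, 2, 2, 2, 0, 1, 2, 3, 3, 1, 3, 3, 2, 2, 2, 2, 1, 3, 2, 3, 3, 2, 3], #[2, 3, 2, 3, 3, 2, 3, 3, 2, 2, 3, 3, 3, 2, 3, 2, 3, 2, 2, 3, 3, 1, 3, 3, 3, 3, 2, 3, 2, 1, 3, 3, 3, 2, 3, 2, 3, 2, 3, 2, 3, 1, 2, 2, 1, 0, 2, 3, 3, 2, 2, 2, 1, 3, 3, 1,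 2, 3, 3, 2, 3, 3, 2], #[2, 3, 3, 2, 3, 2, 3, 2, 3, 2, 3, 3, 2, 2, 3, 3, 3, 2, 3, 2, 3, 1, 3, 3, 3, 3, 2, 3, 3, 3, 2, 2, 1, 3, 3, 2, 2, 3, 1, 3, 2, 3, 2, 1, 2, 2, 0, 2, 1, 3, 2, 3, 3, 2, 3, 3, 3, 2, 2, 2, 1, 3, 3], #[3, 2, 2, 3, 3, 2, 3, 2, 1, 3, 3, 3, 3, 2, 1, 3, 2, 3, 3, 2, 2, 2, 2, 2, 3, 3, 2, 3, 3, 2, 1, 2, 3, 2, 1, 3, 2, 2, 3, 2, 2, 3, 3, 1, 3, 3, 2, 0, 3, 3, 3, 3, 3, 3, 3, 2, 3, 2, 3, 2, 3, 2, 1], #[3, 2, 3, 2, 2, 3, 3, 1, 2, 3, 3, 3, 3, 1, 2, 3, 2, 2, 2, 3, 3, 2, 3, 3, 2, 2, 3, 2, 2, 2, 3, 3, 1, 2, 3, 1, 2, 3, 2, 2, 3, 2, 3, 2, 3, 3, 1, 3, 0, 3, 3, 3, 3, 3, 3, 3, 2, 3, 1, 2, 2, 2, 3], #[3, 2, 2, 3, 2, 3, 3, 3, 3, 2, 1, 3, 1, 3, 3, 2, 2, 2, 3, 2, 3, 2, 3, 2, 3, 2, 2, 3, 2, 3, 2, 3, 2, 1, 2,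 2, 1, 2, 2, 3, 3, 3, 3, 3, 1, 2, 3, 3, 3, 0, 3, 3, 3, 3, 3, 3, 2, 2, 2, 3, 3, 1, 2], #[3, 3, 1, 2, 3, 3, 2, 2, 3, 2, 3, 2, 3, 2, 3, 2, 3, 3, 2, 1, 3, 3, 3, 1, 2, 3, 3, 1, 2, 3, 2, 2, 3, 2, 2, 3, 2, 3, 2, 3, 2, 1, 2, 3, 3, 2, 2, 3, 3, 3, 0, 3, 3, 3, 3, 2, 2, 3, 3, 3, 1, 2, 2], #[3, 3, 3, 3, 1, 2, 2, 3, 2, 2, 3, 2, 3, 3, 2, 2, 3, 1, 3, 3, 2, 3, 2, 3, 3, 1, 2, 2, 3, 3, 3, 1, 2, 2, 3, 2, 2, 2, 3, 3, 1, 2, 2, 2, 3, 2, 3, 3, 3, 3, 3, 0, 3, 3, 3, 1, 3, 2, 2, 3, 2, 2, 3], #[3, 2, 3, 2, 3, 2, 3, 3, 3, 1, 2, 3, 2, 3, 3, 1, 2, 3, 2, 3, 2, 2, 2, 3, 2, 3, 3, 2, 3, 1, 2, 2, 2, 3, 2, 2, 3, 3, 3, 1, 2, 2, 3, 3, 2, 1, 3, 3, 3, 3, 3, 3, 0, 3, 3, 2, 3, 3, 2, 1, 2, 3, 2], #[3, 3, 3, 3, 2, 1, 2, 2, 3, 3, 2, 2, 2, 2,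 3, 3, 3, 2, 3, 3, 1, 3, 1, 3, 3, 2, 2, 2, 1, 2, 2, 3, 3, 3, 2, 3, 3, 2, 1, 2, 3, 2, 2, 3, 2, 3, 2, 3, 3, 3, 3, 3, 3, 0, 3, 3, 1, 2, 3, 2, 2, 3, 2], #[3, 3, 2, 1, 3, 3, 2, 3, 2, 3, 2, 2, 2, 3, 2, 3, 3, 3, 1, 2, 3, 3, 3, 2, 1, 3, 1, 3, 2, 2, 3, 2, 2, 3, 3, 2, 3, 1, 2, 2, 2, 3, 2, 2, 2, 3, 3, 3, 3, 3, 3, 3, 3, 3, 0, 2, 2, 1, 2, 2, 3, 3, 3], #[3, 2, 2, 3, 2, 3, 3, 2, 1, 3, 3, 2, 2, 2, 3, 3, 3, 1, 3, 3, 2, 2, 3, 3, 2, 2, 1, 3, 2, 2, 3, 2, 2, 3, 2, 3, 2, 3, 2, 3, 2, 1, 3, 3, 2, 1, 3, 2, 3, 3, 2, 1, 2, 3, 2, 0, 3, 3, 3, 3, 3, 3, 3], #[3, 2, 3, 2, 3, 2, 3, 1, 2, 3, 3, 2, 3, 3, 2, 2, 3, 2, 3, 3, 1, 2, 2, 2, 3, 3, 3, 1, 2, 3, 2, 2, 3, 2, 3, 2, 3, 1, 2, 2, 2, 3, 3, 3, 1, 2, 3, 3, 2, 2, 2, 3, 3, 1, 2, 3, 0,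 3, 3, 3, 3, 3, 3], #[3, 2, 3, 2, 2, 3, 3, 3, 3, 2, 1, 2, 3, 2, 3, 2, 3, 3, 1, 2, 3, 2, 2, 3, 2, 3, 2, 2, 1, 2, 2, 3, 3, 3, 3, 2, 2, 2, 3, 3, 1, 2, 3, 1, 3, 3, 2, 2, 3, 2, 3, 2, 3, 2, 1, 3, 3, 0, 3, 3, 3, 3, 3], #[3, 3, 3, 3, 1, 2, 2, 2, 3, 2, 3, 3, 3, 1, 2, 3, 2, 3, 3, 2, 2, 3, 3, 2, 1, 3, 2, 3, 2, 3, 2, 3, 2, 1, 2, 2, 3, 3, 3, 1, 2, 2, 2, 3, 2, 3, 2, 3, 1, 2, 3, 2, 2, 3, 2, 3, 3, 3, 0, 3, 3, 3, 3], #[3, 3, 2, 1, 3, 3, 2, 3, 2, 2, 3, 3, 2, 3, 3, 1, 2, 2, 3, 2, 3, 3, 1, 3, 3, 2, 3, 2, 2, 2, 3, 3, 1, 2, 1, 3, 2, 2, 3, 2, 2, 3, 2, 3, 3, 2, 2, 2, 2, 3, 3, 3, 1, 2, 2, 3, 3, 3, 3, 0, 3, 3, 3], #[3, 2, 2, 3, 3, 2, 3, 3, 3, 1, 2, 2, 2, 3, 2, 3, 3, 3, 2, 1, 3, 2, 3, 2, 3, 2, 2, 2, 3, 3, 3, 1, 2, 2, 2, 3,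 3, 2, 1, 2, 3, 2, 3, 2, 3, 3, 1, 3, 2, 3, 1, 2, 2, 2, 3, 3, 3, 3, 3, 3, 0, 3, 3], #[3, 3, 1, 2, 3, 3, 2, 2, 3, 3, 2, 3, 1, 3, 3, 2, 2, 3, 2, 3, 2, 3, 2, 3, 3, 1, 2, 3, 3, 2, 1, 2, 3, 2, 3, 1, 2, 3, 2, 2, 3, 2, 2, 2, 2, 3, 3, 2, 2, 1, 2, 2, 3, 3, 3, 3, 3, 3, 3, 3, 3, 0, 3], #[3, 3, 3, 3, 2, 1, 2, 3, 2, 3, 2, 3, 3, 2, 1, 3, 2, 2, 2, 3, 3, 3, 3, 1, 2, 3, 3, 2, 3, 1, 2, 2, 2, 3, 2, 2, 1, 2, 2, 3, 3, 3, 2, 2, 3, 2, 3, 1, 3, 2, 2, 3, 2, 2, 3, 3, 3, 3, 3, 3, 3, 3, 0]]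

/-- the colouring by the four orbitals -/
def C (i j : Fin 63) : Fin 4 := (Ctab.getD i.val #[]).getD j.val 0

theorem hC_A : ∀ i j, C (pA i) (pA j) = C i j := by decide +kernel
theorem hC_B : ∀ i j, C (pB i) (pB j) = C i j := by decide +kernel

theorem hC : ∀ (g : P) i j, C (σ g i) (σ g j) = C i j := by
  let S : Subgroup P :=
    { carrier := {g | ∀ i j, C (σ g i) (σ g j) = C i j}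
      mul_mem' := by
        intro x y hx hy i j
        rw [map_mul, Equiv.Perm.mul_apply, Equiv.Perm.mul_apply, hx, hy]
      one_mem' := by
        intro i j
        simp
      inv_mem' := by
        intro x hx i j
        have := hx ((σ x)⁻¹ i) ((σ x)⁻¹ j)
        rw [map_inv]
        simpa using this.symm }
  have hS : S = ⊤ := by
    rw [eq_top_iff, ← PresentedGroup.closure_range_of, Subgroup.closure_le]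
    rintro _ ⟨x, rfl⟩
    cases x
    · intro i j
      have : σ (PresentedGroup.of Cfsg.Agent.Helper4.Pres.U33.Gen.b) = pB := σ_gB
      rw [this]
      exact hC_B i j
    · intro i j
      have : σ (PresentedGroup.of Cfsg.Agent.Helper4.Pres.U33.Gen.a) = pA := σ_gA
      rw [this]
      exact hC_A i j
  intro g
  have : g ∈ S := by rw [hS]; trivial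
  exact this

def rparTab : Array (Fin 63) := #[0, 14, 29, 5, 30, 36, 2, 45, 31, 16, 13, 34, 55, 9, 31, 46, 8, 22, 33, 11, 33, 30, 46, 57, 40, 21, 51, 21, 48, 49, 52, 0, 53, 50, 60, 29, 22, 6, 12, 15, 43, 1, 43, 39, 2, 61, 20, 9, 52, 41, 0, 47, 12, 49, 4, 8, 3, 58, 39, 38, 16, 5, 10]
def rlabTab : Array (Fin 2) := #[0, 1, 1, 1, 0, 1, 0, 0, 1, 1, 1, 1, 1, 0, 0, 0, 1, 1, 1, 0, 0, 1, 1, 1, 1, 1, 1, 0, 1, 1, 1, 1, 1, 1, 1, 0, 0, 1, 0, 1, 0, 0, 1, 1, 1, 1, 1, 1, 0, 1, 0, 0, 1, 0, 1, 0, 1, 1, 0, 1, 0, 0, 1]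
def rpar (x : Fin 63) : Fin 63 := rparTab.getD x.val 0
def rlab (x : Fin 63) : Fin 2 := rlabTab.getD x.val 0

def pgen : Fin 2 → Equiv.Perm (Fin 63) := ![pA, pB]

theorem hpgen : ∀ i, ∃ g, σ g = pgen i := by
  intro i
  fin_cases i
  · exact ⟨gA, σ_gA⟩
  · exact ⟨gB, σ_gB⟩

theorem htrans : ∀ x, ∃ g, σ g 0 = x :=
  Cfsg.Agent.Lib.Helper18.PermIdem.reach_of_tree σ pgen hpgen 0 rpar rlab (by decide +kernel) 10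
    (by decide +kernel)

def t0 : Equiv.Perm (Fin 63) := pA * pB * pB * pB * pA
def t1 : Equiv.Perm (Fin 63) := pB⁻¹ * pA * pB * pB * pA * pB
def t2 : Equiv.Perm (Fin 63) := pA * pB⁻¹ * pA * pB * pB * pA * pB * pA * pB * pB
def tgen : Fin 3 → Equiv.Perm (Fin 63) := ![t0, t1, t2]

theorem htgen : ∀ k, ∃ g, σ g = tgen k := by
  intro k
  fin_cases k
  · exact ⟨gA * gB * gB * gB * gA, by simp only [map_mul, map_inv, σ_gA, σ_gB]; rfl⟩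
  · exact ⟨gB⁻¹ * gA * gB * gB * gA * gB, by simp only [map_mul, map_inv, σ_gA, σ_gB]; rfl⟩
  · exact ⟨gA * gB⁻¹ * gA * gB * gB * gA * gB * gA * gB * gB, by simp only [map_mul, map_inv, σ_gA, σ_gB]; rfl⟩

def sparTab : Array (Fin 63) := #[0, 1, 2, 5, 3, 2, 1, 5, 7, 2, 9, 1, 5, 2, 13, 12, 6, 10, 45, 44, 9, 16, 20, 17, 20, 45, 26, 51, 50, 48, 40, 36, 36, 37, 56, 29, 60, 62, 61, 30, 26, 58, 11, 24, 14, 13, 12, 58, 26, 62, 60, 55, 58, 60, 29, 48, 53, 54, 30, 53, 26, 29, 48]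
def slabTab : Array (Fin 3) := #[0, 0, 0, 2, 2, 2, 0, 0, 2, 0, 2, 1, 1, 1, 0, 0, 1, 1, 2, 2, 1, 1, 2, 1, 1, 0, 0, 1, 1, 1, 2, 2, 0, 2, 2, 0, 2, 2, 2, 0, 0, 2, 1, 0, 1, 1, 1, 0, 2, 1, 0, 0, 1, 1, 2, 2, 0, 0, 1, 2, 1, 1, 0]
def spar (x : Fin 63) : Fin 63 := sparTab.getD x.val 0
def slab (x : Fin 63) : Fin 3 := slabTab.getD x.val 0
def srep : Fin 4 → Fin 63 := ![0, 1, 2, 26]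

theorem hstab : ∀ y y', C 0 y = C 0 y' → ∃ g, σ g 0 = 0 ∧ σ g y = y' :=
  Cfsg.Agent.Lib.Helper18.PermIdem.stab_of_tree σ 0 C hC tgen htgen (by decide +kernel) srep spar slab
    (by decide +kernel) 4 (by decide +kernel)

def f21 : Fin 4 → ℤ := ![-24, -12, 0, 3]
def lam21 : Fin 4 → ℤ := ![1, 3, 0, -4]
def f14 : Fin 4 → ℤ := ![-24, 12, -6, 3]
def lam14 : Fin 4 → ℤ := ![1, -3, 6, -4]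

theorem finiteP : Finite P := Cfsg.Agent.Helper4.TC.U33PS.card_top.1

/-- (L21) -/
theorem exists_irr_21 : ∃ χ : IrrCharacter P, charDegree (χ : P → ℂ) = 21 := by
  haveI := finiteP
  exact Cfsg.Agent.Lib.Helper22.PermIdemRow.exists_irr_of_int_row σ 0 C hC htrans hstab f21 (-72)
    (by norm_num) 21 (by norm_num) (by decide +kernel) (by decide +kernel) lam21 (by decide +kernel)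

/-- (L14) -/
theorem exists_irr_14 : ∃ χ : IrrCharacter P, charDegree (χ : P → ℂ) = 14 := by
  haveI := finiteP
  exact Cfsg.Agent.Lib.Helper22.PermIdemRow.exists_irr_of_int_row σ 0 C hC htrans hstab f14 (-108)
    (by norm_num) 14 (by norm_num) (by decide +kernel) (by decide +kernel) lam14 (by decide +kernel)

end Cfsg.Agent.Lib.Helper22.U33Pts63
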