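import Mathlib
import Cfsg.Agent.Lib.Helper4.TC.U33Iso
import Cfsg.Agent.Lib.Helper22.SixDvdRep

/-!
# A six-dimensional representation of the presented group `P ≅ U₃(3)` over the Gaussian integers,
and an irreducible character of `P` of degree divisible by 6  (piece (L6) of S3670)
-/

set_option autoImplicit false
set_option linter.unusedSimpArgs false
set_option linter.style.haveILetI false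

namespace Cfsg.Agent.Lib.Helper22.U33Six

open Cfsg

abbrev P : Type := PresentedGroup Cfsg.Agent.Helper4.TC.U33PS.Rset
abbrev Gen := Cfsg.Agent.Helper4.Pres.U33.Gen
abbrev M6 := Matrix (Fin 6) (Fin 6) (Zsqrtd (-1))

def A6 : M6 := !![⟨1, 0⟩, ⟨0, 0⟩, ⟨0, 0⟩, ⟨0, 0⟩, ⟨0, 0⟩, ⟨0, 0⟩;
    ⟨-1, 1⟩, ⟨-1, 0⟩, ⟨0, 0⟩, ⟨0, 0⟩, ⟨0, 0⟩, ⟨0, 0⟩;
    ⟨1, -1⟩, ⟨0, 0⟩, ⟨0, 0⟩, ⟨-1, 1⟩, ⟨0, 0⟩, ⟨1, 0⟩;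
    ⟨1, 0⟩, ⟨0, 0⟩, ⟨0, 0⟩, ⟨-1, 0⟩, ⟨0, 0⟩, ⟨0, 0⟩;
    ⟨0, 0⟩, ⟨0, 0⟩, ⟨0, 0⟩, ⟨0, 0⟩, ⟨-1, 0⟩, ⟨0, 0⟩;
    ⟨0, 0⟩, ⟨0, 0⟩, ⟨1, 0⟩, ⟨-1, 1⟩, ⟨0, 0⟩, ⟨0, 0⟩]
def B6 : M6 := !![⟨0, 0⟩, ⟨0, 0⟩, ⟨0, 1⟩, ⟨0, -1⟩, ⟨0, 0⟩, ⟨0, 0⟩;
    ⟨1, 0⟩, ⟨0, 0⟩, ⟨-1, 0⟩, ⟨0, 0⟩, ⟨0, 0⟩, ⟨0, 0⟩;
    ⟨0, 0⟩, ⟨1, 0⟩, ⟨0, 1⟩, ⟨0, -2⟩, ⟨1, 0⟩, ⟨0, 0⟩;
    ⟨0, 0⟩, ⟨0, 0⟩, ⟨0, 0⟩, ⟨1, -1⟩, ⟨0, 1⟩, ⟨0, 1⟩;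
    ⟨0, 0⟩, ⟨0, 0⟩, ⟨1, 0⟩, ⟨0, 1⟩, ⟨-1, 0⟩, ⟨-1, 1⟩;
    ⟨0, 0⟩, ⟨0, 0⟩, ⟨-1, 0⟩, ⟨1, -1⟩, ⟨1, 1⟩, ⟨1, 0⟩]
def B6i : M6 := !![⟨0, -1⟩, ⟨1, 0⟩, ⟨0, 0⟩, ⟨0, 1⟩, ⟨0, -1⟩, ⟨0, -1⟩;
    ⟨0, 0⟩, ⟨0, 0⟩, ⟨1, 0⟩, ⟨-1, 0⟩, ⟨0, 0⟩, ⟨0, 1⟩;
    ⟨0, -1⟩, ⟨0, 0⟩, ⟨0, 0⟩, ⟨0, 1⟩, ⟨0, -1⟩, ⟨0, -1⟩;
    ⟨0, 0⟩, ⟨0, 0⟩, ⟨0, 0⟩, ⟨0, 1⟩, ⟨0, -1⟩, ⟨0, -1⟩;
    ⟨-1, 0⟩, ⟨0, 0⟩, ⟨0, 0⟩, ⟨0, 0⟩, ⟨1, 0⟩, ⟨1, -1⟩;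
    ⟨1, 0⟩, ⟨0, 0⟩, ⟨0, 0⟩, ⟨-1, 0⟩, ⟨0, -1⟩, ⟨0, 0⟩]
def Zm : M6 := !![⟨-1, 0⟩, ⟨1, 0⟩, ⟨0, 0⟩, ⟨1, 0⟩, ⟨0, 0⟩, ⟨0, -1⟩;
    ⟨0, 0⟩, ⟨-1, 1⟩, ⟨0, 0⟩, ⟨0, 1⟩, ⟨0, 0⟩, ⟨0, 0⟩;
    ⟨0, 0⟩, ⟨1, 0⟩, ⟨-1, 0⟩, ⟨0, -1⟩, ⟨1, 0⟩, ⟨1, -1⟩;
    ⟨0, 0⟩, ⟨1, 0⟩, ⟨0, 0⟩, ⟨0, -1⟩, ⟨0, 0⟩, ⟨0, 0⟩;
    ⟨1, 1⟩, ⟨0, 1⟩, ⟨-1, 0⟩, ⟨1, -1⟩, ⟨0, 0⟩, ⟨0, 0⟩;
    ⟨0, -1⟩, ⟨1, 0⟩, ⟨0, 0⟩, ⟨0, 0⟩, ⟨0, 0⟩, ⟨0, 0⟩]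
def Gm : M6 := !![⟨1, 0⟩, ⟨0, 0⟩, ⟨-1, 0⟩, ⟨0, -1⟩, ⟨1, 1⟩, ⟨1, 0⟩;
    ⟨-1, 1⟩, ⟨0, 0⟩, ⟨1, -1⟩, ⟨1, 1⟩, ⟨-1, 0⟩, ⟨-1, 0⟩;
    ⟨1, 0⟩, ⟨-1, 0⟩, ⟨-1, 0⟩, ⟨0, 0⟩, ⟨0, 1⟩, ⟨1, 1⟩;
    ⟨1, 0⟩, ⟨0, 0⟩, ⟨-1, 0⟩, ⟨0, 0⟩, ⟨0, 0⟩, ⟨0, 0⟩;
    ⟨1, 0⟩, ⟨0, 0⟩, ⟨0, 0⟩, ⟨-1, 0⟩, ⟨0, -1⟩, ⟨0, 0⟩;
    ⟨0, 0⟩, ⟨0, 0⟩, ⟨0, -1⟩, ⟨1, 1⟩, ⟨-1, 1⟩, ⟨0, 1⟩]
def Hm : M6 := !![⟨-1, 0⟩, ⟨-1, -1⟩, ⟨0, 0⟩, ⟨0, 0⟩, ⟨0, 0⟩, ⟨0, 0⟩;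
    ⟨1, 0⟩, ⟨1, 1⟩, ⟨-1, 0⟩, ⟨1, -1⟩, ⟨1, 1⟩, ⟨1, 0⟩;
    ⟨-1, 0⟩, ⟨-1, -2⟩, ⟨1, 0⟩, ⟨-1, 0⟩, ⟨-1, 0⟩, ⟨-1, 1⟩;
    ⟨0, 0⟩, ⟨0, -1⟩, ⟨0, 1⟩, ⟨-1, -1⟩, ⟨0, -1⟩, ⟨-1, 0⟩;
    ⟨0, 1⟩, ⟨0, 0⟩, ⟨-1, 0⟩, ⟨0, -1⟩, ⟨1, 0⟩, ⟨0, -1⟩;
    ⟨0, -1⟩, ⟨1, -1⟩, ⟨1, 1⟩, ⟨-1, 0⟩, ⟨0, -1⟩, ⟨-1, 0⟩]
def Tm : M6 := !![⟨0, -1⟩, ⟨0, 0⟩, ⟨0, 0⟩, ⟨-1, 1⟩, ⟨0, 0⟩, ⟨1, 0⟩;
    ⟨0, 1⟩, ⟨0, 0⟩, ⟨0, -1⟩, ⟨1, -1⟩, ⟨0, 1⟩, ⟨0, 1⟩;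
    ⟨-1, -1⟩, ⟨-1, -1⟩, ⟨1, 0⟩, ⟨-2, 2⟩, ⟨-1, -1⟩, ⟨0, 0⟩;
    ⟨0, -1⟩, ⟨0, 0⟩, ⟨0, 1⟩, ⟨-2, 0⟩, ⟨1, -1⟩, ⟨1, -1⟩;
    ⟨0, 0⟩, ⟨-1, 0⟩, ⟨-1, 0⟩, ⟨0, -1⟩, ⟨1, 1⟩, ⟨1, 0⟩;
    ⟨0, 0⟩, ⟨0, 0⟩, ⟨0, 0⟩, ⟨-1, 0⟩, ⟨0, -1⟩, ⟨0, 0⟩]

theorem hAA : A6 * A6 = 1 := by decide +kernel
theorem hBBi : B6 * B6i = 1 := by decide +kernel
theorem hBiB : B6i * B6 = 1 := by decide +kernel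

def uA : M6ˣ := ⟨A6, A6, hAA, hAA⟩
def uB : M6ˣ := ⟨B6, B6i, hBBi, hBiB⟩

def f6 : Gen → M6ˣ
  | .a => uA
  | .b => uB

theorem rel1 : A6 * A6 = 1 := hAA
theorem rel2 : B6 * B6 * B6 * B6 * B6 * B6 = 1 := by decide +kernel
theorem rel3 : A6 * B6 * A6 * B6 * A6 * B6 * A6 * B6 * A6 * B6 * A6 * B6 * A6 * B6 = 1 := by decide +kernel
theorem rel4 : A6 * B6i * B6i * A6 * B6i * B6i * A6 * B6i * B6i * A6 * B6 * B6 * A6 * B6 * B6 * A6 * B6 * B6 = 1 := by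
  decide +kernel
theorem rel5 : A6 * B6i * A6 * B6 * A6 * B6 * A6 * B6i * A6 * B6 * B6 * A6 * B6i * A6 * B6 * B6 * A6 * B6i * A6 * B6 * B6 = 1 := by
  decide +kernel

theorem hz : B6 ^ 4 * A6 * B6 * A6 * B6 ^ 4 * A6 * B6 ^ 5 * A6 * B6 ^ 2 = Zm := by decide +kernel
theorem hg : A6 * B6 * A6 * B6 ^ 2 * A6 * B6 ^ 3 = Gm := by decide +kernel
theorem hh : B6 ^ 2 * A6 * B6 * A6 * B6 ^ 3 * A6 = Hm := by decide +kernel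
theorem ht : B6 * A6 * B6 ^ 4 * A6 = Tm := by decide +kernel

theorem idZ : Zm * Zm + Zm + 1 = 0 := by decide +kernel
theorem idGZ : Gm * Zm = Zm * Gm := by decide +kernel
theorem idHZ : Hm * Zm = Zm * Hm := by decide +kernel
theorem idHG : Hm * Gm = Zm * Gm * Hm := by decide +kernel
theorem idT : Zm * Tm * Zm = Tm := by decide +kernel

theorem uBinv_val : ((uB⁻¹ : M6ˣ) : M6) = B6i := rfl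

theorem hrel : ∀ r ∈ Cfsg.Agent.Helper4.TC.U33PS.Rset, FreeGroup.lift f6 r = 1 := by
  intro r hr
  rcases hr with hr | hr
  · obtain ⟨x, hx, -⟩ := hr
    simp [Cfsg.Spor.coxNodes, Cfsg.Agent.Helper4.Pres.U33.edges] at hx
  · have hr' : r ∈ Cfsg.Agent.Helper4.Pres.U33.extra := hr
    simp only [Cfsg.Agent.Helper4.Pres.U33.extra, List.mem_cons, List.not_mem_nil, or_false] at hr'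
    rcases hr' with rfl | rfl | rfl | rfl | rfl
    · simp only [map_mul, map_inv, FreeGroup.lift_apply_of, f6]
      apply Units.ext
      simp only [Units.val_mul, Units.val_one, uBinv_val]
      exact rel1
    · simp only [map_mul, map_inv, FreeGroup.lift_apply_of, f6]
      apply Units.ext
      simp only [Units.val_mul, Units.val_one, uBinv_val]
      exact rel2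
    · simp only [map_mul, map_inv, FreeGroup.lift_apply_of, f6]
      apply Units.ext
      simp only [Units.val_mul, Units.val_one, uBinv_val]
      exact rel3
    · simp only [map_mul, map_inv, FreeGroup.lift_apply_of, f6]
      apply Units.ext
      simp only [Units.val_mul, Units.val_one, uBinv_val]
      exact rel4
    · simp only [map_mul, map_inv, FreeGroup.lift_apply_of, f6]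
      apply Units.ext
      simp only [Units.val_mul, Units.val_one, uBinv_val]
      exact rel5

/-- the homomorphism `P → GL₆(ℤ[i])` -/
def φ6 : P →* M6ˣ := PresentedGroup.toGroup hrel

def gA : P := PresentedGroup.of Cfsg.Agent.Helper4.Pres.U33.Gen.a
def gB : P := PresentedGroup.of Cfsg.Agent.Helper4.Pres.U33.Gen.b

theorem φ6_gA : φ6 gA = uA := PresentedGroup.toGroup.of hrel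
theorem φ6_gB : φ6 gB = uB := PresentedGroup.toGroup.of hrel

def zP : P := gB ^ 4 * gA * gB * gA * gB ^ 4 * gA * gB ^ 5 * gA * gB ^ 2
def gP : P := gA * gB * gA * gB ^ 2 * gA * gB ^ 3
def hP : P := gB ^ 2 * gA * gB * gA * gB ^ 3 * gA
def tP : P := gB * gA * gB ^ 4 * gA

theorem φ6_zP : ((φ6 zP : M6ˣ) : M6) = Zm := by
  simp only [zP, map_mul, map_pow, φ6_gA, φ6_gB, Units.val_mul, Units.val_pow_eq_pow_val]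
  exact hz
theorem φ6_gP : ((φ6 gP : M6ˣ) : M6) = Gm := by
  simp only [gP, map_mul, map_pow, φ6_gA, φ6_gB, Units.val_mul, Units.val_pow_eq_pow_val]
  exact hg
theorem φ6_hP : ((φ6 hP : M6ˣ) : M6) = Hm := by
  simp only [hP, map_mul, map_pow, φ6_gA, φ6_gB, Units.val_mul, Units.val_pow_eq_pow_val]
  exact hh
theorem φ6_tP : ((φ6 tP : M6ˣ) : M6) = Tm := by
  simp only [tP, map_mul, map_pow, φ6_gA, φ6_gB, Units.val_mul, Units.val_pow_eq_pow_val]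
  exact ht

/-- the ring homomorphism from Gaussian-integer matrices to endomorphisms of `ℂ⁶` -/
noncomputable def Ψ : M6 →+* Module.End ℂ (Fin 6 → ℂ) :=
  ((Matrix.toLinAlgEquiv' : Matrix (Fin 6) (Fin 6) ℂ ≃ₐ[ℂ] _) : Matrix (Fin 6) (Fin 6) ℂ →+* _).comp
    (GaussianInt.toComplex.mapMatrix)

/-- the six-dimensional complex representation of `P` -/
noncomputable def ρ6 : Representation ℂ P (Fin 6 → ℂ) :=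
  (Ψ : M6 →* Module.End ℂ (Fin 6 → ℂ)).comp ((Units.coeHom M6).comp φ6)

theorem ρ6_apply (x : P) : ρ6 x = Ψ ((φ6 x : M6ˣ) : M6) := rfl

/-- (L6) the presented group `P ≅ U₃(3)` has an irreducible character of degree divisible by 6 -/
theorem exists_irr_six : ∃ χ : IrrCharacter P, 6 ∣ charDegree (χ : P → ℂ) := by
  haveI : Finite P := Cfsg.Agent.Helper4.TC.U33PS.card_top.1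
  apply Cfsg.Agent.Lib.Helper22.SixDvdRep.exists_irr_six_dvd ρ6 zP gP hP tP
  · intro v
    rw [ρ6_apply, φ6_zP]
    have : (Ψ Zm * Ψ Zm + Ψ Zm + 1) v = 0 := by
      rw [← map_mul, ← map_add, ← map_one Ψ, ← map_add, idZ, map_zero]
      rfl
    exact this
  · intro v
    rw [ρ6_apply, ρ6_apply, φ6_zP, φ6_gP]
    have : (Ψ Gm * Ψ Zm) v = (Ψ Zm * Ψ Gm) v := by rw [← map_mul, ← map_mul, idGZ]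
    exact this
  · intro v
    rw [ρ6_apply, ρ6_apply, φ6_zP, φ6_hP]
    have : (Ψ Hm * Ψ Zm) v = (Ψ Zm * Ψ Hm) v := by rw [← map_mul, ← map_mul, idHZ]
    exact this
  · intro v
    rw [ρ6_apply, ρ6_apply, ρ6_apply, φ6_zP, φ6_gP, φ6_hP]
    have : (Ψ Hm * Ψ Gm) v = (Ψ Zm * Ψ Gm * Ψ Hm) v := by
      rw [← map_mul, ← map_mul, ← map_mul, idHG]
    exact this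
  · intro v
    rw [ρ6_apply, ρ6_apply, φ6_zP, φ6_tP]
    have : (Ψ Zm * Ψ Tm * Ψ Zm) v = Ψ Tm v := by rw [← map_mul, ← map_mul, idT]
    exact this

end Cfsg.Agent.Lib.Helper22.U33Six
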