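import Mathlib
import Cfsg.Prelude.Def_GeometricClasses
import Cfsg.Agent.Lib.Helper7.AschDefs

/-!
# S5663 (Aschbacher's theorem for the unitary groups `GU_n(q)`, `n ≥ 3`): vocabulary and wrappers  (helper22, architect)

`F` is a finite field with `|F| = q²`, `f = hermForm n F q` (`f u v = Σ u_i (v_i)^q`, Gram matrix `1`), `I = GU n F q`.
Every member of `InUnitaryClass n F q` is `X ⊓ I` for a stabiliser `X` in `GL (Fin n) F`.

* `InU q H` : `H` lies in a member of one of the geometric classes of `GU_n(q)`;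
* `InU.of_*` : one wrapper per disjunct of `InUnitaryClass` (REAL) - use these, never unfold the 11-fold `Or`;
* `Corner32 F n q` : the corner case `q = 2`, tensor factors of dimension `3` (`GU_3(2)` is soluble, the frozen class 7
  excludes it; such groups normalise `3^{1+2t}`, class 6) as an explicit hypothesis of the hub.
-/

set_option autoImplicit false

namespace Cfsg.Agent.Lib.Helper22.UAsch

open Matrix Cfsg Cfsg.Geo Cfsg.Agent.Lib.Helper7.Asch

variable {F : Type*} [Field F] [Fintype F] {n : ℕ}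

/-- `H` lies in a member of one of the geometric classes of `GU_n(q)` -/
def InU (q : ℕ) (H : Subgroup (GL (Fin n) F)) : Prop :=
  ∃ M : Subgroup (GL (Fin n) F), InUnitaryClass n F q M ∧ H ≤ M

theorem InU.mono {q : ℕ} {H K : Subgroup (GL (Fin n) F)} (h : H ≤ K) (hK : InU q K) : InU q H := by
  obtain ⟨M, hM, hKM⟩ := hK
  exact ⟨M, hM, h.trans hKM⟩

/-- class 1, totally singular subspace -/
theorem InU.of_singular (q : ℕ) (H : Subgroup (GL (Fin n) F)) (hHI : H ≤ GU n F q)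
    (W : Submodule F (Fin n → F)) (h0 : W ≠ ⊥) (hW : IsTotallySingularFor (hermForm n F q) W)
    (hH : H ≤ subspaceStabilizer W) : InU q H :=
  ⟨_, Or.inl (Or.inl ⟨W, h0, hW, rfl⟩), le_inf hH hHI⟩

/-- class 1, non-degenerate subspace of dimension less than `n / 2` -/
theorem InU.of_nondegenerate (q : ℕ) (H : Subgroup (GL (Fin n) F)) (hHI : H ≤ GU n F q)
    (W : Submodule F (Fin n → F)) (h0 : W ≠ ⊥) (hW : IsNondegenerateOn (hermForm n F q) W)
    (hdim : 2 * Module.finrank F W < n) (hH : H ≤ subspaceStabilizer W) : InU q H :=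
  ⟨_, Or.inl (Or.inr (Or.inl ⟨W, h0, hW, hdim, rfl⟩)), le_inf hH hHI⟩

/-- class 2, non-degenerate decomposition -/
theorem InU.of_decomposition (q : ℕ) (H : Subgroup (GL (Fin n) F)) (hHI : H ≤ GU n F q) {t : ℕ} (k : ℕ)
    (D : Fin t → Submodule F (Fin n → F)) (hD : IsNondegenerateMDecomposition (hermForm n F q) k D)
    (hH : H ≤ decompositionStabilizer D) : InU q H :=
  ⟨_, Or.inl (Or.inr (Or.inr (Or.inl ⟨t, k, D, hD, rfl⟩))), le_inf hH hHI⟩

/-- class 2, pair of complementary totally singular subspaces -/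
theorem InU.of_singular_pair (q : ℕ) (H : Subgroup (GL (Fin n) F)) (hHI : H ≤ GU n F q) (k : ℕ)
    (D : Fin 2 → Submodule F (Fin n → F)) (hk : 2 * k = n) (hD : IsMDecomposition k D)
    (hs : ∀ i, IsTotallySingularFor (hermForm n F q) (D i)) (hH : H ≤ decompositionStabilizer D) : InU q H :=
  ⟨_, Or.inl (Or.inr (Or.inr (Or.inr (Or.inl ⟨k, D, hk, hD, hs, rfl⟩)))), le_inf hH hHI⟩

/-- class 5, subfield of odd prime index -/
theorem InU.of_subfield_odd (q : ℕ) (H : Subgroup (GL (Fin n) F)) (hHI : H ≤ GU n F q) (F₀ : Subfield F) (r : ℕ)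
    (P : GL (Fin n) F) (hr : r.Prime) (ho : Odd r) (hc : Fintype.card F = Nat.card F₀ ^ r)
    (hrat : IsFormRationalStructure (hermForm n F q) F₀ 1 P) (hH : H ≤ subfieldSubgroup F₀ P) : InU q H :=
  ⟨_, Or.inl (Or.inr (Or.inr (Or.inr (Or.inr (Or.inl ⟨F₀, r, P, hr, ho, hc, hrat, rfl⟩))))), le_inf hH hHI⟩

/-- class 5, subfield of index two, orthogonal type (`q` odd) -/
theorem InU.of_subfield_orth (q : ℕ) (H : Subgroup (GL (Fin n) F)) (hHI : H ≤ GU n F q) (F₀ : Subfield F)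
    (P : GL (Fin n) F) (ho : Odd q) (hc : Fintype.card F = Nat.card F₀ ^ 2)
    (hrat : IsFormRationalStructure (hermForm n F q) F₀ 1 P) (hH : H ≤ subfieldSubgroup F₀ P) : InU q H :=
  ⟨_, Or.inl (Or.inr (Or.inr (Or.inr (Or.inr (Or.inr (Or.inl ⟨F₀, P, ho, hc, hrat, rfl⟩)))))), le_inf hH hHI⟩

/-- class 5, subfield of index two, symplectic type (`n` even) -/
theorem InU.of_subfield_symp (q : ℕ) (H : Subgroup (GL (Fin n) F)) (hHI : H ≤ GU n F q) (F₀ : Subfield F)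
    (P : GL (Fin n) F) (ζ : F) (he : Even n) (hc : Fintype.card F = Nat.card F₀ ^ 2) (hζ : ζ ≠ 0)
    (hζq : ζ + ζ ^ q = 0) (hrat : IsFormRationalStructure (hermForm n F q) F₀ ζ P)
    (halt : ∀ u : Fin n → F, (∀ i, u i ∈ F₀) →
      hermForm n F q ((P : Matrix (Fin n) (Fin n) F) *ᵥ u) ((P : Matrix (Fin n) (Fin n) F) *ᵥ u) = 0)
    (hH : H ≤ subfieldSubgroup F₀ P) : InU q H :=
  ⟨_, Or.inl (Or.inr (Or.inr (Or.inr (Or.inr (Or.inr (Or.inr (Or.inl
    ⟨F₀, P, ζ, he, hc, hζ, hζq, hrat, halt, rfl⟩))))))), le_inf hH hHI⟩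

/-- class 6, symplectic-type normaliser -/
theorem InU.of_symplecticType (q : ℕ) (H : Subgroup (GL (Fin n) F)) (hHI : H ≤ GU n F q) (r : ℕ)
    (R : Subgroup (GL (Fin n) F)) (p e k : ℕ) (h1 : IsSymplecticTypeGroup r R)
    (h2 : ActsAbsolutelyIrreducibly (matrixSet R)) (h3 : R ≤ similarityGroup (hermForm n F q)) (h4 : r ≠ p)
    (h5 : IsMinimalFieldFor (Nat.card (Subgroup.center R)) p e F)
    (h6 : (Odd r ∧ Nat.card (Subgroup.center R) = r ∧ 1 ≤ k ∧ Nat.card R = r ^ (1 + 2 * k)) ∨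
       (r = 2 ∧ e = 2 ∧ Nat.card (Subgroup.center R) = 4 ∧ Nat.card R = 2 ^ (2 + 2 * k)))
    (hH : H ≤ subgroupNormalizer R) : InU q H :=
  ⟨_, Or.inl (Or.inr (Or.inr (Or.inr (Or.inr (Or.inr (Or.inr (Or.inr
    ⟨r, R, p, e, k, h1, h2, h3, h4, h5, h6, rfl⟩))))))), le_inf hH hHI⟩

/-- class 3, adjoint-closed extension field of odd prime degree -/
theorem InU.of_field (q : ℕ) (H : Subgroup (GL (Fin n) F)) (hHI : H ≤ GU n F q) (r : ℕ)
    (K : Subalgebra F (Matrix (Fin n) (Fin n) F)) (hr : r.Prime) (ho : Odd r) (hK : IsFieldSubalgebra r K)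
    (hadj : IsAdjointClosedFor (hermForm n F q) K) (hH : H ≤ subalgebraNormalizer K) : InU q H :=
  ⟨_, Or.inr (Or.inl ⟨r, K, hr, ho, hK, hadj, rfl⟩), le_inf hH hHI⟩

/-- class 4, tensor product of two unitary forms, `2 ≤ n₁ < n₂` -/
theorem InU.of_tensor (q : ℕ) (H : Subgroup (GL (Fin n) F)) (hHI : H ≤ GU n F q) (n₁ n₂ : ℕ)
    (e : Fin n ≃ Fin n₁ × Fin n₂) (P : GL (Fin n) F) (f₁ : (Fin n₁ → F) → (Fin n₁ → F) → F)
    (f₂ : (Fin n₂ → F) → (Fin n₂ → F) → F) (h1 : 2 ≤ n₁) (h2 : n₁ < n₂) (hf₁ : IsUnitaryFormPow q f₁)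
    (hf₂ : IsUnitaryFormPow q f₂)
    (hT : IsTensorFormStructure (fun x : F => x ^ q) (hermForm n F q) f₁ f₂ e P)
    (hH : H ≤ tensorProductSubgroup n₁ n₂ e P) : InU q H :=
  ⟨_, Or.inr (Or.inr (Or.inl ⟨n₁, n₂, e, P, f₁, f₂, h1, h2, hf₁, hf₂, hT, rfl⟩)), le_inf hH hHI⟩

/-- class 7, tensor power of a unitary form, `k ≥ 3`, `(q, k) ≠ (2, 3)` -/
theorem InU.of_tensorWreath (q : ℕ) (H : Subgroup (GL (Fin n) F)) (hHI : H ≤ GU n F q) (k t : ℕ)
    (e : Fin n ≃ (Fin t → Fin k)) (P : GL (Fin n) F) (f₁ : (Fin k → F) → (Fin k → F) → F) (hk : 3 ≤ k)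
    (ht : 2 ≤ t) (hqk : ¬ (q = 2 ∧ k = 3)) (hf₁ : IsUnitaryFormPow q f₁)
    (hT : IsTensorPowerFormStructure (fun x : F => x ^ q) (hermForm n F q) f₁ e P)
    (hH : H ≤ tensorWreathSubgroup k t e P) : InU q H :=
  ⟨_, Or.inr (Or.inr (Or.inr ⟨k, t, e, P, f₁, hk, ht, hqk, hf₁, hT, rfl⟩)), le_inf hH hHI⟩

/-- the corner case `q = 2`, tensor factors of dimension `3`: a subgroup of `GU_n(2)` in the stabiliser of a decomposition of
the form as a `t`-fold tensor power of a unitary form in dimension `3` lies in a member (of class 6) -/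
def Corner32 (F : Type*) [Field F] [Fintype F] (n q : ℕ) : Prop :=
  q = 2 → ∀ (t : ℕ) (e : Fin n ≃ (Fin t → Fin 3)) (P : GL (Fin n) F) (f₁ : (Fin 3 → F) → (Fin 3 → F) → F),
    2 ≤ t → IsUnitaryFormPow q f₁ →
    IsTensorPowerFormStructure (fun x : F => x ^ q) (hermForm n F q) f₁ e P →
    ∀ H : Subgroup (GL (Fin n) F), H ≤ GU n F q → H ≤ tensorWreathSubgroup 3 t e P → InU q H

end Cfsg.Agent.Lib.Helper22.UAsch
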