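import Mathlib
import Cfsg.Prelude.Def_GeometricClasses
import Cfsg.Agent.Lib.Helper7.AschDefs
import Cfsg.Agent.Lib.Helper8.S5630I1
import Cfsg.Agent.Lib.Helper23.S5630I5
import Cfsg.Agent.Lib.Helper12.S5630I8
import Cfsg.Agent.Lib.Helper22.UAschDefs

/-!
# S5663: top-level skeleton (helper22).  The block theorems UI1, UI2, UI3, UI4, UI6, UI7, UF-BIL are STUBS (`sorry`);
`uS` (block UI8), `uMain` and `frozen` (the statement of S5663, given the corner hypothesis) are REAL.

`H ≤ GU_n(q)` throughout (`hHI`); neither `H ≤ SL` nor "H does not cover PSU" is needed.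
-/

set_option autoImplicit false

namespace Cfsg.Agent.Lib.Helper22.UAsch

open Matrix Cfsg Cfsg.Geo Cfsg.Agent.Lib.Helper7.Asch
open scoped commutatorElement

variable {F : Type*} [Field F] [Fintype F] {n : ℕ}

/-- **UI1** reducible subgroups of `GU_n(q)`: class 1 (totally singular radical, or a non-degenerate subspace of dimension
`< n/2`) or class 2 (`W ⊥ W^⊥` with `2 dim W = n`) -/
theorem uI1 (q : ℕ) (hF : Fintype.card F = q ^ 2) (H : Subgroup (GL (Fin n) F)) (hHI : H ≤ GU n F q)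
    (h : ¬ Irr H) : InU q H := by
  sorry

/-- **UI2** irreducible, not absolutely irreducible: class 3 (the adjoint acts on the field `C(H)`, whose degree is odd) -/
theorem uI2 (q : ℕ) (hF : Fintype.card F = q ^ 2) (hn : 3 ≤ n) (H : Subgroup (GL (Fin n) F)) (hHI : H ≤ GU n F q)
    (h1 : Irr H) (h2 : ¬ AbsIrr H) : InU q H := by
  sorry

/-- **UI3** `H` normalises an absolutely irreducible group of similarities `R`, realisable over a proper subfield which
contains the multipliers of `R`: class 5 -/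
theorem InU.of_realisable (q : ℕ) (hF : Fintype.card F = q ^ 2) (hn : 3 ≤ n) (R H : Subgroup (GL (Fin n) F))
    (hHI : H ≤ GU n F q) (hR : AbsIrr R) (hnorm : ∀ h ∈ H, ∀ x ∈ R, h * x * h⁻¹ ∈ R) (F₀ : Subfield F)
    (h0 : F₀ ≠ ⊤) (hreal : RealisableOver F₀ (matrixSet R))
    (hmult : ∀ x ∈ R, ∃ c : Fˣ, (c : F) ∈ F₀ ∧ ∀ u v : Fin n → F,
      hermForm n F q ((x : Matrix (Fin n) (Fin n) F) *ᵥ u) ((x : Matrix (Fin n) (Fin n) F) *ᵥ v) =
        (c : F) * hermForm n F q u v) : InU q H := by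
  sorry

/-- **UI4** Clifford trichotomy inside `GU_n(q)` -/
theorem uClifford (q : ℕ) (hF : Fintype.card F = q ^ 2) (hn : 3 ≤ n) (hc : Corner32 F n q)
    (H N : Subgroup (GL (Fin n) F)) (hHI : H ≤ GU n F q) (hH : AbsIrr H) (hNH : N ≤ H) (hnorm : NormBy H N) :
    InU q H ∨ N ≤ scalars (Fin n) F ∨ AbsIrr N := by
  sorry

/-- **UI6** the symplectic-type case: class 6, or class 5 when `F` is not the minimal field -/
theorem uC6 (q : ℕ) (hF : Fintype.card F = q ^ 2) (hn : 3 ≤ n) (H N : Subgroup (GL (Fin n) F)) (r : ℕ)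
    (hHI : H ≤ GU n F q) (hH : AbsIrr H) (hQP : QP H)
    (hNH : N ≤ H) (hnorm : NormBy H N) (hNs : ¬ N ≤ scalars (Fin n) F)
    (hmin : ∀ K : Subgroup (GL (Fin n) F), K ≤ N → NormBy H K → K ≤ scalars (Fin n) F ∨ K = N) (hr : r.Prime)
    (hpow : ∀ x ∈ N, x ^ r ∈ scalars (Fin n) F) (hcomm : ∀ x ∈ N, ∀ y ∈ N, ⁅x, y⁆ ∈ scalars (Fin n) F) :
    InU q H := by
  sorry

/-- **UI7** the tensor-induced case: class 7 (class 5 when the factors have dimension 2, the corner when `(q, k) = (2, 3)`) -/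
theorem uC7 (q : ℕ) (hF : Fintype.card F = q ^ 2) (hn : 3 ≤ n) (hc : Corner32 F n q)
    (H L : Subgroup (GL (Fin n) F)) (hHI : H ≤ GU n F q) (hH : AbsIrr H) (hQP : QP H)
    (hLH : L ≤ H) (hLs : ¬ L ≤ scalars (Fin n) F) (hperf : ⁅L, L⁆ = L) (hqs : SimpleModScal L)
    (hconj : ∀ h ∈ H, (∀ x ∈ L, h * x * h⁻¹ ∈ L) ∨
      (∀ x ∈ L, ∀ y ∈ L, (h * x * h⁻¹) * y = y * (h * x * h⁻¹)))
    (hnn : ¬ NormBy H L) : InU q H := by
  sorry

/-- **UF-BIL** an absolutely irreducible subgroup of `GU_n(q)` fixing a non-degenerate bilinear form is realisable over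
the subfield with `q` elements -/
theorem realisable_of_fixesForm (q : ℕ) (hF : Fintype.card F = q ^ 2) (L : Subgroup (GL (Fin n) F))
    (hLI : L ≤ GU n F q) (hL : AbsIrr L) (b : (Fin n → F) → (Fin n → F) → F) (hb : IsBilinearForm b)
    (hnd : IsNondegenerateForm b) (hfix : FixesForm (matrixSet L) b) :
    ∃ F₀ : Subfield F, F₀ ≠ ⊤ ∧ RealisableOver F₀ (matrixSet L) := by
  sorry

/-- the polar form of a non-degenerate quadratic form is a non-degenerate bilinear form, fixed by whoever fixes the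
quadratic form (immediate from the definitions) -/
theorem polar_data (Q : (Fin n → F) → F) (hQ : IsNondegenerateQuadraticForm Q) (S : Set (Matrix (Fin n) (Fin n) F))
    (hfix : FixesQuadForm S Q) :
    IsBilinearForm (QuadraticMap.polar Q) ∧ IsNondegenerateForm (QuadraticMap.polar Q) ∧
      FixesForm S (QuadraticMap.polar Q) := by
  refine ⟨hQ.polar_bilinear, hQ.nondegenerate, ?_⟩
  intro s hs u v
  unfold QuadraticMap.polar
  rw [← Matrix.mulVec_add, hfix s hs, hfix s hs, hfix s hs]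

/-- **UI8** the almost simple case: class 5 or the residual class -/
theorem uS (q : ℕ) (hF : Fintype.card F = q ^ 2) (hn : 3 ≤ n) (H L : Subgroup (GL (Fin n) F))
    (hHI : H ≤ GU n F q) (hQP : QP H)
    (hLH : L ≤ H) (hLs : ¬ L ≤ scalars (Fin n) F) (hperf : ⁅L, L⁆ = L) (hqs : SimpleModScal L)
    (hnorm : NormBy H L) : InU q H ∨ InUnitaryResidualClass H := by
  have hLabs : AbsIrr L := (hQP L hLH hnorm).resolve_left hLs
  have hLI : L ≤ GU n F q := hLH.trans hHI
  by_cases hex : ∃ F₀ : Subfield F, F₀ ≠ ⊤ ∧ RealisableOver F₀ (matrixSet L)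
  · obtain ⟨F₀, h0, hreal⟩ := hex
    left
    refine InU.of_realisable q hF hn L H hHI hLabs hnorm F₀ h0 hreal ?_
    intro x hx
    refine ⟨1, by simp, fun u v => ?_⟩
    have := hLI hx
    rw [Units.val_one, one_mul]
    exact this u v
  right
  refine ⟨L, ⟨hLH, hnorm, hperf, Cfsg.Agent.Lib.Helper12.S5630I8.isSimpleGroup_quotient L hLs hqs,
    Cfsg.Agent.Lib.Helper12.S5630I8.not_comm_quotient L hLs hperf, ?_, hLabs, ?_⟩, ?_, ?_⟩
  · intro h _ hh
    exact Cfsg.Agent.Lib.Helper12.S5630I8.mem_scalars_of_comm (by omega) L hLabs h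
      (Cfsg.Agent.Lib.Helper12.S5630I8.comm_of_perfect L hperf h hh)
  · intro F₀ h0 hreal
    exact hex ⟨F₀, h0, hreal⟩
  · rintro ⟨Q, hQ, hfix⟩
    obtain ⟨h1, h2, h3⟩ := polar_data Q hQ _ hfix
    exact hex (realisable_of_fixesForm q hF L hLI hLabs _ h1 h2 h3)
  · rintro ⟨f, hf, hfix⟩
    exact hex (realisable_of_fixesForm q hF L hLI hLabs f hf.bilinear hf.nondegenerate hfix)

/-- **Aschbacher's theorem for `GU_n(q)`, `n ≥ 3`** (given the corner hypothesis) -/
theorem uMain (q : ℕ) (hF : Fintype.card F = q ^ 2) (hn : 3 ≤ n) (hc : Corner32 F n q)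
    (H : Subgroup (GL (Fin n) F)) (hHI : H ≤ GU n F q) : InU q H ∨ InUnitaryResidualClass H := by
  by_cases h1 : Irr H
  swap
  · exact Or.inl (uI1 q hF H hHI h1)
  by_cases h2 : AbsIrr H
  swap
  · exact Or.inl (uI2 q hF hn H hHI h1 h2)
  by_cases h4 : QP H
  swap
  · unfold QP at h4
    push Not at h4
    obtain ⟨N, hNH, hnorm, hns, hna⟩ := h4
    rcases uClifford q hF hn hc H N hHI h2 hNH hnorm with h | h | h
    · exact Or.inl h
    · exact absurd h hns
    · exact absurd h hna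
  have hHs : ¬ H ≤ scalars (Fin n) F := Cfsg.Agent.Lib.Helper8.S5630I1.not_scalar_of_irr (by omega) H h1
  rcases Cfsg.Agent.Lib.Helper23.S5630I5.group_dichotomy H hHs with
    ⟨N, r, hNH, hnorm, hNs, hmin, hr, hpow, hcomm⟩ | ⟨L, hLH, hLs, hperf, hqs, hconj⟩
  · exact Or.inl (uC6 q hF hn H N r hHI h2 h4 hNH hnorm hNs hmin hr hpow hcomm)
  · by_cases hnL : NormBy H L
    · exact uS q hF hn H L hHI h4 hLH hLs hperf hqs hnL
    · exact Or.inl (uC7 q hF hn hc H L hHI h2 h4 hLH hLs hperf hqs hconj hnL)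

/-- the frozen statement of S5663, given the corner hypothesis (`hex` and `hproper` are not needed) -/
theorem frozen (n q : ℕ) (hF : Fintype.card F = q ^ 2) (hn : 3 ≤ n) (hc : Corner32 F n q)
    (H : Subgroup (Matrix.GeneralLinearGroup (Fin n) F))
    (hH : H ≤ (Cfsg.GU n F q ⊓ Cfsg.Geo.specialLinear (Fin n) F)) :
    (∃ M : Subgroup (Matrix.GeneralLinearGroup (Fin n) F), Cfsg.Geo.InUnitaryClass n F q M ∧ H ≤ M) ∨
      Cfsg.Geo.InUnitaryResidualClass H :=
  uMain q hF hn hc H (hH.trans inf_le_left)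

end Cfsg.Agent.Lib.Helper22.UAsch
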