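import Mathlib
import Cfsg.Prelude.Def_Characters
import Cfsg.Prelude.Def_Solvable
import Cfsg.Agent.Lib.Helper18.FrobeniusThm

/-!
# A Wielandt-type generalization of Frobenius' theorem (helper22 library)

`M ≤ G`, `K ⊴ M`, and every element of `M ∖ K` is controlled by `M`
(`x⁻¹ m x ∈ M → x ∈ M`).  Then there is `N ⊴ G` with `N ∩ M ≤ K` and `|N| ≥ |G : M| |K|`.
-/

set_option autoImplicit false

universe u

namespace Cfsg.Agent.Lib.Helper22.Wielandt
open Cfsg.Agent.Lib.Helper2 Cfsg.Agent.Lib.Helper11 Cfsg.Agent.Lib.Helper1 Cfsg.Agent.Lib.Helper18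
open scoped ComplexConjugate

section Abstract

variable {G : Type*} [Group G] [Fintype G] {M : Subgroup G}

theorem frobExt_coe_of_res (θ : M → ℂ)
    (hres : ∀ m : M, Cfsg.indFun M (fun h => θ h - θ 1) (m : G) = θ m - θ 1) (m : M) :
    frobExt M θ (m : G) = θ m := by
  unfold frobExt
  rw [Pi.add_apply, hres m]
  ring

theorem classInner_frobExt_self_of_res [Fintype M] (θ : M → ℂ)
    (hθ : Cfsg.IsIrrCharacter M θ)
    (hres : ∀ m : M, Cfsg.indFun M (fun h => θ h - θ 1) (m : G) = θ m - θ 1) :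
    Cfsg.classInner (frobExt M θ) (frobExt M θ) = 1 := by
  obtain ⟨n, _, hn⟩ := IsIrrCharacter.apply_one hθ
  have hθc : Cfsg.IsCharacter M θ := IsIrrCharacter.isCharacter hθ
  have h1H : Cfsg.IsIrrCharacter M (fun _ => (1 : ℂ)) := isIrrCharacter_one
  have h1G : Cfsg.IsIrrCharacter G (fun _ => (1 : ℂ)) := isIrrCharacter_one
  obtain ⟨m, hm⟩ := classInner_isCharacter_nat hθc (IsIrrCharacter.isCharacter h1H)
  have hm' : Cfsg.classInner (fun _ : M => (1 : ℂ)) θ = (m : ℂ) := by
    rw [← classInner_conj_symm, hm, Complex.conj_natCast]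
  set φ : M → ℂ := fun h => θ h - θ 1 with hφ
  have hφe : φ = θ + (-(n : ℂ)) • (fun _ : M => (1 : ℂ)) := by
    funext h
    simp [hφ, hn, sub_eq_add_neg]
  set A : G → ℂ := Cfsg.indFun M φ with hA
  have hAcl : Cfsg.IsClassFunction G A := indFun_isClassFunction M φ
  have hAres : (fun h : M => A h) = φ := by
    funext h
    exact hres h
  have hconj : conj (-(n : ℂ)) = -(n : ℂ) := by simp
  have i0 : Cfsg.classInner φ φ = 1 - 2 * n * m + n ^ 2 := by
    rw [hφe]
    simp only [classInner_add_left, classInner_add_right, classInner_smul_left,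
      classInner_smul_right, hconj, hm, hm', classInner_self_of_isIrrCharacter hθ,
      classInner_self_of_isIrrCharacter h1H]
    ring
  have i0' : Cfsg.classInner φ (fun _ : M => (1 : ℂ)) = m - n := by
    rw [hφe]
    simp only [classInner_add_left, classInner_smul_left, hm,
      classInner_self_of_isIrrCharacter h1H]
    ring
  have i1 : Cfsg.classInner A A = 1 - 2 * n * m + n ^ 2 := by
    rw [hA, frobenius_reciprocity M φ (Cfsg.indFun M φ) hAcl, ← hA, hAres, i0]
  have i2 : Cfsg.classInner A (fun _ : G => (1 : ℂ)) = m - n := by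
    rw [hA, frobenius_reciprocity M φ _ (IsCharacter.isClassFunction
      (IsIrrCharacter.isCharacter h1G))]
    exact i0'
  have i2' : Cfsg.classInner (fun _ : G => (1 : ℂ)) A = m - n := by
    rw [← classInner_conj_symm, i2]
    simp
  have hfe : frobExt M θ = A + (n : ℂ) • (fun _ : G => (1 : ℂ)) := by
    funext g
    simp [frobExt, hA, hφ, hn]
  have hconj' : conj (n : ℂ) = (n : ℂ) := Complex.conj_natCast n
  rw [hfe]
  simp only [classInner_add_left, classInner_add_right, classInner_smul_left,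
    classInner_smul_right, hconj', i1, i2, i2', classInner_self_of_isIrrCharacter h1G]
  ring

theorem frobExt_isIrrCharacter_of_res [Fintype M] (θ : M → ℂ)
    (hθ : Cfsg.IsIrrCharacter M θ)
    (hres : ∀ m : M, Cfsg.indFun M (fun h => θ h - θ 1) (m : G) = θ m - θ 1) :
    Cfsg.IsIrrCharacter G (frobExt M θ) := by
  have hgen := frobExt_isGeneralizedCharacter (G := G) θ (IsIrrCharacter.isCharacter hθ)
  have hnorm := classInner_frobExt_self_of_res θ hθ hres
  rcases IsGeneralizedCharacter.isSignedIrr_of_norm_one hgen hnorm with h | h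
  · exact h
  · exfalso
    obtain ⟨n, hn0, hn⟩ := IsIrrCharacter.apply_one hθ
    obtain ⟨k, hk0, hk⟩ := IsIrrCharacter.apply_one h
    rw [Pi.neg_apply, frobExt_one, hn] at hk
    have : ((n : ℂ) + (k : ℂ)) = 0 := by rw [← hk]; ring
    have h2 : ((n + k : ℕ) : ℂ) = 0 := by push_cast; exact this
    have h3 : n + k = 0 := by exact_mod_cast h2
    omega

/-- The control hypothesis: elements of `M` outside `K` are conjugated into `M` only by `M`. -/
def Ctl (M : Subgroup G) (K : Subgroup M) : Prop :=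
  ∀ m : M, m ∉ K → ∀ x : G, x⁻¹ * (m : G) * x ∈ M → x ∈ M

variable {K : Subgroup M}

theorem conj_mem_of_mem [K.Normal] (h : Ctl M K) {m : M} (hm : m ∈ K) {x : G}
    (hx : x⁻¹ * (m : G) * x ∈ M) : (⟨_, hx⟩ : M) ∈ K := by
  by_contra hn
  have h1 : x⁻¹ ∈ M := by
    apply h ⟨_, hx⟩ hn x⁻¹
    have e : x⁻¹⁻¹ * ((⟨_, hx⟩ : M) : G) * x⁻¹ = (m : G) := by
      simp only []
      group
    rw [e]
    exact m.2
  have h2 : x ∈ M := by simpa using M.inv_mem h1
  apply hn
  have e : (⟨_, hx⟩ : M) = (⟨x, h2⟩ : M)⁻¹ * m * (⟨x, h2⟩ : M) := by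
    apply Subtype.ext
    simp
  rw [e]
  exact Subgroup.Normal.conj_mem' inferInstance m hm _

theorem indFun_coe [K.Normal] (h : Ctl M K) (φ : M → ℂ) (hφ : Cfsg.IsClassFunction M φ)
    (hφK : ∀ k ∈ K, φ k = 0) (m : M) : Cfsg.indFun M φ (m : G) = φ m := by
  classical
  by_cases hm : m ∈ K
  · rw [hφK m hm, indFun_apply]
    have : ∀ x : G, Cfsg.extendByZero M φ (x⁻¹ * (m : G) * x) = 0 := by
      intro x
      by_cases hx : x⁻¹ * (m : G) * x ∈ M
      · rw [extendByZero_of_mem M _ hx]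
        exact hφK _ (conj_mem_of_mem h hm hx)
      · exact extendByZero_of_not_mem M _ hx
    rw [Finset.sum_congr rfl (fun x _ => this x)]
    simp
  · rw [indFun_apply]
    have key : ∀ x : G, Cfsg.extendByZero M φ (x⁻¹ * (m : G) * x) =
        Cfsg.extendByZero M (fun _ => φ m) x := by
      intro x
      by_cases hx : x ∈ M
      · have hm' : x⁻¹ * (m : G) * x ∈ M := M.mul_mem (M.mul_mem (M.inv_mem hx) m.2) hx
        rw [extendByZero_of_mem M _ hm', extendByZero_of_mem M _ hx]
        have e : (⟨x⁻¹ * (m : G) * x, hm'⟩ : M) = (⟨x, hx⟩ : M)⁻¹ * m * (⟨x, hx⟩ : M)⁻¹⁻¹ := by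
          apply Subtype.ext; simp
        rw [e]
        exact hφ m _
      · have hm' : x⁻¹ * (m : G) * x ∉ M := fun hm' => hx (h m hm x hm')
        rw [extendByZero_of_not_mem M _ hm', extendByZero_of_not_mem M _ hx]
    simp only [key]
    haveI : Fintype M := Fintype.ofFinite M
    rw [sum_extendByZero, Finset.sum_const, Finset.card_univ, nsmul_eq_mul,
      ← Nat.card_eq_fintype_card]
    have hne : (Nat.card M : ℂ) ≠ 0 := card_subgroup_ne_zero M
    field_simp

theorem indFun_eq_zero (φ : M → ℂ) (hφK : ∀ k ∈ K, φ k = 0) {g : G}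
    (hg : ∀ x (hx : x⁻¹ * g * x ∈ M), (⟨_, hx⟩ : M) ∈ K) : Cfsg.indFun M φ g = 0 := by
  classical
  rw [indFun_apply]
  have : ∀ x : G, Cfsg.extendByZero M φ (x⁻¹ * g * x) = 0 := by
    intro x
    by_cases hx : x⁻¹ * g * x ∈ M
    · rw [extendByZero_of_mem M _ hx]
      exact hφK _ (hg x hx)
    · exact extendByZero_of_not_mem M _ hx
  rw [Finset.sum_congr rfl (fun x _ => this x)]
  simp

theorem res_of_ctl [K.Normal] (h : Ctl M K) (θ : M → ℂ) (hθ : Cfsg.IsClassFunction M θ)
    (hθK : ∀ k ∈ K, θ k = θ 1) (m : M) :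
    Cfsg.indFun M (fun h => θ h - θ 1) (m : G) = θ m - θ 1 := by
  apply indFun_coe h (fun h => θ h - θ 1)
  · intro g k
    simp only []
    rw [hθ g k]
  · intro k hk
    rw [hθK k hk, sub_self]

theorem frobExt_eq_of_forall (θ : M → ℂ) (hθK : ∀ k ∈ K, θ k = θ 1) {g : G}
    (hg : ∀ x (hx : x⁻¹ * g * x ∈ M), (⟨_, hx⟩ : M) ∈ K) : frobExt M θ g = θ 1 := by
  unfold frobExt
  rw [Pi.add_apply, indFun_eq_zero (K := K) _ _ hg, zero_add]
  intro k hk
  rw [hθK k hk, sub_self]

end Abstract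

/-- Wielandt-type theorem. -/
theorem exists_normal_of_ctl {G : Type u} [Group G] [Finite G] (M : Subgroup G) (K : Subgroup M)
    [K.Normal] (h : Ctl M K) :
    ∃ N : Subgroup G, N.Normal ∧ (∀ m : M, (m : G) ∈ N → m ∈ K) ∧
      M.index * Nat.card K ≤ Nat.card N := by
  classical
  haveI : Fintype G := Fintype.ofFinite G
  haveI : Fintype M := Fintype.ofFinite M
  have h' : Ctl M K := h
  -- the relevant characters
  let Θ := {θ : Cfsg.IrrCharacter M // ∀ k ∈ K, θ.1 k = θ.1 1}
  have hres : ∀ θ : Θ, ∀ m : M,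
      Cfsg.indFun M (fun h => θ.1.1 h - θ.1.1 1) (m : G) = θ.1.1 m - θ.1.1 1 := fun θ =>
    res_of_ctl h' θ.1.1 (IrrCharacter.isClassFunction θ.1) θ.2
  have hirr : ∀ θ : Θ, Cfsg.IsIrrCharacter G (frobExt M θ.1.1) := fun θ =>
    frobExt_isIrrCharacter_of_res θ.1.1 θ.1.2 (hres θ)
  have hker : ∀ θ : Θ, ∃ L : Subgroup G, L.Normal ∧
      ∀ g, g ∈ L ↔ frobExt M θ.1.1 g = frobExt M θ.1.1 1 := fun θ =>
    Cfsg.Agent.Lib.Helper25.exists_kernel (IsIrrCharacter.isCharacter (hirr θ))
  choose L hLn hL using hker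
  set N : Subgroup G := ⨅ θ, L θ with hN
  have hNn : N.Normal := Subgroup.normal_iInf_normal hLn
  -- the set of elements not conjugate into `M \ K`
  set S : Set G := {g : G | ∀ x (hx : x⁻¹ * g * x ∈ M), (⟨_, hx⟩ : M) ∈ K} with hS
  have hSN : S ⊆ (N : Set G) := by
    intro g hg
    rw [SetLike.mem_coe, hN, Subgroup.mem_iInf]
    intro θ
    rw [hL, frobExt_eq_of_forall θ.1.1 θ.2 hg, frobExt_one]
  refine ⟨N, hNn, ?_, ?_⟩
  · -- N ∩ M ≤ K
    intro m hm
    have h1 : ∀ θ : Θ, θ.1.1 m = θ.1.1 1 := by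
      intro θ
      have h3 : (m : G) ∈ L θ := (Subgroup.mem_iInf.mp hm) θ
      have h4 := (hL θ _).mp h3
      rw [frobExt_one, frobExt_coe_of_res _ (hres θ)] at h4
      exact h4
    have hc : IsConj ((m : M) : M ⧸ K) 1 := by
      rw [isConj_iff_forall_irrCharacter]
      intro ψ
      have hψ : Cfsg.IsIrrCharacter M (fun g : M => ψ.1 (g : M ⧸ K)) :=
        Cfsg.Agent.Lib.Helper25.isIrrCharacter_inflation K ψ.2
      have hψK : ∀ k ∈ K, (fun g : M => ψ.1 (g : M ⧸ K)) k =
          (fun g : M => ψ.1 (g : M ⧸ K)) 1 := by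
        intro k hk
        simp only []
        rw [(QuotientGroup.eq_one_iff k).mpr hk, QuotientGroup.mk_one]
      have := h1 ⟨⟨_, hψ⟩, hψK⟩
      simpa using this
    have h2 : ((m : M) : M ⧸ K) = 1 := isConj_one_left.mp hc
    exact (QuotientGroup.eq_one_iff m).mp h2
  · -- counting
    let Φ : (G ⧸ M) × {m : M // m ∉ K} → G := fun p => p.1.out * (p.2.1 : G) * p.1.out⁻¹
    have hcompl : Sᶜ ⊆ Set.range Φ := by
      intro g hg
      rw [Set.mem_compl_iff, hS, Set.mem_ofPred_eq] at hg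
      push Not at hg
      obtain ⟨x, hx, hxK⟩ := hg
      obtain ⟨k, hk⟩ := QuotientGroup.mk_out_eq_mul M x
      have hm' : k⁻¹ * (⟨_, hx⟩ : M) * k ∉ K := by
        intro hmem
        apply hxK
        have := Subgroup.Normal.conj_mem (inferInstance : K.Normal) _ hmem k
        have e : k * (k⁻¹ * (⟨_, hx⟩ : M) * k) * k⁻¹ = (⟨_, hx⟩ : M) := by group
        rwa [e] at this
      refine ⟨⟨QuotientGroup.mk x, ⟨_, hm'⟩⟩, ?_⟩
      simp only [Φ, hk]
      simp only [Subgroup.coe_mul, Subgroup.coe_inv]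
      group
    have hc1 : (Sᶜ).ncard ≤ M.index * (Nat.card M - Nat.card K) := by
      calc (Sᶜ).ncard ≤ (Set.range Φ).ncard := Set.ncard_le_ncard hcompl (Set.toFinite _)
        _ = (Φ '' Set.univ).ncard := by rw [Set.image_univ]
        _ ≤ (Set.univ : Set ((G ⧸ M) × {m : M // m ∉ K})).ncard :=
            Set.ncard_image_le (Set.toFinite _)
        _ = Nat.card ((G ⧸ M) × {m : M // m ∉ K}) := Set.ncard_univ _
        _ = M.index * (Nat.card M - Nat.card K) := by
            rw [Nat.card_prod, Subgroup.index]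
            congr 1
            have := Nat.card_congr (Equiv.sumCompl (fun m : M => m ∈ K))
            rw [Nat.card_sum] at this
            have e : Nat.card {a : M // a ∈ K} = Nat.card K := rfl
            omega
    have hc2 : S.ncard ≤ Nat.card N := by
      rw [← Nat.card_coe_set_eq]
      exact Set.ncard_le_ncard hSN (Set.toFinite _)
    have hc3 := Set.ncard_add_ncard_compl S
    have hc4 := Subgroup.index_mul_card M
    have hc5 : Nat.card K ≤ Nat.card M := Nat.card_le_card_of_injective _ Subtype.val_injective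
    have hc6 : M.index * (Nat.card M - Nat.card K) = M.index * Nat.card M - M.index * Nat.card K :=
      Nat.mul_sub M.index _ _
    have hc7 : M.index * Nat.card K ≤ M.index * Nat.card M := Nat.mul_le_mul_left _ hc5
    omega

end Cfsg.Agent.Lib.Helper22.Wielandt
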